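import Cfsg.Agent.Mrg.Omega.BTwo.QuadGrp
import Cfsg.Agent.Mrg.Omega.Lie.TorD
import Cfsg.Agent.Mrg.Omega.BTwo.Split_m3
import Cfsg.Agent.Mrg.Omega.BTwo.CoordNat
import Mathlib
import Cfsg.Agent.Lib.AutSL2
import Mathlib.GroupTheory.Perm.Cycle.Type
import Cfsg.Prelude.Def_LieTypeChar
import Cfsg.Agent.Mrg.ParSys.Par
import Cfsg.Agent.Nodes.LeviDec
import Cfsg.Agent.Mrg.Omega.BTwo.ModG
import Cfsg.Agent.Mrg.ParSys.Fam.Rgd
import Cfsg.Agent.KFacts.RgdSL
import Cfsg.Agent.Nodes.HasRGD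
import Cfsg.Agent.KFacts.RgdCharP
import Cfsg.Agent.Nodes.ZFam
import Cfsg.Agent.KFacts.RgdFilt
import Cfsg.Agent.OddHalf.NI.Mult.Torus
import Cfsg.Agent.Nodes.RGDLift
import Cfsg.Agent.KFacts.RgdRigid
import Cfsg.Agent.Mrg.Omega.EH3.Rank1.Suz
import Cfsg.Agent.S0102
import Cfsg.Agent.S0262
import Cfsg.Agent.Schreier.Tools2
import Cfsg.Agent.Schreier.TwoGen
import Cfsg.Agent.LieRecognition.PSUThreeSylow
import Cfsg.Agent.Mrg.ParSys.Fam.TwoFFour
import Cfsg.Agent.FastGrp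
import Cfsg.Agent.Prune
set_option linter.all false

section
prune_inst 0x7ffcfcfbafb8addfdfff7e7faed8dffc39909fffe6dff94b3fe021ff0bdf03080fc56b8d0de010fe0ee6e21410387853f97eca3fe26bdc7ffffd5ff41ffbee0fe5f6b50851dc88b40fbc0ffe03f07f8a7f3fffffffffffffffffffffffffffbeffbfffffffff

-- part: Mrg/Omega/Lie/End/Zero
section
prune_inst 0x10200104010000000000051250001c06d600019000080c000ca00d4204806600090220218c800401100a000c00300048114c00900000000000000400011801801088100221000000000016000004400000000000000000000000000000000004000000000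
set_option linter.all false
open scoped Cfsg.Agent.FastGrp

section


/-!
# NODE LIE, the END: the node `0` (`P₀ = X B`) of the parabolic system and the product pairs `(0, i)`

`X = ⟨W_k⟩`, `X / Y ≅ SL₂(F)`, `B ≤ N(V) ∩ N(R i)`, `U` a 2-group with `W_i ≤ U ≤ B` inducing the same group as `W_i`
on `V`.  The panel `P₀ / B` is the set of points of `V`.
-/

set_option autoImplicit false
set_option linter.unusedSectionVars false

namespace Cfsg.Agent.Omega.Lie.Zero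

open Subgroup Cfsg.Agent.Omega.BTwo Cfsg.Agent.ParSys

universe u v w

variable {G : Type u} [Group G] {ι : Type w} {V : Subgroup G} {R : ι → Subgroup G}

/-- The Borel subgroup `B` and its 2-subgroup `U` at the point `R i`. -/
structure Dat (V : Subgroup G) (R : ι → Subgroup G) (i : ι) (B U : Subgroup G) : Prop where
  BV : B ≤ normalizer (V : Set G)
  BR : B ≤ normalizer (R i : Set G)
  XB : XX V R ⊓ normalizer (R i : Set G) ≤ B
  UB : U ≤ B
  WU : WW V (R i) ≤ U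
  UC : ∀ u ∈ U, ∃ w ∈ WW V (R i), w⁻¹ * u ∈ centralizer (V : Set G)

/-- the panel -/
abbrev P0 (V : Subgroup G) (R : ι → Subgroup G) (B : Subgroup G) : Subgroup G := XX V R ⊔ B

variable {i : ι} {B U : Subgroup G} (b : BT V R) (D : Dat V R i B U)

theorem mem_norm_iff {K : Subgroup G} {g x : G} :
    g⁻¹ * x * g ∈ normalizer (K : Set G) ↔ x ∈ normalizer (cj g K : Set G) := by
  rw [← cj_eq_self_iff, ← cj_eq_self_iff, cj_mul, cj_mul, cj_eq_iff, inv_inv]

include b D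

theorem mem_P0 {x : G} (hx : x ∈ P0 V R B) : ∃ y ∈ XX V R, ∃ z ∈ B, x = y * z := by
  have hn : B ≤ normalizer (XX V R : Set G) := D.BV.trans b.NV_le_NX
  have h1 : x ∈ ((XX V R ⊔ B : Subgroup G) : Set G) := hx
  rw [coe_mul_of_right_le_normalizer_left _ _ hn] at h1
  obtain ⟨y, hy, z, hz, e⟩ := h1
  exact ⟨y, hy, z, hz, e.symm⟩

theorem P0_le : P0 V R B ≤ normalizer (V : Set G) := sup_le b.X_le_NV D.BV

theorem mem_B {x : G} (hx : x ∈ P0 V R B) (h : x ∈ normalizer (R i : Set G)) : x ∈ B := by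
  obtain ⟨y, hy, z, hz, rfl⟩ := mem_P0 b D hx
  have h1 : y ∈ normalizer (R i : Set G) := by
    have := mul_mem h (inv_mem (D.BR hz))
    rwa [mul_inv_cancel_right] at this
  exact mul_mem (D.XB (mem_inf.2 ⟨hy, h1⟩)) hz

/-- the kernel of the panel is the stabiliser of all points -/
theorem mem_Qk_iff {x : G} (hx : x ∈ P0 V R B) : x ∈ Qk B (P0 V R B) ↔ ∀ k, x ∈ normalizer (R k : Set G) := by
  rw [ParSys.mem_Qk]
  constructor
  · intro h k
    obtain ⟨g, hg, e⟩ := b.trans_X_one i k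
    rw [← e, ← mem_norm_iff]
    exact D.BR (h g ((le_sup_left : XX V R ≤ P0 V R B) hg))
  · intro h g hg
    obtain ⟨k, hk⟩ := b.perm g (P0_le b D hg) i
    refine mem_B b D (mul_mem (mul_mem (inv_mem hg) hx) hg) ?_
    rw [mem_norm_iff, hk]
    exact h k

theorem cen_le_Qk {x : G} (hx : x ∈ P0 V R B) (h : x ∈ centralizer (V : Set G)) : x ∈ Qk B (P0 V R B) :=
  (mem_Qk_iff b D hx).2 fun k => b.cen_le_N k h

theorem exists_cj (k : ι) : ∃ x ∈ XX V R, cj x (R i) = R k := b.trans_X_one i k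

theorem not_mem_B_iff {x : G} (hx : x ∈ P0 V R B) : x ∉ B ↔ ∃ k, k ≠ i ∧ cj x (R i) = R k := by
  constructor
  · intro h
    obtain ⟨k, hk⟩ := b.perm x (P0_le b D hx) i
    refine ⟨k, ?_, hk⟩
    rintro rfl
    exact h (mem_B b D hx (cj_eq_self_iff.1 hk))
  · rintro ⟨k, hki, hk⟩ h
    have h1 := cj_eq_self_iff.2 (D.BR h)
    rw [h1] at hk
    exact hki (b.R_index hk).symm

/-- at least three chambers -/
theorem three : ∃ x ∈ P0 V R B, ∃ y ∈ P0 V R B, x ∉ B ∧ y ∉ B ∧ x⁻¹ * y ∉ B := by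
  obtain ⟨j, hj, -⟩ := b.third i i
  obtain ⟨k, hk1, hk2⟩ := b.third i j
  obtain ⟨x, hx, ex⟩ := b.trans_X_one i j
  obtain ⟨y, hy, ey⟩ := b.trans_X_one i k
  have hx' : x ∈ P0 V R B := (le_sup_left : XX V R ≤ P0 V R B) hx
  have hy' : y ∈ P0 V R B := (le_sup_left : XX V R ≤ P0 V R B) hy
  refine ⟨x, hx', y, hy', (not_mem_B_iff b D hx').2 ⟨j, hj, ex⟩, (not_mem_B_iff b D hy').2 ⟨k, hk1, ey⟩, ?_⟩
  intro h
  have h1 := cj_eq_self_iff.2 (D.BR h)
  rw [cj_mul, ey] at h1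
  have h2 := congrArg (cj x) h1
  rw [cj_cj_inv, ex] at h2
  exact hk2 (b.R_index h2)

/-- `U` is transitive on the other points -/
theorem ptr : Hall.HallData.PTr B U (P0 V R B) := by
  intro g hg hgB g' hg' hgB'
  obtain ⟨j, hj, ej⟩ := (not_mem_B_iff b D hg).1 hgB
  obtain ⟨k, hk, ek⟩ := (not_mem_B_iff b D hg').1 hgB'
  obtain ⟨w, hw, ew⟩ := b.trans i hj hk
  refine ⟨w, D.WU hw, g⁻¹ * w⁻¹ * g', ?_, by group⟩
  refine mem_B b D ?_ ?_
  · exact mul_mem (mul_mem (inv_mem hg) (inv_mem ((le_sup_left : XX V R ≤ P0 V R B) (W_le_X V R i hw)))) hg'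
  · rw [← cj_eq_self_iff, cj_mul, cj_mul, ek, ← ew, cj_inv_cj, ← ej, cj_inv_cj]

/-- an element of `W i` which fixes another point centralises `V` -/
theorem W_fix {j : ι} (hj : j ≠ i) {x : G} (hx : x ∈ WW V (R i)) (h : x ∈ normalizer (R j : Set G)) :
    x ∈ centralizer (V : Set G) := by
  have _ := D
  have hxQ := b.W_le_Q i hx
  have h1 : ∀ r ∈ R j, x * r = r * x := by
    intro r hr
    have h2 := b.QV i x hxQ r (b.R_le j hr)
    have h3 : x * r * x⁻¹ * r⁻¹ ∈ R j := mul_mem (BTwo.conj_mem_of_normalizer h hr) (inv_mem hr)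
    have h4 := b.eq_one (Ne.symm hj) h2 h3
    have e : x * r * x⁻¹ * r⁻¹ = (x * r) * (r * x)⁻¹ := by group
    rw [e] at h4
    exact mul_inv_eq_one.1 h4
  have h2 : V ≤ centralizer ({x} : Set G) := by
    rw [← b.R_sup i j (Ne.symm hj)]
    refine sup_le ?_ ?_
    · intro r hr
      rw [mem_centralizer_singleton_iff]
      exact (b.QR i x hxQ r hr).symm
    · intro r hr
      rw [mem_centralizer_singleton_iff]
      exact (h1 r hr).symm
  rw [mem_centralizer_iff]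
  intro v hv
  exact mem_centralizer_singleton_iff.1 (h2 hv)

/-- `U` is semiregular modulo the kernel -/
theorem reg : ∀ u ∈ U, ∀ g ∈ P0 V R B, g ∉ B → g⁻¹ * u * g ∈ B → u ∈ Qk B (P0 V R B) := by
  intro u hu g hg hgB h
  obtain ⟨j, hj, ej⟩ := (not_mem_B_iff b D hg).1 hgB
  have h1 : u ∈ normalizer (R j : Set G) := by
    rw [← ej, ← mem_norm_iff]
    exact D.BR h
  obtain ⟨w, hw, hc⟩ := D.UC u hu
  have h2 : w ∈ normalizer (R j : Set G) := by
    have e : w = u * (w⁻¹ * u)⁻¹ := by group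
    rw [e]
    exact mul_mem h1 (inv_mem (b.cen_le_N j hc))
  have h3 := W_fix b D hj hw h2
  refine cen_le_Qk b D ((le_sup_right : B ≤ P0 V R B) (D.UB hu)) ?_
  have e : u = w * (w⁻¹ * u) := by group
  rw [e]
  exact mul_mem h3 hc

theorem Y_le_B : YY V R ≤ B := fun y hy =>
  D.XB (mem_inf.2 ⟨YY_le_XX hy, b.cen_le_N i (YY_le_cen hy)⟩)

/-! ### The product pairs -/

/-- **The product pair** `(L B, X B)`, `L ≤ C(V)`. -/
theorem pair {L : Subgroup G} (hL : L ≤ centralizer (V : Set G)) (hBL : B ≤ normalizer (L : Set G)) :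
    Pair B (L ⊔ B) (P0 V R B) L (XX V R) where
  left := le_sup_right
  right := le_sup_right
  L_le := le_sup_left
  M_le := le_sup_left
  eqP := by
    intro x hx
    have h1 : x ∈ ((L ⊔ B : Subgroup G) : Set G) := hx
    rw [coe_mul_of_right_le_normalizer_left _ _ hBL] at h1
    obtain ⟨y, hy, z, hz, e⟩ := h1
    exact ⟨y, hy, z, hz, e.symm⟩
  eqQ := fun x hx => mem_P0 b D hx
  normL := hBL
  normM := D.BV.trans b.NV_le_NX
  comm := by
    intro x hx y hy
    have h1 := b.cen_comm_X (inv_mem (hL hx)) (inv_mem hy)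
    have e : x⁻¹ * y⁻¹ * x * y = x⁻¹ * y⁻¹ * x⁻¹⁻¹ * y⁻¹⁻¹ := by group
    rw [e]
    exact Y_le_B b D h1

/-- the product pair is a digon -/
theorem digon {L : Subgroup G} (hL : L ≤ centralizer (V : Set G)) (hBL : B ≤ normalizer (L : Set G)) :
    Digon B (L ⊔ B) (P0 V R B) := by
  refine (pair b D hL hBL).digon fun x hx hx0 => ?_
  obtain ⟨l, hl, z, hz, rfl⟩ := (pair b D hL hBL).eqP x hx
  refine mul_mem (mem_B b D ?_ (b.cen_le_N i (hL hl))) hz
  have := mul_mem hx0 (inv_mem ((le_sup_right : B ≤ P0 V R B) hz))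
  rwa [mul_inv_cancel_right] at this

/-- a subgroup of `B` which is normalised by `P ⊇ B` acts trivially on the panel `P / B` -/
theorem le_Qk {P K : Subgroup G} (hK : K ≤ B) (hP : P ≤ normalizer (K : Set G)) : K ≤ Qk B P := by
  have _ := b
  have _ := D
  intro x hx
  rw [ParSys.mem_Qk]
  exact fun g hg => hK (BTwo.conj_inv_mem_of_normalizer (hP hg) hx)

theorem W_le_Qk {L : Subgroup G} (hL : L ≤ centralizer (V : Set G)) :
    WW V (R i) ≤ Qk B (L ⊔ B) :=
  le_Qk b D (D.WU.trans D.UB) (sup_le (hL.trans (b.cen_le_NW i)) (D.BR.trans (normalizer_le_WW V (R i))))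

theorem Y_le_Qk' {L : Subgroup G} (hL : L ≤ centralizer (V : Set G)) : YY V R ≤ Qk B (L ⊔ B) :=
  le_Qk b D (Y_le_B b D) ((sup_le (hL.trans (cen_le_NV V)) D.BV).trans b.NV_le_NY)

/-- `U / Q_i` and `U / Q_0` are independent -/
theorem both {L : Subgroup G} (hL : L ≤ centralizer (V : Set G)) :
    ∀ u ∈ U, ∀ x ∈ U, ∃ w ∈ U, u⁻¹ * w ∈ Qk B (L ⊔ B) ∧ x⁻¹ * w ∈ Qk B (P0 V R B) := by
  intro u hu x hx
  obtain ⟨wu, hwu, hcu⟩ := D.UC u hu
  obtain ⟨wx, hwx, hcx⟩ := D.UC x hx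
  have hcuU : wu⁻¹ * u ∈ U := mul_mem (inv_mem (D.WU hwu)) hu
  have hcxU : wx⁻¹ * x ∈ U := mul_mem (inv_mem (D.WU hwx)) hx
  refine ⟨wx * (wu⁻¹ * u), mul_mem (D.WU hwx) hcuU, ?_, ?_⟩
  · have e : u⁻¹ * (wx * (wu⁻¹ * u)) = (wu⁻¹ * u)⁻¹ * (wu⁻¹ * wx) * (wu⁻¹ * u) := by group
    rw [e]
    exact W_le_Qk b D hL (BTwo.conj_inv_mem_of_normalizer (b.cen_le_NW i hcu) (mul_mem (inv_mem hwu) hwx))
  · have e : x⁻¹ * (wx * (wu⁻¹ * u)) = (wx⁻¹ * x)⁻¹ * (wu⁻¹ * u) := by group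
    rw [e]
    refine cen_le_Qk b D ?_ (mul_mem (inv_mem hcx) hcu)
    exact (le_sup_right : B ≤ P0 V R B) (D.UB (mul_mem (inv_mem hcxU) hcuU))

/-- **The product pair is a generalised `2`-gon.** -/
theorem polygon {I : Type*} {P : I → Subgroup G} {k z : I} {L : Subgroup G} (hk : P k = L ⊔ B)
    (hz : P z = P0 V R B) (hL : L ≤ centralizer (V : Set G)) (hBL : B ≤ normalizer (L : Set G))
    (hptr : Hall.HallData.PTr B U (P k)) (hne : ∃ x ∈ P k, x ∉ B) : _root_.Cfsg.Agent.ParSys.Polygon B P k z 2 := by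
  have h1 : Digon B (P k) (P z) := by rw [hk, hz]; exact digon b D hL hBL
  refine h1.polygon D.UB hptr (by rw [hz]; exact ptr b D) ?_ hne ?_
  · rw [hk, hz]
    exact both b D hL
  · obtain ⟨x, hx, -, -, hxB, -⟩ := three b D
    exact ⟨x, by rw [hz]; exact hx, hxB⟩

/-- the field `frat` of `Sys` at the product pair -/
theorem frat {L T : Subgroup G} (hL : L ≤ centralizer (V : Set G)) (hBL : B ≤ normalizer (L : Set G))
    (h : ∀ u ∈ U, ∃ t ∈ T, t⁻¹ * u ∈ Qk B (L ⊔ B) ∧ t⁻¹ * u ∈ Qk B (P0 V R B)) :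
    ∀ u ∈ U, ∃ t ∈ T, t⁻¹ * u ∈ Qk B ((L ⊔ B) ⊔ P0 V R B) := (digon b D hL hBL).frat h

end Cfsg.Agent.Omega.Lie.Zero

end

section


/-!
# NODE LIE, the END: the torus at the node `0`, and the 2-elements of `N(V) ∩ C(R i)`

* `exists_tor` : `t ∈ X ∩ N(R i)` of odd order, `[t, C(V)] ≤ Y`, fixed-point-free on `U / Q₀`;
* `fpfG`, `sepG` : the hypotheses `FpfG` at `P₀`, `SepG` at the product pair;
* `two_elt` : a 2-element of `N(V) ∩ C(R i)` is in `W_i C(V)`;
* `sup_eq` : `P ⊔ B = ((P ⊔ B) ∩ C(V)) ⊔ B` for `P ≤ N(V) ∩ C(R i)` with `N_P(S) ≤ B`, `S` Sylow in `P`.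
-/

set_option autoImplicit false
set_option linter.unusedSectionVars false

namespace Cfsg.Agent.Omega.Lie.Zero

open Subgroup Cfsg.Agent.Omega.BTwo Cfsg.Agent.ParSys

universe u v w

variable {G : Type u} [Group G] {ι : Type w} {V : Subgroup G} {R : ι → Subgroup G} {i j : ι} {F : Type v} [Field F]
  {v : F → F → G} {w1 w2 : F → G}

/-! ### The torus element -/

/-- the powers of `h(a)` -/
theorem hh_pow_act [CharP F 2] (c : Coord V R i j v w1 w2) {a : F} (ha : a ≠ 0) (n : ℕ) (p r : F) :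
    hh w1 w2 a ^ n * v p r * (hh w1 w2 a ^ n)⁻¹ = v (a ^ n * p) (a⁻¹ ^ n * r) := by
  induction n generalizing p r with
  | zero => simp
  | succ n ih =>
    have e : hh w1 w2 a ^ (n + 1) * v p r * (hh w1 w2 a ^ (n + 1))⁻¹ =
        hh w1 w2 a ^ n * (hh w1 w2 a * v p r * (hh w1 w2 a)⁻¹) * (hh w1 w2 a ^ n)⁻¹ := by
      rw [pow_succ]; group
    rw [e, c.hh_act ha, ih, ← mul_assoc, ← mul_assoc, pow_succ, pow_succ]

/-- an element of odd order of `X` which acts as `h(a)` on `V` -/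
theorem exists_tor [Finite G] [Finite F] [CharP F 2] (c : Coord V R i j v w1 w2) (b : BT V R) {a : F} (ha : a ≠ 0) :
    ∃ t ∈ XX V R, (∃ k : ℕ, Nat.Coprime 2 k ∧ t ^ k = 1) ∧ ∀ p r, t * v p r * t⁻¹ = v (a * p) (a⁻¹ * r) := by
  have : Fintype F := Fintype.ofFinite F
  set q := Fintype.card F with hq
  have ho : orderOf (hh w1 w2 a) ≠ 0 := (orderOf_pos _).ne'
  obtain ⟨s, k, hk, e⟩ := Nat.exists_eq_two_pow_mul_odd ho
  refine ⟨hh w1 w2 a ^ q ^ s, pow_mem (c.hh_mem_X b a) _, ⟨k, (Nat.coprime_two_left).2 hk, ?_⟩, ?_⟩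
  · have h2 : 2 ∣ q := by
      have h3 := FiniteField.cast_card_eq_zero F
      rw [← hq] at h3
      exact (CharP.cast_eq_zero_iff F 2 q).1 h3
    obtain ⟨m, hm⟩ := pow_dvd_pow_of_dvd h2 s
    rw [← pow_mul, hm]
    have e2 : 2 ^ s * m * k = orderOf (hh w1 w2 a) * m := by rw [e]; ring
    rw [e2, pow_mul, pow_orderOf_eq_one, one_pow]
  · intro p r
    rw [hh_pow_act c ha, FiniteField.pow_card_pow, FiniteField.pow_card_pow]

variable {B U : Subgroup G} (b : BT V R) (D : Dat V R i B U) (c : Coord V R i j v w1 w2)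

include b D c

theorem tor_mem_B {t : G} (ht : t ∈ XX V R) {a : F} (ha : a ≠ 0) (h : ∀ p r, t * v p r * t⁻¹ = v (a * p) (a⁻¹ * r)) :
    t ∈ B := by
  refine D.XB (mem_inf.2 ⟨ht, ?_⟩)
  rw [← cj_eq_self_iff]
  ext x
  rw [mem_cj, c.mem_R1, c.mem_R1]
  constructor
  · rintro ⟨p, hp⟩
    refine ⟨a * p, ?_⟩
    have h1 := h p 0
    rw [mul_zero] at h1
    rw [← h1, hp]
    group
  · rintro ⟨p, rfl⟩
    refine ⟨a⁻¹ * p, ?_⟩
    have h1 := h (a⁻¹ * p) 0
    rw [mul_zero, mul_inv_cancel_left₀ ha] at h1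
    rw [← h1]
    group

/-- the torus element is fixed-point-free on `U / Q₀` -/
theorem tor_fpf [CharP F 2] {t : G} (ht : t ∈ XX V R) {a : F} (ha : a ≠ 0) (ha1 : a ≠ 1)
    (h : ∀ p r, t * v p r * t⁻¹ = v (a * p) (a⁻¹ * r)) :
    ∀ u ∈ U, t * u * t⁻¹ * u⁻¹ ∈ Qk B (P0 V R B) → u ∈ Qk B (P0 V R B) := by
  intro u hu hQ
  have htB := tor_mem_B b D c ht ha h
  have hBP : B ≤ P0 V R B := le_sup_right
  have huB := D.UB hu
  obtain ⟨w, hw, hc⟩ := D.UC u hu
  obtain ⟨s, hs⟩ := c.W1_act w hw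
  -- the action of `u`
  have hu1 : ∀ p r, u * v p r * u⁻¹ = v (p + s * r) r := by
    intro p r
    have e : u * v p r * u⁻¹ = w * ((w⁻¹ * u) * v p r * (w⁻¹ * u)⁻¹) * w⁻¹ := by group
    rw [e, ← mem_centralizer_iff.1 hc _ (c.v_mem p r), mul_inv_cancel_right, hs]
  have hu2 : ∀ p r, u⁻¹ * v p r * u = v (p - s * r) r := by
    intro p r
    have h1 := hu1 (p - s * r) r
    rw [sub_add_cancel] at h1
    rw [← h1]
    group
  have ht2 : ∀ p r, t⁻¹ * v p r * t = v (a⁻¹ * p) (a * r) := by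
    intro p r
    have h1 := h (a⁻¹ * p) (a * r)
    rw [mul_inv_cancel_left₀ ha, inv_mul_cancel_left₀ ha] at h1
    rw [← h1]
    group
  have h3 : (t * u * t⁻¹ * u⁻¹) * v 0 1 * (t * u * t⁻¹ * u⁻¹)⁻¹ = v (a * (a * s) - s) 1 := by
    have e : (t * u * t⁻¹ * u⁻¹) * v 0 1 * (t * u * t⁻¹ * u⁻¹)⁻¹ =
        t * (u * (t⁻¹ * (u⁻¹ * v 0 1 * u) * t) * u⁻¹) * t⁻¹ := by group
    rw [e, hu2, ht2, hu1, h]
    congr 1
    · field_simp
      ring
    · rw [mul_one, inv_mul_cancel₀ ha]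
  have h4 := (mem_Qk_iff b D (hBP (Qk_le _ _ hQ))).1 hQ j
  have h5 : v (a * (a * s) - s) 1 ∈ R j := by
    rw [← h3]
    exact BTwo.conj_mem_of_normalizer h4 ((c.mem_R2 _).2 ⟨1, rfl⟩)
  obtain ⟨r, hr⟩ := (c.mem_R2 _).1 h5
  have h6 := (c.v_inj hr).1
  have h7 : s = 0 := by
    have h8 : (a - 1) * ((a - 1) * s) = 0 := by
      have h2 : (2 : F) = 0 := CharTwo.two_eq_zero
      linear_combination -h6 - (a * s - s) * h2
    rcases mul_eq_zero.1 h8 with h9 | h9
    · exact absurd (sub_eq_zero.1 h9) ha1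
    · rcases mul_eq_zero.1 h9 with h9 | h9
      · exact absurd (sub_eq_zero.1 h9) ha1
      · exact h9
  refine cen_le_Qk b D (hBP huB) ?_
  rw [mem_centralizer_iff]
  intro x hx
  obtain ⟨p, r, rfl⟩ := (c.mem_V x).1 hx
  have h8 := hu1 p r
  rw [h7, zero_mul, add_zero] at h8
  exact (mul_inv_eq_iff_eq_mul.1 h8).symm

/-- **`FpfG` at the node `0`** -/
theorem fpfG [Finite G] [Finite F] [CharP F 2] (hF : ∃ a : F, a ≠ 0 ∧ a ≠ 1) : FpfG 2 B U (P0 V R B) := by
  obtain ⟨a, ha, ha1⟩ := hF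
  obtain ⟨t, ht, hk, h⟩ := exists_tor c b ha
  exact ⟨t, tor_mem_B b D c ht ha h, hk, tor_fpf b D c ht ha ha1 h⟩

/-- an element of `X ∩ B` centralises `U` modulo `W_i Y` -/
theorem tor_comm {L : Subgroup G} (hL : L ≤ centralizer (V : Set G)) {t : G} (ht : t ∈ XX V R) (htB : t ∈ B) :
    ∀ u ∈ U, t * u * t⁻¹ * u⁻¹ ∈ Qk B (L ⊔ B) := by
  intro u hu
  obtain ⟨w, hw, hc⟩ := D.UC u hu
  have h1 : (w⁻¹ * u) * t * (w⁻¹ * u)⁻¹ * t⁻¹ ∈ YY V R := b.cen_comm_X hc ht
  have h2 : t * w * t⁻¹ ∈ WW V (R i) := BTwo.conj_mem_of_normalizer (normalizer_le_WW V (R i) (D.BR htB)) hw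
  have hBk : B ≤ L ⊔ B := le_sup_right
  have hwB : w ∈ B := D.UB (D.WU hw)
  have h3 := Qk_conj' (Y_le_Qk' b D hL (inv_mem h1)) (hBk hwB)
  have e : t * u * t⁻¹ * u⁻¹ = (t * w * t⁻¹) * w⁻¹ * (w * ((w⁻¹ * u) * t * (w⁻¹ * u)⁻¹ * t⁻¹)⁻¹ * w⁻¹) := by group
  rw [e]
  exact mul_mem (mul_mem (W_le_Qk b D hL h2) (W_le_Qk b D hL (inv_mem hw))) h3

/-- **`SepG` at the product pair** -/
theorem sepG [Finite G] [Finite F] [CharP F 2] (hF : ∃ a : F, a ≠ 0 ∧ a ≠ 1) {L : Subgroup G}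
    (hL : L ≤ centralizer (V : Set G)) : SepG 2 B U (L ⊔ B) (P0 V R B) := by
  obtain ⟨a, ha, ha1⟩ := hF
  obtain ⟨t, ht, hk, h⟩ := exists_tor c b ha
  have htB := tor_mem_B b D c ht ha h
  exact ⟨t, htB, hk, tor_comm b D c hL ht htB, tor_fpf b D c ht ha ha1 h⟩

omit b D in
/-- the scalar of an element of `N(V) ∩ C(R i)` on `V / R i` -/
theorem exists_scal (b : BT V R) {g : G} (hg : g ∈ normalizer (V : Set G)) (hgR : ∀ x ∈ R i, g * x = x * g) :
    ∃ μ : F, μ ≠ 0 ∧ ∃ w ∈ WW V (R i), ∀ p r, (w⁻¹ * g) * v p r * (w⁻¹ * g)⁻¹ = v p (μ * r) := by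
  have hgi : g ∈ normalizer (R i : Set G) := by
    rw [← cj_eq_self_iff]
    ext x
    rw [mem_cj]
    constructor
    · intro h
      have h1 := hgR _ h
      have e : x = g⁻¹ * x * g := by
        have e1 : g * (g⁻¹ * x * g) = x * g := by group
        rw [e1] at h1
        exact mul_right_cancel h1
      rw [e]
      exact h
    · intro h
      have h1 := hgR x h
      have e : g⁻¹ * x * g = x := by rw [mul_assoc, ← h1]; group
      rw [e]
      exact h
  obtain ⟨k, hk⟩ := b.perm g hg j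
  have hki : k ≠ i := by
    rintro rfl
    have h1 := cj_eq_self_iff.2 hgi
    exact c.ne (b.R_index (cj_injective (h1.trans hk.symm)))
  obtain ⟨w, hw, ew⟩ := b.trans i c.ne.symm hki
  have hwQ := b.W_le_Q i hw
  -- `m = w⁻¹ g` fixes `R i` pointwise and `R j`
  set m := w⁻¹ * g with hm
  have hmV : m ∈ normalizer (V : Set G) := mul_mem (inv_mem (b.W_le_NV i hw)) hg
  have hmi : ∀ x ∈ R i, m * x = x * m := by
    intro x hx
    have h1 := b.QR i w⁻¹ (inv_mem hwQ) x hx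
    rw [hm, mul_assoc, hgR x hx, ← mul_assoc, h1, mul_assoc]
  have hmj : m ∈ normalizer (R j : Set G) := by
    rw [← cj_eq_self_iff, hm, cj_mul, hk, ← ew, cj_inv_cj]
  have hmN : m ∈ normalizer (R i : Set G) := mul_mem (inv_mem (b.W_le_N i hw)) hgi
  have h1 : ∀ p, m * v p 0 * m⁻¹ = v p 0 := by
    intro p
    rw [hmi _ ((c.mem_R1 _).2 ⟨p, rfl⟩), mul_inv_cancel_right]
  have h2 : ∀ r, ∃ r', m * v 0 r * m⁻¹ = v 0 r' := by
    intro r
    obtain ⟨r', hr'⟩ := (c.mem_R2 _).1 (BTwo.conj_mem_of_normalizer hmj ((c.mem_R2 _).2 ⟨r, rfl⟩))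
    exact ⟨r', hr'.symm⟩
  choose lam hlam using h2
  have h3 : ∀ p r, m * v p r * m⁻¹ = v p (lam r) := by
    intro p r
    have e : v p r = v p 0 * v 0 r := by rw [← c.v_add, add_zero, zero_add]
    rw [e]
    have e2 : m * (v p 0 * v 0 r) * m⁻¹ = (m * v p 0 * m⁻¹) * (m * v 0 r * m⁻¹) := by group
    rw [e2, h1, hlam, ← c.v_add, add_zero, zero_add]
  -- `m` normalises `W i`
  obtain ⟨s, hs⟩ := c.W1_act (m * w1 1 * m⁻¹)
    (BTwo.conj_mem_of_normalizer (normalizer_le_WW V (R i) hmN) (c.w1_mem 1))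
  have h4 : ∀ r, r = s * lam r := by
    intro r
    have h5 := hs 0 (lam r)
    rw [zero_add] at h5
    have e : (m * w1 1 * m⁻¹) * v 0 (lam r) * (m * w1 1 * m⁻¹)⁻¹ =
        m * (w1 1 * (m⁻¹ * v 0 (lam r) * m) * (w1 1)⁻¹) * m⁻¹ := by group
    have e2 : m⁻¹ * v 0 (lam r) * m = v 0 r := by rw [← hlam]; group
    rw [e, e2, c.w1_act, h3, zero_add, one_mul] at h5
    exact (c.v_inj h5).1
  have hs0 : s ≠ 0 := by
    rintro rfl
    have := h4 1
    rw [zero_mul] at this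
    exact one_ne_zero this
  refine ⟨s⁻¹, inv_ne_zero hs0, w, hw, fun p r => ?_⟩
  rw [h3]
  congr 1
  rw [eq_inv_mul_iff_mul_eq₀ hs0]
  exact (h4 r).symm

omit b D in
/-- **A 2-element of `N(V) ∩ C(R i)` is in `W_i C(V)`.** -/
theorem two_elt [CharP F 2] (b : BT V R) {g : G} (hg : g ∈ normalizer (V : Set G)) (hgR : ∀ x ∈ R i, g * x = x * g)
    {n : ℕ} (hn : g ^ 2 ^ n ∈ centralizer (V : Set G)) : ∃ w ∈ WW V (R i), w⁻¹ * g ∈ centralizer (V : Set G) := by
  obtain ⟨μ, hμ, w, hw, h⟩ := exists_scal c b hg hgR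
  obtain ⟨s, hs⟩ := c.W1_act w hw
  have h1 : ∀ p r, g * v p r * g⁻¹ = v (p + s * (μ * r)) (μ * r) := by
    intro p r
    have e : g * v p r * g⁻¹ = w * ((w⁻¹ * g) * v p r * (w⁻¹ * g)⁻¹) * w⁻¹ := by group
    rw [e, h, hs]
  have h2 : ∀ k : ℕ, ∀ p r, ∃ p', g ^ k * v p r * (g ^ k)⁻¹ = v p' (μ ^ k * r) := by
    intro k
    induction k with
    | zero => intro p r; exact ⟨p, by simp⟩
    | succ k ih =>
      intro p r
      obtain ⟨p', hp'⟩ := ih (p + s * (μ * r)) (μ * r)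
      refine ⟨p', ?_⟩
      have e : g ^ (k + 1) * v p r * (g ^ (k + 1))⁻¹ = g ^ k * (g * v p r * g⁻¹) * (g ^ k)⁻¹ := by
        rw [pow_succ]; group
      rw [e, h1, hp', ← mul_assoc, pow_succ]
  obtain ⟨p', hp'⟩ := h2 (2 ^ n) 0 1
  rw [← mem_centralizer_iff.1 hn _ (c.v_mem 0 1), mul_inv_cancel_right, mul_one] at hp'
  have h3 : μ ^ 2 ^ n = 1 := (c.v_inj hp').2.symm
  have h4 : μ = 1 := by
    have h5 : (μ - 1) ^ 2 ^ n = 0 := by rw [sub_pow_char_pow, h3, one_pow, sub_self]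
    exact sub_eq_zero.1 ((pow_eq_zero_iff (pow_ne_zero _ two_ne_zero)).1 h5)
  refine ⟨w, hw, ?_⟩
  rw [mem_centralizer_iff]
  intro x hx
  obtain ⟨p, r, rfl⟩ := (c.mem_V x).1 hx
  have h5 := h p r
  rw [h4, one_mul] at h5
  exact (mul_inv_eq_iff_eq_mul.1 h5).symm

omit b D in
/-- **The parabolics normalising `V`**: if `P'` normalises `V`, centralises `R i`, and the normaliser in `P'` of a
Sylow 2-subgroup of `P'` is in `B`, then `P' ⊔ B = L ⊔ B` with `L = (P' ⊔ B) ∩ C(V)`. -/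
theorem le_sup [Finite G] [CharP F 2] (b : BT V R) {P B : Subgroup G} (hPV : P ≤ normalizer (V : Set G))
    (hPR : ∀ g ∈ P, ∀ x ∈ R i, g * x = x * g) (hWB : WW V (R i) ≤ B) (S : Sylow 2 ↥P)
    (hS : (normalizer ((S : Subgroup ↥P) : Set ↥P)).map P.subtype ≤ B) :
    P ≤ ((P ⊔ B) ⊓ centralizer (V : Set G)) ⊔ B := by
  have hWN : WW V (R i) ≤ normalizer (V : Set G) := b.W_le_NV i
  have hcN : centralizer (V : Set G) ≤ normalizer (V : Set G) := Subgroup.centralizer_le_normalizer _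
  -- `P` normalises `W_i`
  have hPRi : P ≤ normalizer (R i : Set G) := by
    intro g hg
    rw [mem_normalizer_iff]
    intro x
    constructor
    · intro hx
      rw [hPR g hg x hx, mul_inv_cancel_right]
      exact hx
    · intro hx
      have h1 := hPR g⁻¹ (inv_mem hg) _ hx
      have e : x = g * x * g⁻¹ := by
        have e1 : g⁻¹ * (g * x * g⁻¹) = x * g⁻¹ := by group
        rw [e1] at h1
        exact mul_right_cancel h1
      rw [e]
      exact hx
  set K : Subgroup G := WW V (R i) ⊔ centralizer (V : Set G) with hK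
  have hnorm : ∀ g ∈ P, ∀ x ∈ K, g * x * g⁻¹ ∈ K := by
    intro g hg
    have h1 : K ≤ K.comap (MulAut.conj g).toMonoidHom := by
      rw [hK]
      refine sup_le (fun x hx => ?_) (fun x hx => ?_)
      · rw [mem_comap]
        exact (le_sup_left : WW V (R i) ≤ _)
          (BTwo.conj_mem_of_normalizer (normalizer_le_WW V (R i) (hPRi hg)) hx)
      · rw [mem_comap]
        refine (le_sup_right : centralizer (V : Set G) ≤ WW V (R i) ⊔ _) ?_
        rw [mem_centralizer_iff]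
        intro y hy
        have h2 : g⁻¹ * y * g ∈ V := by
          have := BTwo.conj_mem_of_normalizer (inv_mem (hPV hg)) hy
          rwa [inv_inv] at this
        have h3 := mem_centralizer_iff.1 hx _ h2
        have e1 : y * (g * x * g⁻¹) = g * ((g⁻¹ * y * g) * x) * g⁻¹ := by group
        have e2 : (g * x * g⁻¹) * y = g * (x * (g⁻¹ * y * g)) * g⁻¹ := by group
        change y * (g * x * g⁻¹) = (g * x * g⁻¹) * y
        rw [e1, e2, h3]
    exact fun x hx => h1 hx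
  have : (K.subgroupOf P).Normal := ⟨fun x hx g => by
    rw [mem_subgroupOf] at hx ⊢
    exact hnorm g g.2 x hx⟩
  have hSK : (S : Subgroup ↥P) ≤ K.subgroupOf P := by
    intro x hx
    obtain ⟨n, hn⟩ := (IsPGroup.iff_orderOf.1 S.isPGroup' ⟨x, hx⟩)
    have h1 : (x : G) ^ 2 ^ n = 1 := by
      have h2 := pow_orderOf_eq_one (⟨x, hx⟩ : (S : Subgroup ↥P))
      rw [hn] at h2
      have h3 := congrArg (fun z : (S : Subgroup ↥P) => ((z : ↥P) : G)) h2
      simpa only [_root_.SubmonoidClass.mk_pow, _root_.SubmonoidClass.coe_pow, _root_.OneMemClass.coe_one] using h3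
    obtain ⟨w, hw, hc⟩ := two_elt c b (hPV x.2) (hPR x x.2) (n := n) (by rw [h1]; exact one_mem _)
    rw [mem_subgroupOf]
    have e : (x : G) = w * (w⁻¹ * x) := by group
    rw [e]
    exact mul_mem ((le_sup_left : WW V (R i) ≤ K) hw) ((le_sup_right : _ ≤ K) hc)
  have htop := Sylow.normalizer_sup_eq_top' S hSK
  intro g hg
  have h1 : (⟨g, hg⟩ : ↥P) ∈ normalizer ((S : Subgroup ↥P) : Set ↥P) ⊔ K.subgroupOf P := by
    have h2 : (⟨g, hg⟩ : ↥P) ∈ (⊤ : Subgroup ↥P) := mem_top _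
    rw [← htop] at h2
    exact h2
  rw [← SetLike.mem_coe, Subgroup.mul_normal] at h1
  obtain ⟨n, hn, k, hk, e⟩ := h1
  have hnB : (n : G) ∈ B := hS (mem_map.2 ⟨n, hn, rfl⟩)
  have hkK : (k : G) ∈ K := mem_subgroupOf.1 hk
  have h2 : (k : G) ∈ ((WW V (R i) ⊔ centralizer (V : Set G) : Subgroup G) : Set G) := hkK
  have hcW : WW V (R i) ≤ normalizer (centralizer (V : Set G) : Set G) :=
    hWN.trans (BTwo.normalizer_le_normalizer_centralizer _)
  rw [coe_mul_of_left_le_normalizer_right _ _ hcW] at h2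
  obtain ⟨w, hw, z, hz, ez⟩ := h2
  have hzP : z ∈ P ⊔ B := by
    have : z = w⁻¹ * k := by rw [← ez]; group
    rw [this]
    exact mul_mem (inv_mem ((le_sup_right : B ≤ P ⊔ B) (hWB hw))) ((le_sup_left : P ≤ P ⊔ B) k.2)
  have e2 : g = (n : G) * (w * z) := by
    have := congrArg Subtype.val e
    simp only [Subgroup.coe_mul] at this
    rw [← this, ← ez]
  rw [e2]
  exact mul_mem ((le_sup_right : B ≤ _) hnB)
    (mul_mem ((le_sup_right : B ≤ _) (hWB hw)) ((le_sup_left : _ ≤ _ ⊔ B) (mem_inf.2 ⟨hzP, hz⟩)))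

omit b D in
theorem sup_eq [Finite G] [CharP F 2] (b : BT V R) {P B : Subgroup G} (hPV : P ≤ normalizer (V : Set G))
    (hPR : ∀ g ∈ P, ∀ x ∈ R i, g * x = x * g) (hWB : WW V (R i) ≤ B) (S : Sylow 2 ↥P)
    (hS : (normalizer ((S : Subgroup ↥P) : Set ↥P)).map P.subtype ≤ B) :
    P ⊔ B = ((P ⊔ B) ⊓ centralizer (V : Set G)) ⊔ B :=
  le_antisymm (sup_le (le_sup c b hPV hPR hWB S hS) le_sup_right) (sup_le inf_le_left le_sup_right)

omit b D c in
/-- `B` normalises `P ∩ C(V)` -/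
theorem le_normalizer_inf_cen {P B : Subgroup G} (hBP : B ≤ P) (hBV : B ≤ normalizer (V : Set G)) :
    B ≤ normalizer ((P ⊓ centralizer (V : Set G) : Subgroup G) : Set G) := by
  intro g hg
  have key : ∀ h ∈ B, ∀ x ∈ P ⊓ centralizer (V : Set G), h * x * h⁻¹ ∈ P ⊓ centralizer (V : Set G) := by
    intro h hh x hx
    obtain ⟨h1, h2⟩ := mem_inf.1 hx
    exact mem_inf.2 ⟨mul_mem (mul_mem (hBP hh) h1) (inv_mem (hBP hh)),
      BTwo.conj_mem_of_normalizer (BTwo.normalizer_le_normalizer_centralizer _ (hBV hh)) h2⟩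
  rw [mem_normalizer_iff]
  intro x
  refine ⟨key g hg x, fun h => ?_⟩
  have h1 := key g⁻¹ (inv_mem hg) _ h
  have e : g⁻¹ * (g * x * g⁻¹) * g⁻¹⁻¹ = x := by group
  rwa [e] at h1

end Cfsg.Agent.Omega.Lie.Zero

end

section


/-!
# NODE LIE, the END: the torus conditions at the node `0`

* `sepG_of_pow`, `fpfG_of_pow` : an element of order prime to `p` modulo `U` suffices in `SepG`, `FpfG`;
* `fpf_t`, `fpfG_t`, `sepG_t` : `t a` (`TorD`) is fixed-point-free on `U / Q₀`; the node `0` against a node centralised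
  by `t a`;
* `cen_zero` : an element of the group generated by the conjugates of `U` under `N(V) ∩ N(R i)` centralises `U / Q₀`;
* `sepG_nbr` : the node `0` against a node where such an element is fixed-point-free.
-/

set_option autoImplicit false
set_option linter.unusedSectionVars false

namespace Cfsg.Agent.Omega.Lie.Zero

open Subgroup Cfsg.Agent.Omega.BTwo Cfsg.Agent.ParSys

universe u v w

/-! ### Elements of order prime to `p` modulo `U` -/

section pow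

variable {G : Type u} [Group G] {p : ℕ} {B U P P' : Subgroup G}

theorem exists_mod {n q : ℕ} (hn : 0 < n) (hq : 0 < q) (h : n.Coprime q) :
    ∃ N : ℕ, q ∣ N ∧ ∃ k, N = n * k + 1 := by
  obtain ⟨N, h1, h2⟩ := Nat.chineseRemainder h 1 0
  have h3 : q ∣ N := (Nat.modEq_zero_iff_dvd).1 h2
  have h4 : 1 ≤ N + n * q := Nat.one_le_iff_ne_zero.2 (by have := Nat.mul_pos hn hq; omega)
  have h5 : 1 ≡ N + n * q [MOD n] := by
    have : N + n * q ≡ 1 + 0 [MOD n] := h1.add ((Nat.modEq_zero_iff_dvd).2 (dvd_mul_right n q))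
    exact this.symm
  obtain ⟨k, hk⟩ := (Nat.modEq_iff_dvd' h4).1 h5
  exact ⟨N + n * q, (Nat.dvd_add_right h3).2 (dvd_mul_left q n), k, by omega⟩

/-- the elements which centralise `U` modulo `Qk B P` are closed under powers -/
theorem cen_pow (hP : B ≤ P) {x : G} (hx : x ∈ B) (h : ∀ u ∈ U, x * u * x⁻¹ * u⁻¹ ∈ Qk B P) (k : ℕ) :
    ∀ u ∈ U, x ^ k * u * (x ^ k)⁻¹ * u⁻¹ ∈ Qk B P := by
  induction k with
  | zero =>
    intro u _
    have e : x ^ 0 * u * (x ^ 0)⁻¹ * u⁻¹ = 1 := by rw [pow_zero]; group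
    rw [e]
    exact one_mem _
  | succ k ih =>
    intro u hu
    have e : x ^ (k + 1) * u * (x ^ (k + 1))⁻¹ * u⁻¹ =
        x * (x ^ k * u * (x ^ k)⁻¹ * u⁻¹) * x⁻¹ * (x * u * x⁻¹ * u⁻¹) := by rw [pow_succ']; group
    rw [e]
    exact mul_mem (Qk_conj' (ih u hu) (hP hx)) (h u hu)

/-- The `p'`-part of an element of order prime to `p` modulo `U`. -/
theorem exists_part (hp : p.Prime) (hU : IsPGroup p U) {x : G} {n : ℕ} (hn : 0 < n) (hc : p.Coprime n)
    (hxn : x ^ n ∈ U) : ∃ N : ℕ, (x ^ N) ^ n = 1 ∧ ∃ z ∈ U, x ^ N = x * z ∧ x * z = z * x := by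
  obtain ⟨a, ha⟩ := hU ⟨x ^ n, hxn⟩
  have ha' : (x ^ n) ^ p ^ a = 1 := by simpa only [_root_.SubmonoidClass.mk_pow, _root_.OneMemClass.coe_one] using congrArg Subtype.val ha
  obtain ⟨N, ⟨m, hm⟩, k, hk⟩ := exists_mod hn (pow_pos hp.pos a) (hc.symm.pow_right a)
  refine ⟨N, ?_, (x ^ n) ^ k, pow_mem hxn k, ?_, ?_⟩
  · have e : (x ^ N) ^ n = ((x ^ n) ^ p ^ a) ^ m := by
      rw [hm, ← pow_mul, ← pow_mul, ← pow_mul]
      congr 1
      ring
    rw [e, ha', one_pow]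
  · rw [hk, ← pow_mul, pow_succ']
  · rw [← pow_mul, ← pow_succ', ← pow_succ]

theorem fpf_part (hUB : U ≤ B) (hP : B ≤ P) {x z y : G} (hx : x ∈ B) (hz : z ∈ U) (e : y = x * z)
    (hxz : x * z = z * x) (h : ∀ u ∈ U, x * u * x⁻¹ * u⁻¹ ∈ Qk B P → u ∈ Qk B P) :
    ∀ u ∈ U, y * u * y⁻¹ * u⁻¹ ∈ Qk B P → u ∈ Qk B P := by
  have hzQ : z ∈ Qk B P := by
    refine h z hz ?_
    have e1 : x * z * x⁻¹ * z⁻¹ = 1 := by rw [hxz]; group
    rw [e1]
    exact one_mem _
  intro u hu hq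
  refine h u hu ?_
  have e1 : x * u * x⁻¹ * u⁻¹ =
      (x * (u * z * u⁻¹ * z⁻¹) * x⁻¹) * (y * u * y⁻¹ * u⁻¹) := by
    rw [e]; group
  rw [e1]
  refine mul_mem (Qk_conj' (mul_mem (Qk_conj' hzQ (hP (hUB hu))) (inv_mem hzQ)) (hP hx)) hq

/-- **`SepG` from an element of order prime to `p` modulo `U`** -/
theorem sepG_of_pow (hp : p.Prime) (hU : IsPGroup p U) (hUB : U ≤ B) (hP : B ≤ P) (hP' : B ≤ P') {x : G} (hx : x ∈ B)
    {n : ℕ} (hn : 0 < n) (hc : p.Coprime n) (hxn : x ^ n ∈ U) (h : ∀ u ∈ U, x * u * x⁻¹ * u⁻¹ ∈ Qk B P)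
    (h' : ∀ u ∈ U, x * u * x⁻¹ * u⁻¹ ∈ Qk B P' → u ∈ Qk B P') : SepG p B U P P' := by
  obtain ⟨N, h1, z, hz, e, hxz⟩ := exists_part hp hU hn hc hxn
  exact ⟨x ^ N, pow_mem hx N, ⟨n, hc, h1⟩, cen_pow hP hx h N, fpf_part hUB hP' hx hz e hxz h'⟩

end pow

variable {G : Type u} [Group G] {ι : Type w} {V : Subgroup G} {R : ι → Subgroup G} {i j : ι} {F : Type v} [Field F]
  {v : F → F → G} {w1 w2 : F → G} {t : F → G} {B U : Subgroup G} (b : BT V R) (D : Dat V R i B U)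

/-! ### The torus `TorD` -/

include b D

theorem t_mem_B (τ : TorD V R i j v t) {a : F} (ha : a ≠ 0) : t a ∈ B :=
  D.XB (mem_inf.2 ⟨τ.memX a ha, τ.normR ha⟩)

/-! ### Elements which centralise `U / Q₀` -/

/-- an element of `W_i C(V)` centralises `U` modulo `C(V)` -/
theorem cen_WC {x : G} (hxB : x ∈ B) (hx : ∃ w ∈ WW V (R i), w⁻¹ * x ∈ centralizer (V : Set G)) :
    ∀ u ∈ U, x * u * x⁻¹ * u⁻¹ ∈ Qk B (P0 V R B) := by
  intro u hu
  have hBP : B ≤ P0 V R B := le_sup_right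
  obtain ⟨w, hw, hc⟩ := hx
  obtain ⟨w', hw', hc'⟩ := D.UC u hu
  refine cen_le_Qk b D (hBP (mul_mem (mul_mem (mul_mem hxB (D.UB hu)) (inv_mem hxB)) (inv_mem (D.UB hu)))) ?_
  have hN := BTwo.normalizer_le_normalizer_centralizer V
  have hwN : w ∈ normalizer (centralizer (V : Set G) : Set G) := hN (b.W_le_NV i hw)
  have hwN' : w' ∈ normalizer (centralizer (V : Set G) : Set G) := hN (b.W_le_NV i hw')
  obtain ⟨c1, hc1, rfl⟩ : ∃ c1 ∈ centralizer (V : Set G), x = w * c1 := ⟨_, hc, by group⟩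
  obtain ⟨c2, hc2, rfl⟩ : ∃ c2 ∈ centralizer (V : Set G), u = w' * c2 := ⟨_, hc', by group⟩
  have hww : w * w' * w⁻¹ * w'⁻¹ ∈ centralizer (V : Set G) := by
    rw [mem_centralizer_iff]
    exact fun z hz => (b.V_comm _ (b.R_le i (b.WW_comm i hw hw')) z hz).symm
  have e : w * c1 * (w' * c2) * (w * c1)⁻¹ * (w' * c2)⁻¹ =
      w * (c1 * (w' * (c2 * c1⁻¹) * w'⁻¹)) * w⁻¹ * (w * w' * w⁻¹ * w'⁻¹) * (w' * c2⁻¹ * w'⁻¹) := by group
  rw [e]
  exact mul_mem (mul_mem (BTwo.conj_mem_of_normalizer hwN (mul_mem hc1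
    (BTwo.conj_mem_of_normalizer hwN' (mul_mem hc2 (inv_mem hc1))))) hww)
    (BTwo.conj_mem_of_normalizer hwN' (inv_mem hc2))

/-- the conjugates of `U` under `N(V) ∩ N(R i)` are in `W_i C(V)` -/
theorem conj_le {x : G} (hx : x ∈ _root_.Subgroup.closure {y | ∃ g ∈ normalizer (V : Set G) ⊓ normalizer (R i : Set G),
    ∃ u ∈ U, g * u * g⁻¹ = y}) : ∃ w ∈ WW V (R i), w⁻¹ * x ∈ centralizer (V : Set G) := by
  have hN := BTwo.normalizer_le_normalizer_centralizer V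
  have hcW : WW V (R i) ≤ normalizer (centralizer (V : Set G) : Set G) := (b.W_le_NV i).trans hN
  have h1 : _root_.Subgroup.closure {y | ∃ g ∈ normalizer (V : Set G) ⊓ normalizer (R i : Set G),
      ∃ u ∈ U, g * u * g⁻¹ = y} ≤ WW V (R i) ⊔ centralizer (V : Set G) := by
    rw [Subgroup.closure_le]
    rintro _ ⟨g, hg, u, hu, rfl⟩
    obtain ⟨hgV, hgR⟩ := mem_inf.1 hg
    obtain ⟨w, hw, hc⟩ := D.UC u hu
    have e : g * u * g⁻¹ = (g * w * g⁻¹) * (g * (w⁻¹ * u) * g⁻¹) := by group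
    rw [SetLike.mem_coe, e]
    exact mul_mem ((le_sup_left : WW V (R i) ≤ _) (BTwo.conj_mem_of_normalizer (normalizer_le_WW V (R i) hgR) hw))
      ((le_sup_right : _ ≤ WW V (R i) ⊔ centralizer (V : Set G)) (BTwo.conj_mem_of_normalizer (hN hgV) hc))
  have h2 : x ∈ ((WW V (R i) ⊔ centralizer (V : Set G) : Subgroup G) : Set G) := h1 hx
  rw [coe_mul_of_left_le_normalizer_right _ _ hcW] at h2
  obtain ⟨w, hw, z, hz, rfl⟩ := h2
  exact ⟨w, hw, by rw [inv_mul_cancel_left]; exact hz⟩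

/-- **an element of the group generated by the conjugates of `U` under `N(V) ∩ N(R i)` centralises `U / Q₀`** -/
theorem cen_zero {x : G} (hxB : x ∈ B) (hx : x ∈ _root_.Subgroup.closure {y | ∃ g ∈ normalizer (V : Set G) ⊓ normalizer (R i : Set G),
    ∃ u ∈ U, g * u * g⁻¹ = y}) : ∀ u ∈ U, x * u * x⁻¹ * u⁻¹ ∈ Qk B (P0 V R B) :=
  cen_WC b D hxB (conj_le b D hx)

/-- **the node `0` against a moved node** (`q = 4`): `x` of odd order modulo `U`, in the group generated by the conjugates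
of `U` under `N(V) ∩ N(R i)`, fixed-point-free on `U` modulo the kernel of the panel `P` -/
theorem sepG_nbr (hU : IsPGroup 2 U) {P : Subgroup G} (hP : B ≤ P) {x : G} (hxB : x ∈ B)
    (hx : x ∈ _root_.Subgroup.closure {y | ∃ g ∈ normalizer (V : Set G) ⊓ normalizer (R i : Set G), ∃ u ∈ U, g * u * g⁻¹ = y})
    {n : ℕ} (hn : Odd n) (hxn : x ^ n ∈ U) (h : ∀ u ∈ U, x * u * x⁻¹ * u⁻¹ ∈ Qk B P → u ∈ Qk B P) :
    SepG 2 B U (P0 V R B) P :=
  sepG_of_pow Nat.prime_two hU D.UB le_sup_right hP hxB hn.pos ((Nat.coprime_two_left).2 hn) hxn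
    (cen_zero b D hxB hx) h

end Cfsg.Agent.Omega.Lie.Zero

end

section


/-!
# `C_X(V) = Y` and `X ∩ N(R i) = W_i Y T` for `BTS` (II.0h1), `q ≥ 4`

Copies of `BTwo/XMod` (`cen_X_V_four`) and `Lie/End/ZeroXB` (`X_inf_le`, `dat_of`) with `C(W i)` a 2-group instead of `C(X) = 1`.
-/

set_option autoImplicit false
set_option linter.unusedSectionVars false

namespace Cfsg.Agent.Omega.HOne.XV

open Subgroup Cfsg.Agent.Omega.BTwo Cfsg.Agent.Lib.SL2Mat Cfsg.Agent.Omega.Lie Cfsg.Agent.ParSys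
  Cfsg.Agent.Omega.Lie.Zero

universe u v w

open scoped commutatorElement

variable {G : Type u} [Group G] {ι : Type w} {V : Subgroup G} {R : ι → Subgroup G} {i j : ι} {F : Type v} [Field F]
  {v : F → F → G} {w1 w2 : F → G} {t : F → G} {M : Type u} [AddCommGroup M] [Module F M] {P1 P2 : G → M}

section aux

variable (y : YPair V R i j w1 w2 M P1 P2) (c : Coord V R i j v w1 w2)
include y c

/-- **`C_X(V) = Y`**, assuming that `C_X(V)` is in `Y X'` -/
theorem cen_X_V_aux' [Finite G] [Finite F] [CharP F 2] (b : BT V R)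
    (hp : IsPGroup 2 (centralizer (WW V (R i) : Set G)))
    (hc : ∀ x ∈ XX V R, x ∈ centralizer (V : Set G) → ∃ z ∈ YY V R, x * z ∈ ⁅XX V R, XX V R⁆) :
    XX V R ⊓ centralizer (V : Set G) = YY V R := by
  have hYX : YY V R ≤ XX V R := YY_le_XX
  have hn : ((YY V R).subgroupOf (XX V R)).Normal :=
    ⟨fun n hn g => _root_.Cfsg.Agent.Omega.BTwo.conj_mem_of_normalizer (g := (g : G)) (x := (n : G)) (b.NV_le_NY (b.X_le_NV g.2)) hn⟩
  let Γ := XX V R ⧸ (YY V R).subgroupOf (XX V R)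
  let π : XX V R →* Γ := QuotientGroup.mk' ((YY V R).subgroupOf (XX V R))
  have hπ : Function.Surjective π := QuotientGroup.mk'_surjective _
  have hπ1 : ∀ x : XX V R, π x = 1 ↔ (x : G) ∈ YY V R := fun x => QuotientGroup.eq_one_iff x
  let C : Subgroup (XX V R) := (c.rho b).ker
  have hC : ∀ x : XX V R, x ∈ C ↔ (x : G) ∈ centralizer (V : Set G) := fun x => c.rho_eq_one b
  let W : Subgroup (XX V R) := (WW V (R i)).subgroupOf (XX V R)
  have hYC : (YY V R).subgroupOf (XX V R) ≤ C := fun x hx => (hC x).2 (YY_le_cen hx)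
  have hZ : C.map π ≤ center Γ := by
    rintro _ ⟨x, hx, rfl⟩
    rw [mem_center_iff]
    intro g
    obtain ⟨g, rfl⟩ := hπ g
    rw [← map_mul, ← map_mul]
    have h1 := b.cen_comm_X ((hC x).1 hx) g.2
    have h2 : π (x * g * x⁻¹ * g⁻¹) = 1 := (hπ1 _).2 h1
    rw [map_mul, map_mul, map_mul, map_inv, map_inv, mul_inv_eq_one, mul_inv_eq_iff_eq_mul] at h2
    rw [map_mul, map_mul]
    exact h2.symm
  have hPZ : ∀ x ∈ W.map π, x ∈ C.map π → x = 1 := by
    rintro _ ⟨w, hw, rfl⟩ ⟨x, hx, e⟩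
    rw [hπ1]
    have h1 : π (w⁻¹ * x) = 1 := by rw [map_mul, map_inv, e, inv_mul_cancel]
    have h2 : (w⁻¹ * x : XX V R) ∈ C := hYC ((hπ1 _).1 h1)
    have h3 : w ∈ C := by
      have h4 := mul_mem hx (inv_mem h2)
      have e2 : x * (w⁻¹ * x)⁻¹ = w := by group
      rwa [e2] at h4
    exact UU_le_YY i (mem_inf.2 ⟨hw, (hC w).1 h3⟩)
  have hidx : Odd (W.map π ⊔ C.map π).index := by
    rw [← Subgroup.map_sup]
    have h1 : W ⊔ C = (upG F).comap (c.rho b) := by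
      apply le_antisymm
      · refine sup_le (fun w hw => ?_) fun x hx => ?_
        · obtain ⟨a, ha⟩ := c.exists_up (x := (w : G)) hw
          exact ⟨a, c.rho_eq b ha⟩
        · have h2 : c.rho b x = 1 := hx
          rw [mem_comap, h2]
          exact one_mem _
      · rintro x ⟨a, ha⟩
        have h2 : (⟨w1 a, W_le_X V R i (c.w1_mem a)⟩ : XX V R)⁻¹ * x ∈ C := by
          show c.rho b _ = 1
          rw [map_mul, map_inv, c.rho_w1, ha, inv_mul_cancel]
        have h3 : (⟨w1 a, W_le_X V R i (c.w1_mem a)⟩ : XX V R) ∈ W := c.w1_mem a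
        have h4 := mul_mem ((le_sup_left : W ≤ W ⊔ C) h3) ((le_sup_right : C ≤ W ⊔ C) h2)
        rwa [mul_inv_cancel_left] at h4
    have h2 : (W ⊔ C).index = (upG F).index := by
      rw [h1]
      exact index_comap_of_surjective _ (c.rho_surjective b)
    have h3 : ((W ⊔ C).map π).index = (W ⊔ C).index := by
      rw [index_map, (MonoidHom.range_eq_top.2 hπ), index_top, mul_one]
      congr 1
      rw [sup_eq_left, QuotientGroup.ker_mk']
      exact hYC.trans le_sup_right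
    rw [h3, h2]
    exact odd_index_upG
  have h2 : IsPGroup 2 (C.map π) := by
    refine IsPGroup.map ?_ π
    have h3 := Lie.coord_cen_X_V_isPGroup b c hp
    have h4 : C.map (XX V R).subtype ≤ XX V R ⊓ centralizer (V : Set G) := by
      rintro _ ⟨x, hx, rfl⟩
      exact mem_inf.2 ⟨x.2, (hC x).1 hx⟩
    have h5 := h3.to_le h4
    exact h5.of_injective (C.equivMapOfInjective _ (XX V R).subtype_injective).toMonoidHom
      (C.equivMapOfInjective _ (XX V R).subtype_injective).injective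
  have hcm : C.map π ≤ _root_.commutator Γ := by
    rintro _ ⟨x, hx, rfl⟩
    obtain ⟨z, hz, hxz⟩ := hc x x.2 ((hC x).1 hx)
    have h3 : π x = π (x * ⟨z, hYX hz⟩) := by
      rw [map_mul, (hπ1 ⟨z, hYX hz⟩).2 hz, mul_one]
    rw [h3]
    have h4 : (x * ⟨z, hYX hz⟩ : XX V R) ∈ _root_.commutator (XX V R) := by
      have h5 : (_root_.commutator (XX V R)).map (XX V R).subtype = ⁅XX V R, XX V R⁆ := by
        rw [_root_.commutator_def, Subgroup.map_commutator, ← MonoidHom.range_eq_map, range_subtype]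
      rw [← h5] at hxz
      obtain ⟨q, hq, e⟩ := hxz
      have e2 : q = x * ⟨z, hYX hz⟩ := Subtype.ext e
      rwa [e2] at hq
    have h5 : (_root_.commutator (XX V R)).map π ≤ _root_.commutator Γ := by
      rw [_root_.commutator_def, Subgroup.map_commutator, _root_.commutator_def]
      exact commutator_mono le_top le_top
    exact h5 ⟨_, h4, rfl⟩
  have key := central_eq_bot (C.map π) (W.map π) hZ hPZ hidx h2 hcm
  apply le_antisymm
  · rintro x hx
    obtain ⟨hxX, hxV⟩ := mem_inf.1 hx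
    have h3 : π ⟨x, hxX⟩ ∈ C.map π := ⟨_, (hC ⟨x, hxX⟩).2 hxV, rfl⟩
    rw [key, mem_bot] at h3
    exact (hπ1 ⟨x, hxX⟩).1 h3
  · exact le_inf hYX YY_le_cen

/-- **`C_X(V) = Y`**, `q ≥ 4` -/
theorem cen_X_V_four' [Finite G] [Finite F] [CharP F 2] (b : BT V R)
    (hp : IsPGroup 2 (centralizer (WW V (R i) : Set G))) {a : F} (ha : a ≠ 0) (ha1 : a ≠ 1) :
    XX V R ⊓ centralizer (V : Set G) = YY V R := by
  refine cen_X_V_aux' y c b hp fun x hx _ => ?_
  -- `X = X' Y`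
  have hn : YY V R ≤ normalizer ((⁅XX V R, XX V R⁆ : Subgroup G) : Set G) := by
    refine le_normalizer_of fun k hk z hz => ?_
    have h1 : ⁅XX V R, XX V R⁆ ≤ XX V R := commutator_le.2 fun p hp r hr =>
      mul_mem (mul_mem (mul_mem hp hr) (inv_mem hp)) (inv_mem hr)
    have h2 : ⁅k, z⁆ ∈ ⁅XX V R, XX V R⁆ := commutator_mem_commutator (YY_le_XX hk) (h1 hz)
    have e : k * z * k⁻¹ = ⁅k, z⁆ * z := by rw [commutatorElement_def]; group
    rw [e]
    exact mul_mem h2 hz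
  have half : ∀ {i j : ι} {v : F → F → G} {w1 w2 : F → G}, Coord V R i j v w1 w2 →
      WW V (R i) ≤ ⁅XX V R, XX V R⁆ ⊔ YY V R := by
    intro i j v w1 w2 c w hw
    obtain ⟨t, ht⟩ := c.exists_comm_hh b ha ha1 hw
    have h1 : hh w1 w2 a * w1 t * (hh w1 w2 a)⁻¹ * (w1 t)⁻¹ ∈ ⁅XX V R, XX V R⁆ :=
      commutator_mem_commutator (c.hh_mem_X b a) (W_le_X V R i (c.w1_mem t))
    have h2 := mul_mem ((le_sup_left : _ ≤ ⁅XX V R, XX V R⁆ ⊔ YY V R) h1)
      ((le_sup_right : _ ≤ ⁅XX V R, XX V R⁆ ⊔ YY V R) (UU_le_YY i ht))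
    rwa [mul_inv_cancel_left] at h2
  have h1 : XX V R ≤ ⁅XX V R, XX V R⁆ ⊔ YY V R := by
    conv_lhs => rw [b.X_eq c.ne]
    exact sup_le (half c) (half c.symm)
  have h2 : x ∈ ((⁅XX V R, XX V R⁆ ⊔ YY V R : Subgroup G) : Set G) := h1 hx
  rw [coe_mul_of_right_le_normalizer_left _ _ hn] at h2
  obtain ⟨q, hq, z, hz, e⟩ := h2
  refine ⟨z⁻¹, inv_mem hz, ?_⟩
  have e' : x = q * z := e.symm
  rw [e', mul_inv_cancel_right]
  exact hq

end aux

/-- **`C_X(V) = Y`** -/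
theorem cen_X_V [Finite G] [Finite F] [CharP F 2] (hF : ∃ a : F, a ≠ 0 ∧ a ≠ 1) (b : BTS V R)
    (c : Coord V R i j v w1 w2) : XX V R ⊓ centralizer (V : Set G) = YY V R := by
  obtain ⟨M, _, _, P1, P2, y⟩ := c.exists_yPair b.toBT
  obtain ⟨a, ha, ha1⟩ := hF
  exact cen_X_V_four' y c b.toBT (b.cen_W_isPGroup i) ha ha1

variable {B U : Subgroup G}

/-- **`X ∩ N(R i) ≤ W_i Y T`** -/
theorem X_inf_le [Finite G] [Finite F] [CharP F 2] (hF : ∃ a : F, a ≠ 0 ∧ a ≠ 1) (b : BTS V R) (c : Coord V R i j v w1 w2)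
    (τ : TorD V R i j v t) : XX V R ⊓ normalizer (R i : Set G) ≤ WW V (R i) ⊔ YY V R ⊔ τ.grp := by
  obtain ⟨M, _, _, P1, P2, y⟩ := c.exists_yPair b.toBT
  intro x hx
  obtain ⟨hxX, hxN⟩ := mem_inf.1 hx
  obtain ⟨A, hA⟩ := c.exists_actV b.toBT hxX
  have h10 : ent A 1 0 = 0 := by
    have h1 := BTwo.conj_mem_of_normalizer hxN ((c.mem_R1 _).2 ⟨1, rfl⟩)
    rw [hA 1 0] at h1
    obtain ⟨r, hr⟩ := (c.mem_R1 _).1 h1
    have h2 := (c.v_inj hr).2
    rw [mul_one, mul_zero, add_zero] at h2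
    exact h2.symm
  have hdet := det_eq A
  rw [h10] at hdet
  have hdet' : ent A 0 0 * ent A 1 1 = 1 := by linear_combination hdet
  set a := ent A 0 0 with ha
  have ha0 : a ≠ 0 := left_ne_zero_of_mul_eq_one hdet'
  have h11 : ent A 1 1 = a⁻¹ := eq_inv_of_mul_eq_one_right hdet'
  set s := ent A 0 1 with hs
  -- `w1 (s a) t(a)` has the same action
  have h1 : ∀ p r, (w1 (s * a) * t a) * v p r * (w1 (s * a) * t a)⁻¹ = v (a * p + s * r) (a⁻¹ * r) := by
    intro p r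
    have e : (w1 (s * a) * t a) * v p r * (w1 (s * a) * t a)⁻¹ =
        w1 (s * a) * (t a * v p r * (t a)⁻¹) * (w1 (s * a))⁻¹ := by group
    rw [e, τ.act a p r ha0, c.w1_act]
    congr 1
    field_simp
  have h2 : ∀ p r, x * v p r * x⁻¹ = v (a * p + s * r) (a⁻¹ * r) := by
    intro p r
    rw [hA p r, h10, h11, zero_mul, zero_add]
  have h3 : (w1 (s * a) * t a)⁻¹ * x ∈ centralizer (V : Set G) := by
    rw [mem_centralizer_iff]
    intro z hz
    obtain ⟨p, r, rfl⟩ := (c.mem_V z).1 hz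
    have h4 : x * v p r * x⁻¹ = (w1 (s * a) * t a) * v p r * (w1 (s * a) * t a)⁻¹ := by rw [h1, h2]
    have h5 : x * v p r = (w1 (s * a) * t a) * v p r * (w1 (s * a) * t a)⁻¹ * x := by
      rw [← h4]; group
    rw [mul_assoc ((w1 (s * a) * t a)⁻¹), h5]
    group
  have h4 : (w1 (s * a) * t a)⁻¹ * x ∈ XX V R :=
    mul_mem (inv_mem (mul_mem (W_le_X V R i (c.w1_mem _)) (τ.memX a ha0))) hxX
  have h5 : (w1 (s * a) * t a)⁻¹ * x ∈ YY V R := by
    rw [← cen_X_V hF b c]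
    exact mem_inf.2 ⟨h4, h3⟩
  have e : x = w1 (s * a) * t a * ((w1 (s * a) * t a)⁻¹ * x) := by group
  rw [e]
  exact mul_mem (mul_mem ((le_sup_left.trans le_sup_left : WW V (R i) ≤ _) (c.w1_mem _))
    ((le_sup_right : τ.grp ≤ _) ⟨a, ha0, rfl⟩)) ((le_sup_right.trans le_sup_left : YY V R ≤ WW V (R i) ⊔ YY V R ⊔ τ.grp) h5)

/-- **the data at the node `0`** -/
theorem dat_of [Finite G] [Finite F] [CharP F 2] (hF : ∃ a : F, a ≠ 0 ∧ a ≠ 1) (b : BTS V R) (c : Coord V R i j v w1 w2)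
    (τ : TorD V R i j v t) (BV : B ≤ normalizer (V : Set G)) (BR : B ≤ normalizer (R i : Set G)) (UB : U ≤ B)
    (WU : WW V (R i) ≤ U) (YU : YY V R ≤ U) (TB : τ.grp ≤ B) (hU : IsPGroup 2 U)
    (hUR : U ≤ centralizer (R i : Set G)) : Dat V R i B U where
  BV := BV
  BR := BR
  XB := (X_inf_le hF b c τ).trans (sup_le (sup_le (WU.trans UB) (YU.trans UB)) TB)
  UB := UB
  WU := WU
  UC := by
    intro u hu
    obtain ⟨n, hn⟩ := hU ⟨u, hu⟩
    have hn' : u ^ 2 ^ n = 1 := by simpa only [_root_.SubmonoidClass.mk_pow, _root_.OneMemClass.coe_one] using congrArg Subtype.val hn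
    exact two_elt c b.toBT (BV (UB hu)) (fun x hx => (mem_centralizer_iff.1 (hUR hu) x hx).symm) (n := n)
      (by rw [hn']; exact one_mem _)


end Cfsg.Agent.Omega.HOne.XV

end

section


/-!
# `M = W / Z(W)` is an `F`-space and the commutator form is `F`-bilinear (II.a and II.0h1, all `q ≥ 4`), abstract form

`H` acts on `M` and (through `ρ`) on `R = F`, `f : M × M → F` symmetric nondegenerate, `e : F → M` the line, `ω` its
coordinate functional; `M` is generated by the conjugates of the line. `t` the torus, `A` a set of elements of `H` acting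
trivially on `R`, `D` the T-trivial part modulo `e`. No connectedness, no components, no weights.

`Dat.semi`: every element of `H` acts on `R = F` semilinearly; `Dat.exists_module`: the `F`-structure on `M`.
-/

set_option autoImplicit false

namespace Cfsg.Agent.Omega.HOne.FqMod

variable {H : Type*} [Group H] {M : Type*} [AddCommGroup M] [DistribMulAction H M] {F : Type*} [Field F]

/-- the data -/
structure Dat (ρ : H → F ≃+ F) (f : M →+ M →+ F) (e : F →+ M) (ω : M →+ F) (t : Fˣ → H) (A : Set H)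
    (D : AddSubgroup M) : Prop where
  ρone : ∀ b, ρ 1 b = b
  ρmul : ∀ h h' b, ρ (h * h') b = ρ h (ρ h' b)
  symm : ∀ x y, f x y = f y x
  nd : ∀ x, (∀ y, f x y = 0) → x = 0
  act : ∀ (h : H) x y, f (h • x) (h • y) = ρ h (f x y)
  fe : ∀ x γ, f x (e γ) = ω x * γ
  span : ∀ L : AddSubgroup M, (∀ (h : H) γ, h • e γ ∈ L) → L = ⊤
  ωne : ∃ x, ω x ≠ 0
  tρ : ∀ (a : Fˣ) b, ρ (t a) b = a * b
  te : ∀ (a : Fˣ) γ, ∃ γ', t a • e γ = e γ'
  tD : ∀ (a : Fˣ), ∀ d ∈ D, ∃ γ, t a • d - d = e γ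
  Aρ : ∀ h ∈ A, ∀ b, ρ h b = b
  surj : ∀ m, ω m ≠ 0 → ∀ x, ω x = 0 → ∃ a ∈ A, x - (a • m - m) ∈ D

/-- `h` acts semilinearly on `F` -/
def Semi (ρ : H → F ≃+ F) (h : H) : Prop := ∀ a, ∃ c, ∀ b, ρ h (a * b) = c * ρ h b

theorem Semi.surj [Finite F] {ρ : H → F ≃+ F} {h : H} (hs : Semi ρ h) (c : F) :
    ∃ a, ∀ b, ρ h (a * b) = c * ρ h b := by
  choose μ hμ using hs
  have hinj : Function.Injective μ := by
    intro a a' h1
    have h2 := hμ a 1
    rw [h1, ← hμ a' 1, mul_one, mul_one] at h2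
    exact (ρ h).injective h2
  obtain ⟨a, rfl⟩ := (Finite.injective_iff_surjective.1 hinj) c
  exact ⟨a, hμ a⟩

namespace Dat

variable {ρ : H → F ≃+ F} {f : M →+ M →+ F} {e : F →+ M} {ω : M →+ F} {t : Fˣ → H} {A : Set H}
  {D : AddSubgroup M} (d : Dat ρ f e ω t A D)
include d

theorem one_ne : e 1 ≠ 0 := by
  intro h
  obtain ⟨x, hx⟩ := d.ωne
  have h1 := d.fe x 1
  rw [h, map_zero, mul_one] at h1
  exact hx h1.symm

/-- the form between two conjugates of the line -/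
theorem fee (h h' : H) (γ γ' : F) : f (h • e γ) (h' • e γ') = ρ h' (ω (h'⁻¹ • h • e γ) * γ') := by
  rw [← d.fe, ← d.act, smul_inv_smul]

/-- a conjugate of `e` over a semilinear element is orthogonal to a conjugate over a non-semilinear element -/
theorem orth [Finite F] {h h' : H} (hs : Semi ρ h) (hs' : ¬ Semi ρ h') (γ γ' : F) :
    f (h • e γ) (h' • e γ') = 0 := by
  by_contra hne
  apply hs'
  -- `g γ γ'`
  have k1 : ∀ x y, f (h • e x) (h' • e y) = ρ h' (ω (h'⁻¹ • h • e x) * y) := d.fee h h'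
  have k2 : ∀ x y, f (h • e x) (h' • e y) = ρ h (ω (h⁻¹ • h' • e y) * x) := by
    intro x y
    rw [d.symm, d.fee]
  have hs0 : ω (h'⁻¹ • h • e γ) ≠ 0 := by
    intro h0
    apply hne
    rw [k1, h0, zero_mul, map_zero]
  have hsurj : ∀ b, ∃ y, f (h • e γ) (h' • e y) = b := by
    intro b
    refine ⟨(ω (h'⁻¹ • h • e γ))⁻¹ * (ρ h').symm b, ?_⟩
    rw [k1, mul_inv_cancel_left₀ hs0]
    exact (ρ h').apply_symm_apply b
  intro a'
  -- `T b = ρ h' (a' * ρ h'⁻¹ b)`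
  have hT : ∀ x y, f (h • e x) (h' • e (a' * y)) = ρ h' (a' * (ρ h').symm (f (h • e x) (h' • e y))) := by
    intro x y
    rw [k1, k1, AddEquiv.symm_apply_apply]
    congr 1
    ring
  have hcomm : ∀ c b, ρ h' (a' * (ρ h').symm (c * b)) = c * ρ h' (a' * (ρ h').symm b) := by
    intro c b
    obtain ⟨a, ha⟩ := hs.surj c
    obtain ⟨y, rfl⟩ := hsurj b
    have h3 : ∀ y, f (h • e (a * γ)) (h' • e y) = c * f (h • e γ) (h' • e y) := by
      intro y
      rw [k2, k2, ← ha]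
      congr 1
      ring
    rw [← h3, ← hT, ← hT, h3]
  refine ⟨ρ h' (a' * (ρ h').symm 1), fun b => ?_⟩
  have h4 := hcomm (ρ h' b) 1
  rw [mul_one, AddEquiv.symm_apply_apply] at h4
  rw [h4, mul_comm]

/-- **one field**: every element of `H` acts semilinearly on `R = F` -/
theorem semi [Finite F] (hF : ∃ a : F, a ≠ 0 ∧ a ≠ 1) (h0 : H) : Semi ρ h0 := by
  by_contra hc
  obtain ⟨a, ha, ha1⟩ := hF
  let S1 : Set M := {x | ∃ h γ, Semi ρ h ∧ x = h • e γ}
  let S2 : Set M := {x | ∃ h γ, ¬ Semi ρ h ∧ x = h • e γ}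
  set M1 := AddSubgroup.closure S1 with hM1
  set M2 := AddSubgroup.closure S2 with hM2
  have horth : ∀ x ∈ M1, ∀ y ∈ M2, f x y = 0 := by
    intro x hx y hy
    induction hx using AddSubgroup.closure_induction with
    | mem x hx =>
      obtain ⟨h, γ, hs, rfl⟩ := hx
      induction hy using AddSubgroup.closure_induction with
      | mem y hy =>
        obtain ⟨h', γ', hs', rfl⟩ := hy
        exact d.orth hs hs' γ γ'
      | zero => exact map_zero _
      | add y z _ _ hy hz => rw [map_add, hy, hz, add_zero]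
      | neg y _ hy => rw [map_neg, hy, neg_zero]
    | zero => rw [map_zero]; rfl
    | add x z _ _ hx hz => rw [map_add, AddMonoidHom.add_apply, hx, hz, add_zero]
    | neg x _ hx => rw [map_neg, AddMonoidHom.neg_apply, hx, neg_zero]
  have htop : M1 ⊔ M2 = ⊤ := d.span _ (fun h γ => by
    by_cases hs : Semi ρ h
    · exact AddSubgroup.mem_sup_left (AddSubgroup.subset_closure ⟨h, γ, hs, rfl⟩)
    · exact AddSubgroup.mem_sup_right (AddSubgroup.subset_closure ⟨h, γ, hs, rfl⟩))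
  have hzero : ∀ x ∈ M2, (∀ y ∈ M2, f x y = 0) → x = 0 := by
    intro x hx h
    apply d.nd
    intro y
    have hy : y ∈ M1 ⊔ M2 := by rw [htop]; trivial
    obtain ⟨y1, hy1, y2, hy2, rfl⟩ := AddSubgroup.mem_sup.1 hy
    rw [map_add, h y2 hy2, d.symm, horth y1 hy1 x hx, add_zero]
  have hs1 : Semi ρ (1 : H) := fun a => ⟨a, fun b => by rw [d.ρone, d.ρone]⟩
  have heM1 : ∀ γ, e γ ∈ M1 := fun γ => AddSubgroup.subset_closure ⟨1, γ, hs1, (one_smul _ _).symm⟩
  have hst : ∀ (a : Fˣ) h, Semi ρ (t a * h) ↔ Semi ρ h := by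
    intro a h
    have k : ∀ b, ρ (t a * h) b = a * ρ h b := by
      intro b
      rw [d.ρmul]
      exact d.tρ a _
    constructor
    · intro hs x
      obtain ⟨c, hc⟩ := hs x
      refine ⟨c, fun b => ?_⟩
      have h1 := hc b
      rw [k, k] at h1
      exact mul_left_cancel₀ a.ne_zero (h1.trans (mul_left_comm _ _ _))
    · intro hs x
      obtain ⟨c, hc⟩ := hs x
      refine ⟨c, fun b => ?_⟩
      rw [k, k, hc, mul_left_comm]
  have hsA : ∀ g ∈ A, ∀ h, Semi ρ h → Semi ρ (g * h) := by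
    intro g hg h hs x
    obtain ⟨c, hc⟩ := hs x
    refine ⟨c, fun b => ?_⟩
    rw [d.ρmul, d.ρmul, d.Aρ g hg, d.Aρ g hg, hc]
  have hAM1 : ∀ g ∈ A, ∀ x ∈ M1, g • x ∈ M1 := by
    intro g hg x hx
    induction hx using AddSubgroup.closure_induction with
    | mem x hx =>
      obtain ⟨h, γ, hs, rfl⟩ := hx
      exact AddSubgroup.subset_closure ⟨g * h, γ, hsA g hg h hs, (mul_smul _ _ _).symm⟩
    | zero => rw [smul_zero]; exact zero_mem _
    | add x z _ _ hx hz => rw [smul_add]; exact add_mem hx hz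
    | neg x _ hx => rw [smul_neg]; exact neg_mem hx
  have htM1 : ∀ (a : Fˣ), ∀ x ∈ M1, t a • x ∈ M1 := by
    intro a x hx
    induction hx using AddSubgroup.closure_induction with
    | mem x hx =>
      obtain ⟨h, γ, hs, rfl⟩ := hx
      exact AddSubgroup.subset_closure ⟨t a * h, γ, (hst a h).2 hs, (mul_smul _ _ _).symm⟩
    | zero => rw [smul_zero]; exact zero_mem _
    | add x z _ _ hx hz => rw [smul_add]; exact add_mem hx hz
    | neg x _ hx => rw [smul_neg]; exact neg_mem hx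
  have htM2 : ∀ (a : Fˣ), ∀ x ∈ M2, t a • x ∈ M2 := by
    intro a x hx
    induction hx using AddSubgroup.closure_induction with
    | mem x hx =>
      obtain ⟨h, γ, hs, rfl⟩ := hx
      exact AddSubgroup.subset_closure ⟨t a * h, γ, fun h1 => hs ((hst a h).1 h1), (mul_smul _ _ _).symm⟩
    | zero => rw [smul_zero]; exact zero_mem _
    | add x z _ _ hx hz => rw [smul_add]; exact add_mem hx hz
    | neg x _ hx => rw [smul_neg]; exact neg_mem hx
  have hω2 : ∀ y ∈ M2, ω y = 0 := by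
    intro y hy
    have h1 := d.fe y 1
    rw [d.symm, horth _ (heM1 1) y hy, mul_one] at h1
    exact h1.symm
  -- an element of `M1` outside `P`
  obtain ⟨m, hm, hmω⟩ : ∃ m ∈ M1, ω m ≠ 0 := by
    obtain ⟨x, hx⟩ := d.ωne
    have hx' : x ∈ M1 ⊔ M2 := by rw [htop]; trivial
    obtain ⟨x1, hx1, x2, hx2, rfl⟩ := AddSubgroup.mem_sup.1 hx'
    rw [map_add, hω2 x2 hx2, add_zero] at hx
    exact ⟨x1, hx1, hx⟩
  let a' : Fˣ := Units.mk0 a ha
  -- `T` centralises `M2`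
  have hfix : ∀ y ∈ M2, t a' • y = y := by
    intro y hy
    obtain ⟨g, hg, hD⟩ := d.surj m hmω y (hω2 y hy)
    set x := g • m - m with hx
    have hxM : x ∈ M1 := sub_mem (hAM1 g hg m hm) hm
    obtain ⟨γ, hγ⟩ := d.tD a' _ hD
    have h1 : t a' • y - y ∈ M1 := by
      have e1 : t a' • y - y = (t a' • x - x) + (t a' • (y - x) - (y - x)) := by
        rw [smul_sub (t a') y x]; abel
      rw [e1, hγ]
      exact add_mem (sub_mem (htM1 a' x hxM) hxM) (heM1 γ)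
    have h2 : t a' • y - y ∈ M2 := sub_mem (htM2 a' y hy) hy
    have h3 := hzero _ h2 (fun z hz => horth _ h1 z hz)
    exact sub_eq_zero.1 h3
  have h5 : ∀ y ∈ M2, y = 0 := by
    intro y hy
    refine hzero y hy (fun z hz => ?_)
    have h1 := d.act (t a') y z
    rw [hfix y hy, hfix z hz, d.tρ] at h1
    have h2 : (a - 1) * f y z = 0 := by
      rw [sub_mul, one_mul, sub_eq_zero]
      exact h1.symm
    exact (mul_eq_zero.1 h2).resolve_left (sub_ne_zero.2 ha1)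
  have h6 := h5 (h0 • e 1) (AddSubgroup.subset_closure ⟨h0, 1, hc, rfl⟩)
  rw [smul_eq_zero_iff_eq] at h6
  exact d.one_ne h6

/-- the field automorphism induced by `h` -/
theorem exists_sigma [Finite F] (hF : ∃ a : F, a ≠ 0 ∧ a ≠ 1) :
    ∃ σ : H →* RingAut F, ∀ h a b, ρ h (a * b) = σ h a * ρ h b := by
  have hne : ∀ h, ρ h 1 ≠ 0 := fun h h0 => one_ne_zero ((ρ h).map_eq_zero_iff.1 h0)
  choose μ hμ using fun h => d.semi hF h
  have hinj : ∀ h, Function.Injective (μ h) := by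
    intro h a a' h1
    have h2 := hμ h a 1
    rw [h1, ← hμ h a' 1, mul_one, mul_one] at h2
    exact (ρ h).injective h2
  have hu : ∀ h a c, (∀ b, ρ h (a * b) = c * ρ h b) → μ h a = c := by
    intro h a c hc
    have h1 := hμ h a 1
    rw [hc] at h1
    exact (mul_right_cancel₀ (hne h) h1).symm
  have hmul : ∀ h a a', μ h (a * a') = μ h a * μ h a' := by
    intro h a a'
    apply hu
    intro b
    rw [mul_assoc, hμ, hμ, mul_assoc]
  have hadd : ∀ h a a', μ h (a + a') = μ h a + μ h a' := by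
    intro h a a'
    apply hu
    intro b
    rw [add_mul, map_add, hμ, hμ, add_mul]
  have hmm : ∀ h h' a, μ (h * h') a = μ h (μ h' a) := by
    intro h h' a
    apply hu
    intro b
    rw [d.ρmul, d.ρmul, hμ, hμ]
  have hbij : ∀ h, Function.Bijective (μ h) := fun h => ⟨hinj h, Finite.injective_iff_surjective.1 (hinj h)⟩
  let σ0 : H → (F ≃+* F) := fun h =>
    { Equiv.ofBijective (μ h) (hbij h) with
      map_mul' := hmul h
      map_add' := hadd h }
  refine ⟨MonoidHom.mk' σ0 (fun h h' => RingEquiv.ext (hmm h h')), hμ⟩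

/-- **the `F`-structure on `M`** -/
theorem exists_module [Finite F] (hF : ∃ a : F, a ≠ 0 ∧ a ≠ 1) :
    ∃ (_ : Module F M) (σ : H →* RingAut F),
      (∀ (a : F) x y, f (a • x) y = a * f x y) ∧ (∀ (a : F) x y, f x (a • y) = a * f x y) ∧
      (∀ h a b, ρ h (a * b) = σ h a * ρ h b) ∧
      (∀ (h : H) (a : F) (x : M), h • (a • x) = σ h a • (h • x)) ∧
      (∀ a γ : F, e (a * γ) = a • e γ) ∧ (∀ (a : F) x, ω (a • x) = a * ω x) ∧
      (∀ h : H, (∀ b, ρ h b = b) → σ h = 1) ∧ ∀ a : Fˣ, σ (t a) = 1 := by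
  obtain ⟨σ, hσ⟩ := d.exists_sigma hF
  have hex : ∀ (a : F) (x : M), ∃ x', ∀ y, f x' y = a * f x y := by
    let L : AddSubgroup M :=
      { carrier := {x | ∀ a : F, ∃ x', ∀ y, f x' y = a * f x y}
        zero_mem' := fun a => ⟨0, fun y => by rw [map_zero, AddMonoidHom.zero_apply, mul_zero]⟩
        add_mem' := by
          intro x z hx hz a
          obtain ⟨x', hx'⟩ := hx a
          obtain ⟨z', hz'⟩ := hz a
          exact ⟨x' + z', fun y => by
            rw [map_add, map_add, AddMonoidHom.add_apply, AddMonoidHom.add_apply, hx', hz', mul_add]⟩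
        neg_mem' := by
          intro x hx a
          obtain ⟨x', hx'⟩ := hx a
          exact ⟨-x', fun y => by
            rw [map_neg, map_neg, AddMonoidHom.neg_apply, AddMonoidHom.neg_apply, hx', mul_neg]⟩ }
    have hL : L = ⊤ := d.span L (by
      intro h γ a
      refine ⟨h • e ((σ h).symm a * γ), fun y => ?_⟩
      rw [d.symm, d.symm (h • e γ) y]
      have k : ∀ x, f y (h • e x) = ρ h (ω (h⁻¹ • y) * x) := by
        intro x
        rw [← d.fe, ← d.act, smul_inv_smul]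
      rw [k, k, show ω (h⁻¹ • y) * ((σ h).symm a * γ) = (σ h).symm a * (ω (h⁻¹ • y) * γ) by ring, hσ,
        RingEquiv.apply_symm_apply])
    intro a x
    have : x ∈ L := by rw [hL]; trivial
    exact this a
  choose sm hsm using hex
  have hu : ∀ x x' : M, (∀ y, f x y = f x' y) → x = x' := by
    intro x x' h
    rw [← sub_eq_zero]
    apply d.nd
    intro y
    rw [map_sub, AddMonoidHom.sub_apply, h, sub_self]
  let md : Module F M :=
    { smul := sm
      one_smul := fun x => hu _ _ fun y => by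
        change f (sm 1 x) y = _
        rw [hsm, one_mul]
      mul_smul := fun a b x => hu _ _ fun y => by
        change f (sm (a * b) x) y = f (sm a (sm b x)) y
        rw [hsm, hsm, hsm, mul_assoc]
      smul_zero := fun a => hu _ _ fun y => by
        change f (sm a 0) y = _
        rw [hsm, map_zero, AddMonoidHom.zero_apply, mul_zero]
      smul_add := fun a x z => hu _ _ fun y => by
        change f (sm a (x + z)) y = f (sm a x + sm a z) y
        rw [hsm, map_add, map_add, AddMonoidHom.add_apply, AddMonoidHom.add_apply, hsm, hsm, mul_add]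
      add_smul := fun a b x => hu _ _ fun y => by
        change f (sm (a + b) x) y = f (sm a x + sm b x) y
        rw [hsm, map_add, AddMonoidHom.add_apply, hsm, hsm, add_mul]
      zero_smul := fun x => hu _ _ fun y => by
        change f (sm 0 x) y = _
        rw [hsm, zero_mul, map_zero, AddMonoidHom.zero_apply] }
  have hl : ∀ (a : F) x y, f (a • x) y = a * f x y := hsm
  have hr : ∀ (a : F) x y, f x (a • y) = a * f x y := fun a x y => by
    rw [d.symm, hl, d.symm]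
  have hact : ∀ (h : H) (a : F) (x : M), h • (a • x) = σ h a • (h • x) := by
    intro h a x
    apply hu
    intro y
    rw [← smul_inv_smul h y, d.act, hl, hσ, hl, d.act]
  refine ⟨md, σ, hl, hr, hσ, hact, ?_, ?_, ?_, ?_⟩
  · intro a γ
    apply hu
    intro y
    rw [d.symm, d.fe, hl, d.symm, d.fe]
    ring
  · intro a x
    have h1 := d.fe (a • x) 1
    rw [hl, d.fe, mul_one, mul_one] at h1
    exact h1.symm
  · intro h hh
    apply RingEquiv.ext
    intro a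
    have h1 := hσ h a 1
    rw [hh, hh, mul_one, mul_one] at h1
    exact h1.symm
  · intro a
    apply RingEquiv.ext
    intro x
    have h1 := hσ (t a) x 1
    rw [d.tρ, d.tρ, mul_one, mul_one, mul_comm] at h1
    exact (mul_right_cancel₀ a.ne_zero h1).symm

end Dat

end Cfsg.Agent.Omega.HOne.FqMod

end

section


/-!
# NODE LIE, the END: instances at the node `0`

* `X_inf_le` : `X ∩ N(R i) ≤ W_i Y T`;
* `dat_of` : `Dat V R i B U` from `W_i, Y ≤ U`, `T ≤ B`, `U` a 2-group centralising `R i`;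
* `fpf_scal`, `sepG_scal` : `h ∈ B ∩ C(R i)`, nontrivial on `V / R i`, is fixed-point-free on `U / Q₀`;
* `unmoved_le` : the unmoved nodes normalise `V`;
* `exists_L`, `pair_fields` : an unmoved node `P` is `L B` with `L ≤ C(V)`; the pair `(P, P₀)`: polygon, `frat`, `SepG`.
-/

set_option autoImplicit false
set_option linter.unusedSectionVars false

namespace Cfsg.Agent.Omega.Lie.Zero

open Subgroup Cfsg.Agent.Omega.BTwo Cfsg.Agent.ParSys Cfsg.Agent.Lib.SL2Mat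

universe u v w

variable {G : Type u} [Group G] {ι : Type w} {V : Subgroup G} {R : ι → Subgroup G} {i j : ι} {F : Type v} [Field F]
  {v : F → F → G} {w1 w2 : F → G} {t : F → G} {B U : Subgroup G}

/-! ### `X ∩ N(R i)` -/

/-- **`X ∩ N(R i) ≤ W_i Y T`** -/
theorem X_inf_le [Finite G] [Finite F] [CharP F 2] (b : BTC V R) (c : Coord V R i j v w1 w2)
    (τ : TorD V R i j v t) : XX V R ⊓ normalizer (R i : Set G) ≤ WW V (R i) ⊔ YY V R ⊔ τ.grp := by
  obtain ⟨M, _, _, P1, P2, y⟩ := c.exists_yPair b.toBT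
  intro x hx
  obtain ⟨hxX, hxN⟩ := mem_inf.1 hx
  obtain ⟨A, hA⟩ := c.exists_actV b.toBT hxX
  have h10 : ent A 1 0 = 0 := by
    have h1 := BTwo.conj_mem_of_normalizer hxN ((c.mem_R1 _).2 ⟨1, rfl⟩)
    rw [hA 1 0] at h1
    obtain ⟨r, hr⟩ := (c.mem_R1 _).1 h1
    have h2 := (c.v_inj hr).2
    rw [mul_one, mul_zero, add_zero] at h2
    exact h2.symm
  have hdet := det_eq A
  rw [h10] at hdet
  have hdet' : ent A 0 0 * ent A 1 1 = 1 := by linear_combination hdet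
  set a := ent A 0 0 with ha
  have ha0 : a ≠ 0 := left_ne_zero_of_mul_eq_one hdet'
  have h11 : ent A 1 1 = a⁻¹ := eq_inv_of_mul_eq_one_right hdet'
  set s := ent A 0 1 with hs
  -- `w1 (s a) t(a)` has the same action
  have h1 : ∀ p r, (w1 (s * a) * t a) * v p r * (w1 (s * a) * t a)⁻¹ = v (a * p + s * r) (a⁻¹ * r) := by
    intro p r
    have e : (w1 (s * a) * t a) * v p r * (w1 (s * a) * t a)⁻¹ =
        w1 (s * a) * (t a * v p r * (t a)⁻¹) * (w1 (s * a))⁻¹ := by group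
    rw [e, τ.act a p r ha0, c.w1_act]
    congr 1
    field_simp
  have h2 : ∀ p r, x * v p r * x⁻¹ = v (a * p + s * r) (a⁻¹ * r) := by
    intro p r
    rw [hA p r, h10, h11, zero_mul, zero_add]
  have h3 : (w1 (s * a) * t a)⁻¹ * x ∈ centralizer (V : Set G) := by
    rw [mem_centralizer_iff]
    intro z hz
    obtain ⟨p, r, rfl⟩ := (c.mem_V z).1 hz
    have h4 : x * v p r * x⁻¹ = (w1 (s * a) * t a) * v p r * (w1 (s * a) * t a)⁻¹ := by rw [h1, h2]
    have h5 : x * v p r = (w1 (s * a) * t a) * v p r * (w1 (s * a) * t a)⁻¹ * x := by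
      rw [← h4]; group
    rw [mul_assoc ((w1 (s * a) * t a)⁻¹), h5]
    group
  have h4 : (w1 (s * a) * t a)⁻¹ * x ∈ XX V R :=
    mul_mem (inv_mem (mul_mem (W_le_X V R i (c.w1_mem _)) (τ.memX a ha0))) hxX
  have h5 : (w1 (s * a) * t a)⁻¹ * x ∈ YY V R := by
    rw [← y.cen_X_V c b]
    exact mem_inf.2 ⟨h4, h3⟩
  have e : x = w1 (s * a) * t a * ((w1 (s * a) * t a)⁻¹ * x) := by group
  rw [e]
  exact mul_mem (mul_mem ((le_sup_left.trans le_sup_left : WW V (R i) ≤ _) (c.w1_mem _))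
    ((le_sup_right : τ.grp ≤ _) ⟨a, ha0, rfl⟩)) ((le_sup_right.trans le_sup_left : YY V R ≤ WW V (R i) ⊔ YY V R ⊔ τ.grp) h5)

/-- **the data at the node `0`** -/
theorem dat_of [Finite G] [Finite F] [CharP F 2] (b : BTC V R) (c : Coord V R i j v w1 w2)
    (τ : TorD V R i j v t) (BV : B ≤ normalizer (V : Set G)) (BR : B ≤ normalizer (R i : Set G)) (UB : U ≤ B)
    (WU : WW V (R i) ≤ U) (YU : YY V R ≤ U) (TB : τ.grp ≤ B) (hU : IsPGroup 2 U)
    (hUR : U ≤ centralizer (R i : Set G)) : Dat V R i B U where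
  BV := BV
  BR := BR
  XB := (X_inf_le b c τ).trans (sup_le (sup_le (WU.trans UB) (YU.trans UB)) TB)
  UB := UB
  WU := WU
  UC := by
    intro u hu
    obtain ⟨n, hn⟩ := hU ⟨u, hu⟩
    have hn' : u ^ 2 ^ n = 1 := by simpa only [_root_.SubmonoidClass.mk_pow, _root_.OneMemClass.coe_one] using congrArg Subtype.val hn
    exact two_elt c b.toBT (BV (UB hu)) (fun x hx => (mem_centralizer_iff.1 (hUR hu) x hx).symm) (n := n)
      (by rw [hn']; exact one_mem _)

/-! ### Elements of `C(R i)` which act nontrivially on `V / R i` -/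

variable (b : BT V R) (D : Dat V R i B U) (c : Coord V R i j v w1 w2)

include b D c

/-- **`h ∈ B ∩ C(R i)`, nontrivial on `V / R i`, is fixed-point-free on `U / Q₀`** -/
theorem fpf_scal {h : G} (hB : h ∈ B) (hR : ∀ x ∈ R i, h * x = x * h) {p₀ s₀ : F}
    (hv : h * v 0 1 * h⁻¹ = v p₀ s₀) (hs : s₀ ≠ 1) :
    ∀ u ∈ U, h * u * h⁻¹ * u⁻¹ ∈ Qk B (P0 V R B) → u ∈ Qk B (P0 V R B) := by
  intro u hu hQ
  have hBP : B ≤ P0 V R B := le_sup_right
  have huB := D.UB hu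
  obtain ⟨μ, hμ, w, hw, hact⟩ := exists_scal c b (D.BV hB) hR
  obtain ⟨σ, hσ⟩ := c.W1_act w hw
  -- the action of `h`
  have h1 : ∀ p r, h * v p r * h⁻¹ = v (p + σ * (μ * r)) (μ * r) := by
    intro p r
    have e : h * v p r * h⁻¹ = w * ((w⁻¹ * h) * v p r * (w⁻¹ * h)⁻¹) * w⁻¹ := by group
    rw [e, hact, hσ]
  have hμs : μ ≠ 1 := by
    rw [h1 0 1, mul_one] at hv
    rw [(c.v_inj hv).2]
    exact hs
  have h1' : ∀ p r, h⁻¹ * v p r * h = v (p - σ * r) (μ⁻¹ * r) := by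
    intro p r
    have h2 := h1 (p - σ * r) (μ⁻¹ * r)
    rw [mul_inv_cancel_left₀ hμ, sub_add_cancel] at h2
    rw [← h2]
    group
  -- the action of `u`
  obtain ⟨w', hw', hc⟩ := D.UC u hu
  obtain ⟨s, hs'⟩ := c.W1_act w' hw'
  have hu1 : ∀ p r, u * v p r * u⁻¹ = v (p + s * r) r := by
    intro p r
    have e : u * v p r * u⁻¹ = w' * ((w'⁻¹ * u) * v p r * (w'⁻¹ * u)⁻¹) * w'⁻¹ := by group
    rw [e, ← mem_centralizer_iff.1 hc _ (c.v_mem p r), mul_inv_cancel_right, hs']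
  have hu2 : ∀ p r, u⁻¹ * v p r * u = v (p - s * r) r := by
    intro p r
    have h2 := hu1 (p - s * r) r
    rw [sub_add_cancel] at h2
    rw [← h2]
    group
  have h3 : (h * u * h⁻¹ * u⁻¹) * v 0 1 * (h * u * h⁻¹ * u⁻¹)⁻¹ = v (μ⁻¹ * s - s) 1 := by
    have e : (h * u * h⁻¹ * u⁻¹) * v 0 1 * (h * u * h⁻¹ * u⁻¹)⁻¹ =
        h * (u * (h⁻¹ * (u⁻¹ * v 0 1 * u) * h) * u⁻¹) * h⁻¹ := by group
    rw [e, hu2, h1', hu1, h1]
    congr 1
    · rw [mul_one, mul_one, mul_one, mul_inv_cancel₀ hμ]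
      ring
    · rw [mul_one, mul_inv_cancel₀ hμ]
  have h4 := (mem_Qk_iff b D (hBP (Qk_le _ _ hQ))).1 hQ j
  have h5 : v (μ⁻¹ * s - s) 1 ∈ R j := by
    rw [← h3]
    exact BTwo.conj_mem_of_normalizer h4 ((c.mem_R2 _).2 ⟨1, rfl⟩)
  obtain ⟨r, hr⟩ := (c.mem_R2 _).1 h5
  have h6 := (c.v_inj hr).1
  have h7 : s = 0 := by
    have h8 : (μ⁻¹ - 1) * s = 0 := by linear_combination -h6
    rcases mul_eq_zero.1 h8 with h9 | h9
    · exact absurd (inv_eq_one.1 (sub_eq_zero.1 h9)) hμs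
    · exact h9
  refine cen_le_Qk b D (hBP huB) ?_
  rw [mem_centralizer_iff]
  intro x hx
  obtain ⟨p, r, rfl⟩ := (c.mem_V x).1 hx
  have h8 := hu1 p r
  rw [h7, zero_mul, add_zero] at h8
  exact (mul_inv_eq_iff_eq_mul.1 h8).symm

/-- `SepG` at `(P, P₀)` from `h ∈ B ∩ C(R i)` of odd order modulo `U`, nontrivial on `V / R i`, centralising `U` modulo
the kernel of `P` -/
theorem sepG_scal (hU : IsPGroup 2 U) {P : Subgroup G} (hP : B ≤ P) {h : G} (hB : h ∈ B)
    (hR : ∀ x ∈ R i, h * x = x * h) {p₀ s₀ : F} (hv : h * v 0 1 * h⁻¹ = v p₀ s₀) (hs : s₀ ≠ 1) {n : ℕ} (hn : Odd n)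
    (hhn : h ^ n ∈ U) (hc : ∀ u ∈ U, h * u * h⁻¹ * u⁻¹ ∈ Qk B P) : SepG 2 B U P (P0 V R B) :=
  sepG_of_pow Nat.prime_two hU D.UB hP le_sup_right hB hn.pos ((Nat.coprime_two_left).2 hn) hhn hc
    (fpf_scal b D c hB hR hv hs)

/-! ### The unmoved nodes -/

/-- a 2-element of `N(V) ∩ C(R i)` acts trivially on `V / R i` -/
theorem comm_of_U {u x : G} (hu : u ∈ U) (hx : x ∈ V) : u * x * u⁻¹ * x⁻¹ ∈ R i := by
  obtain ⟨w, hw, hc⟩ := D.UC u hu
  obtain ⟨s, hs⟩ := c.W1_act w hw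
  obtain ⟨p, r, rfl⟩ := (c.mem_V x).1 hx
  have e : u * v p r * u⁻¹ = w * ((w⁻¹ * u) * v p r * (w⁻¹ * u)⁻¹) * w⁻¹ := by group
  rw [e, ← mem_centralizer_iff.1 hc _ (c.v_mem p r), mul_inv_cancel_right, hs]
  have h1 : v (p + s * r) r = v (s * r) 0 * v p r := by rw [← c.v_add, zero_add, add_comm]
  rw [h1, mul_inv_cancel_right]
  exact (c.mem_R1 _).2 ⟨_, rfl⟩

omit b D c in
/-- the 2-elements of `B` are in `U` -/
theorem mem_U_of_two (norm : B ≤ normalizer (U : Set G)) (index : Nat.Coprime 2 (U.relIndex B)) {x : G} (hx : x ∈ B)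
    {n : ℕ} (h : x ^ 2 ^ n ∈ U) : x ∈ U :=
  Hall.mem_of_pow_mem_of_coprime (a := 2 ^ n) (b := U.relIndex B) h (Hall.pow_relIndex_mem norm hx) (index.pow_left n)

/-- **The unmoved nodes normalise `V`** (LEMMA CA). -/
theorem unmoved_le {P : Subgroup G} (hPR : P ≤ normalizer (R i : Set G)) (norm : B ≤ normalizer (U : Set G))
    (index : Nat.Coprime 2 (U.relIndex B)) (hQ : UU V R j ≤ Qk B P)
    (hCA : ∀ x ∈ WW V (R i), (∀ u ∈ UU V R j, u * x * u⁻¹ * x⁻¹ ∈ R i) → x ∈ V) :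
    P ≤ normalizer (V : Set G) := by
  have key : ∀ g ∈ P, ∀ x ∈ V, g * x * g⁻¹ ∈ V := by
    intro g hg x hx
    refine hCA _ (BTwo.conj_mem_of_normalizer (normalizer_le_WW V (R i) (hPR hg)) (V_le_WW V (R i) hx)) ?_
    intro u hu
    have h1 : g⁻¹ * u * g ∈ B := Qk_le _ _ (Qk_conj (hQ hu) hg)
    obtain ⟨n, hn⟩ := b.U_isPGroup j ⟨u, hu⟩
    have hn' : u ^ 2 ^ n = 1 := by simpa only [_root_.SubmonoidClass.mk_pow, _root_.OneMemClass.coe_one] using congrArg Subtype.val hn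
    have h2 : (g⁻¹ * u * g) ^ 2 ^ n = 1 := by
      have := conj_pow (i := 2 ^ n) (a := g⁻¹) (b := u)
      rw [inv_inv] at this
      rw [this, hn', mul_one, inv_mul_cancel]
    have h3 : g⁻¹ * u * g ∈ U := mem_U_of_two norm index h1 (n := n) (by rw [h2]; exact one_mem _)
    have h4 := BTwo.conj_mem_of_normalizer (hPR hg) (comm_of_U b D c h3 hx)
    have e : u * (g * x * g⁻¹) * u⁻¹ * (g * x * g⁻¹)⁻¹ =
        g * (g⁻¹ * u * g * x * (g⁻¹ * u * g)⁻¹ * x⁻¹) * g⁻¹ := by group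
    rw [e]
    exact h4
  intro g hg
  rw [mem_normalizer_iff]
  intro x
  refine ⟨key g hg x, fun h => ?_⟩
  have h1 := key g⁻¹ (inv_mem hg) _ h
  have e : g⁻¹ * (g * x * g⁻¹) * g⁻¹⁻¹ = x := by group
  rwa [e] at h1

/-- **An unmoved node is `L B` with `L ≤ C(V)`.** `P = (P ∩ C(R i)) B`, `U` is a Sylow 2-subgroup of `P ∩ C(R i)` and its
normaliser there is in `B`. -/
theorem exists_L [Finite G] [CharP F 2] {P : Subgroup G} (hBP : B ≤ P) (hPV : P ≤ normalizer (V : Set G))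
    (hgen : P ≤ (P ⊓ centralizer (R i : Set G)) ⊔ B) (hU2 : IsPGroup 2 U) (hUR : U ≤ centralizer (R i : Set G))
    (hodd : Odd (U.relIndex (P ⊓ centralizer (R i : Set G))))
    (hN : P ⊓ centralizer (R i : Set G) ⊓ normalizer (U : Set G) ≤ B) :
    ∃ L ≤ centralizer (V : Set G), B ≤ normalizer (L : Set G) ∧ P = L ⊔ B := by
  set P' := P ⊓ centralizer (R i : Set G) with hP'
  have hUP' : U ≤ P' := le_inf (D.UB.trans hBP) hUR
  -- `U` as a Sylow subgroup of `P'`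
  have hp : IsPGroup 2 (U.subgroupOf P') := hU2.comap_of_injective P'.subtype P'.subtype_injective
  have hidx : ¬ 2 ∣ (U.subgroupOf P').index := by
    intro h
    have h2 : Odd (U.subgroupOf P').index := hodd
    exact (Nat.not_even_iff_odd.2 h2) (even_iff_two_dvd.2 h)
  let S : Sylow 2 ↥P' := hp.toSylow hidx
  have hS : (S : Subgroup ↥P') = U.subgroupOf P' := rfl
  have hn : (normalizer ((S : Subgroup ↥P') : Set ↥P')).map P'.subtype ≤ B := by
    rintro _ ⟨x, hx, rfl⟩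
    refine hN (mem_inf.2 ⟨x.2, ?_⟩)
    rw [hS] at hx
    have hx' := mem_normalizer_iff.1 hx
    rw [mem_normalizer_iff]
    intro y
    constructor
    · intro hy
      have h1 := (hx' ⟨y, hUP' hy⟩).1 (mem_subgroupOf.2 hy)
      exact mem_subgroupOf.1 h1
    · intro hy
      have hyP : y ∈ P' := by
        have h2 := mul_mem (mul_mem (inv_mem x.2) (hUP' hy)) x.2
        have e : (x : G)⁻¹ * (P'.subtype x * y * (P'.subtype x)⁻¹) * x = y := by
          change (x : G)⁻¹ * ((x : G) * y * (x : G)⁻¹) * x = y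
          group
        rwa [e] at h2
      have h1 := (hx' ⟨y, hyP⟩).2 (mem_subgroupOf.2 hy)
      exact mem_subgroupOf.1 h1
  have hPR' : ∀ g ∈ P', ∀ x ∈ R i, g * x = x * g :=
    fun g hg x hx => (mem_centralizer_iff.1 (mem_inf.1 hg).2 x hx).symm
  have h1 := le_sup c b (B := B) ((inf_le_left : P' ≤ P).trans hPV) hPR' (D.WU.trans D.UB) S hn
  refine ⟨P ⊓ centralizer (V : Set G), inf_le_right, le_normalizer_inf_cen hBP D.BV, le_antisymm ?_ (sup_le inf_le_left hBP)⟩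
  refine hgen.trans (sup_le (h1.trans (sup_le_sup_right (inf_le_inf_right _ (sup_le inf_le_left hBP)) B)) le_sup_right)

end Cfsg.Agent.Omega.Lie.Zero

end

section


/-!
# `L₂(Q)`, `Q` even, with an automorphism of order 3 fixing an involution

`ExcModel.Mod α U u g y D`: `U` a Sylow 2-subgroup of `L ≅ L₂(Q)`, `α(U) = U`, `α³ = 1`, `α(u) = u ∈ U`, `u ≠ 1`:
there is an `α`-invariant complement `D` of `U` in `N(U)` and an `α`-invariant involution `y = u^g ∉ U`.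
-/

set_option autoImplicit false

namespace Cfsg.Agent.Omega.Lie.End.ExcModel

open Matrix Cfsg.Agent.Lib.SL2Mat Cfsg.Agent.Lib.AutSL2

/-- the data -/
structure Mod {L : Type*} [Group L] (α : MulAut L) (U : Subgroup L) (u g y : L) (D : Subgroup L) : Prop where
  ab : ∀ x ∈ U, ∀ y ∈ U, x * y = y * x
  g_fix : α g = g
  y_eq : y = g * u * g⁻¹
  gen : ∀ X : Subgroup L, U ≤ X → y ∈ X → X = ⊤
  D_U : ∀ d ∈ D, ∀ x ∈ U, d * x * d⁻¹ ∈ U
  D_comm : ∀ d ∈ D, ∀ d' ∈ D, d * d' = d' * d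
  D_fix : ∀ d ∈ D, α d ∈ D
  D_odd : ∀ d ∈ D, Odd (orderOf d)
  trans : ∀ v ∈ U, v ≠ 1 → ∃ d ∈ D, d * u * d⁻¹ = v
  free : ∀ d ∈ D, ∀ v ∈ U, v ≠ 1 → d * v * d⁻¹ = v → d = 1

theorem Mod.map {L L' : Type*} [Group L] [Group L'] (f : L ≃* L') {α : MulAut L} {U : Subgroup L} {u g y : L}
    {D : Subgroup L} (h : Mod α U u g y D) {α' : MulAut L'} (hα : ∀ x, α' (f x) = f (α x)) {U' : Subgroup L'}
    (hU : U.map f.toMonoidHom = U') {u' : L'} (hu : f u = u') :
    Mod α' U' u' (f g) (f y) (D.map f.toMonoidHom) where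
  ab := by
    subst hU
    rintro _ ⟨x, hx, rfl⟩ _ ⟨y, hy, rfl⟩
    change f x * f y = f y * f x
    rw [← map_mul, h.ab x hx y hy, map_mul]
  g_fix := by rw [hα, h.g_fix]
  y_eq := by rw [h.y_eq, map_mul, map_mul, map_inv, hu]
  gen := by
    subst hU
    intro X hX hy
    have h1 := h.gen (X.comap f.toMonoidHom) (Subgroup.map_le_iff_le_comap.1 hX) hy
    rw [eq_top_iff]
    intro x _
    have h2 : f.symm x ∈ X.comap f.toMonoidHom := by rw [h1]; exact Subgroup.mem_top _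
    have h3 : f (f.symm x) ∈ X := h2
    rwa [f.apply_symm_apply] at h3
  D_U := by
    subst hU
    rintro _ ⟨d, hd, rfl⟩ _ ⟨x, hx, rfl⟩
    exact ⟨_, h.D_U d hd x hx, by simp only [_root_.MulEquiv.toMonoidHom_eq_coe, _root_.MonoidHom.coe_coe, _root_.map_mul, _root_.map_inv]⟩
  D_comm := by
    rintro _ ⟨x, hx, rfl⟩ _ ⟨y, hy, rfl⟩
    change f x * f y = f y * f x
    rw [← map_mul, h.D_comm x hx y hy, map_mul]
  D_fix := by
    rintro _ ⟨d, hd, rfl⟩
    change α' (f d) ∈ _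
    rw [hα]
    exact ⟨_, h.D_fix d hd, rfl⟩
  D_odd := by
    rintro _ ⟨d, hd, rfl⟩
    change Odd (orderOf (f d))
    rw [MulEquiv.orderOf_eq]
    exact h.D_odd d hd
  trans := by
    subst hU hu
    rintro _ ⟨v, hv, rfl⟩ hv1
    obtain ⟨d, hd, e⟩ := h.trans v hv (fun h0 => hv1 (by rw [h0]; exact map_one f))
    refine ⟨f d, ⟨d, hd, rfl⟩, ?_⟩
    rw [← e]
    simp only [_root_.MulEquiv.toMonoidHom_eq_coe, _root_.MonoidHom.coe_coe, _root_.map_mul, _root_.map_inv]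
  free := by
    subst hU
    rintro _ ⟨d, hd, rfl⟩ _ ⟨v, hv, rfl⟩ hv1 e
    have e' : f (d * v * d⁻¹) = f v := by simpa only [_root_.map_mul, _root_.map_inv, _root_.MulEquiv.toMonoidHom_eq_coe, _root_.MonoidHom.coe_coe] using e
    have h1 := h.free d hd v hv (fun h0 => hv1 (by rw [h0]; exact map_one f)) (f.injective e')
    rw [h1]
    exact map_one f

section sl

variable {F : Type*} [Field F]

local notation "SL2" => Matrix.SpecialLinearGroup (Fin 2)

theorem two_eq [CharP F 2] : (2 : F) = 0 := CharTwo.two_eq_zero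

/-- the diagonal subgroup -/
def dgG (F : Type*) [Field F] : Subgroup (SL2 F) where
  carrier := {x | ent x 0 1 = 0 ∧ ent x 1 0 = 0}
  one_mem' := ⟨rfl, rfl⟩
  mul_mem' := by
    rintro x y ⟨h1, h2⟩ ⟨h3, h4⟩
    constructor
    · rw [ent_mul, h1, h3]; ring
    · rw [ent_mul, h2, h4]; ring
  inv_mem' := by
    rintro x ⟨h1, h2⟩
    constructor
    · rw [ent_inv, mk_01, h1, neg_zero]
    · rw [ent_inv, mk_10, h2, neg_zero]

/-- an element of the diagonal subgroup -/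
theorem exists_dg {x : SL2 F} (hx : x ∈ dgG F) : ∃ (b : F) (hb : b ≠ 0), dg b hb = x := by
  obtain ⟨h1, h2⟩ := hx
  have h3 := det_eq x
  rw [h1, h2, mul_zero, sub_zero] at h3
  have h0 : ent x 0 0 ≠ 0 := left_ne_zero_of_mul_eq_one h3
  refine ⟨ent x 0 0, h0, ext_ent rfl ?_ ?_ ?_⟩
  · rw [dg_01, h1]
  · rw [dg_10, h2]
  · rw [dg_11]
    exact (eq_inv_of_mul_eq_one_right h3).symm

theorem dg_mul (b c : F) (hb : b ≠ 0) (hc : c ≠ 0) : dg b hb * dg c hc = dg (b * c) (mul_ne_zero hb hc) := by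
  refine ext_ent ?_ ?_ ?_ ?_ <;> simp only [ent_mul, mul_comm, _root_.Fin.isValue, _root_.Cfsg.Agent.Lib.SL2Mat.dg_00, _root_.Cfsg.Agent.Lib.SL2Mat.dg_01, _root_.Cfsg.Agent.Lib.SL2Mat.dg_10, _root_.MulZeroClass.mul_zero, _root_.add_zero, _root_.Cfsg.Agent.Lib.SL2Mat.dg_11, _root_.zero_add, _root_.mul_inv_rev]

theorem dg_one : dg (1 : F) one_ne_zero = 1 := by
  refine ext_ent ?_ ?_ ?_ ?_ <;> simp

theorem dg_pow (b : F) (hb : b ≠ 0) (n : ℕ) : dg b hb ^ n = dg (b ^ n) (pow_ne_zero n hb) := by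
  induction n with
  | zero =>
    rw [pow_zero]
    refine (ext_ent ?_ ?_ ?_ ?_) <;> simp
  | succ n ih =>
    rw [pow_succ, ih, dg_mul]
    exact ext_ent (by simp [pow_succ]) rfl rfl (by simp [pow_succ])

theorem dg_conj_up (b c : F) (hb : b ≠ 0) : dg b hb * up c * (dg b hb)⁻¹ = up (b ^ 2 * c) := by
  rw [dg_up, mul_inv_cancel_right]

variable [CharP F 2]

theorem add_self (a : F) : a + a = 0 := CharTwo.add_self_eq_zero a

theorem neg_self (a : F) : -a = a := CharTwo.neg_eq a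

theorem up_sq (a : F) : up a * up a = 1 := by rw [up_mul, add_self, up_zero]

theorem lo_sq (a : F) : lo a * lo a = 1 := by rw [lo_mul, add_self, lo_zero]

theorem up_inv' (a : F) : (up a)⁻¹ = up a := inv_eq_of_mul_eq_one_left (up_sq a)

/-- the conjugate of `lo r` -/
def yy (r x : F) : SL2 F := up x * lo r * up x

omit [CharP F 2] in
theorem yy_00 (r x : F) : ent (yy r x) 0 0 = 1 + x * r := by simp [yy, ent_mul]
omit [CharP F 2] in
theorem yy_10 (r x : F) : ent (yy r x) 1 0 = r := by simp [yy, ent_mul]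

theorem yy_sq (r x : F) : yy r x * yy r x = 1 := by
  have h1 := up_sq x
  calc yy r x * yy r x = up x * lo r * (up x * up x) * lo r * up x := by unfold yy; group
    _ = up x * (lo r * lo r) * up x := by rw [h1]; group
    _ = 1 := by rw [lo_sq, mul_one, h1]

/-- `(up a * lo a⁻¹)³ = 1` -/
theorem up_lo_cube {a : F} (ha : a ≠ 0) : (up a * lo a⁻¹) * (up a * lo a⁻¹) * (up a * lo a⁻¹) = 1 := by
  have h2 : (2 : F) = 0 := two_eq
  have e : (up a * lo a⁻¹) * (up a * lo a⁻¹) * (up a * lo a⁻¹) =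
      mk (1 : F) 0 0 1 (by ring) := by
    refine ext_ent ?_ ?_ ?_ ?_
    · simp only [ent_mul, up_00, up_01, up_10, up_11, lo_00, lo_01, lo_10, lo_11, mk_00]
      field_simp
      linear_combination 6 * a * h2
    · simp only [ent_mul, up_00, up_01, up_10, up_11, lo_00, lo_01, lo_10, lo_11, mk_01]
      field_simp
      linear_combination 4 * a ^ 2 * h2
    · simp only [ent_mul, up_00, up_01, up_10, up_11, lo_00, lo_01, lo_10, lo_11, mk_10]
      field_simp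
      linear_combination 4 * a * h2
    · simp only [ent_mul, up_00, up_01, up_10, up_11, lo_00, lo_01, lo_10, lo_11, mk_11]
      field_simp
      linear_combination 2 * a * h2
  rw [e]
  exact ext_ent rfl rfl rfl rfl

/-- an involution `y ≠ up a` with `(up a * y)³ = 1` is a `yy a⁻¹ x` -/
theorem exists_yy {a : F} {y : SL2 F} (hy : y * y = 1)
    (h3 : (up a * y) * (up a * y) * (up a * y) = 1) (h1 : up a * y ≠ 1) : ∃ x, y = yy a⁻¹ x := by
  have h2 : (2 : F) = 0 := two_eq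
  have hy' : y⁻¹ = y := inv_eq_of_mul_eq_one_left hy
  have e1 : ent y⁻¹ 0 0 = ent y 0 0 := by rw [hy']
  rw [ent_inv, mk_00] at e1
  -- `e1 : y11 = y00`
  obtain ⟨z, hz⟩ : ∃ z, z = up a * y := ⟨_, rfl⟩
  rw [← hz] at h3 h1
  have hz' : z * z = z⁻¹ := eq_inv_of_mul_eq_one_left h3
  have hz10 : ent z 1 0 = ent y 1 0 := by rw [hz, ent_mul, up_10, up_11]; ring
  have hz00 : ent z 0 0 = ent y 0 0 + a * ent y 1 0 := by rw [hz, ent_mul, up_00, up_01]; ring
  have hz11 : ent z 1 1 = ent y 1 1 := by rw [hz, ent_mul, up_10, up_11]; ring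
  have f10 : ent (z * z) 1 0 = ent z⁻¹ 1 0 := by rw [hz']
  rw [ent_mul, ent_inv, mk_10, hz10, hz00, hz11, e1] at f10
  have hdy := det_eq y
  rw [e1] at hdy
  by_cases h0 : ent y 1 0 = 0
  · exfalso
    apply h1
    -- `y` is upper unitriangular
    have h00 : ent y 0 0 = 1 := by
      rw [h0, mul_zero, sub_zero] at hdy
      have h4 : (ent y 0 0 - 1) * (ent y 0 0 - 1) = 0 := by linear_combination hdy + (1 - ent y 0 0) * h2
      exact sub_eq_zero.1 (mul_self_eq_zero.1 h4)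
    have hyu : y = up (ent y 0 1) := ext_ent (by rw [up_00, h00]) (by rw [up_01]) (by rw [up_10, h0])
      (by rw [up_11, e1, h00])
    have hzz : z * z = 1 := by rw [hz, hyu, up_mul, up_sq]
    rw [hzz, one_mul] at h3
    exact h3
  · have h4 : a * ent y 1 0 = 1 := by
      have h5 : ent y 1 0 * (a * ent y 1 0 - 1) = 0 := by
        linear_combination f10 - (ent y 0 0 * ent y 1 0 + ent y 1 0) * h2
      exact sub_eq_zero.1 ((mul_eq_zero.1 h5).resolve_left h0)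
    have h5 : ent y 1 0 = a⁻¹ := eq_inv_of_mul_eq_one_right h4
    refine ⟨(ent y 0 0 - 1) / ent y 1 0, ?_⟩
    conv_lhs => rw [eq_up_lo_up y h0]
    rw [yy, e1, h5]

omit [CharP F 2] in
theorem yy_inj {r : F} (hr : r ≠ 0) {x x' : F} (h : yy r x = yy r x') : x = x' := by
  have h1 : ent (yy r x) 0 0 = ent (yy r x') 0 0 := by rw [h]
  rw [yy_00, yy_00] at h1
  exact mul_right_cancel₀ hr (add_left_cancel h1)

/-- the conjugate `yy` satisfies the relation -/
theorem yy_cube {a : F} (ha : a ≠ 0) (x : F) :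
    (up a * yy a⁻¹ x) * (up a * yy a⁻¹ x) * (up a * yy a⁻¹ x) = 1 := by
  have h1 := up_lo_cube ha
  have h2 := up_sq x
  have e : up a * yy a⁻¹ x = up x * (up a * lo a⁻¹) * up x := by
    unfold yy
    rw [← mul_assoc, ← mul_assoc, ← mul_assoc, up_mul, up_mul, add_comm]
  rw [e]
  calc up x * (up a * lo a⁻¹) * up x * (up x * (up a * lo a⁻¹) * up x) * (up x * (up a * lo a⁻¹) * up x)
      = up x * (up a * lo a⁻¹) * (up x * up x) * (up a * lo a⁻¹) * (up x * up x) * (up a * lo a⁻¹) * up x := by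
        group
    _ = up x * ((up a * lo a⁻¹) * (up a * lo a⁻¹) * (up a * lo a⁻¹)) * up x := by rw [h2]; group
    _ = 1 := by rw [h1, mul_one, h2]

omit [CharP F 2] in
theorem yy_ne {a : F} (ha : a ≠ 0) (x : F) : up a * yy a⁻¹ x ≠ 1 := by
  intro h
  have h1 : ent (up a * yy a⁻¹ x) 1 0 = ent (1 : SL2 F) 1 0 := by rw [h]
  rw [ent_mul, up_10, up_11, yy_10, ent_one_10, zero_mul, zero_add, one_mul] at h1
  exact inv_ne_zero ha h1

/-- an element commuting with `lo r`, `r ≠ 0` -/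
theorem exists_lo {r : F} (hr : r ≠ 0) {z : SL2 F} (h : z * lo r = lo r * z) : ∃ b, lo b = z := by
  have h2 : (2 : F) = 0 := two_eq
  have e1 : ent (z * lo r) 0 0 = ent (lo r * z) 0 0 := by rw [h]
  have e2 : ent (z * lo r) 1 0 = ent (lo r * z) 1 0 := by rw [h]
  rw [ent_mul, ent_mul, lo_00, lo_10, lo_01] at e1
  rw [ent_mul, ent_mul, lo_00, lo_10, lo_11] at e2
  have h01 : ent z 0 1 = 0 := by
    have : ent z 0 1 * r = 0 := by linear_combination e1
    exact (mul_eq_zero.1 this).resolve_right hr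
  have h11 : ent z 1 1 = ent z 0 0 := by
    have : (ent z 1 1 - ent z 0 0) * r = 0 := by linear_combination e2
    exact sub_eq_zero.1 ((mul_eq_zero.1 this).resolve_right hr)
  have hd := det_eq z
  rw [h01, h11, zero_mul, sub_zero] at hd
  have h00 : ent z 0 0 = 1 := by
    have h4 : (ent z 0 0 - 1) * (ent z 0 0 - 1) = 0 := by linear_combination hd + (1 - ent z 0 0) * h2
    exact sub_eq_zero.1 (mul_self_eq_zero.1 h4)
  exact ⟨ent z 1 0, ext_ent (by rw [lo_00, h00]) (by rw [lo_01, h01]) (by rw [lo_10]) (by rw [lo_11, h11, h00])⟩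

omit [CharP F 2] in
theorem ent_10_of_norm {z : SL2 F} (h : ∃ c, up c = z * up 1 * z⁻¹) : ent z 1 0 = 0 := by
  obtain ⟨c, hc⟩ := h
  have e1 : ent (up c) 1 0 = ent (z * up 1 * z⁻¹) 1 0 := by rw [hc]
  rw [up_10, ent_mul, ent_mul, ent_mul, ent_inv, mk_00, mk_10, up_00, up_10, up_01, up_11] at e1
  have : ent z 1 0 * ent z 1 0 = 0 := by linear_combination e1
  exact mul_self_eq_zero.1 this

omit [CharP F 2] in
theorem ent_01_of_norm {z : SL2 F} (h : ∃ c, lo c = z * lo 1 * z⁻¹) : ent z 0 1 = 0 := by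
  obtain ⟨c, hc⟩ := h
  have e1 : ent (lo c) 0 1 = ent (z * lo 1 * z⁻¹) 0 1 := by rw [hc]
  rw [lo_01, ent_mul, ent_mul, ent_mul, ent_inv, mk_01, mk_11, lo_00, lo_10, lo_01, lo_11] at e1
  have : ent z 0 1 * ent z 0 1 = 0 := by linear_combination e1
  exact mul_self_eq_zero.1 this

omit [CharP F 2] in
theorem lo_conj_dg {b c : F} (hb : b ≠ 0) : dg b hb * lo c * (dg b hb)⁻¹ = lo (c * (b⁻¹) ^ 2) := by
  rw [mul_inv_eq_iff_eq_mul]
  refine ext_ent ?_ ?_ ?_ ?_ <;> simp only [ent_mul, _root_.Fin.isValue, _root_.Cfsg.Agent.Lib.SL2Mat.dg_00, _root_.Cfsg.Agent.Lib.SL2Mat.lo_00, _root_.mul_one, _root_.Cfsg.Agent.Lib.SL2Mat.dg_01, _root_.Cfsg.Agent.Lib.SL2Mat.lo_10, _root_.MulZeroClass.zero_mul, _root_.add_zero, _root_.inv_pow, _root_.one_mul, _root_.Cfsg.Agent.Lib.SL2Mat.lo_01, _root_.Cfsg.Agent.Lib.SL2Mat.dg_10, _root_.MulZeroClass.mul_zero, _root_.Cfsg.Agent.Lib.SL2Mat.lo_11, _root_.Cfsg.Agent.Lib.SL2Mat.dg_11, _root_.zero_add]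
  field_simp

/-- `α` fixes `lo a⁻¹` -/
theorem mod_aux [Finite F] {α : MulAut (SL2 F)} (hU : ∀ x, x ∈ upG F ↔ α x ∈ upG F) {a : F} (ha : a ≠ 0)
    (hu : α (up a) = up a) (hy : α (lo a⁻¹) = lo a⁻¹) :
    Mod α (upG F) (up a) (up a * lo a⁻¹) (lo a⁻¹) (dgG F) where
  ab := by
    rintro _ ⟨x, rfl⟩ _ ⟨y, rfl⟩
    rw [up_mul, up_mul, add_comm]
  g_fix := by rw [map_mul, hu, hy]
  y_eq := by
    have h1 := up_lo_cube ha
    have h2 := lo_sq a⁻¹
    have h3 := up_sq a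
    have e : (up a * lo a⁻¹)⁻¹ = lo a⁻¹ * up a := by
      rw [_root_.mul_inv_rev, inv_eq_of_mul_eq_one_left h2, inv_eq_of_mul_eq_one_left h3]
    rw [e]
    calc lo a⁻¹ = (up a * lo a⁻¹) * (up a * lo a⁻¹) * (up a * lo a⁻¹) * lo a⁻¹ := by rw [h1, one_mul]
      _ = up a * lo a⁻¹ * up a * lo a⁻¹ * up a * (lo a⁻¹ * lo a⁻¹) := by group
      _ = _ := by rw [h2]; group
  gen := by
    intro X hX hyX
    have hw : wm a ha ∈ X := by
      rw [wm_eq, neg_self]
      exact X.mul_mem (X.mul_mem hyX (hX (up_mem a))) hyX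
    have hlo : ∀ b, lo b ∈ X := by
      intro b
      have h1 := wm_up a (-(b * a ^ 2)) ha
      have e : -(-(b * a ^ 2) / a ^ 2) = b := by field_simp
      rw [e] at h1
      have e2 : lo b = wm a ha * up (-(b * a ^ 2)) * (wm a ha)⁻¹ := by rw [h1, mul_inv_cancel_right]
      rw [e2]
      exact X.mul_mem (X.mul_mem hw (hX (up_mem _))) (X.inv_mem hw)
    rw [eq_top_iff]
    intro x _
    obtain ⟨a', b, c, d, rfl⟩ := exists_up_lo x
    exact X.mul_mem (X.mul_mem (X.mul_mem (hX (up_mem _)) (hlo _)) (hX (up_mem _))) (hlo _)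
  D_U := by
    rintro d hd _ ⟨x, rfl⟩
    obtain ⟨b, hb, rfl⟩ := exists_dg hd
    rw [dg_conj_up]
    exact up_mem _
  D_comm := by
    rintro d hd d' hd'
    obtain ⟨b, hb, rfl⟩ := exists_dg hd
    obtain ⟨c, hc, rfl⟩ := exists_dg hd'
    rw [dg_mul, dg_mul]
    exact ext_ent (by simp [mul_comm]) rfl rfl (by simp [mul_comm])
  D_fix := by
    intro d hd
    obtain ⟨b, hb, rfl⟩ := exists_dg hd
    have hlo : ∀ c, ∃ c', lo c' = α (lo c) := by
      intro c
      refine exists_lo (inv_ne_zero ha) ?_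
      rw [← hy, ← map_mul, ← map_mul, lo_mul, lo_mul, add_comm]
    have hlo' : ∃ c, α (lo c) = lo 1 := by
      obtain ⟨z, hz⟩ := α.surjective (lo 1)
      obtain ⟨c, hc⟩ := exists_lo (inv_ne_zero ha) (z := z) (by
        apply α.injective
        rw [map_mul, map_mul, hz, hy, lo_mul, lo_mul, add_comm])
      exact ⟨c, by rw [hc, hz]⟩
    constructor
    · obtain ⟨c, hc⟩ := hlo'
      apply ent_01_of_norm
      rw [← hc, ← map_mul, ← map_inv, ← map_mul, lo_conj_dg]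
      exact hlo _
    · obtain ⟨z, hz⟩ := α.surjective (up 1)
      obtain ⟨c, rfl⟩ := (hU z).2 (by rw [hz]; exact up_mem 1)
      apply ent_10_of_norm
      rw [← hz, ← map_mul, ← map_inv, ← map_mul, dg_conj_up]
      exact (hU _).1 (up_mem _)
  D_odd := by
    intro d hd
    obtain ⟨b, hb, rfl⟩ := exists_dg hd
    have := Fintype.ofFinite F
    have h1 : dg b hb ^ (Fintype.card F - 1) = 1 := by
      rw [dg_pow]
      refine Eq.trans ?_ dg_one
      exact ext_ent (by simp [FiniteField.pow_card_sub_one_eq_one b hb]) rfl rfl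
        (by simp [FiniteField.pow_card_sub_one_eq_one b hb])
    refine Odd.of_dvd_nat ?_ (orderOf_dvd_of_pow_eq_one h1)
    obtain ⟨n, -, hn⟩ := FiniteField.card F 2
    have hpos : 0 < (n : ℕ) := n.pos
    obtain ⟨k, hk⟩ : ∃ k, (n : ℕ) = k + 1 := ⟨n - 1, by omega⟩
    rw [hn, hk, pow_succ]
    have : 0 < 2 ^ k := by positivity
    rw [Nat.odd_iff]
    omega
  trans := by
    rintro _ ⟨c, rfl⟩ hc1
    have hc : c ≠ 0 := by
      rintro rfl
      exact hc1 up_zero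
    obtain ⟨b, hb⟩ := FiniteField.isSquare_of_char_two (ringChar.eq F 2) (c / a)
    have hb0 : b ≠ 0 := by
      rintro rfl
      rw [mul_zero] at hb
      exact div_ne_zero hc ha hb
    refine ⟨dg b hb0, ⟨rfl, rfl⟩, ?_⟩
    rw [dg_conj_up, pow_two, ← hb]
    congr 1
    field_simp
  free := by
    rintro d hd _ ⟨c, rfl⟩ hc1 e
    obtain ⟨b, hb, rfl⟩ := exists_dg hd
    have hc : c ≠ 0 := by
      rintro rfl
      exact hc1 up_zero
    rw [dg_conj_up] at e
    have h1 := up_inj e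
    have h2 : (2 : F) = 0 := two_eq
    have h3 : b ^ 2 - 1 = 0 := by
      have : (b ^ 2 - 1) * c = 0 := by linear_combination h1
      exact (mul_eq_zero.1 this).resolve_right hc
    have h4 : (b - 1) * (b - 1) = 0 := by linear_combination h3 + (1 - b) * h2
    have h5 : b = 1 := sub_eq_zero.1 (mul_self_eq_zero.1 h4)
    subst h5
    exact dg_one

theorem three_not_dvd [Finite F] : ¬ 3 ∣ Nat.card F := by
  have := Fintype.ofFinite F
  obtain ⟨n, -, hn⟩ := FiniteField.card F 2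
  rw [Nat.card_eq_fintype_card, hn]
  intro h
  have := (Nat.prime_three.dvd_of_dvd_pow h)
  omega

/-- **The model.** -/
theorem exists_mod_sl [Finite F] {α : MulAut (SL2 F)} (hα : ∀ x, α (α (α x)) = x)
    (hU : ∀ x, x ∈ upG F ↔ α x ∈ upG F) {a : F} (ha : a ≠ 0) (hu : α (up a) = up a) :
    ∃ g y D, Mod α (upG F) (up a) g y D := by
  classical
  have := Fintype.ofFinite F
  let Y := {y : SL2 F // y * y = 1 ∧ (up a * y) * (up a * y) * (up a * y) = 1 ∧ up a * y ≠ 1}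
  have hcard : Nat.card F = Nat.card Y := by
    refine Nat.card_congr (Equiv.ofBijective (fun x : F => (⟨yy a⁻¹ x, yy_sq _ _, yy_cube ha x, yy_ne ha x⟩ : Y))
      ⟨?_, ?_⟩)
    · intro x x' h
      exact yy_inj (inv_ne_zero ha) (congrArg Subtype.val h)
    · rintro ⟨y, h1, h2, h3⟩
      obtain ⟨x, hx⟩ := exists_yy h1 h2 h3
      exact ⟨x, Subtype.ext hx.symm⟩
  have hmem : ∀ y : SL2 F, (y * y = 1 ∧ (up a * y) * (up a * y) * (up a * y) = 1 ∧ up a * y ≠ 1) →
      (α y * α y = 1 ∧ (up a * α y) * (up a * α y) * (up a * α y) = 1 ∧ up a * α y ≠ 1) := by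
    rintro y ⟨h1, h2, h3⟩
    have e : up a * α y = α (up a * y) := by rw [map_mul, hu]
    refine ⟨by rw [← map_mul, h1, map_one], ?_, ?_⟩
    · rw [e, ← map_mul, ← map_mul, h2, map_one]
    · rw [e]
      intro h
      exact h3 (α.injective (by rw [h, map_one]))
  let σ : Equiv.Perm Y :=
    { toFun := fun y => ⟨α y, hmem y y.2⟩
      invFun := fun y => ⟨α (α y), hmem _ (hmem y y.2)⟩
      left_inv := fun y => Subtype.ext (hα y)
      right_inv := fun y => Subtype.ext (hα y) }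
  have hσ : σ ^ 3 ^ 1 = 1 := by
    ext1 y
    rw [pow_one, pow_succ, pow_two]
    exact Subtype.ext (hα y)
  have : Finite Y := Nat.finite_of_card_ne_zero (by rw [← hcard]; exact Nat.card_pos.ne')
  have := Fintype.ofFinite Y
  have : Fact (Nat.Prime 3) := ⟨Nat.prime_three⟩
  obtain ⟨⟨y, hy⟩, hfix⟩ := Equiv.Perm.exists_fixed_point_of_prime (p := 3) (n := 1)
    (by rw [← Nat.card_eq_fintype_card, ← hcard]; exact three_not_dvd) hσ
  have hfix' : α y = y := congrArg Subtype.val hfix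
  obtain ⟨x, hx⟩ := exists_yy hy.1 hy.2.1 hy.2.2
  -- conjugation with `up x`
  let f : SL2 F ≃* SL2 F := MulAut.conj (up x)
  have hf : ∀ z, f z = up x * z * up x := fun z => by
    change up x * z * (up x)⁻¹ = _
    rw [up_inv']
  let α₁ : MulAut (SL2 F) := (f.trans α).trans f.symm
  have hα₁ : ∀ z, α (f z) = f (α₁ z) := fun z => by
    change α (f z) = f (f.symm (α (f z)))
    rw [f.apply_symm_apply]
  have hfU : ∀ z, z ∈ upG F ↔ f z ∈ upG F := by
    intro z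
    rw [hf]
    constructor
    · intro hz
      exact (upG F).mul_mem ((upG F).mul_mem (up_mem x) hz) (up_mem x)
    · intro hz
      have := (upG F).mul_mem ((upG F).mul_mem (up_mem x) hz) (up_mem x)
      have e : up x * (up x * z * up x) * up x = (up x * up x) * z * (up x * up x) := by group
      rwa [e, up_sq, one_mul, mul_one] at this
  have hfu : f (up a) = up a := by
    rw [hf, up_mul, up_mul]
    congr 1
    have h2 : (2 : F) = 0 := two_eq
    linear_combination x * h2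
  have hm : Mod α₁ (upG F) (up a) (up a * lo a⁻¹) (lo a⁻¹) (dgG F) := by
    refine mod_aux ?_ ha ?_ ?_
    · intro z
      rw [hfU (α₁ z), ← hα₁, ← hU, ← hfU]
    · apply f.injective
      rw [← hα₁, hfu, hu]
    · apply f.injective
      rw [← hα₁, hf]
      have e1 : up x * lo a⁻¹ * up x = y := hx.symm
      rw [e1]
      exact hfix'
  refine ⟨_, _, _, hm.map f hα₁ ?_ hfu⟩
  ext z
  constructor
  · rintro ⟨w, hw, rfl⟩
    exact (hfU w).1 hw
  · intro hz
    refine ⟨f.symm z, (hfU _).2 ?_, f.apply_symm_apply z⟩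
    rwa [f.apply_symm_apply]

end sl

/-- **The model**, for a group isomorphic to `L₂(Q)`. -/
theorem exists_mod {L : Type*} [Group L] [Finite L] {F : Type*} [Field F] [Finite F] [CharP F 2]
    (e : L ≃* Matrix.SpecialLinearGroup (Fin 2) F) {α : MulAut L} (hα : ∀ x, α (α (α x)) = x)
    {U : Subgroup L} (hU2 : IsPGroup 2 U) (hUm : ∀ P : Subgroup L, IsPGroup 2 P → U ≤ P → P = U)
    (hU : ∀ x ∈ U, α x ∈ U) {u : L} (hu : u ∈ U) (hu1 : u ≠ 1) (hαu : α u = u) :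
    ∃ g y D, Mod α U u g y D := by
  have : Fact (Nat.Prime 2) := ⟨Nat.prime_two⟩
  -- Sylow
  obtain ⟨P, hP⟩ := hU2.exists_le_sylow
  have hPU : (P : Subgroup L) = U := hUm P P.isPGroup' hP
  obtain ⟨P₀, hP₀⟩ := (isPGroup_upG (F := F) 2).exists_le_sylow
  have hP₀' : (P₀ : Subgroup (Matrix.SpecialLinearGroup (Fin 2) F)) = upG F := eq_upG_of_le P₀.isPGroup' hP₀
  let P₁ : Sylow 2 (Matrix.SpecialLinearGroup (Fin 2) F) :=
    P.mapSurjective (f := e.toMonoidHom) e.surjective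
  have hP₁ : ∀ x, x ∈ U ↔ e x ∈ P₁ := by
    intro x
    rw [← hPU]
    constructor
    · intro hx
      exact ⟨x, hx, rfl⟩
    · rintro ⟨y, hy, hxy⟩
      rwa [← e.injective hxy]
  obtain ⟨c, hc⟩ := MulAction.exists_smul_eq (Matrix.SpecialLinearGroup (Fin 2) F) P₁ P₀
  let f : L ≃* Matrix.SpecialLinearGroup (Fin 2) F := e.trans (MulAut.conj c)
  have hf : ∀ x, f x = c * e x * c⁻¹ := fun x => rfl
  have hfU : ∀ x, x ∈ U ↔ f x ∈ upG F := by
    intro x
    rw [hP₁, ← hP₀', ← hc, hf]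
    change _ ↔ c * e x * c⁻¹ ∈ c • P₁
    rw [mem_smul_sylow]
    have e1 : c⁻¹ * (c * e x * c⁻¹) * c = e x := by group
    rw [e1]
  have hU' : ∀ x, x ∈ U ↔ α x ∈ U := by
    intro x
    refine ⟨hU x, fun hx => ?_⟩
    have h1 := hU _ (hU _ hx)
    rwa [hα] at h1
  let α₁ : MulAut (Matrix.SpecialLinearGroup (Fin 2) F) := (f.symm.trans α).trans f
  have hα₁ : ∀ z, α₁ z = f (α (f.symm z)) := fun z => rfl
  obtain ⟨a, ha⟩ := (hfU u).1 hu
  have ha0 : a ≠ 0 := by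
    rintro rfl
    apply hu1
    apply f.injective
    rw [← ha, up_zero, map_one]
  obtain ⟨g, y, D, hm⟩ := exists_mod_sl (α := α₁) (a := a) (by
      intro x
      rw [hα₁, hα₁, hα₁, f.symm_apply_apply, f.symm_apply_apply, hα, f.apply_symm_apply]) (by
      intro x
      rw [hα₁, ← hfU, ← hU', hfU, f.apply_symm_apply]) ha0 (by
      rw [ha, hα₁, f.symm_apply_apply, hαu])
  refine ⟨_, _, _, hm.map f.symm (fun x => ?_) ?_ ?_⟩
  · rw [hα₁, f.symm_apply_apply]
  · ext x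
    constructor
    · rintro ⟨w, hw, rfl⟩
      rw [hfU]
      change f (f.symm w) ∈ _
      rwa [f.apply_symm_apply]
    · intro hx
      exact ⟨f x, (hfU x).1 hx, f.symm_apply_apply x⟩
  · rw [ha, f.symm_apply_apply]

theorem center_eq_bot {F : Type*} [Field F] [CharP F 2] :
    Subgroup.center (Matrix.SpecialLinearGroup (Fin 2) F) = ⊥ := by
  rw [eq_bot_iff]
  intro x hx
  rw [Subgroup.mem_bot]
  obtain ⟨b, hb, rfl⟩ := exists_dg (mem_center_offdiag hx)
  have h1 := Subgroup.mem_center_iff.1 hx (up 1)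
  rw [dg_up] at h1
  have h3 := up_inj (mul_right_cancel h1)
  have h2 : (2 : F) = 0 := two_eq
  have h4 : (b - 1) * (b - 1) = 0 := by linear_combination -h3 + (1 - b) * h2
  have h5 : b = 1 := sub_eq_zero.1 (mul_self_eq_zero.1 h4)
  subst h5
  exact dg_one

/-- `L₂(F) ≅ SL₂(F)` in characteristic two -/
noncomputable def pslEquiv (F : Type*) [Field F] [CharP F 2] :
    Matrix.ProjectiveSpecialLinearGroup (Fin 2) F ≃* Matrix.SpecialLinearGroup (Fin 2) F :=
  (QuotientGroup.quotientMulEquivOfEq center_eq_bot).trans QuotientGroup.quotientBot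

end Cfsg.Agent.Omega.Lie.End.ExcModel

end

private theorem dce_537b918189c6 : _root_.True := by
  try have : _root_.True := by simp only [_root_.Cfsg.Agent.Omega.Lie.End.ExcModel.yy.eq_1]
  exact _root_.True.intro
end

-- part: Mrg/Omega/Lie/End/KSys
section
prune_inst 0x103001000522020000180512700020446000000200200c00dde00f0202c67703290229016c401f11111aa02020080000004c00d9001000002000820000010120942a72821340010426001980f801500000000000000000000000000000041004000000000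
set_option linter.all false
open scoped Cfsg.Agent.FastGrp

section


/-!
# The end of NODE LIE: the parabolic system of a component (interface of the K-side)

`K` : a quasisimple group with odd centre and `K / Z(K)` of Lie type of characteristic 2, `S` a Sylow 2-subgroup, `T` an
abelian group of odd order of automorphisms which stabilises `S` and acts on the elementary abelian group `[S, T] ≠ 1` as
the multiplicative group of a field (`TAct`).

* `KSys S T P m` : the rank one parabolic subgroups `P i` over the Borel subgroup `N(S)`, with everything that THEOREM PAR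
  (`ParSys.Sys`) needs for the pairs of nodes of `K`;
* `KSide` : `TAct` implies `KSys` (or `|T| = 3` acts on `K = L₂(Q)` by field automorphisms).
-/

set_option autoImplicit false

namespace Cfsg.Agent.Omega.Lie.End

open Subgroup Cfsg.Agent.ParSys

section defs

variable {K : Type*} [Group K]

/-- `[S, T]` -/
def AT (S : Subgroup K) (T : Subgroup (MulAut K)) : Subgroup K :=
  Subgroup.closure {a | ∃ t ∈ T, ∃ u ∈ S, a = u⁻¹ * t u}

/-- `T` is an abelian group of odd order `≥ 3` acting on the elementary abelian group `[S, T] ≠ 1` as the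
multiplicative group of a field. -/
structure TAct (S : Subgroup K) (T : Subgroup (MulAut K)) : Prop where
  comm : ∀ t ∈ T, ∀ t' ∈ T, t * t' = t' * t
  odd : Odd (Nat.card T)
  three : 3 ≤ Nat.card T
  stab : ∀ t ∈ T, ∀ u ∈ S, t u ∈ S
  ab : ∀ a ∈ AT S T, ∀ a' ∈ AT S T, a * a' = a' * a
  sq : ∀ a ∈ AT S T, a * a = 1
  fpf : ∀ t ∈ T, t ≠ 1 → ∀ a ∈ AT S T, t a = a → a = 1
  scal : ∀ t ∈ T, ∀ t' ∈ T, t ≠ t' → ∃ t'' ∈ T, ∀ a ∈ AT S T, t a * t' a = t'' a
  ne : AT S T ≠ ⊥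

/-- `T` centralises `S` modulo the kernel on the panel of `P` -/
def Unmoved (S : Subgroup K) (T : Subgroup (MulAut K)) (P : Subgroup K) : Prop :=
  ∀ t ∈ T, ∀ u ∈ S, u⁻¹ * t u ∈ Qk (normalizer (S : Set K)) P

/-- every `1 ≠ t ∈ T` acts fixed-point-freely on `S` modulo the kernel on the panel of `P` -/
def Moved (S : Subgroup K) (T : Subgroup (MulAut K)) (P : Subgroup K) : Prop :=
  ∀ t ∈ T, t ≠ 1 → ∀ u ∈ S, u⁻¹ * t u ∈ Qk (normalizer (S : Set K)) P → u ∈ Qk (normalizer (S : Set K)) P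

/-- the normal closure of `S` in `P` (for `S ≤ P`) -/
def NCl (S P : Subgroup K) : Subgroup K :=
  Subgroup.closure {x | ∃ g ∈ P, g⁻¹ * x * g ∈ S}

/-- **The parabolic system of `K`** over the Borel subgroup `N(S)`. -/
structure KSys (S : Subgroup K) (T : Subgroup (MulAut K)) {J : Type} (P : J → Subgroup K) (m : J → J → ℕ) :
    Prop where
  isP : IsPGroup 2 S
  odd : Odd (S.relIndex (normalizer (S : Set K)))
  le : ∀ i, normalizer (S : Set K) ≤ P i
  gen : ⨆ i, P i = ⊤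
  /-- `T` normalises the parabolic subgroups -/
  T_P : ∀ i, ∀ t ∈ T, ∀ x ∈ P i, t x ∈ P i
  /-- `N(S)` normalises `[S, T]` -/
  B_A : ∀ b ∈ normalizer (S : Set K), ∀ a ∈ AT S T, b * a * b⁻¹ ∈ AT S T
  dich : ∀ i, Unmoved S T (P i) ∨ Moved S T (P i)
  moved : ∃ i, Moved S T (P i)
  /-- the panels have at least five chambers -/
  five : ∀ i, 5 ≤ (normalizer (S : Set K)).relIndex (P i)
  ptr : ∀ i, Hall.HallData.PTr (normalizer (S : Set K)) S (P i)
  reg : ∀ i, ∀ u ∈ S, ∀ g ∈ P i, g ∉ normalizer (S : Set K) → g⁻¹ * u * g ∈ normalizer (S : Set K) →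
    u ∈ Qk (normalizer (S : Set K)) (P i)
  m_two : ∀ i j, i ≠ j → 2 ≤ m i j
  m_symm : ∀ i j, m i j = m j i
  conn : ∀ I : Set J, I.Nonempty → Iᶜ.Nonempty → ∃ i ∈ I, ∃ j ∈ Iᶜ, 3 ≤ m i j
  poly : ∀ i j, i ≠ j → Polygon (normalizer (S : Set K)) P i j (m i j)
  /-- (F1) -/
  frat : ∀ i j, i ≠ j → ∀ X ≤ S, (∀ u ∈ S, ∃ x ∈ X, x⁻¹ * u ∈ Qk (normalizer (S : Set K)) (P i) ∧
      x⁻¹ * u ∈ Qk (normalizer (S : Set K)) (P j)) →
    ∀ u ∈ S, ∃ x ∈ X, x⁻¹ * u ∈ Qk (normalizer (S : Set K)) (P i ⊔ P j)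
  /-- (T3) -/
  fpf : ∀ i, FpfG 2 (normalizer (S : Set K)) S (P i)
  /-- (T2) for two unmoved or two moved nodes (for the other pairs `T` has this property) -/
  sep : ∀ i j, i ≠ j → ((Unmoved S T (P i) ∧ Unmoved S T (P j)) ∨ (Moved S T (P i) ∧ Moved S T (P j))) →
    SepG 2 (normalizer (S : Set K)) S (P i) (P j) ∨ SepG 2 (normalizer (S : Set K)) S (P j) (P i)
  /-- (T2) with the node 0: a moved node `i` which is not the only node has an unmoved neighbour `k`, and an element of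
  odd order of `N(S)` in the normal closure of `S` in `P k` acts fixed-point-freely on the panel of `i` -/
  nbr : ∀ i, Moved S T (P i) → (∃ j, j ≠ i) → ∃ k, Unmoved S T (P k) ∧ ∃ b ∈ normalizer (S : Set K),
    b ∈ NCl S (P k) ∧ (∃ n : ℕ, Odd n ∧ b ^ n = 1) ∧
      ∀ u ∈ S, b * u * b⁻¹ * u⁻¹ ∈ Qk (normalizer (S : Set K)) (P i) → u ∈ Qk (normalizer (S : Set K)) (P i)

/-- the exception: `T` of order 3 acts on `L₂(Q)` by field automorphisms -/
def KExc (K : Type*) [Group K] (S : Subgroup K) (T : Subgroup (MulAut K)) : Prop :=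
  Nat.card T = 3 ∧ (∃ u ∈ S, u ≠ 1 ∧ ∀ t ∈ T, t u = u) ∧
    ∃ (F : Type) (_ : Field F) (_ : Fintype F), ringChar F = 2 ∧
      Nonempty (K ≃* Matrix.ProjectiveSpecialLinearGroup (Fin 2) F)

end defs

universe u

end Cfsg.Agent.Omega.Lie.End

end

section


/-!
# The end of NODE LIE: parabolic systems without `gen` (`Pre`)

`Pre p B U P m` : all fields of `ParSys.Sys`, in the form without a chosen Hall subgroup, without `⨆ P i = ⊤`.

* `Pre.exists_hall`, `Pre.exists_sys`;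
* `polygon_reindex` : `Polygon B P (f a) (f b) m ↔ Polygon B (P ∘ f) a b m`.
-/

set_option autoImplicit false
set_option linter.unusedSectionVars false

namespace Cfsg.Agent.Omega.Lie.End

open Subgroup Cfsg.Agent.ParSys

variable {G : Type*} [Group G] {I : Type*}

/-- All fields of `ParSys.Sys` except `gen`, without a chosen Hall subgroup. -/
structure Pre (p : ℕ) (B U : Subgroup G) (P : I → Subgroup G) (m : I → I → ℕ) : Prop where
  U_le : U ≤ B
  norm : B ≤ normalizer (U : Set G)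
  isP : IsPGroup p U
  index : p.Coprime (U.relIndex B)
  le : ∀ i, B ≤ P i
  three : ∀ i, ∃ x ∈ P i, ∃ y ∈ P i, x ∉ B ∧ y ∉ B ∧ x⁻¹ * y ∉ B
  ptr : ∀ i, Hall.HallData.PTr B U (P i)
  reg : ∀ i, ∀ u ∈ U, ∀ g ∈ P i, g ∉ B → g⁻¹ * u * g ∈ B → u ∈ Qk B (P i)
  fpf : ∀ i, FpfG p B U (P i)
  m_two : ∀ i j, i ≠ j → 2 ≤ m i j
  m_symm : ∀ i j, m i j = m j i
  poly : ∀ i j, i ≠ j → Polygon B P i j (m i j)
  sep : ∀ i j, i ≠ j → SepG p B U (P i) (P j) ∨ SepG p B U (P j) (P i)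
  frat : ∀ i j, i ≠ j → ∀ X ≤ U,
    (∀ u ∈ U, ∃ x ∈ X, x⁻¹ * u ∈ Qk B (P i) ∧ x⁻¹ * u ∈ Qk B (P j)) →
    ∀ u ∈ U, ∃ x ∈ X, x⁻¹ * u ∈ Qk B (P i ⊔ P j)

/-! ### Hall subgroups -/

/-- elements of `B` modulo `U` -/
theorem exists_pow_of_index {p : ℕ} {B U : Subgroup G} (norm : B ≤ normalizer (U : Set G))
    (index : p.Coprime (U.relIndex B)) {x : G} (hx : x ∈ B) : ∃ k : ℕ, p.Coprime k ∧ x ^ k ∈ U :=
  ⟨U.relIndex B, index, Hall.pow_relIndex_mem norm hx⟩

/-- **The Hall complement.** -/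
theorem exists_hall_of_index [Finite G] {p : ℕ} [hp : Fact p.Prime] {B U : Subgroup G} (U_le : U ≤ B)
    (norm : B ≤ normalizer (U : Set G)) (isP : IsPGroup p U) (index : p.Coprime (U.relIndex B)) :
    ∃ H : Subgroup G, Hall.HallData p B U H ∧ U ⊔ H = B := by
  have hn : (U.subgroupOf B).Normal := Subgroup.normal_subgroupOf_of_le_normalizer norm
  have hcop : (Nat.card (U.subgroupOf B)).Coprime (U.subgroupOf B).index := by
    have h1 : Nat.card (U.subgroupOf B) = Nat.card U := Nat.card_congr (Subgroup.subgroupOfEquivOfLe U_le).toEquiv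
    obtain ⟨a, ha⟩ := (IsPGroup.iff_card (p := p)).mp isP
    rw [h1, ha]
    exact Nat.Coprime.pow_left _ index
  obtain ⟨H', hH'⟩ := Subgroup.exists_right_complement'_of_coprime hcop
  set H : Subgroup G := H'.map B.subtype with hH
  have hHB : H ≤ B := by
    rintro _ ⟨x, -, rfl⟩
    exact x.2
  have hsup : U ⊔ H = B := by
    apply le_antisymm (sup_le U_le hHB)
    intro x hx
    have h1 := hH'.sup_eq_top
    have h2 : (⟨x, hx⟩ : B) ∈ U.subgroupOf B ⊔ H' := by rw [h1]; trivial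
    have h3 := Subgroup.mem_map_of_mem B.subtype h2
    rw [Subgroup.map_sup, Subgroup.subgroupOf_map_subtype] at h3
    have h4 : U ⊓ B ⊔ H'.map B.subtype ≤ U ⊔ H := sup_le_sup_right inf_le_left _
    exact h4 h3
  refine ⟨H, ?_, hsup⟩
  exact {
    U_le := U_le
    H_le := hHB
    U_norm := norm
    U_pgroup := isP
    H_cop := by
      have h1 : Nat.card H = Nat.card H' := Nat.card_congr
        (Subgroup.equivMapOfInjective H' _ B.subtype_injective).symm.toEquiv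
      have h2 : Nat.card H' = (U.subgroupOf B).index := by
        rw [← hH'.symm.index_eq_card]
      rw [h1, h2]
      exact index
    UH_norm := by rw [hsup]; exact Subgroup.le_normalizer
    index := ⟨0, by rw [hsup, Subgroup.relIndex_self, pow_zero]⟩
    core := by
      intro T hTB hT _ x hx
      obtain ⟨a, ha⟩ := hT ⟨x, hx⟩
      obtain ⟨k, hk, hxk⟩ := exists_pow_of_index norm index (hTB hx)
      have ha' : x ^ p ^ a = 1 := by simpa using congrArg Subtype.val ha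
      exact Hall.mem_of_pow_mem_of_coprime (a := p ^ a) (b := k) (by rw [ha']; exact one_mem _) hxk
        (hk.pow_left a) }

namespace Pre

variable {p : ℕ} {B U : Subgroup G} {P : I → Subgroup G} {m : I → I → ℕ} (D : Pre p B U P m)

include D

/-- **From `Pre` to a parabolic system with tori.** -/
theorem exists_sys [Finite G] [hp : Fact p.Prime] (gen : ⨆ i, P i = ⊤) : ∃ H : Subgroup G, Sys p B U H P m := by
  obtain ⟨H, hall, -⟩ := exists_hall_of_index D.U_le D.norm D.isP D.index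
  exact ⟨H, {
    hall := hall
    gen := gen
    le := D.le
    three := D.three
    ptr := D.ptr
    reg := D.reg
    fix := fun i => fix_of_fpfG hall (D.le i) (D.fpf i)
    m_two := D.m_two
    m_symm := D.m_symm
    poly := D.poly
    torus := fun i j hij => (D.sep i j hij).imp
      (fun h => (sep_of_sepG hall (D.le i) (D.le j) h).sepT hall (D.le j))
      (fun h => (sep_of_sepG hall (D.le j) (D.le i) h).sepT hall (D.le i))
    frat := fun i j hij T hT _ h => D.frat i j hij T hT h }⟩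

/-- **The BN-pair.** -/
theorem exists_bnPair [Finite G] [Finite I] [hp : Fact p.Prime] (gen : ⨆ i, P i = ⊤) (h3 : 3 ≤ Nat.card I)
    (conn : ∀ J : Set I, J.Nonempty → Jᶜ.Nonempty → ∃ i ∈ J, ∃ j ∈ Jᶜ, 3 ≤ m i j) :
    ∃ Q : Cfsg.BNPair G, 3 ≤ Q.rank ∧ Q.Irreducible := by
  obtain ⟨H, S⟩ := D.exists_sys gen
  obtain ⟨Q, -, h1, h2⟩ := S.exists_bnPair
  exact ⟨Q, h1 ▸ h3, h2 conn⟩

end Pre

/-! ### Change of the index set -/

theorem map_alt {J : Type*} (f : J → I) (a b : J) (k : ℕ) : (alt a b k).map f = alt (f a) (f b) k := by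
  induction k generalizing a b with
  | zero => rfl
  | succ k ih => rw [alt, alt, List.map_cons, ih]

theorem galE_map {J : Type*} {B : Subgroup G} {P : I → Subgroup G} (f : J → I) {w : List J} {l : List G} :
    GalE B P (w.map f) l ↔ GalE B (P ∘ f) w l := by
  induction w generalizing l with
  | nil => cases l <;> exact Iff.rfl
  | cons i w ih =>
    cases l with
    | nil => exact Iff.rfl
    | cons x l => exact and_congr Iff.rfl ih

theorem polygon_reindex {J : Type*} {B : Subgroup G} {P : I → Subgroup G} (f : J → I) {a b : J} {m : ℕ} :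
    Polygon B P (f a) (f b) m ↔ Polygon B (P ∘ f) a b m := by
  constructor
  · rintro ⟨h1, h2, h3, h4, h5⟩
    simp only [← map_alt, galE_map] at h1 h2 h3 h4 h5
    exact ⟨h1, h2, h3, h4, h5⟩
  · rintro ⟨h1, h2, h3, h4, h5⟩
    simp only [← galE_map, map_alt] at h1 h2 h3 h4 h5
    exact ⟨h1, h2, h3, h4, h5⟩

end Cfsg.Agent.Omega.Lie.End

end

section


/-!
# The end of NODE LIE: enlarging the Borel subgroup

`K ≤ H`, `B`, `S`, `P k` subgroups of `K`; `C ≤ H` normalises the `P k`, `C ⊓ K = B`; `U ≤ C` acts on `K` as `S`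
(`Enl K C U B S P`).  For `L ≤ K` let `Mx K C L = L C`.  All the facts on the panels and pairs of `(K, B, S, P)` carry over
to `(H, C, U, Mx K C (P ·))`.
-/

set_option autoImplicit false
set_option linter.unusedSectionVars false

namespace Cfsg.Agent.Omega.Lie.End

open Subgroup Cfsg.Agent.ParSys

variable {H : Type*} [Group H]

/-- `L C` -/
def Mx (K C : Subgroup H) (L : Subgroup K) : Subgroup H := L.map K.subtype ⊔ C

/-- `C` normalises `L` -/
def Cn (K C : Subgroup H) (L : Subgroup K) : Prop := ∀ c ∈ C, ∀ x ∈ L, ∃ y ∈ L, (y : H) = c * x * c⁻¹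

section mx

variable {K C : Subgroup H} {L L' : Subgroup K}

theorem C_le_Mx : C ≤ Mx K C L := le_sup_right

theorem coe_mem_Mx {x : K} (hx : x ∈ L) : (x : H) ∈ Mx K C L := mem_sup_left ⟨x, hx, rfl⟩

theorem Cn.conj' (h : Cn K C L) {c : H} (hc : c ∈ C) {x : K} (hx : x ∈ L) : ∃ y ∈ L, (y : H) = c⁻¹ * x * c := by
  obtain ⟨y, hy, e⟩ := h c⁻¹ (inv_mem hc) x hx
  exact ⟨y, hy, by rw [e, inv_inv]⟩

theorem Cn.le_normalizer (h : Cn K C L) : C ≤ normalizer (L.map K.subtype : Set H) := by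
  have key : ∀ c ∈ C, ∀ x ∈ L.map K.subtype, c * x * c⁻¹ ∈ L.map K.subtype := by
    rintro c hc _ ⟨x, hx, rfl⟩
    obtain ⟨y, hy, e⟩ := h c hc x hx
    exact ⟨y, hy, e⟩
  intro c hc
  rw [mem_normalizer_iff]
  intro x
  refine ⟨fun hx => key c hc x hx, fun hx => ?_⟩
  have := key c⁻¹ (inv_mem hc) _ hx
  have e : c⁻¹ * (c * x * c⁻¹) * c⁻¹⁻¹ = x := by group
  rwa [e] at this

theorem Cn.mem_Mx (h : Cn K C L) {x : H} : x ∈ Mx K C L ↔ ∃ p ∈ L, ∃ c ∈ C, x = p * c := by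
  constructor
  · intro hx
    unfold Mx at hx
    rw [sup_comm] at hx
    obtain ⟨k, ⟨p, hp, rfl⟩, c, hc, rfl⟩ := Solvable.Glauberman.exists_mul_of_mem_sup C _ h.le_normalizer hx
    exact ⟨p, hp, c, hc, rfl⟩
  · rintro ⟨p, hp, c, hc, rfl⟩
    exact mul_mem (coe_mem_Mx hp) (C_le_Mx hc)

theorem Cn.sup (h : Cn K C L) (h' : Cn K C L') : Cn K C (L ⊔ L') := by
  intro c hc x hx
  rw [sup_eq_closure] at hx ⊢
  induction hx using Subgroup.closure_induction with
  | mem x hx =>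
    rcases hx with hx | hx
    · obtain ⟨y, hy, e⟩ := h c hc x hx
      exact ⟨y, subset_closure (Or.inl hy), e⟩
    · obtain ⟨y, hy, e⟩ := h' c hc x hx
      exact ⟨y, subset_closure (Or.inr hy), e⟩
  | one => exact ⟨1, one_mem _, by simp⟩
  | mul x y _ _ ihx ihy =>
    obtain ⟨x', hx', e⟩ := ihx
    obtain ⟨y', hy', e'⟩ := ihy
    refine ⟨x' * y', mul_mem hx' hy', ?_⟩
    rw [coe_mul, e, e', coe_mul]; group
  | inv x _ ih =>
    obtain ⟨x', hx', e⟩ := ih
    refine ⟨x'⁻¹, inv_mem hx', ?_⟩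
    rw [coe_inv, e, coe_inv]; group

theorem Mx_sup : Mx K C (L ⊔ L') = Mx K C L ⊔ Mx K C L' := by
  unfold Mx
  rw [Subgroup.map_sup]
  apply le_antisymm
  · exact sup_le (sup_le (le_sup_left.trans le_sup_left) (le_sup_left.trans le_sup_right))
      (le_sup_right.trans le_sup_left)
  · exact sup_le (sup_le (le_sup_left.trans le_sup_left) le_sup_right)
      (sup_le (le_sup_right.trans le_sup_left) le_sup_right)

end mx

/-- The situation. -/
structure Enl (K C U : Subgroup H) (B S : Subgroup K) : Prop where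
  B_le : ∀ x ∈ B, (x : H) ∈ C
  of_C : ∀ x : K, (x : H) ∈ C → x ∈ B
  S_le : ∀ x ∈ S, (x : H) ∈ U
  S_B : S ≤ B
  U_le : U ≤ C
  dec : ∀ u ∈ U, ∃ s ∈ S, ∃ z ∈ U, (∀ x : K, z * x = x * z) ∧ u = s * z

namespace Enl

variable {K C U : Subgroup H} {B S : Subgroup K} (E : Enl K C U B S) {L L' : Subgroup K}

include E

theorem mem_C_iff {x : K} : (x : H) ∈ C ↔ x ∈ B := ⟨E.of_C x, E.B_le x⟩

theorem mem_Mx_iff (hn : Cn K C L) (hB : B ≤ L) {x : K} : (x : H) ∈ Mx K C L ↔ x ∈ L := by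
  refine ⟨fun hx => ?_, coe_mem_Mx⟩
  obtain ⟨p, hp, c, hc, e⟩ := hn.mem_Mx.1 hx
  have h1 : ((p⁻¹ * x : K) : H) ∈ C := by
    rw [coe_mul, coe_inv, e, inv_mul_cancel_left]; exact hc
  have h2 := mul_mem hp (hB (E.of_C _ h1))
  rwa [mul_inv_cancel_left] at h2

theorem conj_iff {c : H} (hc : c ∈ C) {x : H} : c⁻¹ * x * c ∈ C ↔ x ∈ C := by
  constructor
  · intro h
    have := mul_mem (mul_mem hc h) (inv_mem hc)
    have e : c * (c⁻¹ * x * c) * c⁻¹ = x := by group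
    rwa [e] at this
  · intro h
    exact mul_mem (mul_mem (inv_mem hc) h) hc

theorem mem_Qk_iff (hn : Cn K C L) {x : K} : (x : H) ∈ Qk C (Mx K C L) ↔ x ∈ Qk B L := by
  constructor
  · intro hx g hg
    have := hx g (coe_mem_Mx hg)
    exact E.of_C (g⁻¹ * x * g) (by rw [coe_mul, coe_mul, coe_inv]; exact this)
  · intro hx g hg
    obtain ⟨p, hp, c, hc, rfl⟩ := hn.mem_Mx.1 hg
    have h1 := E.B_le _ (hx p hp)
    rw [coe_mul, coe_mul, coe_inv] at h1
    have e : ((p : H) * c)⁻¹ * x * (p * c) = c⁻¹ * ((p : H)⁻¹ * x * p) * c := by group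
    rw [e]
    exact (E.conj_iff hc).2 h1

theorem cen_mem_Qk (hn : Cn K C L) {z : H} (hz : z ∈ C) (hc : ∀ x : K, z * x = x * z) : z ∈ Qk C (Mx K C L) := by
  intro g hg
  obtain ⟨p, hp, c, hcC, rfl⟩ := hn.mem_Mx.1 hg
  have e : ((p : H) * c)⁻¹ * z * (p * c) = c⁻¹ * ((p : H)⁻¹ * (z * p)) * c := by group
  rw [e, hc p]
  have e2 : c⁻¹ * ((p : H)⁻¹ * (p * z)) * c = c⁻¹ * z * c := by group
  rw [e2]
  exact (E.conj_iff hcC).2 hz

/-- `s z ∈ Q ↔ s ∈ Q` -/
theorem mul_mem_Qk_iff (hn : Cn K C L) {s : K} {z : H} (hz : z ∈ C) (hc : ∀ x : K, z * x = x * z) :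
    (s : H) * z ∈ Qk C (Mx K C L) ↔ s ∈ Qk B L := by
  have h1 := E.cen_mem_Qk hn hz hc
  rw [← E.mem_Qk_iff hn]
  constructor
  · intro h
    have := mul_mem h (inv_mem h1)
    rwa [mul_inv_cancel_right] at this
  · intro h
    exact mul_mem h h1

/-! ### one panel -/

theorem three (h : ∃ x ∈ L, ∃ y ∈ L, x ∉ B ∧ y ∉ B ∧ x⁻¹ * y ∉ B) :
    ∃ x ∈ Mx K C L, ∃ y ∈ Mx K C L, x ∉ C ∧ y ∉ C ∧ x⁻¹ * y ∉ C := by
  obtain ⟨x, hx, y, hy, h1, h2, h3⟩ := h
  exact ⟨x, coe_mem_Mx hx, y, coe_mem_Mx hy, fun h => h1 (E.of_C _ h), fun h => h2 (E.of_C _ h), fun h =>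
    h3 (E.of_C _ (by rw [coe_mul, coe_inv]; exact h))⟩

theorem ptr (hn : Cn K C L) (h : Hall.HallData.PTr B S L) : Hall.HallData.PTr C U (Mx K C L) := by
  intro g hg hgC g' hg' hgC'
  obtain ⟨p, hp, c, hc, rfl⟩ := hn.mem_Mx.1 hg
  obtain ⟨p', hp', c', hc', rfl⟩ := hn.mem_Mx.1 hg'
  have h1 : p ∉ B := fun h1 => hgC (mul_mem (E.B_le _ h1) hc)
  have h2 : p' ∉ B := fun h1 => hgC' (mul_mem (E.B_le _ h1) hc')
  obtain ⟨u, hu, b, hb, e⟩ := h p hp h1 p' hp' h2
  refine ⟨u, E.S_le _ hu, c⁻¹ * b * c', mul_mem (mul_mem (inv_mem hc) (E.B_le _ hb)) hc', ?_⟩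
  rw [e, coe_mul, coe_mul]; group

theorem reg (hn : Cn K C L) (h : ∀ u ∈ S, ∀ g ∈ L, g ∉ B → g⁻¹ * u * g ∈ B → u ∈ Qk B L) :
    ∀ u ∈ U, ∀ g ∈ Mx K C L, g ∉ C → g⁻¹ * u * g ∈ C → u ∈ Qk C (Mx K C L) := by
  intro u hu g hg hgC hug
  obtain ⟨s, hs, z, hz, hzc, rfl⟩ := E.dec u hu
  obtain ⟨p, hp, c, hc, rfl⟩ := hn.mem_Mx.1 hg
  have h1 : p ∉ B := fun h1 => hgC (mul_mem (E.B_le _ h1) hc)
  have e : ((p : H) * c)⁻¹ * (s * z) * (p * c) = c⁻¹ * ((p : H)⁻¹ * s * p * ((p : H)⁻¹ * (z * p))) * c := by group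
  rw [e, hzc p, inv_mul_cancel_left, E.conj_iff hc] at hug
  have h2 := mul_mem hug (inv_mem (E.U_le hz))
  rw [mul_inv_cancel_right] at h2
  have h3 := h s hs p hp h1 (E.of_C _ (by rw [coe_mul, coe_mul, coe_inv]; exact h2))
  exact (E.mul_mem_Qk_iff hn (E.U_le hz) hzc).2 h3

/-- the commutator of `b ∈ B` with `s z` -/
theorem comm_eq (b s : K) {z : H} (hzc : ∀ x : K, z * x = x * z) :
    (b : H) * (s * z) * (b : H)⁻¹ * (s * z)⁻¹ = ((b * s * b⁻¹ * s⁻¹ : K) : H) := by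
  have h1 : z * (b : H)⁻¹ = (b : H)⁻¹ * z := by
    have := hzc b⁻¹
    rwa [coe_inv] at this
  have e : (b : H) * (s * z) * (b : H)⁻¹ * (s * z)⁻¹ = b * s * (z * (b : H)⁻¹) * z⁻¹ * (s : H)⁻¹ := by group
  rw [e, h1, coe_mul, coe_mul, coe_mul, coe_inv, coe_inv]; group

theorem fpfE (hn : Cn K C L) {b : K} (h : ∀ u ∈ S, b * u * b⁻¹ * u⁻¹ ∈ Qk B L → u ∈ Qk B L) :
    ∀ u ∈ U, (b : H) * u * (b : H)⁻¹ * u⁻¹ ∈ Qk C (Mx K C L) → u ∈ Qk C (Mx K C L) := by
  intro u hu h1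
  obtain ⟨s, hs, z, hz, hzc, rfl⟩ := E.dec u hu
  rw [E.comm_eq b s hzc, E.mem_Qk_iff hn] at h1
  exact (E.mul_mem_Qk_iff hn (E.U_le hz) hzc).2 (h s hs h1)

theorem cenE (hn : Cn K C L) {b : K} (h : ∀ u ∈ S, b * u * b⁻¹ * u⁻¹ ∈ Qk B L) :
    ∀ u ∈ U, (b : H) * u * (b : H)⁻¹ * u⁻¹ ∈ Qk C (Mx K C L) := by
  intro u hu
  obtain ⟨s, hs, z, hz, hzc, rfl⟩ := E.dec u hu
  rw [E.comm_eq b s hzc, E.mem_Qk_iff hn]
  exact h s hs

omit E in
theorem pow_coe {b : K} {k : ℕ} (h : b ^ k = 1) : (b : H) ^ k = 1 := by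
  have := congrArg Subtype.val h
  rwa [coe_pow, coe_one] at this

theorem fpf {p : ℕ} (hn : Cn K C L) (h : FpfG p B S L) : FpfG p C U (Mx K C L) := by
  obtain ⟨b, hb, ⟨k, hk, hbk⟩, h1⟩ := h
  exact ⟨b, E.B_le _ hb, ⟨k, hk, pow_coe hbk⟩, E.fpfE hn h1⟩

theorem sep {p : ℕ} (hn : Cn K C L) (hn' : Cn K C L') (h : SepG p B S L L') :
    SepG p C U (Mx K C L) (Mx K C L') := by
  obtain ⟨b, hb, ⟨k, hk, hbk⟩, h1, h2⟩ := h
  exact ⟨b, E.B_le _ hb, ⟨k, hk, pow_coe hbk⟩, E.cenE hn h1, E.fpfE hn' h2⟩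

/-! ### two panels -/

theorem frat (hn : Cn K C L) (hn' : Cn K C L')
    (h : ∀ X ≤ S, (∀ u ∈ S, ∃ x ∈ X, x⁻¹ * u ∈ Qk B L ∧ x⁻¹ * u ∈ Qk B L') →
      ∀ u ∈ S, ∃ x ∈ X, x⁻¹ * u ∈ Qk B (L ⊔ L')) :
    ∀ X ≤ U, (∀ u ∈ U, ∃ x ∈ X, x⁻¹ * u ∈ Qk C (Mx K C L) ∧ x⁻¹ * u ∈ Qk C (Mx K C L')) →
      ∀ u ∈ U, ∃ x ∈ X, x⁻¹ * u ∈ Qk C (Mx K C L ⊔ Mx K C L') := by
  intro X hX hcov
  have hns := hn.sup hn'
  -- the projection of `X`
  let Y : Subgroup K :=
    { carrier := {s | s ∈ S ∧ ∃ z ∈ U, (∀ x : K, z * x = x * z) ∧ (s : H) * z ∈ X}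
      mul_mem' := by
        rintro s s' ⟨hs, z, hz, hzc, h1⟩ ⟨hs', z', hz', hzc', h1'⟩
        refine ⟨mul_mem hs hs', z * z', mul_mem hz hz', fun x => ?_, ?_⟩
        · rw [mul_assoc, hzc', ← mul_assoc, hzc, mul_assoc]
        · have e : ((s * s' : K) : H) * (z * z') = s * z * (s' * z') := by
            have h2 : z * (s' : H) = s' * z := hzc s'
            calc ((s * s' : K) : H) * (z * z') = s * (s' * z) * z' := by rw [coe_mul]; group
              _ = s * z * (s' * z') := by rw [← h2]; group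
          rw [e]
          exact mul_mem h1 h1'
      one_mem' := ⟨one_mem _, 1, one_mem _, fun x => by rw [one_mul, mul_one], by
        rw [coe_one, one_mul]; exact one_mem _⟩
      inv_mem' := by
        rintro s ⟨hs, z, hz, hzc, h1⟩
        refine ⟨inv_mem hs, z⁻¹, inv_mem hz, fun x => ?_, ?_⟩
        · have h2 := hzc x
          rw [inv_mul_eq_iff_eq_mul, ← mul_assoc, h2, mul_assoc, mul_inv_cancel, mul_one]
        · have h2 : z * (s : H) = s * z := hzc s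
          have e : ((s⁻¹ : K) : H) * z⁻¹ = ((s : H) * z)⁻¹ := by rw [coe_inv, ← h2, mul_inv_rev]
          rw [e]
          exact inv_mem h1 }
  have hY : ∀ s, s ∈ Y ↔ s ∈ S ∧ ∃ z ∈ U, (∀ x : K, z * x = x * z) ∧ (s : H) * z ∈ X := fun s => Iff.rfl
  -- `(s' z')⁻¹ (s z) = (s'⁻¹ s) (z'⁻¹ z)`
  have key : ∀ (s s' : K) (z z' : H), (∀ x : K, z' * x = x * z') →
      ((s' : H) * z')⁻¹ * (s * z) = ((s'⁻¹ * s : K) : H) * (z'⁻¹ * z) := by
    intro s s' z z' hzc'
    have h2 : ∀ y : K, z'⁻¹ * y = y * z'⁻¹ := fun y => by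
      rw [inv_mul_eq_iff_eq_mul, ← mul_assoc, hzc', mul_assoc, mul_inv_cancel, mul_one]
    have e : ((s' : H) * z')⁻¹ * (s * z) = z'⁻¹ * ((s'⁻¹ * s : K) : H) * z := by
      rw [coe_mul, coe_inv]; group
    rw [e, h2]; group
  have hcz : ∀ {z z' : H}, (∀ x : K, z' * x = x * z') → (∀ x : K, z * x = x * z) → ∀ x : K, z'⁻¹ * z * x = x * (z'⁻¹ * z) := by
    intro z z' h1 h2 x
    have h3 : z'⁻¹ * (x : H) = x * z'⁻¹ := by
      rw [inv_mul_eq_iff_eq_mul, ← mul_assoc, h1, mul_assoc, mul_inv_cancel, mul_one]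
    rw [mul_assoc, h2, ← mul_assoc, h3, mul_assoc]
  have h1 := h Y (fun s hs => ((hY s).1 hs).1) (by
    intro s hs
    obtain ⟨x, hx, hx1, hx2⟩ := hcov s (E.S_le _ hs)
    obtain ⟨s', hs', z', hz', hzc', rfl⟩ := E.dec x (hX hx)
    refine ⟨s', (hY s').2 ⟨hs', z', hz', hzc', hx⟩, ?_, ?_⟩
    · have e := key s s' 1 z' hzc'
      rw [mul_one, mul_one] at e
      rw [e] at hx1
      exact (E.mul_mem_Qk_iff hn (inv_mem (E.U_le hz')) (fun y => by
        have := hcz hzc' (z := 1) (fun x => by rw [one_mul, mul_one]) y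
        rwa [mul_one] at this)).1 hx1
    · have e := key s s' 1 z' hzc'
      rw [mul_one, mul_one] at e
      rw [e] at hx2
      exact (E.mul_mem_Qk_iff hn' (inv_mem (E.U_le hz')) (fun y => by
        have := hcz hzc' (z := 1) (fun x => by rw [one_mul, mul_one]) y
        rwa [mul_one] at this)).1 hx2)
  intro u hu
  obtain ⟨s, hs, z, hz, hzc, rfl⟩ := E.dec u hu
  obtain ⟨s', hs', h2⟩ := h1 s hs
  obtain ⟨hs1, z', hz', hzc', hx⟩ := (hY s').1 hs'
  refine ⟨_, hx, ?_⟩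
  rw [← Mx_sup, key s s' z z' hzc',
    E.mul_mem_Qk_iff hns (mul_mem (inv_mem (E.U_le hz')) (E.U_le hz)) (hcz hzc' hzc)]
  exact h2

theorem link {I : Type*} {P : I → Subgroup K} (hn : ∀ i, Cn K C (P i)) (hB : ∀ i, B ≤ P i) (a b : I) :
    Link C (fun i => Mx K C (P i)) a b B P (fun g e => (e : H)⁻¹ * g ∈ C) where
  one := by rw [coe_one, inv_one, one_mul]; exact one_mem _
  memB := by
    intro g e g' e' h1 h2
    rw [← E.mem_C_iff]
    have e1 : g⁻¹ * g' = ((e : H)⁻¹ * g)⁻¹ * ((e⁻¹ * e' : K) : H) * ((e' : H)⁻¹ * g') := by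
      rw [coe_mul, coe_inv]; group
    rw [e1]
    constructor
    · intro h3
      have h4 := mul_mem (mul_mem h1 h3) (inv_mem h2)
      have e2 : (e : H)⁻¹ * g * (((e : H)⁻¹ * g)⁻¹ * ((e⁻¹ * e' : K) : H) * ((e' : H)⁻¹ * g')) *
        ((e' : H)⁻¹ * g')⁻¹ = ((e⁻¹ * e' : K) : H) := by group
      rwa [e2] at h4
    · intro h3
      exact mul_mem (mul_mem (inv_mem h1) h3) h2
  memP := by
    intro i _ g e g' e' h1 h2
    rw [← E.mem_Mx_iff (hn i) (hB i)]
    have h1' : (e : H)⁻¹ * g ∈ Mx K C (P i) := C_le_Mx h1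
    have h2' : (e' : H)⁻¹ * g' ∈ Mx K C (P i) := C_le_Mx h2
    have e1 : g⁻¹ * g' = ((e : H)⁻¹ * g)⁻¹ * ((e⁻¹ * e' : K) : H) * ((e' : H)⁻¹ * g') := by
      rw [coe_mul, coe_inv]; group
    rw [e1]
    constructor
    · intro h3
      have h4 := mul_mem (mul_mem h1' h3) (inv_mem h2')
      have e2 : (e : H)⁻¹ * g * (((e : H)⁻¹ * g)⁻¹ * ((e⁻¹ * e' : K) : H) * ((e' : H)⁻¹ * g')) *
        ((e' : H)⁻¹ * g')⁻¹ = ((e⁻¹ * e' : K) : H) := by group
      rwa [e2] at h4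
    · intro h3
      exact mul_mem (mul_mem (inv_mem h1') h3) h2'
  ex := by
    intro i _ g e h1 x hx
    obtain ⟨p, hp, c, hc, rfl⟩ := (hn i).mem_Mx.1 hx
    obtain ⟨y, -, hy⟩ := hn i _ h1 p hp
    refine ⟨e * y, ?_⟩
    rw [coe_mul, hy]
    have e1 : ((e : H) * ((e : H)⁻¹ * g * p * ((e : H)⁻¹ * g)⁻¹))⁻¹ * (g * (p * c)) = (e : H)⁻¹ * g * c := by group
    rw [e1]
    exact mul_mem h1 hc
  sur := fun e => ⟨e, by rw [inv_mul_cancel]; exact one_mem _⟩
  act := fun z => ⟨z, fun g e h1 => by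
    rw [coe_mul]
    have e1 : ((z : H) * e)⁻¹ * (z * g) = (e : H)⁻¹ * g := by group
    rwa [e1]⟩

theorem poly {I : Type*} {P : I → Subgroup K} (hn : ∀ i, Cn K C (P i)) (hB : ∀ i, B ≤ P i) {a b : I} {m : ℕ}
    (h : Polygon B P a b m) : Polygon C (fun i => Mx K C (P i)) a b m :=
  (E.link hn hB a b).polygon h

end Enl

end Cfsg.Agent.Omega.Lie.End

end

section


/-!
# The field `opp` of the K-side of NODE LIE: chambers opposite to a chamber

`Opp B S P`: there is `w` such that a set of chambers which contains the chambers `s w B`, `s ∈ S`, and every chamber `x B`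
such that some panel of `x B` minus `x B` is in the set, is the set of all chambers.
* `Opp.of_rgd`: root group data (`w = w₀`, descending induction on the length);
* `Opp.lift`: along a surjective homomorphism;
* `Opp.congr`.
-/

set_option autoImplicit false
set_option linter.unusedSectionVars false

namespace Cfsg.Agent.Omega.Lie.End

/-- the chambers opposite to `B` and the panels generate all chambers -/
def Opp {K : Type*} [Group K] {J : Type*} (B S : Subgroup K) (P : J → Subgroup K) : Prop :=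
  ∃ w : K, ∀ C : Set K, (∀ x ∈ C, ∀ b ∈ B, x * b ∈ C) → (∀ s ∈ S, s * w ∈ C) →
    (∀ x i, (∀ y ∈ P i, y ∉ B → x * y ∈ C) → x ∈ C) → ∀ x, x ∈ C

/-- transfer along a surjective homomorphism -/
theorem Opp.lift {K Y J : Type*} [Group K] [Group Y] {B S : Subgroup K} {P : J → Subgroup K} {B' S' : Subgroup Y}
    {P' : J → Subgroup Y} (f : K →* Y) (hf : Function.Surjective f) (hB : ∀ x, x ∈ B ↔ f x ∈ B')
    (hS : ∀ y ∈ S', ∃ x ∈ S, f x = y) (hP : ∀ i x, x ∈ P i ↔ f x ∈ P' i) (h : Opp B' S' P') : Opp B S P := by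
  obtain ⟨w', hw⟩ := h
  obtain ⟨w, rfl⟩ := hf w'
  refine ⟨w, fun C h1 h2 h3 x => ?_⟩
  have hk : ∀ x y : K, x ∈ C → f x = f y → y ∈ C := by
    intro x y hx e
    have h4 : x⁻¹ * y ∈ B := by
      rw [hB, map_mul, map_inv, e, inv_mul_cancel]
      exact one_mem _
    have h5 := h1 x hx _ h4
    rwa [mul_inv_cancel_left] at h5
  have key := hw {y | ∃ x ∈ C, f x = y} ?_ ?_ ?_ (f x)
  · obtain ⟨y, hy, e⟩ := key
    exact hk y x hy e
  · rintro _ ⟨x, hx, rfl⟩ b hb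
    obtain ⟨b, rfl⟩ := hf b
    exact ⟨x * b, h1 x hx b ((hB b).2 hb), map_mul f x b⟩
  · intro s' hs'
    obtain ⟨s, hs, e⟩ := hS s' hs'
    exact ⟨s * w, h2 s hs, by rw [map_mul, e]⟩
  · intro x i hx
    obtain ⟨x, rfl⟩ := hf x
    refine ⟨x, h3 x i fun y hy hyB => ?_, rfl⟩
    obtain ⟨z, hz, e⟩ := hx (f y) ((hP i y).1 hy) (fun h => hyB ((hB y).2 h))
    exact hk z _ hz (by rw [e, map_mul])

theorem Opp.congr {K Y J : Type*} [Group K] [Group Y] {B S : Subgroup K} {P : J → Subgroup K} {B' S' : Subgroup Y}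
    {P' : J → Subgroup Y} (f : K ≃* Y) (hB : ∀ x, x ∈ B ↔ f x ∈ B') (hS : ∀ x, x ∈ S ↔ f x ∈ S')
    (hP : ∀ i x, x ∈ P i ↔ f x ∈ P' i) (h : Opp B' S' P') : Opp B S P :=
  Opp.lift (f : K →* Y) f.surjective hB
    (fun y hy => ⟨f.symm y, (hS _).2 (by rw [f.apply_symm_apply]; exact hy), f.apply_symm_apply y⟩) hP h

/-- reindexing -/
theorem Opp.of_family {K J J' : Type*} [Group K] {B S : Subgroup K} {P : J → Subgroup K} {P' : J' → Subgroup K}
    (hP : ∀ i, ∃ j, P j = P' i) (h : Opp B S P') : Opp B S P := by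
  obtain ⟨w, hw⟩ := h
  refine ⟨w, fun C h1 h2 h3 => hw C h1 h2 fun x i hx => ?_⟩
  obtain ⟨j, hj⟩ := hP i
  exact h3 x j (by rwa [hj])

section rgd

open CoxeterSystem Cfsg.Agent.ChevalleyStructure.CoxeterGeom Cfsg.Agent.Tits.Roots Cfsg.Agent.Tits.Core
  Cfsg.Agent.Tits.Exchange Cfsg.Agent.Nodes.Reps Cfsg.Agent.Nodes.BNOf Cfsg.Agent.Nodes.StabComb
  Cfsg.Agent.Nodes.Bruhat Cfsg.Agent.Nodes.OppDec Cfsg.Agent.Nodes.LeviDec

variable {I W Y : Type*} [Fintype I] [DecidableEq I] [Group W] [Group Y] {M : CoxeterMatrix I}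
  {cs : CoxeterSystem M W} {A : I → I → ℤ} {h : IsCartan M A} {p : ℕ} {T : Subgroup Y} {n : I → Y}
  {X : (I → ℤ) → Subgroup Y}

/-- the longest element -/
theorem exists_top (cs : CoxeterSystem M W) (h : IsCartan M A) [Finite W] :
    ∃ w₀ : W, (∀ w, cs.length w ≤ cs.length w₀) ∧
      ∀ v : W, (∀ i, ¬ cs.length v < cs.length (v * cs.simple i)) → v = w₀ := by
  obtain ⟨w₀, hw₀⟩ := Finite.exists_max (fun w : W => cs.length w)
  refine ⟨w₀, hw₀, fun v hv => ?_⟩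
  have key : ∀ v : W, (∀ i, ¬ cs.length v < cs.length (v * cs.simple i)) →
      ∀ z, IsRoot cs h z → z ≤ 0 → 0 ≤ rep cs h v z := by
    intro v hv z _ hz
    have h1 : ∀ i, rep cs h v (Pi.single i 1) ≤ 0 := by
      intro i
      refine nonpos_of_lt cs h v i ?_
      have h2 := hv i
      rcases cs.length_mul_simple v i with h3 | h3 <;> omega
    have e : z = ∑ k, z k • sr k := by
      funext j
      simp [Finset.sum_apply, sr, Pi.single_apply]
    rw [e, map_sum]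
    refine Finset.sum_nonneg fun k _ => ?_
    rw [map_smul]
    intro j
    have h2 := h1 k j
    have h3 := hz k
    rw [Pi.smul_apply, smul_eq_mul]
    exact mul_nonneg_of_nonpos_of_nonpos h3 h2
  -- `w₀⁻¹` makes positive roots negative
  have h0 : ∀ i, ¬ cs.length w₀ < cs.length (w₀ * cs.simple i) := fun i => not_lt.2 (hw₀ _)
  have h0' : ∀ i, rep cs h w₀⁻¹ (Pi.single i 1) ≤ 0 := by
    intro i
    refine nonpos_of_lt cs h w₀⁻¹ i ?_
    have h1 : (w₀⁻¹ * cs.simple i) = (cs.simple i * w₀)⁻¹ := by rw [mul_inv_rev, inv_simple]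
    rw [h1, cs.length_inv, cs.length_inv]
    have h2 : cs.length (cs.simple i * w₀) ≤ cs.length w₀ := hw₀ (cs.simple i * w₀)
    rcases cs.length_simple_mul w₀ i with h3 | h3 <;> omega
  have h1 : v * w₀⁻¹ = 1 := by
    refine eq_one_of_nonneg cs h _ fun i => ?_
    rw [map_mul, Module.End.mul_apply]
    exact key v hv _ ((isRoot_sr cs h i).act w₀⁻¹) (h0' i)
  exact mul_inv_eq_one.1 h1

/-- **the field `opp` from root group data** -/
theorem Opp.of_rgd [Finite W] (R : RGD cs h p T n X) (hG : GG cs h T X = ⊤) :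
    Opp (RGD.B cs h T X) (RGD.Sup X (RGD.Pos cs h)) (fun i : I => PJ cs h T X {i}) := by
  obtain ⟨w₀, hmax, huni⟩ := exists_top cs h
  obtain ⟨k₀, hk₀⟩ := exists_rp cs R.nsys w₀
  refine ⟨k₀, fun C h1 h2 h3 x => ?_⟩
  have key : ∀ (m : ℕ) (v : W), cs.length w₀ - cs.length v = m → ∀ g, Cell R.nsys cs h X v g → g ∈ C := by
    intro m
    induction m using Nat.strong_induction_on with
    | _ m ih =>
    intro v hv g hg
    by_cases hv0 : ∀ i, ¬ cs.length v < cs.length (v * cs.simple i)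
    · obtain rfl := huni v hv0
      obtain ⟨b₁, hb₁, k, hk, b₂, hb₂, rfl⟩ := hg
      obtain ⟨t, ht, u, hu, e⟩ := R.mem_B.1 (inv_mem hb₁)
      have e1 : b₁ = u⁻¹ * t⁻¹ := by rw [← mul_inv_rev, ← e, inv_inv]
      have ht1 : k₀⁻¹ * t⁻¹ * k₀ ∈ T := by
        have h4 := (mem_normalizer_iff_cj.1 hk₀.inv.mem_normalizer)
        have h5 : k₀⁻¹ * t⁻¹ * k₀⁻¹⁻¹ ∈ cj k₀⁻¹ T := conj_mem_cj.2 (inv_mem ht)
        rwa [h4, inv_inv] at h5
      have h4 := h1 _ (h2 _ (inv_mem hu)) (k₀⁻¹ * t⁻¹ * k₀ * (k₀⁻¹ * k) * b₂)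
        (mul_mem (mul_mem (RGD.T_le_B ht1) (RGD.T_le_B (hk₀.unique hk))) hb₂)
      have e2 : u⁻¹ * k₀ * (k₀⁻¹ * t⁻¹ * k₀ * (k₀⁻¹ * k) * b₂) = b₁ * k * b₂ := by
        rw [e1]; group
      rwa [e2] at h4
    · push Not at hv0
      obtain ⟨i, hi⟩ := hv0
      refine h3 g i fun y hy hyB => ?_
      obtain ⟨w, hw, hc⟩ := (mem_PJ_iff_cell R).1 hy
      have hw' : w = 1 ∨ w = cs.simple i := by
        obtain ⟨ω, hω, hred, rfl⟩ := exists_reduced_of_mem_WJ cs hw
        match ω, hω, hred with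
        | [], _, _ => left; simp
        | [a], hω, _ =>
          right
          have := hω a (by simp)
          rw [Set.mem_singleton_iff] at this
          rw [this]; simp
        | a :: b :: ω, hω, hred =>
          exfalso
          have ha : a = i := by simpa using hω a (by simp)
          have hb : b = i := by simpa using hω b (by simp)
          subst ha
          subst hb
          have h4 : cs.length (cs.wordProd (b :: b :: ω)) = (b :: b :: ω).length := hred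
          rw [wordProd_cons, wordProd_cons, ← mul_assoc, cs.simple_mul_simple_self, one_mul] at h4
          have h5 := cs.length_wordProd_le ω
          simp only [List.length_cons] at h4
          omega
      rcases hw' with rfl | rfl
      · exact absurd hc.mem_of_one hyB
      · have hl : cs.length (v * cs.simple i) = cs.length v + cs.length (cs.simple i) := by
          rw [cs.length_simple]
          rcases cs.length_mul_simple v i with h4 | h4 <;> omega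
        have h5 := Cell.mul_of_length R hl hg hc
        have h6 := hmax (v * cs.simple i)
        rw [cs.length_simple] at hl
        exact ih (cs.length w₀ - cs.length (v * cs.simple i)) (by omega) (v * cs.simple i) rfl _ h5
  obtain ⟨w, hw⟩ := (mem_GG R).1 (hG ▸ Subgroup.mem_top x : x ∈ GG cs h T X)
  exact key _ w rfl x hw

end rgd

end Cfsg.Agent.Omega.Lie.End

end

section


/-!
# `Pre`: the panels have an odd number of chambers

* `Pre.odd_panel` : `[P i : B]` is odd (`p = 2`);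
* `Pre.odd_relIndex` : `U` is a Sylow 2-subgroup of `P i`;
* `Pre.inf_norm_le` : `P i ⊓ N(U) ≤ B`.
-/

set_option autoImplicit false
set_option linter.unusedSectionVars false

namespace Cfsg.Agent.Omega.Lie.End

open Subgroup Cfsg.Agent.ParSys

variable {G : Type*} [Group G] {B U P : Subgroup G}

/-- `U` transitive on `P / B ∖ {B}`, at least three chambers, `U` a 2-group: `[P : B]` is odd -/
theorem odd_panel_of [Finite G] (hUB : U ≤ B) (hBP : B ≤ P) (hU : IsPGroup 2 U)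
    (h3 : ∃ x ∈ P, ∃ y ∈ P, x ∉ B ∧ y ∉ B ∧ x⁻¹ * y ∉ B) (hptr : Hall.HallData.PTr B U P) :
    Odd (B.relIndex P) := by
  have hfact : Fact (Nat.Prime 2) := ⟨Nat.prime_two⟩
  have hU' : IsPGroup 2 (U.subgroupOf P) := hU.comap_of_injective P.subtype P.subtype_injective
  have h1 := hU'.card_modEq_card_fixedPoints (↥P ⧸ B.subgroupOf P)
  have h2 : MulAction.fixedPoints (U.subgroupOf P) (↥P ⧸ B.subgroupOf P) = {((1 : P) : ↥P ⧸ B.subgroupOf P)} := by
    ext x
    obtain ⟨g, rfl⟩ := QuotientGroup.mk_surjective x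
    rw [MulAction.mem_fixedPoints, Set.mem_singleton_iff]
    constructor
    · intro h
      by_contra hne
      have hgB : (g : G) ∉ B := by
        intro hg
        apply hne
        rw [QuotientGroup.eq]
        rw [mul_one]
        exact inv_mem (mem_subgroupOf.2 hg)
      have key : ∀ y ∈ P, y ∉ B → (g : G)⁻¹ * y ∈ B := by
        intro y hy hyB
        obtain ⟨u, hu, b, hb, e⟩ := hptr g g.2 hgB y hy hyB
        have h5 := h ⟨⟨u, hBP (hUB hu)⟩, mem_subgroupOf.2 hu⟩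
        have h6 : ((((⟨u, hBP (hUB hu)⟩ : P) * g : P)) : ↥P ⧸ B.subgroupOf P) = (g : ↥P ⧸ B.subgroupOf P) := h5
        rw [QuotientGroup.eq] at h6
        have h7 := mem_subgroupOf.1 h6
        have h8 : (u * g)⁻¹ * g ∈ B := h7
        have e2 : (g : G)⁻¹ * y = ((u * g)⁻¹ * g)⁻¹ * b := by rw [e]; group
        rw [e2]
        exact mul_mem (inv_mem h8) hb
      obtain ⟨x, hx, y, hy, hxB, hyB, hxy⟩ := h3
      apply hxy
      have e : x⁻¹ * y = ((g : G)⁻¹ * x)⁻¹ * ((g : G)⁻¹ * y) := by group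
      rw [e]
      exact mul_mem (inv_mem (key x hx hxB)) (key y hy hyB)
    · intro h u
      rw [h]
      change ((((u : P) * 1 : P)) : ↥P ⧸ B.subgroupOf P) = _
      rw [QuotientGroup.eq, mul_one, mul_one]
      exact inv_mem (mem_subgroupOf.2 (hUB (mem_subgroupOf.1 u.2)))
  rw [h2, Nat.card_coe_set_eq, Set.ncard_singleton] at h1
  have h4 : B.relIndex P = Nat.card (↥P ⧸ B.subgroupOf P) := rfl
  rw [h4, Nat.odd_iff]
  exact h1

/-- `P ⊓ N(U) ≤ B` -/
theorem inf_norm_le_of (hUB : U ≤ B) (h3 : ∃ x ∈ P, ∃ y ∈ P, x ∉ B ∧ y ∉ B ∧ x⁻¹ * y ∉ B)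
    (hptr : Hall.HallData.PTr B U P) (hreg : ∀ u ∈ U, ∀ g ∈ P, g ∉ B → g⁻¹ * u * g ∈ B → u ∈ Qk B P) :
    P ⊓ normalizer (U : Set G) ≤ B := by
  rintro g ⟨hg, hN⟩
  by_contra hgB
  have h1 : ∀ u ∈ U, u ∈ Qk B P := by
    intro u hu
    refine hreg u hu g hg hgB ?_
    have h2 := (mem_normalizer_iff.1 (inv_mem hN) u).1 hu
    rw [inv_inv] at h2
    exact hUB h2
  have key : ∀ y ∈ P, y ∉ B → (g : G)⁻¹ * y ∈ B := by
    intro y hy hyB
    obtain ⟨u, hu, b, hb, e⟩ := hptr g hg hgB y hy hyB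
    have h2 := ParSys.mem_Qk.1 (h1 u hu) g hg
    have e2 : g⁻¹ * y = (g⁻¹ * u * g) * b := by rw [e]; group
    rw [e2]
    exact mul_mem h2 hb
  obtain ⟨x, hx, y, hy, hxB, hyB, hxy⟩ := h3
  apply hxy
  have e : x⁻¹ * y = (g⁻¹ * x)⁻¹ * (g⁻¹ * y) := by group
  rw [e]
  exact mul_mem (inv_mem (key x hx hxB)) (key y hy hyB)

variable {I : Type*} {Q : I → Subgroup G} {m : I → I → ℕ}

theorem Pre.odd_panel [Finite G] (D : Pre 2 B U Q m) (i : I) : Odd (B.relIndex (Q i)) :=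
  odd_panel_of D.U_le (D.le i) D.isP (D.three i) (D.ptr i)

theorem Pre.odd_relIndex [Finite G] (D : Pre 2 B U Q m) (i : I) : Odd (U.relIndex (Q i)) := by
  rw [← relIndex_mul_relIndex U B (Q i) D.U_le (D.le i)]
  exact (Nat.coprime_two_left.1 D.index).mul (D.odd_panel i)

theorem Pre.inf_norm_le (D : Pre 2 B U Q m) (i : I) : Q i ⊓ normalizer (U : Set G) ≤ B :=
  inf_norm_le_of D.U_le (D.three i) (D.ptr i) (D.reg i)

/-- `U` is a Sylow 2-subgroup of every `L ≤ Q i` which contains it -/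
theorem Pre.odd_relIndex' [Finite G] (D : Pre 2 B U Q m) (i : I) {L : Subgroup G} (hU : U ≤ L) (hL : L ≤ Q i) :
    Odd (U.relIndex L) := by
  have h1 := relIndex_mul_relIndex U L (Q i) hU hL
  have h2 := D.odd_relIndex i
  rw [← h1] at h2
  exact (Nat.odd_mul.1 h2).1

end Cfsg.Agent.Omega.Lie.End

end

section


/-!
# The K-side of NODE LIE with two more facts

`KSideX` : `KSide`, and for the system `P` : `Opp` (chambers opposite to `B`, needed for `C_M(S_E) = e`) and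
`OneL` (a system with one node belongs to `L₂(F)`).
-/

set_option autoImplicit false

namespace Cfsg.Agent.Omega.Lie.End

open Subgroup

/-- a system with one node belongs to `L₂(F)` -/
def OneL (K : Type*) [Group K] (J : Type) : Prop :=
  (∀ i i' : J, i = i') → ∃ (F : Type) (_ : Field F) (_ : Fintype F), ringChar F = 2 ∧
    Nonempty (K ≃* Matrix.ProjectiveSpecialLinearGroup (Fin 2) F)

universe u

/-- **The K-side of NODE LIE, with `Opp` and `OneL`.** -/
def KSideX : Prop :=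
  ∀ (K : Type u) [Group K] [Finite K], commutator K = ⊤ → IsSimpleGroup (K ⧸ center K) →
    Odd (Nat.card (center K)) → IsLieTypeChar 2 (K ⧸ center K) →
    ∀ (S : Sylow 2 K) (T : Subgroup (MulAut K)), TAct (S : Subgroup K) T →
      (∃ (J : Type) (_ : Finite J) (P : J → Subgroup K) (m : J → J → ℕ), KSys (S : Subgroup K) T P m ∧
        Opp (normalizer ((S : Subgroup K) : Set K)) (S : Subgroup K) P ∧ OneL K J) ∨
        KExc K (S : Subgroup K) T

end Cfsg.Agent.Omega.Lie.End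

end

private theorem dce_60258c8dc3cb : _root_.True := by
  try have : _root_.True := by simp only [_root_.Cfsg.Agent.ParSys.alt.eq_1]
  try have : _root_.True := by simp only [_root_.Cfsg.Agent.ParSys.alt.eq_2]
  try have : _root_.True := by simp only [_root_.Cfsg.Agent.ParSys.alt.eq_def]
  exact _root_.True.intro
end

-- part: Mrg/Omega/Lie/End/ZeroLone
section
prune_inst 0x200000500002000018000000001c02900000000008000000200600020808022902280008200110100a88080000000811000090000000000000040000010100108012002140000002000e000000000000000000000000000000000000000004000000000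
set_option linter.all false
open scoped Cfsg.Agent.FastGrp

section


/-!
# NODE LIE, the END: elements of a moved node which act nontrivially on `V / R i`

`P` a moved node (`P ⊄ N(V)`), not of type `(γ)`; then `P ∩ B ∩ C(R i)` has an element which acts nontrivially on
`V / R i` (`exists_scal_node`): `h = g⁻¹ t g t⁻¹`, `t` a torus element of prime order, `g ∈ P ∖ B` with `t ∈ N(V ^ g)`.
Hence `SepG 2 B U P' P₀` for every node `P'` centralised by `P ∩ C(R i)` (`sepG_node`).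
-/

set_option autoImplicit false
set_option linter.unusedSectionVars false

namespace Cfsg.Agent.Omega.Lie.Zero

open Subgroup Cfsg.Agent.Omega.BTwo Cfsg.Agent.ParSys

universe u v w

/-! ### Fixed chambers -/

section fixed

variable {G : Type u} [Group G] {B U P : Subgroup G}

/-- `B` is maximal in `P` -/
theorem le_of_ptr (hUB : U ≤ B) (hptr : Hall.HallData.PTr B U P) {X : Subgroup G} (hBX : B ≤ X) (hXP : X ≤ P)
    (h : ¬ P ≤ X) : X ≤ B := by
  intro x hx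
  by_contra hxB
  apply h
  intro y hy
  by_cases hyB : y ∈ B
  · exact hBX hyB
  · obtain ⟨u, hu, z, hz, rfl⟩ := hptr x (hXP hx) hxB y hy hyB
    exact mul_mem (mul_mem (hBX (hUB hu)) hx) (hBX hz)

/-- **an element of odd prime order of `B` fixes a chamber `≠ B` of the panel** -/
theorem exists_fixed_chamber [Finite G] (hBP : B ≤ P) (hUB : U ≤ B) (hU : IsPGroup 2 U)
    (hptr : Hall.HallData.PTr B U P) (hne : ∃ x ∈ P, x ∉ B) {t : G} (ht : t ∈ B) {r : ℕ} (hr : r.Prime) (hr2 : r ≠ 2)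
    (htr : t ^ r = 1) : ∃ x ∈ P, x ∉ B ∧ x⁻¹ * t * x ∈ B := by
  have : Fact r.Prime := ⟨hr⟩
  obtain ⟨x₀, hx₀, hx₀B⟩ := hne
  set! c₀ : G ⧸ B := (x₀ : G ⧸ B) with hc₀
  have hmem : ∀ c : G ⧸ B, c ∈ MulAction.orbit U c₀ ↔ ∃ y ∈ P, y ∉ B ∧ c = (y : G ⧸ B) := by
    intro c
    constructor
    · rintro ⟨u, rfl⟩
      refine ⟨(u : G) * x₀, mul_mem (hBP (hUB u.2)) hx₀, fun h => hx₀B ?_, rfl⟩
      have := mul_mem (inv_mem (hUB u.2)) h
      rwa [inv_mul_cancel_left] at this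
    · rintro ⟨y, hy, hyB, rfl⟩
      obtain ⟨u, hu, b, hb, rfl⟩ := hptr x₀ hx₀ hx₀B y hy hyB
      refine ⟨⟨u, hu⟩, ?_⟩
      change ((u * x₀ : G) : G ⧸ B) = ((u * x₀ * b : G) : G ⧸ B)
      rw [QuotientGroup.eq]
      have e : (u * x₀)⁻¹ * (u * x₀ * b) = b := by group
      rw [e]
      exact hb
  let O : SubMulAction (zpowers t) (G ⧸ B) :=
    { carrier := MulAction.orbit U c₀
      smul_mem' := by
        rintro ⟨k, hk⟩ c hc
        obtain ⟨y, hy, hyB, rfl⟩ := (hmem c).1 hc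
        have hkB : k ∈ B := (zpowers_le.2 ht) hk
        refine (hmem _).2 ⟨k * y, mul_mem (hBP hkB) hy, fun h => hyB ?_, rfl⟩
        have := mul_mem (inv_mem hkB) h
        rwa [inv_mul_cancel_left] at this }
  have hK : IsPGroup r (zpowers t) := by
    rintro ⟨x, hx⟩
    obtain ⟨k, rfl⟩ := mem_zpowers_iff.1 hx
    refine ⟨1, Subtype.ext ?_⟩
    change (t ^ k) ^ r ^ 1 = 1
    rw [pow_one, ← zpow_natCast, ← zpow_mul, mul_comm, zpow_mul, zpow_natCast, htr, one_zpow]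
  have hcard : ¬ r ∣ Nat.card O := by
    intro h
    have h1 : Nat.card O = (MulAction.stabilizer U c₀).index := by
      rw [MulAction.index_stabilizer]
      exact Nat.card_coe_set_eq _
    obtain ⟨n, hn⟩ := IsPGroup.iff_card.1 hU
    have h2 : r ∣ 2 ^ n := by
      rw [← hn]
      rw [h1] at h
      exact h.trans (Subgroup.index_dvd_card _)
    exact hr2 ((Nat.prime_dvd_prime_iff_eq hr Nat.prime_two).1 (hr.dvd_of_dvd_pow h2))
  obtain ⟨⟨c, hc⟩, hfix⟩ := hK.nonempty_fixed_point_of_prime_not_dvd_card O hcard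
  obtain ⟨y, hy, hyB, rfl⟩ := (hmem c).1 hc
  refine ⟨y, hy, hyB, ?_⟩
  have h1 := hfix ⟨t, mem_zpowers t⟩
  have h2 : ((t * y : G) : G ⧸ B) = (y : G ⧸ B) := congrArg Subtype.val h1
  rw [eq_comm, QuotientGroup.eq] at h2
  rwa [mul_assoc]

end fixed

variable {G : Type u} [Group G] {ι : Type w} {V : Subgroup G} {R : ι → Subgroup G} {i j : ι} {F : Type v} [Field F]
  {v : F → F → G} {w1 w2 : F → G} {t : F → G} {B U P : Subgroup G}

theorem t_pow (τ : TorD V R i j v t) {a : F} (ha : a ≠ 0) (n : ℕ) : t a ^ n = t (a ^ n) := by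
  induction n with
  | zero => rw [pow_zero, pow_zero, τ.one]
  | succ n ih => rw [pow_succ, pow_succ, ih, τ.mul _ _ (pow_ne_zero n ha) ha]

/-- an element of prime order of `Fˣ` -/
theorem exists_prime_unit [Finite F] [CharP F 2] (hF : ∃ a : F, a ≠ 0 ∧ a ≠ 1) :
    ∃ a : F, a ≠ 0 ∧ a ≠ 1 ∧ ∃ r : ℕ, r.Prime ∧ r ≠ 2 ∧ a ^ r = 1 := by
  have : Fintype F := Fintype.ofFinite F
  obtain ⟨a, ha, ha1⟩ := hF
  have hc : Nat.card Fˣ ≠ 1 := by
    intro h
    have h1 : Subsingleton Fˣ := (Nat.card_eq_one_iff_unique.1 h).1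
    exact ha1 (congrArg Units.val (Subsingleton.elim (Units.mk0 a ha) 1))
  obtain ⟨r, hr, hd⟩ := Nat.exists_prime_and_dvd hc
  have : Fact r.Prime := ⟨hr⟩
  obtain ⟨x, hx⟩ := exists_prime_orderOf_dvd_card' r hd
  have hxr : (x : F) ^ r = 1 := by
    have h1 := pow_orderOf_eq_one x
    rw [hx] at h1
    have := congrArg Units.val h1
    simpa using this
  have hx1 : (x : F) ≠ 1 := by
    intro h
    have h1 : x = 1 := Units.ext h
    rw [h1, orderOf_one] at hx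
    exact hr.one_lt.ne hx
  refine ⟨x, x.ne_zero, hx1, r, hr, ?_, hxr⟩
  rintro rfl
  have h1 : ((x : F) - 1) ^ 2 = 0 := by
    have h2 : (2 : F) = 0 := CharTwo.two_eq_zero
    linear_combination hxr - ((x : F) - 1) * h2
  exact hx1 (sub_eq_zero.1 (pow_eq_zero_iff (two_ne_zero) |>.1 h1))

/-! ### Lines on `R i` -/

section lines

variable [CharP F 2] {M B' N : Type u} [AddCommGroup M] [AddCommGroup B'] [DistribMulAction (NR R i) M]
  [DistribMulAction (NR R i) B'] [Module F M] {p : G → M} {r : G → B'} {f : M →+ M →+ B'}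
  {φ : M →ₗ[F] M →ₗ[F] F} {s : NR R i → (F ≃+* F)} {h : FMod V R i j v w1 w2 M B' p r f φ s}
  {τ : TorD V R i j v t} [AddCommGroup N] [Module F N] {P1 P2 : G → N} {y : YPair V R i j w1 w2 N P1 P2}
  {n : N →ₗ[F] M} {sf : N →ₗ[F] N →ₗ[F] M} {q : N → N →ₗ[F] F}

/-- the eigenvalue `a⁻¹` on `e^⊥` is only on `e` -/
theorem eig_inv (E : Eig h τ y n sf q) {x : M} (hx : φ x (p (v 0 1)) = 0) {a : Fˣ} (ha : (a : F) ≠ 1)
    (hT : tT τ a • x = (a : F)⁻¹ • x) : ∃ γ : F, x = γ • p (v 0 1) := by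
  obtain ⟨γ, d, hd, g, rfl⟩ := (E.mem_U x).1 hx
  rw [smul_add, smul_add, h.T_smul_e τ, hd a, (E.n_mem g) a, smul_add, smul_add, smul_smul] at hT
  have h1 : (0 : F) • p (v 0 1) + (1 - (a : F)⁻¹) • d + n (((a : F) - (a : F)⁻¹) • g) = 0 := by
    rw [map_smul, sub_smul, sub_smul, one_smul, zero_smul, zero_add]
    have h2 : (γ * (a : F)⁻¹) • p (v 0 1) + d + (a : F) • n g -
        ((a : F)⁻¹ * γ) • p (v 0 1) - (a : F)⁻¹ • d - (a : F)⁻¹ • n g = 0 := by
      rw [hT]; abel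
    rw [mul_comm] at h2
    rw [← h2]
    abel
  obtain ⟨-, h2, h3⟩ := E.indep 0 _ _ ((h.M0 τ).smul_mem _ hd) h1
  have h4 : (1 : F) - (a : F)⁻¹ ≠ 0 := by
    intro h5
    apply ha
    have := sub_eq_zero.1 h5
    rw [← inv_inv (a : F), ← this, inv_one]
  have h5 : d = 0 := (smul_eq_zero.1 h2).resolve_left h4
  have h6 : g = 0 := (smul_eq_zero.1 h3).resolve_left (h.sub_inv_ne a.ne_zero ha)
  exact ⟨γ, by rw [h5, h6, map_zero, add_zero, add_zero]⟩

end lines

/-- **the element `h = g⁻¹ t g t⁻¹`** for a line `V ^ g` on `R i`, normalised by `t = t a`, commuting with `V` -/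
theorem scal_of_line [Finite G] [Finite F] [CharP F 2] (b : BTC V R) (c : Coord V R i j v w1 w2)
    (τ : TorD V R i j v t) (hC : centralizer (WW V (R i) : Set G) ≤ R i) {a : F} (ha : a ≠ 0) (ha1 : a ≠ 1)
    {g : G} (hg : g ∈ centralizer (R i : Set G)) (hV : ¬ cj g V ≤ V)
    (hc : ∀ x ∈ V, ∀ y ∈ V, g * x * g⁻¹ * y = y * (g * x * g⁻¹)) (hT : t a ∈ normalizer (cj g V : Set G)) :
    g⁻¹ * t a * g * (t a)⁻¹ ∈ normalizer (V : Set G) ∧
      (∀ x ∈ R i, g⁻¹ * t a * g * (t a)⁻¹ * x = x * (g⁻¹ * t a * g * (t a)⁻¹)) ∧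
      ∃ p₀ s₀ : F, (g⁻¹ * t a * g * (t a)⁻¹) * v 0 1 * (g⁻¹ * t a * g * (t a)⁻¹)⁻¹ = v p₀ s₀ ∧ s₀ ≠ 1 := by
  have hF : ∃ a : F, a ≠ 0 ∧ a ≠ 1 := ⟨a, ha, ha1⟩
  obtain ⟨M, B', _, _, _, _, _, p, r, f, φ, s, h⟩ := b.exists_fMod c hF hC
  obtain ⟨N, _, _, P1, P2, y⟩ := c.exists_yPair b.toBT
  obtain ⟨n, sf, q, E⟩ := h.exists_eig τ y
  have htV : t a ∈ normalizer (V : Set G) := b.X_le_NV (τ.memX a ha)
  have hgN : g ∈ normalizer (R i : Set G) := by
    have := Subgroup.centralizer_le_normalizer (R i : Set G)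
    exact this hg
  -- the element `h` is in `N(V)`
  have h1 : g⁻¹ * t a * g * (t a)⁻¹ ∈ normalizer (V : Set G) := by
    rw [← cj_eq_self_iff]
    have e1 : cj (t a)⁻¹ V = V := cj_eq_self_iff.2 (inv_mem htV)
    have e2 : cj (t a) (cj g V) = cj g V := cj_eq_self_iff.2 hT
    rw [cj_mul, e1, mul_assoc, cj_mul, cj_mul, e2, cj_inv_cj]
  have h2 : ∀ x ∈ R i, g⁻¹ * t a * g * (t a)⁻¹ * x = x * (g⁻¹ * t a * g * (t a)⁻¹) := by
    intro x hx
    have k1 : (t a)⁻¹ * x * t a ∈ R i := BTwo.conj_inv_mem_of_normalizer (τ.normR ha) hx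
    have k2 : g * ((t a)⁻¹ * x * t a) = ((t a)⁻¹ * x * t a) * g := (mem_centralizer_iff.1 hg _ k1).symm
    have k3 : g⁻¹ * x = x * g⁻¹ := (mem_centralizer_iff.1 (inv_mem hg) _ hx).symm
    calc g⁻¹ * t a * g * (t a)⁻¹ * x = g⁻¹ * t a * (g * ((t a)⁻¹ * x * t a)) * (t a)⁻¹ := by group
      _ = g⁻¹ * t a * (((t a)⁻¹ * x * t a) * g) * (t a)⁻¹ := by rw [k2]
      _ = (g⁻¹ * x) * (t a * g * (t a)⁻¹) := by group
      _ = x * g⁻¹ * (t a * g * (t a)⁻¹) := by rw [k3]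
      _ = x * (g⁻¹ * t a * g * (t a)⁻¹) := by group
  refine ⟨h1, h2, ?_⟩
  obtain ⟨p₀, s₀, hps⟩ := (c.mem_V _).1 (BTwo.conj_mem_of_normalizer h1 (c.v_mem 0 1))
  refine ⟨p₀, s₀, hps.symm, ?_⟩
  rintro rfl
  -- the module
  set! a' : Fˣ := Units.mk0 a ha with ha'
  set! g' : NR R i := ⟨g, hgN⟩ with hg'
  have hvW : ∀ b c, v b c ∈ WW V (R i) := fun b c' => V_le_WW V (R i) (c.v_mem b c')
  have hgW : ∀ b c, g * v b c * g⁻¹ ∈ WW V (R i) := fun b c' =>
    BTwo.conj_mem_of_normalizer (normalizer_le_WW V (R i) hgN) (hvW b c')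
  have e0 : ∀ b c, g' • p (v b c) = p (g * v b c * g⁻¹) := fun b c' => h.fr.p_act g' _ (hvW b c')
  have hperp : φ (p (g * v 0 1 * g⁻¹)) (p (v 0 1)) = 0 := by
    have k1 := h.comm_eq (hgW 0 1) (hvW 0 1)
    have k2 := hc _ (c.v_mem 0 1) _ (c.v_mem 0 1)
    have k3 : g * v 0 1 * g⁻¹ * v 0 1 * (g * v 0 1 * g⁻¹)⁻¹ * (v 0 1)⁻¹ = 1 := by
      rw [k2, mul_inv_cancel_right, mul_inv_cancel]
    rw [k3] at k1
    have k4 : v (φ (p (g * v 0 1 * g⁻¹)) (p (v 0 1))) 0 = v 0 0 := by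
      rw [← k1]
      have := c.v_add 0 0 0 0
      rw [add_zero] at this
      exact (left_eq_mul.1 this).symm
    exact (c.v_inj k4).1
  -- `t (g v) t⁻¹ = g (h (t v t⁻¹) h⁻¹) g⁻¹`
  have hact : tT τ a' • p (g * v 0 1 * g⁻¹) = (a : F)⁻¹ • p (g * v 0 1 * g⁻¹) := by
    have k1 : tT τ a' • p (g * v 0 1 * g⁻¹) = p (t a * (g * v 0 1 * g⁻¹) * (t a)⁻¹) :=
      h.fr.p_act (tT τ a') _ (hgW 0 1)
    have k2 : t a * (g * v 0 a * g⁻¹) * (t a)⁻¹ = g * v p₀ 1 * g⁻¹ := by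
      have k3 : t a * v 0 a * (t a)⁻¹ = v 0 1 := by rw [τ.act a 0 a ha, mul_zero, inv_mul_cancel₀ ha]
      have k3' : (t a)⁻¹ * v 0 1 * t a = v 0 a := by rw [← k3]; group
      calc t a * (g * v 0 a * g⁻¹) * (t a)⁻¹ = t a * (g * ((t a)⁻¹ * v 0 1 * t a) * g⁻¹) * (t a)⁻¹ := by rw [k3']
        _ = g * (g⁻¹ * t a * g * (t a)⁻¹ * v 0 1 * (g⁻¹ * t a * g * (t a)⁻¹)⁻¹) * g⁻¹ := by group
        _ = g * v p₀ 1 * g⁻¹ := by rw [← hps]
    have k4 : a • (tT τ a' • p (g * v 0 1 * g⁻¹)) = p (g * v p₀ 1 * g⁻¹) := by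
      have k5 : p (g * v 0 a * g⁻¹) = a • p (g * v 0 1 * g⁻¹) := by
        rw [← e0, ← e0, h.p_v, h.lin_cen (g := g') hg]
      rw [← h.T_lin τ, ← k5, h.fr.p_act (tT τ a') _ (hgW 0 a)]
      change p (t a * (g * v 0 a * g⁻¹) * (t a)⁻¹) = _
      rw [k2]
    have k6 : p (g * v p₀ 1 * g⁻¹) = p (g * v 0 1 * g⁻¹) := by
      rw [← e0, ← e0, h.p_v, one_smul]
    rw [k6] at k4
    calc tT τ a' • p (g * v 0 1 * g⁻¹) = (a : F)⁻¹ • (a • (tT τ a' • p (g * v 0 1 * g⁻¹))) := by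
          rw [smul_smul (a : F)⁻¹, inv_mul_cancel₀ ha, one_smul]
      _ = (a : F)⁻¹ • p (g * v 0 1 * g⁻¹) := by rw [k4]
  obtain ⟨γ, hγ⟩ := eig_inv E hperp (a := a') ha1 hact
  apply hV
  rintro _ ⟨x, hx, rfl⟩
  obtain ⟨β, δ, rfl⟩ := (c.mem_V x).1 hx
  change g * v β δ * g⁻¹ ∈ V
  rw [← h.fr.p_mem_iff (hgW β δ) (b.R_le i), ← e0, h.p_v, h.lin_cen (g := g') hg, e0, hγ, smul_smul]
  exact h.mem_V.2 ⟨_, rfl⟩

/-- the conclusion of `scal_of_line` for all lines `V ^ g` on `R i` normalised by `t a`, commuting with `V` -/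
def LineHyp (V : Subgroup G) (R : ι → Subgroup G) (i : ι) (v : F → F → G) (t : F → G) : Prop :=
  ∀ a : F, a ≠ 0 → a ≠ 1 → ∀ g ∈ centralizer (R i : Set G), ¬ cj g V ≤ V →
    (∀ x ∈ V, ∀ y ∈ V, g * x * g⁻¹ * y = y * (g * x * g⁻¹)) → t a ∈ normalizer (cj g V : Set G) →
    g⁻¹ * t a * g * (t a)⁻¹ ∈ normalizer (V : Set G) ∧
      (∀ x ∈ R i, g⁻¹ * t a * g * (t a)⁻¹ * x = x * (g⁻¹ * t a * g * (t a)⁻¹)) ∧
      ∃ p₀ s₀ : F, (g⁻¹ * t a * g * (t a)⁻¹) * v 0 1 * (g⁻¹ * t a * g * (t a)⁻¹)⁻¹ = v p₀ s₀ ∧ s₀ ≠ 1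

theorem lineHyp_of_btc [Finite G] [Finite F] [CharP F 2] (b : BTC V R) (c : Coord V R i j v w1 w2)
    (τ : TorD V R i j v t) (hC : centralizer (WW V (R i) : Set G) ≤ R i) : LineHyp V R i v t :=
  fun _ ha ha1 _ hg hV hc hT => scal_of_line b c τ hC ha ha1 hg hV hc hT

/-- **A moved node, not of type `(γ)`, has an element acting nontrivially on `V / R i`** (`BT`).
`L ≤ P ∩ C(R i)` normalised by `B` with `P = L B`. -/
theorem exists_scal_node' [Finite G] [Finite F] [CharP F 2] (b : BT V R)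
    (τ : TorD V R i j v t) (hF : ∃ a : F, a ≠ 0 ∧ a ≠ 1) (hl : LineHyp V R i v t)
    (D : Dat V R i B U) (hBP : B ≤ P) (hU : IsPGroup 2 U) (hptr : Hall.HallData.PTr B U P)
    (hmov : ¬ P ≤ normalizer (V : Set G))
    (hgam : ∀ p ∈ P, ∀ x ∈ V, ∀ y ∈ V, p * x * p⁻¹ * y = y * (p * x * p⁻¹))
    {L : Subgroup G} (hLP : L ≤ P) (hLR : L ≤ centralizer (R i : Set G)) (hBL : B ≤ normalizer (L : Set G))
    (hPL : P ≤ L ⊔ B) :
    ∃ h ∈ L, h ∈ B ∧ (∀ x ∈ R i, h * x = x * h) ∧ ∃ p₀ s₀ : F, h * v 0 1 * h⁻¹ = v p₀ s₀ ∧ s₀ ≠ 1 := by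
  obtain ⟨a, ha, ha1, r, hr, hr2, har⟩ := exists_prime_unit hF
  have htB : t a ∈ B := t_mem_B b D τ ha
  have htr : t a ^ r = 1 := by rw [t_pow τ ha, har, τ.one]
  have hne : ∃ x ∈ P, x ∉ B := by
    by_contra hcon
    push Not at hcon
    exact hmov fun x hx => D.BV (hcon x hx)
  obtain ⟨x, hx, hxB, hxt⟩ := exists_fixed_chamber hBP D.UB hU hptr hne htB hr hr2 htr
  -- `x = g z`
  have hx' : x ∈ ((L ⊔ B : Subgroup G) : Set G) := hPL hx
  rw [coe_mul_of_right_le_normalizer_left _ _ hBL] at hx'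
  obtain ⟨g, hgL, z, hz, e⟩ := hx'
  have hgB : g ∉ B := fun h => hxB (by rw [← e]; exact mul_mem h hz)
  have hPN : P ⊓ normalizer (V : Set G) ≤ B :=
    le_of_ptr D.UB hptr (le_inf hBP D.BV) inf_le_left fun h => hmov (h.trans inf_le_right)
  have htg : g⁻¹ * t a * g ∈ B := by
    have h1 := mul_mem (mul_mem hz hxt) (inv_mem hz)
    have e2 : z * (x⁻¹ * t a * x) * z⁻¹ = g⁻¹ * t a * g := by rw [← e]; group
    rwa [e2] at h1
  have hgV : ¬ cj g V ≤ V := by
    intro h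
    have h1 : cj g V = V := by
      apply SetLike.coe_injective
      apply Set.eq_of_subset_of_ncard_le h
      · rw [← Nat.card_coe_set_eq, ← Nat.card_coe_set_eq]
        exact (Nat.card_congr (equivMapOfInjective V _ (MulEquiv.injective (MulAut.conj g))).toEquiv).le
    exact hgB (hPN (mem_inf.2 ⟨hLP hgL, cj_eq_self_iff.1 h1⟩))
  have hT : t a ∈ normalizer (cj g V : Set G) := by
    rw [← mem_norm_iff]
    exact D.BV htg
  obtain ⟨h1, h2, h3⟩ := hl a ha ha1 g (hLR hgL) hgV (hgam g (hLP hgL)) hT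
  have hhL : g⁻¹ * t a * g * (t a)⁻¹ ∈ L := by
    have e3 : g⁻¹ * t a * g * (t a)⁻¹ = g⁻¹ * (t a * g * (t a)⁻¹) := by group
    rw [e3]
    exact mul_mem (inv_mem hgL) (BTwo.conj_mem_of_normalizer (hBL htB) hgL)
  exact ⟨_, hhL, hPN (mem_inf.2 ⟨hLP hhL, h1⟩), h2, h3⟩

/-- **`SepG` for a node `P'` on which `L ∩ B` acts trivially** (`BT`). -/
theorem sepG_node' [Finite G] [Finite F] [CharP F 2] (b : BT V R) (c : Coord V R i j v w1 w2)
    (τ : TorD V R i j v t) (hF : ∃ a : F, a ≠ 0 ∧ a ≠ 1) (hl : LineHyp V R i v t)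
    (D : Dat V R i B U) (hBP : B ≤ P) (hU : IsPGroup 2 U) (norm : B ≤ normalizer (U : Set G))
    (index : Nat.Coprime 2 (U.relIndex B)) (hptr : Hall.HallData.PTr B U P)
    (hmov : ¬ P ≤ normalizer (V : Set G))
    (hgam : ∀ p ∈ P, ∀ x ∈ V, ∀ y ∈ V, p * x * p⁻¹ * y = y * (p * x * p⁻¹))
    {L : Subgroup G} (hLP : L ≤ P) (hLR : L ≤ centralizer (R i : Set G)) (hBL : B ≤ normalizer (L : Set G))
    (hPL : P ≤ L ⊔ B) {P' : Subgroup G} (hBP' : B ≤ P') (hL' : L ⊓ B ≤ Qk B P') : SepG 2 B U P' (P0 V R B) := by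
  obtain ⟨h, hL, hB, hR, p₀, s₀, hv, hs⟩ :=
    exists_scal_node' b τ hF hl D hBP hU hptr hmov hgam hLP hLR hBL hPL
  have hodd : Odd (U.relIndex B) := (Nat.coprime_two_left).1 index
  refine sepG_scal b D c hU hBP' hB hR hv hs hodd (Hall.pow_relIndex_mem norm hB) ?_
  intro u hu
  have h1 := hL' (mem_inf.2 ⟨hL, hB⟩)
  have e : h * u * h⁻¹ * u⁻¹ = h * (u * h⁻¹ * u⁻¹) := by group
  rw [e]
  exact mul_mem h1 (Qk_conj' (inv_mem h1) (hBP' (D.UB hu)))

/-- **`SepG` for a node `P'` on which `L ∩ B` acts trivially.** -/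
theorem sepG_node [Finite G] [Finite F] [CharP F 2] (b : BTC V R) (c : Coord V R i j v w1 w2)
    (τ : TorD V R i j v t) (hF : ∃ a : F, a ≠ 0 ∧ a ≠ 1) (hC : centralizer (WW V (R i) : Set G) ≤ R i)
    (D : Dat V R i B U) (hBP : B ≤ P) (hU : IsPGroup 2 U) (norm : B ≤ normalizer (U : Set G))
    (index : Nat.Coprime 2 (U.relIndex B)) (hptr : Hall.HallData.PTr B U P)
    (hmov : ¬ P ≤ normalizer (V : Set G))
    (hgam : ∀ p ∈ P, ∀ x ∈ V, ∀ y ∈ V, p * x * p⁻¹ * y = y * (p * x * p⁻¹))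
    {L : Subgroup G} (hLP : L ≤ P) (hLR : L ≤ centralizer (R i : Set G)) (hBL : B ≤ normalizer (L : Set G))
    (hPL : P ≤ L ⊔ B) {P' : Subgroup G} (hBP' : B ≤ P') (hL' : L ⊓ B ≤ Qk B P') : SepG 2 B U P' (P0 V R B) :=
  sepG_node' b.toBT c τ hF (lineHyp_of_btc b c τ hC) D hBP hU norm index hptr hmov hgam hLP hLR hBL hPL hBP' hL'

end Cfsg.Agent.Omega.Lie.Zero

end

section


/-!
# Torus elements over a root group datum of characteristic 2 (END of NODE LIE, (k5), (k6))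

`R : RGD cs h 2 T n X`, `T` abelian, the nodes of type `TrNode` (the elements of the rank one torus inverted by `n i` are
transitive on `X_i \ 1`, `|X_i| ≥ 4`, `X_i` of exponent 2).

* `exists_fpf` : (k5);
* `nd` : `k`, `j` adjacent, not of type `G₂` : the rank one torus of `k` does not centralise `X_j`;
* `exists_sep` : (k6) in rank at least three.
-/

set_option autoImplicit false
set_option linter.unusedSectionVars false

namespace Cfsg.Agent.Omega.Lie.End.KTorus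

open CoxeterSystem Cfsg.Agent.ChevalleyStructure.CoxeterGeom Cfsg.Agent.Tits.Roots Cfsg.Agent.Tits.Core
  Cfsg.Agent.Tits.RootComb Cfsg.Agent.Nodes.Comb Cfsg.Agent.Nodes.Reps Cfsg.Agent.Nodes.BNOf Cfsg.Agent.Nodes.BNOf.RGD
  Cfsg.Agent.Nodes.FreeTorus
open scoped commutatorElement

variable {I W Y : Type*} [Fintype I] [DecidableEq I] [Group W] [Group Y] {M : CoxeterMatrix I}

/-- The elements of the rank one torus of the node `i` which are inverted by `n i`. -/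
def TI (T : Subgroup Y) (n : I → Y) (X : (I → ℤ) → Subgroup Y) (i : I) : Set Y :=
  {t | t ∈ T ∧ t ∈ LL X (sr i) ∧ n i * t * (n i)⁻¹ = t⁻¹}

/-- `t` centralises `X_i`. -/
def Ct (X : (I → ℤ) → Subgroup Y) (t : Y) (i : I) : Prop := ∀ x ∈ X (sr i), t * x * t⁻¹ = x

/-- A node over a field with at least four elements (coordinate free). -/
structure TrNode (T : Subgroup Y) (n : I → Y) (X : (I → ℤ) → Subgroup Y) (i : I) : Prop where
  two : ∃ x ∈ X (sr i), ∃ y ∈ X (sr i), x ≠ 1 ∧ y ≠ 1 ∧ x ≠ y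
  sq : ∀ x ∈ X (sr i), x * x = 1
  tr : ∀ x ∈ X (sr i), ∀ y ∈ X (sr i), x ≠ 1 → y ≠ 1 → ∃ t ∈ TI T n X i, t * x * t⁻¹ = y

/-! ### Elementary facts -/

section Elem

variable {T : Subgroup Y} {n : I → Y} {X : (I → ℤ) → Subgroup Y}

theorem TI.inv_conj {i : I} {t : Y} (ht : t ∈ TI T n X i) : (n i)⁻¹ * t * n i = t⁻¹ := by
  have h1 := ht.2.2
  have h2 : t = (n i)⁻¹ * t⁻¹ * n i := by
    rw [← h1]; group
  have h3 : (n i)⁻¹ * t * n i = ((n i)⁻¹ * t⁻¹ * n i)⁻¹ := by group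
  rw [h3, ← h2]

theorem Ct.inv {t : Y} {i : I} (ht : Ct X t i) : Ct X t⁻¹ i := by
  intro x hx
  have h2 : t * x = x * t := mul_inv_eq_iff_eq_mul.1 (ht x hx)
  rw [inv_inv, mul_assoc, ← h2, inv_mul_cancel_left]

theorem Ct.mul {s t : Y} {i : I} (hs : Ct X s i) (ht : Ct X t i) : Ct X (s * t) i := by
  intro x hx
  have h1 : s * t * x * (s * t)⁻¹ = s * (t * x * t⁻¹) * s⁻¹ := by group
  rw [h1, ht x hx, hs x hx]

theorem Ct.comm {t : Y} {i : I} (ht : Ct X t i) {x : Y} (hx : x ∈ X (sr i)) : t * x = x * t := by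
  have h1 := ht x hx
  rw [mul_inv_eq_iff_eq_mul] at h1
  exact h1

end Elem

variable {cs : CoxeterSystem M W} {A : I → I → ℤ} {h : IsCartan M A} {T : Subgroup Y} {n : I → Y}
  {X : (I → ℤ) → Subgroup Y} [Finite W]

section Node

variable (R : RGD cs h 2 T n X) (hTc : ∀ s ∈ T, ∀ t ∈ T, s * t = t * s)

include R hTc

theorem conj_mem_X {t : Y} (ht : t ∈ T) {i : I} {x : Y} (hx : x ∈ X (sr i)) : t * x * t⁻¹ ∈ X (sr i) := by
  have h1 := R.tor _ (isRoot_sr cs h i) t ht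
  rw [← h1]
  exact conj_mem_cj.2 hx

/-- An element of `T` which fixes a nontrivial element of `X_i` centralises `X_i`. -/
theorem ct_of_fix {i : I} (hN : TrNode T n X i) {t y : Y} (ht : t ∈ T) (hy : y ∈ X (sr i)) (hy1 : y ≠ 1)
    (e : t * y * t⁻¹ = y) : Ct X t i := by
  intro x hx
  by_cases hx1 : x = 1
  · rw [hx1]; group
  obtain ⟨s, hs, rfl⟩ := hN.tr y hy x hx hy1 hx1
  have h1 := hTc t ht s hs.1
  have h2 : t * (s * y * s⁻¹) * t⁻¹ = (t * s) * y * (t * s)⁻¹ := by group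
  have h3 : (s * t) * y * (s * t)⁻¹ = s * (t * y * t⁻¹) * s⁻¹ := by group
  rw [h2, h1, h3, e]

theorem fpf_or_ct {i : I} (hN : TrNode T n X i) {t : Y} (ht : t ∈ T) :
    Ct X t i ∨ ∀ x ∈ X (sr i), t * x * t⁻¹ = x → x = 1 := by
  by_cases hc : Ct X t i
  · exact Or.inl hc
  · refine Or.inr fun x hx e => ?_
    by_contra hx1
    exact hc (ct_of_fix R hTc hN ht hx hx1 e)

/-- An element of `T` which centralises `X_i` commutes with `n i`. -/
theorem comm_n {i : I} {t : Y} (ht : t ∈ T) (hc : Ct X t i) : t * n i = n i * t := by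
  obtain ⟨u, hu, hu1⟩ := ((X (-sr i)).bot_or_exists_ne_one).resolve_left (Nodes.Bruhat.X_ne_bot R (isRoot_sr cs h i).neg)
  obtain ⟨a, ha, s, hs, b, hb, e⟩ := R.rk1 i u hu hu1
  have hn : (n i)⁻¹ * t * n i ∈ T := by
    have h1 := R.nsys.norm i
    rw [Subgroup.mem_normalizer_iff''] at h1
    exact (h1 t).1 ht
  set! τ : Y := (n i)⁻¹ * (s⁻¹ * t * s) * n i * t⁻¹ with hτ
  have hst : s⁻¹ * t * s = t := by
    rw [mul_assoc, hTc t ht s hs]; group
  have hτT : τ ∈ T := by rw [hτ, hst]; exact mul_mem hn (inv_mem ht)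
  have h1 : t * u * t⁻¹ ∈ X (-sr i) := by
    have h1 := R.tor _ (isRoot_sr cs h i).neg t ht
    rw [← h1]
    exact conj_mem_cj.2 hu
  have h2 : t * u * t⁻¹ = u * (b⁻¹ * τ * b) := by
    have e1 : t * a * t⁻¹ = a := hc a ha
    have e2 : t * b * t⁻¹ = b := hc b hb
    have e3 : t * u * t⁻¹ = (t * a * t⁻¹) * (t * s * n i * t⁻¹) * (t * b * t⁻¹) := by rw [e]; group
    rw [e3, e1, e2, e, hτ]
    group
  have h3 : b⁻¹ * τ * b ∈ B cs h T X := by
    have hbB : b ∈ B cs h T X := X_le_B (isRoot_sr cs h i) (sr_nonneg i) hb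
    exact mul_mem (mul_mem (inv_mem hbB) (T_le_B hτT)) hbB
  have h4 : b⁻¹ * τ * b = u⁻¹ * (t * u * t⁻¹) := by rw [h2]; group
  have h5 : b⁻¹ * τ * b = 1 := by
    refine ParSys.Fam.neg_inf_B R i _ ?_ h3
    rw [h4]
    exact mul_mem (inv_mem hu) h1
  have h6 : τ = 1 := by
    have : τ = b * (b⁻¹ * τ * b) * b⁻¹ := by group
    rw [this, h5]; group
  rw [hτ, hst] at h6
  have h7 : (n i)⁻¹ * t * n i = t := mul_inv_eq_one.1 h6
  calc t * n i = n i * ((n i)⁻¹ * t * n i) := by group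
    _ = n i * t := by rw [h7]

/-- Every element of `T` acts on `X_i` as an element of the rank one torus. -/
theorem exists_same {i : I} (hN : TrNode T n X i) {t : Y} (ht : t ∈ T) : ∃ s ∈ TI T n X i, Ct X (t * s⁻¹) i := by
  obtain ⟨x, hx, -, -, hx1, -, -⟩ := hN.two
  have h1 : t * x * t⁻¹ ≠ 1 := by
    intro h0
    apply hx1
    have : x = t⁻¹ * (t * x * t⁻¹) * t := by group
    rw [this, h0]; group
  obtain ⟨s, hs, e⟩ := hN.tr x hx _ (conj_mem_X R hTc ht hx) hx1 h1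
  refine ⟨s, hs, ?_⟩
  have hsi : s⁻¹ ∈ T := inv_mem hs.1
  rw [hTc t ht _ hsi]
  refine ct_of_fix R hTc hN (mul_mem hsi ht) hx hx1 ?_
  have e1 : s⁻¹ * t * x * (s⁻¹ * t)⁻¹ = s⁻¹ * (t * x * t⁻¹) * s := by group
  rw [e1, ← e]
  group

/-- **(k5)** -/
theorem exists_fpf {i : I} (hN : TrNode T n X i) : ∃ s ∈ TI T n X i, ∀ x ∈ X (sr i), s * x * s⁻¹ = x → x = 1 := by
  obtain ⟨x, hx, y, hy, hx1, hy1, hxy⟩ := hN.two
  obtain ⟨s, hs, e⟩ := hN.tr x hx y hy hx1 hy1
  refine ⟨s, hs, (fpf_or_ct R hTc hN hs.1).resolve_left fun hc => ?_⟩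
  have := hc x hx
  rw [e] at this
  exact hxy this.symm

theorem ct_of_sq {i : I} {s : Y} (hs : s ∈ T) (hc : Ct X (s * s) i) : Ct X s i := by
  have h1 := R.tcop
  have h2 : Odd (Nat.card T) := by
    exact Nat.coprime_two_right.1 h1
  obtain ⟨m, hm⟩ := h2
  have h3 : s ^ Nat.card T = 1 := by
    have h4 : (⟨s, hs⟩ : T) ^ Nat.card T = 1 := pow_card_eq_one'
    exact congrArg Subtype.val h4
  have hpow : ∀ q : ℕ, Ct X ((s * s) ^ q) i := by
    intro q
    induction q with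
    | zero => intro x _; rw [pow_zero]; group
    | succ q ih => rw [pow_succ]; exact ih.mul hc
  have h4 : s = (s * s) ^ (m + 1) := by
    have h5 : s ^ (2 * m + 2) = s := by
      rw [pow_succ, ← hm, h3, one_mul]
    rw [← pow_two, ← pow_mul]
    have : 2 * (m + 1) = 2 * m + 2 := by ring
    rw [this, h5]
  rw [h4]
  exact hpow _

end Node

/-! ### Roots -/

section Roots

variable (cs h)

theorem rep_sr_sr (i j : I) : rep cs h (cs.simple i) (sr j) = sr j - A i j • sr i := by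
  rw [rep_simple_eq]
  congr 2
  show pairing A i (Pi.single j 1) = _
  rw [pairing_single, mul_one]

/-- The positive roots supported on `{i, j}`. -/
theorem mem_of_supp {i j : I} (S : Set (I → ℤ)) (hi : sr i ∈ S) (hj : sr j ∈ S) (h0 : ∀ x ∈ S, 0 ≤ x)
    (hS : ∀ x ∈ S, ∀ m, (m = i ∨ m = j) → rep cs h (cs.simple m) x ∈ S ∨ -rep cs h (cs.simple m) x ∈ S) (N : ℕ) :
    ∀ x : I → ℤ, IsRoot cs h x → Supp i j x → 0 ≤ x → ht x ≤ N → x ∈ S := by
  have : Fintype W := Fintype.ofFinite W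
  induction N with
  | zero =>
    intro x hx _ h0 hn
    exfalso
    apply hx.ne_zero
    have h1 : ∑ k, x k = 0 := le_antisymm hn (Finset.sum_nonneg fun k _ => h0 k)
    funext k
    exact (Finset.sum_eq_zero_iff_of_nonneg (fun k _ => h0 k)).1 h1 k (Finset.mem_univ k)
  | succ N ih =>
    intro x hx hs hx0 hn
    obtain ⟨m, hm, hm'⟩ := exists_pairing_pos cs h hx0 hx.ne_zero
    have hmij : m = i ∨ m = j := by
      by_contra hcon
      rw [not_or] at hcon
      rw [hs m hcon.1 hcon.2] at hm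
      exact lt_irrefl _ hm
    by_cases hxm : x = sr m
    · rcases hmij with rfl | rfl
      · rw [hxm]; exact hi
      · rw [hxm]; exact hj
    have hmem : cs.simple m ∈ WJ cs {i, j} := Subgroup.subset_closure ⟨m, hmij, rfl⟩
    have h1 := ih (rep cs h (cs.simple m) x) (hx.act _) (supp_rep cs h hmem hs)
      (hx.simple_nonneg hx0 m hxm) (by rw [ht_simple]; push_cast at hn ⊢; linarith)
    have h2 : rep cs h (cs.simple m) (rep cs h (cs.simple m) x) = x := by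
      rw [← rep_mul_apply, simple_mul_simple_self, map_one, Module.End.one_apply]
    have h3 := hS _ h1 m hmij
    rw [h2] at h3
    rcases h3 with h3 | h3
    · exact h3
    · exact absurd (neg_nonneg.1 (h0 _ h3)) (hx.not_pos_neg hx0)

theorem mem_of_supp' {i j : I} (S : Set (I → ℤ)) (hi : sr i ∈ S) (hj : sr j ∈ S) (h0 : ∀ x ∈ S, 0 ≤ x)
    (hS : ∀ x ∈ S, ∀ m, (m = i ∨ m = j) → rep cs h (cs.simple m) x ∈ S ∨ -rep cs h (cs.simple m) x ∈ S)
    {x : I → ℤ} (hx : IsRoot cs h x) (hs : Supp i j x) (hx0 : 0 ≤ x) : x ∈ S :=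
  mem_of_supp cs h S hi hj h0 hS (ht x).toNat x hx hs hx0 (Int.self_le_toNat _)

/-- The positive roots in the plane of two orthogonal simple roots. -/
theorem roots_orth {i j : I} (hij : i ≠ j) (h2 : M i j = 2) {x : I → ℤ} (hx : IsRoot cs h x) (hs : Supp i j x)
    (hx0 : 0 ≤ x) : x = sr i ∨ x = sr j := by
  have hA : A i j = 0 := cartan_zero h hij h2
  have hA' : A j i = 0 := cartan_zero h hij.symm (by rw [M.symmetric]; exact h2)
  refine mem_of_supp' cs h {y | y = sr i ∨ y = sr j} (Or.inl rfl) (Or.inr rfl) ?_ ?_ hx hs hx0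
  · rintro y (rfl | rfl)
    · exact sr_nonneg i
    · exact sr_nonneg j
  · rintro y (rfl | rfl) m (rfl | rfl)
    · right; left; rw [rep_simple_sr, neg_neg]
    · left; left; rw [rep_sr_sr, hA', zero_smul, sub_zero]
    · left; right; rw [rep_sr_sr, hA, zero_smul, sub_zero]
    · right; right; rw [rep_simple_sr, neg_neg]

/-- The positive roots in a `C₂`-plane, `j` long, `k` short. -/
theorem roots_C2 {j k : I} (hjk : A j k = -1) (hkj : A k j = -2) {x : I → ℤ}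
    (hx : IsRoot cs h x) (hs : Supp j k x) (hx0 : 0 ≤ x) :
    x = sr j ∨ x = sr k ∨ x = sr j + sr k ∨ x = sr j + (2 : ℤ) • sr k := by
  have ejj := rep_simple_sr cs h j
  have ekk := rep_simple_sr cs h k
  have ejk : rep cs h (cs.simple j) (sr k) = sr j + sr k := by rw [rep_sr_sr, hjk]; module
  have ekj : rep cs h (cs.simple k) (sr j) = sr j + (2 : ℤ) • sr k := by rw [rep_sr_sr, hkj]; module
  refine mem_of_supp' cs h {y | y = sr j ∨ y = sr k ∨ y = sr j + sr k ∨ y = sr j + (2 : ℤ) • sr k} (Or.inl rfl)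
    (Or.inr (Or.inl rfl)) ?_ ?_ hx hs hx0
  · have h2 : (0 : I → ℤ) ≤ (2 : ℤ) • sr k := smul_nonneg (by norm_num) (sr_nonneg k)
    rintro y (rfl | rfl | rfl | rfl)
    · exact sr_nonneg j
    · exact sr_nonneg k
    · exact add_nonneg (sr_nonneg j) (sr_nonneg k)
    · exact add_nonneg (sr_nonneg j) h2
  · rintro y (rfl | rfl | rfl | rfl) m (rfl | rfl)
    · right; left; rw [ejj, neg_neg]
    · left; right; right; right; exact ekj
    · left; right; right; left; exact ejk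
    · right; right; left; rw [ekk, neg_neg]
    · left; right; left; rw [map_add, ejj, ejk]; module
    · left; right; right; left; rw [map_add, ekk, ekj]; module
    · left; right; right; right; rw [map_add, map_smul, ejj, ejk]; module
    · left; left; rw [map_add, map_smul, ekk, ekj]; module

include cs h in
/-- No triangles. -/
theorem no_triangle {i j k : I} (hij : i ≠ j) (hik : i ≠ k) (hjk : j ≠ k) (h1 : M i j ≠ 2) (h2 : M i k ≠ 2)
    (h3 : M j k ≠ 2) : False := by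
  have : Fintype W := Fintype.ofFinite W
  have a1 := cartan_neg h hij h1
  have a2 := cartan_neg h hik h2
  have a3 := cartan_neg h hjk h3
  have b1 := cartan_neg h hij.symm (by rw [M.symmetric]; exact h1)
  have b2 := cartan_neg h hik.symm (by rw [M.symmetric]; exact h2)
  have b3 := cartan_neg h hjk.symm (by rw [M.symmetric]; exact h3)
  have hp : ∀ l, pairing A l (sr i + sr j + sr k) = A l i + A l j + A l k := by
    intro l
    rw [pairing_add, pairing_add]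
    show pairing A l (Pi.single i 1) + pairing A l (Pi.single j 1) + pairing A l (Pi.single k 1) = _
    rw [pairing_single, pairing_single, pairing_single, mul_one, mul_one, mul_one]
  have hne : (sr i + sr j + sr k : I → ℤ) ≠ 0 := by
    intro h0
    have := congrFun h0 i
    simp only [Pi.add_apply, sr_self, sr_ne hij, sr_ne hik, Pi.zero_apply] at this
    exact absurd this (by norm_num)
  obtain ⟨l, hl, hl'⟩ := exists_pairing_pos cs h
    (add_nonneg (add_nonneg (sr_nonneg i) (sr_nonneg j)) (sr_nonneg k)) hne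
  rw [hp] at hl'
  by_cases e1 : l = i
  · subst e1; rw [h.diag] at hl'; omega
  by_cases e2 : l = j
  · subst e2; rw [h.diag] at hl'; omega
  by_cases e3 : l = k
  · subst e3; rw [h.diag] at hl'; omega
  rw [Pi.add_apply, Pi.add_apply, sr_ne e1, sr_ne e2, sr_ne e3] at hl
  exact absurd hl (by norm_num)

include cs h in
/-- A triple bond is isolated. -/
theorem no_six {i j k : I} (hij : i ≠ j) (hik : i ≠ k) (hjk : j ≠ k) (h1 : M k j = 6) (h2 : M i k ≠ 2) : False := by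
  have : Fintype W := Fintype.ofFinite W
  have hpa : ∀ l (a b c : ℤ), pairing A l (a • sr i + b • sr j + c • sr k) = A l i * a + A l j * b + A l k * c := by
    intro l a b c
    rw [pairing_add, pairing_add, pairing_smul, pairing_smul, pairing_smul]
    show a * pairing A l (Pi.single i 1) + b * pairing A l (Pi.single j 1) + c * pairing A l (Pi.single k 1) = _
    rw [pairing_single, pairing_single, pairing_single]
    ring
  have a2 := cartan_neg h hik h2
  have b2 := cartan_neg h hik.symm (by rw [M.symmetric]; exact h2)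
  have a1 := cartan_nonpos h hij
  have b1 := cartan_nonpos h hij.symm
  have h3 : (A k j = -1 ∧ A j k = -3) ∨ (A k j = -3 ∧ A j k = -1) := by
    have := h.rel k j hjk.symm
    omega
  have key : ∀ a b c : ℤ, 0 < a → 0 < b → 0 < c → A i i * a + A i j * b + A i k * c ≤ 0 →
      A j i * a + A j j * b + A j k * c ≤ 0 → A k i * a + A k j * b + A k k * c ≤ 0 → False := by
    intro a b c ha hb hc q1 q2 q3
    have hnn : (0 : I → ℤ) ≤ a • sr i + b • sr j + c • sr k :=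
      add_nonneg (add_nonneg (smul_nonneg ha.le (sr_nonneg i)) (smul_nonneg hb.le (sr_nonneg j)))
        (smul_nonneg hc.le (sr_nonneg k))
    have hne : (a • sr i + b • sr j + c • sr k : I → ℤ) ≠ 0 := by
      intro h0
      have := congrFun h0 i
      simp only [Pi.add_apply, Pi.smul_apply, sr_self, sr_ne hij, sr_ne hik, Pi.zero_apply, smul_eq_mul, mul_zero,
        mul_one, add_zero] at this
      omega
    obtain ⟨l, hl, hl'⟩ := exists_pairing_pos cs h hnn hne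
    rw [hpa] at hl'
    by_cases e1 : l = i
    · subst e1; omega
    by_cases e2 : l = j
    · subst e2; omega
    by_cases e3 : l = k
    · subst e3; omega
    rw [Pi.add_apply, Pi.add_apply, Pi.smul_apply, Pi.smul_apply, Pi.smul_apply, sr_ne e1, sr_ne e2, sr_ne e3] at hl
    exact absurd hl (by norm_num)
  have di := h.diag i
  have dj := h.diag j
  have dk := h.diag k
  rcases h3 with ⟨q1, q2⟩ | ⟨q1, q2⟩
  · exact key 1 3 2 (by norm_num) (by norm_num) (by norm_num) (by omega) (by omega) (by omega)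
  · exact key 1 1 2 (by norm_num) (by norm_num) (by norm_num) (by omega) (by omega) (by omega)

end Roots

/-! ### The rank one torus of a neighbour is not trivial on `X_j` -/

section ND

variable (R : RGD cs h 2 T n X) (hTc : ∀ s ∈ T, ∀ t ∈ T, s * t = t * s)

include R hTc

/-- Conjugating a centralising element. -/
theorem ct_conj {j k : I} {w : W} {g z : Y} (hg : Rp cs R.nsys w g) (hw : rep cs h w (sr j) = sr k)
    (hz : Ct X z j) : Ct X (g * z * g⁻¹) k := by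
  intro x hx
  have h1 : g⁻¹ * x * g ∈ X (sr j) := by
    have h2 := R.conj_mem' hg (isRoot_sr cs h k) hx
    rwa [← hw, rep_inv_apply] at h2
  have h3 := hz _ h1
  have e : g * z * g⁻¹ * x * (g * z * g⁻¹)⁻¹ = g * (z * (g⁻¹ * x * g) * z⁻¹) * g⁻¹ := by group
  rw [e, h3]
  group

/-- The case `m = 3`. -/
theorem nd3 {j k : I} (hNk : TrNode T n X k) (hjk : A j k = -1) (hkj : A k j = -1)
    (hc : ∀ s ∈ TI T n X k, Ct X s j) : False := by
  obtain ⟨s, hs, hf⟩ := exists_fpf R hTc hNk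
  have hg := (rp_simple cs R.nsys j).mul (rp_simple cs R.nsys k)
  have hw : rep cs h (cs.simple j * cs.simple k) (sr j) = sr k := by
    rw [rep_mul_apply, rep_sr_sr cs h k j, hkj, map_sub, map_smul, rep_simple_sr, rep_sr_sr cs h j k, hjk]
    module
  have hsi : s⁻¹ ∈ TI T n X k := by
    refine ⟨inv_mem hs.1, inv_mem hs.2.1, ?_⟩
    have h1 : n k * s⁻¹ * (n k)⁻¹ = (n k * s * (n k)⁻¹)⁻¹ := by group
    rw [h1, hs.2.2]
  have h1 := ct_conj R hTc hg hw (hc _ hsi)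
  have h2 : n j * n k * s⁻¹ * (n j * n k)⁻¹ = s := by
    have e1 : n j * n k * s⁻¹ * (n j * n k)⁻¹ = n j * (n k * s⁻¹ * (n k)⁻¹) * (n j)⁻¹ := by group
    rw [e1, hsi.2.2, inv_inv, ← comm_n R hTc hs.1 (hc s hs)]
    group
  rw [h2] at h1
  obtain ⟨x, hx, -, -, hx1, -, -⟩ := hNk.two
  exact hx1 (hf x hx (h1 x hx))

/-- `m = 4`: if the torus of `k` centralises `X_j`, then the torus of `j` centralises `X_k`. -/
theorem ct_symm {j k : I} (hNk : TrNode T n X k) (h2 : A j k * A k j = 2)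
    (hc : ∀ s ∈ TI T n X k, Ct X s j) : ∀ t ∈ TI T n X j, Ct X t k := by
  intro t ht
  obtain ⟨s, hs, hz⟩ := exists_same R hTc hNk ht.1
  have hsT := hs.1
  have htT := ht.1
  have hsi : s⁻¹ ∈ T := inv_mem hs.1
  have hzT : t * s⁻¹ ∈ T := mul_mem htT hsi
  have hzn : t * s⁻¹ * n k = n k * (t * s⁻¹) := comm_n R hTc hzT hz
  have hsn : s * n j = n j * s := comm_n R hTc hsT (hc s hs)
  have hts : t * s = s * t := hTc t htT s hsT
  have hg : Rp cs R.nsys ((cs.simple j)⁻¹ * cs.simple k * cs.simple j) ((n j)⁻¹ * n k * n j) :=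
    ((rp_simple cs R.nsys j).inv.mul (rp_simple cs R.nsys k)).mul (rp_simple cs R.nsys j)
  have hw : rep cs h ((cs.simple j)⁻¹ * cs.simple k * cs.simple j) (sr k) = sr k := by
    have e1 : rep cs h (cs.simple k) (rep cs h (cs.simple j) (sr k)) = rep cs h (cs.simple j) (sr k) := by
      rw [rep_sr_sr cs h j k, map_sub, map_smul, rep_simple_sr, rep_sr_sr cs h k j, smul_sub, smul_smul, h2]
      module
    rw [mul_assoc, rep_mul_apply, rep_mul_apply, e1, rep_inv_apply]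
  have h1 := ct_conj R hTc hg hw hz
  -- compute the conjugate
  have c1 : n j * t * (n j)⁻¹ = t⁻¹ := ht.2.2
  have c2 : n j * s⁻¹ * (n j)⁻¹ = s⁻¹ := by
    have : n j * s * (n j)⁻¹ = s := by rw [← hsn]; group
    have e : n j * s⁻¹ * (n j)⁻¹ = (n j * s * (n j)⁻¹)⁻¹ := by group
    rw [e, this]
  have c3 : n k * s * (n k)⁻¹ = s⁻¹ := hs.2.2
  have c4 : n k * (t * s⁻¹) * (n k)⁻¹ = t * s⁻¹ := by rw [← hzn]; group
  have c5 : (n j)⁻¹ * t * n j = t⁻¹ := TI.inv_conj ht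
  have c6 : (n j)⁻¹ * s * n j = s := by
    rw [mul_assoc, hsn]; group
  have hti : t⁻¹ * s⁻¹ = (t * s⁻¹)⁻¹ * (s⁻¹ * s⁻¹) := by
    have e1 := hTc t⁻¹ (inv_mem htT) s hsT
    have : (t * s⁻¹)⁻¹ * (s⁻¹ * s⁻¹) = (s * t⁻¹) * (s⁻¹ * s⁻¹) := by group
    rw [this, ← e1]
    group
  have d1 : n j * (t * s⁻¹) * (n j)⁻¹ = t⁻¹ * s⁻¹ := by
    have e : n j * (t * s⁻¹) * (n j)⁻¹ = (n j * t * (n j)⁻¹) * (n j * s⁻¹ * (n j)⁻¹) := by group
    rw [e, c1, c2]
  have d2 : n k * (t⁻¹ * s⁻¹) * (n k)⁻¹ = (t * s⁻¹)⁻¹ * (s * s) := by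
    have e : n k * ((t * s⁻¹)⁻¹ * (s⁻¹ * s⁻¹)) * (n k)⁻¹ =
        (n k * (t * s⁻¹) * (n k)⁻¹)⁻¹ * ((n k * s * (n k)⁻¹)⁻¹ * (n k * s * (n k)⁻¹)⁻¹) := by group
    rw [hti, e, c4, c3, inv_inv]
  have d3 : (n j)⁻¹ * ((t * s⁻¹)⁻¹ * (s * s)) * n j = s * t * (s * s) := by
    have e : (n j)⁻¹ * ((t * s⁻¹)⁻¹ * (s * s)) * n j =
        ((n j)⁻¹ * s * n j) * ((n j)⁻¹ * t * n j)⁻¹ * (((n j)⁻¹ * s * n j) * ((n j)⁻¹ * s * n j)) := by group
    rw [e, c5, c6, inv_inv]
  have d4 : (n j)⁻¹ * n k * n j * (t * s⁻¹) * ((n j)⁻¹ * n k * n j)⁻¹ = s * t * (s * s) := by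
    have e : (n j)⁻¹ * n k * n j * (t * s⁻¹) * ((n j)⁻¹ * n k * n j)⁻¹ =
        (n j)⁻¹ * (n k * (n j * (t * s⁻¹) * (n j)⁻¹) * (n k)⁻¹) * n j := by group
    rw [e, d1, d2, d3]
  rw [d4] at h1
  have h3 : Ct X ((t * s⁻¹)⁻¹ * (s * t * (s * s))) k := hz.inv.mul h1
  have e4 : (t * s⁻¹)⁻¹ * (s * t * (s * s)) = (s * s) * (s * s) := by
    have e1 : (t * s⁻¹)⁻¹ * (s * t * (s * s)) = s * (t⁻¹ * (s * t)) * (s * s) := by group
    rw [e1, ← hts]
    group
  rw [e4] at h3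
  have h4 := ct_of_sq R hTc hsT (ct_of_sq R hTc (mul_mem hsT hsT) h3)
  have h5 := hz.mul h4
  have e5 : t * s⁻¹ * s = t := by group
  rwa [e5] at h5

omit hTc in
/-- `X_{-k}` commutes with `X_j`. -/
theorem comm_neg {j k : I} (hjk : j ≠ k) {u v : Y} (hu : u ∈ X (-sr k)) (hv : v ∈ X (sr j)) : u * v = v * u := by
  refine KFacts.RgdSL.comm_of_not_btwn R (isRoot_sr cs h k).neg (isRoot_sr cs h j) ?_ ?_ ?_ hu hv
  · intro h0
    have := congrFun h0 k
    rw [Pi.neg_apply, sr_self, sr_ne hjk.symm] at this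
    exact absurd this (by norm_num)
  · intro h0
    have := congrFun h0 k
    rw [Pi.neg_apply, Pi.neg_apply, sr_self, sr_ne hjk.symm] at this
    exact absurd this (by norm_num)
  · rintro z ⟨hz, m, a, b, hm, ha, hb, he⟩
    have h1 := congrFun he k
    have h2 := congrFun he j
    simp only [Pi.smul_apply, Pi.add_apply, Pi.neg_apply, smul_eq_mul, sr_self, sr_ne hjk, sr_ne hjk.symm,
      mul_zero, mul_one, mul_neg, neg_zero, zero_add, add_zero] at h1 h2
    rcases hz.pos_or_neg with h0 | h0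
    · have := mul_nonneg hm.le (h0 k)
      linarith
    · have := mul_nonpos_of_nonneg_of_nonpos hm.le (h0 j)
      linarith

omit hTc in
/-- `X_k` commutes with `X_{s_k j}`. -/
theorem comm_refl {j k : I} (hjk : j ≠ k) {u v : Y} (hu : u ∈ X (sr k))
    (hv : v ∈ X (rep cs h (cs.simple k) (sr j))) : u * v = v * u := by
  have h1 : (n k)⁻¹ * u * n k ∈ X (-sr k) := by
    have := R.conj_mem' (rp_simple cs R.nsys k) (isRoot_sr cs h k) hu
    rwa [inv_simple, rep_simple_sr] at this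
  have h2 : (n k)⁻¹ * v * n k ∈ X (sr j) := by
    have := R.conj_mem' (rp_simple cs R.nsys k) ((isRoot_sr cs h j).act _) hv
    rwa [rep_inv_apply] at this
  have h3 := comm_neg R hjk h1 h2
  calc u * v = n k * (((n k)⁻¹ * u * n k) * ((n k)⁻¹ * v * n k)) * (n k)⁻¹ := by group
    _ = n k * (((n k)⁻¹ * v * n k) * ((n k)⁻¹ * u * n k)) * (n k)⁻¹ := by rw [h3]
    _ = v * u := by group

omit hTc R in
/-- In an elementary abelian finite group on which `t` is fixed-point-free every element is of the form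
`u (t u t⁻¹)⁻¹`. -/
theorem exists_diff [Finite Y] {i : I} {t : Y} (hconj : ∀ x ∈ X (sr i), t * x * t⁻¹ ∈ X (sr i))
    (hsq : ∀ x ∈ X (sr i), x * x = 1) (hf : ∀ x ∈ X (sr i), t * x * t⁻¹ = x → x = 1) :
    ∀ u ∈ X (sr i), ∃ v ∈ X (sr i), u = v * (t * v * t⁻¹)⁻¹ := by
  have hinv : ∀ x ∈ X (sr i), x⁻¹ = x := fun x hx => inv_eq_of_mul_eq_one_left (hsq x hx)
  have hcom : ∀ x ∈ X (sr i), ∀ y ∈ X (sr i), x * y = y * x := by
    intro x hx y hy
    have h1 := hinv _ (mul_mem hx hy)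
    rw [mul_inv_rev, hinv x hx, hinv y hy] at h1
    exact h1.symm
  let φ : X (sr i) → X (sr i) := fun v => ⟨v.1 * (t * v.1 * t⁻¹)⁻¹, mul_mem v.2 (inv_mem (hconj _ v.2))⟩
  have hinj : Function.Injective φ := by
    rintro ⟨v, hv⟩ ⟨w, hw⟩ e
    have e1 : v * (t * v * t⁻¹)⁻¹ = w * (t * w * t⁻¹)⁻¹ := congrArg Subtype.val e
    have h1 := hf (w⁻¹ * v) (mul_mem (inv_mem hw) hv) (by
      have e2 : w⁻¹ * v = (t * w * t⁻¹)⁻¹ * (t * v * t⁻¹) := by
        have : w⁻¹ * (v * (t * v * t⁻¹)⁻¹) * (t * v * t⁻¹) = w⁻¹ * (w * (t * w * t⁻¹)⁻¹) * (t * v * t⁻¹) := by rw [e1]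
        calc w⁻¹ * v = w⁻¹ * (v * (t * v * t⁻¹)⁻¹) * (t * v * t⁻¹) := by group
          _ = w⁻¹ * (w * (t * w * t⁻¹)⁻¹) * (t * v * t⁻¹) := this
          _ = (t * w * t⁻¹)⁻¹ * (t * v * t⁻¹) := by group
      have e3 : t * (w⁻¹ * v) * t⁻¹ = (t * w * t⁻¹)⁻¹ * (t * v * t⁻¹) := by group
      rw [e3]
      exact e2.symm)
    apply Subtype.ext
    exact (inv_mul_eq_one.1 h1).symm
  have hsurj := Finite.surjective_of_injective hinj
  intro u hu
  obtain ⟨⟨v, hv⟩, e⟩ := hsurj ⟨u, hu⟩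
  exact ⟨v, hv, (congrArg Subtype.val e).symm⟩

/-- The case of two tori centralising each other, `j` long, `k` short. -/
theorem nd4_both [Finite Y] {j k : I} (hjk0 : j ≠ k) (hNk : TrNode T n X k) (hNj : TrNode T n X j)
    (hjk : A j k = -1) (hkj : A k j = -2)
    (hc : ∀ s ∈ TI T n X k, Ct X s j) (hc' : ∀ t ∈ TI T n X j, Ct X t k) : False := by
  have ejj := rep_simple_sr cs h j
  have ekk := rep_simple_sr cs h k
  have ejk : rep cs h (cs.simple j) (sr k) = sr j + sr k := by rw [rep_sr_sr, hjk]; module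
  have ekj : rep cs h (cs.simple k) (sr j) = sr j + (2 : ℤ) • sr k := by rw [rep_sr_sr, hkj]; module
  have hk' : IsRoot cs h (sr j + sr k) := by rw [← ejk]; exact (isRoot_sr cs h k).act _
  have hj' : IsRoot cs h (sr j + (2 : ℤ) • sr k) := by rw [← ekj]; exact (isRoot_sr cs h j).act _
  obtain ⟨s0, hs0, hf⟩ := exists_fpf R hTc hNk
  obtain ⟨t0, ht0, hf'⟩ := exists_fpf R hTc hNj
  have hs0n : s0 * n j = n j * s0 := comm_n R hTc hs0.1 (hc s0 hs0)
  have ht0n : t0 * n k = n k * t0 := comm_n R hTc ht0.1 (hc' t0 ht0)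
  have hnj := rp_simple cs R.nsys j
  have hnk := rp_simple cs R.nsys k
  -- conjugates
  have hdj : ∀ x ∈ X (sr j + sr k), (n j)⁻¹ * x * n j ∈ X (sr k) := by
    intro x hx
    rw [← ejk] at hx
    have := R.conj_mem' hnj ((isRoot_sr cs h k).act _) hx
    rwa [rep_inv_apply] at this
  have hdk : ∀ x ∈ X (sr j + (2 : ℤ) • sr k), (n k)⁻¹ * x * n k ∈ X (sr j) := by
    intro x hx
    rw [← ekj] at hx
    have := R.conj_mem' hnk ((isRoot_sr cs h j).act _) hx
    rwa [rep_inv_apply] at this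
  -- `X_{k'}`, `X_{j'}` commute
  have c0 : ∀ a ∈ X (sr j + sr k), ∀ b ∈ X (sr j + (2 : ℤ) • sr k), a * b = b * a := by
    intro a ha b hb
    have e1 : rep cs h (cs.simple j)⁻¹ (sr j + (2 : ℤ) • sr k) = rep cs h (cs.simple k) (sr j) := by
      rw [inv_simple, ekj, map_add, map_smul, ejj, ejk]
      module
    have h2 : (n j)⁻¹ * b * n j ∈ X (rep cs h (cs.simple k) (sr j)) := by
      have := R.conj_mem' hnj hj' hb
      rwa [e1] at this
    have h3 := comm_refl R hjk0 (hdj a ha) h2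
    calc a * b = n j * (((n j)⁻¹ * a * n j) * ((n j)⁻¹ * b * n j)) * (n j)⁻¹ := by group
      _ = n j * (((n j)⁻¹ * b * n j) * ((n j)⁻¹ * a * n j)) * (n j)⁻¹ := by rw [h3]
      _ = b * a := by group
  -- `X_j` commutes with `X_{k'}`, `X_k` with `X_{j'}`
  have c1 : ∀ u ∈ X (sr j), ∀ a ∈ X (sr j + sr k), u * a = a * u := by
    intro u hu a ha
    rw [← ejk] at ha
    exact comm_refl R hjk0.symm hu ha
  have c2 : ∀ x ∈ X (sr k), ∀ b ∈ X (sr j + (2 : ℤ) • sr k), x * b = b * x := by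
    intro x hx b hb
    rw [← ekj] at hb
    exact comm_refl R hjk0 hx hb
  -- the tori
  have t1 : ∀ x ∈ X (sr j + sr k), s0 * x * s0⁻¹ = x → x = 1 := by
    intro x hx e
    have h1 := hf _ (hdj x hx) (by
      have e1 : s0 * ((n j)⁻¹ * x * n j) * s0⁻¹ = (n j * s0⁻¹)⁻¹ * x * (n j * s0⁻¹) := by group
      have e2 : n j * s0⁻¹ = s0⁻¹ * n j := by
        have : s0 * (n j * s0⁻¹) = n j := by rw [← mul_assoc, hs0n]; group
        calc n j * s0⁻¹ = s0⁻¹ * (s0 * (n j * s0⁻¹)) := by group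
          _ = s0⁻¹ * n j := by rw [this]
      have e3 : (s0⁻¹ * n j)⁻¹ * x * (s0⁻¹ * n j) = (n j)⁻¹ * (s0 * x * s0⁻¹) * n j := by group
      rw [e1, e2, e3, e])
    have : x = n j * ((n j)⁻¹ * x * n j) * (n j)⁻¹ := by group
    rw [this, h1]; group
  have t2 : ∀ x ∈ X (sr j + (2 : ℤ) • sr k), s0 * x * s0⁻¹ = x := by
    intro x hx
    have hsi : s0⁻¹ ∈ T := inv_mem hs0.1
    have e0 := (hc s0 hs0).inv _ (hdk x hx)
    have e1 : (n k)⁻¹ * s0 * n k = s0⁻¹ := TI.inv_conj hs0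
    have e2 : s0 * x * s0⁻¹ = n k * (((n k)⁻¹ * s0 * n k) * ((n k)⁻¹ * x * n k) * ((n k)⁻¹ * s0 * n k)⁻¹) * (n k)⁻¹ := by
      group
    rw [e2, e1, e0]
    group
  have t3 : ∀ x ∈ X (sr j + sr k), t0 * x * t0⁻¹ = x := by
    intro x hx
    have e0 := (hc' t0 ht0).inv _ (hdj x hx)
    have e1 : (n j)⁻¹ * t0 * n j = t0⁻¹ := TI.inv_conj ht0
    have e2 : t0 * x * t0⁻¹ = n j * (((n j)⁻¹ * t0 * n j) * ((n j)⁻¹ * x * n j) * ((n j)⁻¹ * t0 * n j)⁻¹) * (n j)⁻¹ := by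
      group
    rw [e2, e1, e0]
    group
  -- `[X_j, X_{j'}] = 1`
  have c3 : ∀ u ∈ X (sr j), ∀ b ∈ X (sr j + (2 : ℤ) • sr k), u * b = b * u := by
    intro u hu b hb
    have hne : (sr j : I → ℤ) ≠ sr j + (2 : ℤ) • sr k := by
      intro h0
      have := congrFun h0 k
      simp only [Pi.add_apply, Pi.smul_apply, smul_eq_mul, sr_self, sr_ne hjk0.symm] at this
      omega
    have hne' : (sr j : I → ℤ) ≠ -(sr j + (2 : ℤ) • sr k) := by
      intro h0
      have := congrFun h0 k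
      simp only [Pi.neg_apply, Pi.add_apply, Pi.smul_apply, smul_eq_mul, sr_self, sr_ne hjk0.symm] at this
      omega
    have h1 := R.comm _ _ (isRoot_sr cs h j) hj' hne hne' u hu b hb
    have h2 : Nodes.Reps.btw cs h X (sr j) (sr j + (2 : ℤ) • sr k) ≤ X (sr j + sr k) := by
      refine KFacts.RgdSL.btw_le_of fun z hz => ?_
      obtain ⟨hzr, m, a, b, hm, ha, hb, he⟩ := hz
      have q1 := congrFun he j
      have q2 := congrFun he k
      simp only [Pi.smul_apply, Pi.add_apply, smul_eq_mul, sr_self, sr_ne hjk0, sr_ne hjk0.symm, mul_one, mul_zero,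
        zero_add, add_zero] at q1 q2
      have hs : Supp j k z := by
        intro l hl1 hl2
        have q3 := congrFun he l
        simp only [Pi.smul_apply, Pi.add_apply, smul_eq_mul, sr_ne hl1, sr_ne hl2, mul_zero, add_zero] at q3
        exact (mul_eq_zero.1 q3).resolve_left hm.ne'
      have hz0 : 0 ≤ z := by
        rcases hzr.pos_or_neg with h0 | h0
        · exact h0
        · have := mul_nonpos_of_nonneg_of_nonpos hm.le (h0 j)
          exfalso
          have h00 : m * z j ≤ 0 := this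
          linarith
      rcases roots_C2 cs h hjk hkj hzr hs hz0 with rfl | rfl | rfl | rfl
      · simp only [sr_ne hjk0.symm] at q2; omega
      · simp only [sr_ne hjk0] at q1; omega
      · rfl
      · simp only [Pi.add_apply, Pi.smul_apply, smul_eq_mul, sr_self, sr_ne hjk0, sr_ne hjk0.symm] at q1 q2; omega
    have h3 := h2 h1
    have h4 : ⁅u, b⁆ = 1 := by
      refine t1 _ h3 ?_
      have e1 : s0 * ⁅u, b⁆ * s0⁻¹ = ⁅s0 * u * s0⁻¹, s0 * b * s0⁻¹⁆ := by
        rw [commutatorElement_def, commutatorElement_def]; group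
      rw [e1, hc s0 hs0 u hu, t2 b hb]
    exact commutatorElement_eq_one_iff_mul_comm.1 h4
  -- the commutators `[x, u]`
  have hKJ : ∀ x ∈ X (sr k), ∀ u ∈ X (sr j), ∃ a ∈ X (sr j + sr k), ∃ b ∈ X (sr j + (2 : ℤ) • sr k), ⁅x, u⁆ = a * b := by
    intro x hx u hu
    have hne : (sr k : I → ℤ) ≠ sr j := by
      intro h0
      have := congrFun h0 k
      rw [sr_self, sr_ne hjk0.symm] at this
      omega
    have hne' : (sr k : I → ℤ) ≠ -sr j := by
      intro h0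
      have := congrFun h0 k
      rw [Pi.neg_apply, sr_self, sr_ne hjk0.symm] at this
      omega
    have h1 := R.comm _ _ (isRoot_sr cs h k) (isRoot_sr cs h j) hne hne' x hx u hu
    have h2 : Nodes.Reps.btw cs h X (sr k) (sr j) ≤ X (sr j + sr k) ⊔ X (sr j + (2 : ℤ) • sr k) := by
      unfold Nodes.Reps.btw
      refine iSup_le ?_
      rintro ⟨z, hzr, m, a, b, hm, ha, hb, he⟩
      show X z ≤ _
      have q1 := congrFun he j
      have q2 := congrFun he k
      simp only [Pi.smul_apply, Pi.add_apply, smul_eq_mul, sr_self, sr_ne hjk0, sr_ne hjk0.symm, mul_one, mul_zero,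
        zero_add, add_zero] at q1 q2
      have hs : Supp j k z := by
        intro l hl1 hl2
        have q3 := congrFun he l
        simp only [Pi.smul_apply, Pi.add_apply, smul_eq_mul, sr_ne hl1, sr_ne hl2, mul_zero, add_zero] at q3
        exact (mul_eq_zero.1 q3).resolve_left hm.ne'
      have hz0 : 0 ≤ z := by
        rcases hzr.pos_or_neg with h0 | h0
        · exact h0
        · have := mul_nonpos_of_nonneg_of_nonpos hm.le (h0 j)
          exfalso
          have h00 : m * z j ≤ 0 := this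
          linarith
      rcases roots_C2 cs h hjk hkj hzr hs hz0 with rfl | rfl | rfl | rfl
      · simp only [sr_ne hjk0.symm] at q2; omega
      · simp only [sr_ne hjk0] at q1; omega
      · exact le_sup_left
      · exact le_sup_right
    have h3 : ⁅x, u⁆ ∈ ((X (sr j + sr k) ⊔ X (sr j + (2 : ℤ) • sr k) : Subgroup Y) : Set Y) := h2 h1
    have hnorm : X (sr j + sr k) ≤ Subgroup.normalizer (X (sr j + (2 : ℤ) • sr k) : Set Y) := by
      intro a ha
      rw [Subgroup.mem_normalizer_iff]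
      intro b
      constructor
      · intro hb
        rw [c0 a ha b hb, mul_inv_cancel_right]
        exact hb
      · intro hb
        have e : b = a⁻¹ * (a * b * a⁻¹) * a := by group
        have := c0 a⁻¹ (inv_mem ha) _ hb
        rw [e, this, inv_mul_cancel_right]
        exact hb
    rw [Subgroup.coe_mul_of_left_le_normalizer_right _ _ hnorm, Set.mem_mul] at h3
    obtain ⟨a, ha, b, hb, e⟩ := h3
    exact ⟨a, ha, b, hb, e.symm⟩
  -- `u0` commutes with these commutators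
  have hcu : ∀ u ∈ X (sr j), ∀ c, (∃ a ∈ X (sr j + sr k), ∃ b ∈ X (sr j + (2 : ℤ) • sr k), c = a * b) →
      u * c = c * u := by
    rintro u hu _ ⟨a, ha, b, hb, rfl⟩
    rw [← mul_assoc, c1 u hu a ha, mul_assoc, c3 u hu b hb, mul_assoc]
  have hmulr : ∀ x ∈ X (sr k), ∀ u ∈ X (sr j), ∀ v ∈ X (sr j), ⁅x, u * v⁆ = ⁅x, u⁆ * ⁅x, v⁆ := by
    intro x hx u hu v hv
    have e1 : ⁅x, u * v⁆ = ⁅x, u⁆ * (u * ⁅x, v⁆ * u⁻¹) := by
      rw [commutatorElement_def, commutatorElement_def, commutatorElement_def]; group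
    rw [e1, hcu u hu _ (hKJ x hx v hv), mul_inv_cancel_right]
  have hJ : ∀ x ∈ X (sr k), ∀ u ∈ X (sr j), ⁅x, u⁆ ∈ X (sr j + (2 : ℤ) • sr k) := by
    intro x hx u hu
    obtain ⟨v, hv, rfl⟩ := exists_diff (fun x hx => conj_mem_X R hTc ht0.1 hx) hNj.sq hf' u hu
    have hv' : t0 * v * t0⁻¹ ∈ X (sr j) := conj_mem_X R hTc ht0.1 hv
    obtain ⟨a, ha, b, hb, e⟩ := hKJ x hx v hv
    have e1 : ⁅x, (t0 * v * t0⁻¹)⁻¹⁆ = ⁅x, t0 * v * t0⁻¹⁆⁻¹ := by
      have := hmulr x hx _ (inv_mem hv') _ hv'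
      rw [inv_mul_cancel, commutatorElement_one_right] at this
      exact (inv_eq_of_mul_eq_one_left this.symm).symm
    have e2 : ⁅x, t0 * v * t0⁻¹⁆ = a * (t0 * b * t0⁻¹) := by
      have h1 := hc' t0 ht0 x hx
      have h2 : ⁅x, t0 * v * t0⁻¹⁆ = t0 * ⁅x, v⁆ * t0⁻¹ := by
        conv_lhs => rw [← h1]
        rw [commutatorElement_def, commutatorElement_def]; group
      have h3 := t3 a ha
      have h4 : t0 * (a * b) * t0⁻¹ = (t0 * a * t0⁻¹) * (t0 * b * t0⁻¹) := by group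
      rw [h2, e, h4, h3]
    have hb' : t0 * b * t0⁻¹ ∈ X (sr j + (2 : ℤ) • sr k) := by
      have h1 := R.tor _ hj' t0 ht0.1
      rw [← h1]
      exact conj_mem_cj.2 hb
    rw [hmulr x hx v hv _ (inv_mem hv'), e1, e, e2]
    have e3 : a * b * (a * (t0 * b * t0⁻¹))⁻¹ = a * (b * (t0 * b * t0⁻¹)⁻¹) * a⁻¹ := by group
    have hbb := mul_mem hb (inv_mem hb')
    rw [e3, c0 a ha _ hbb, mul_inv_cancel_right]
    exact hbb
  have hmull : ∀ x ∈ X (sr k), ∀ y ∈ X (sr k), ∀ u ∈ X (sr j), ⁅x * y, u⁆ = ⁅y, u⁆ * ⁅x, u⁆ := by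
    intro x hx y hy u hu
    have e1 : ⁅x * y, u⁆ = (x * ⁅y, u⁆ * x⁻¹) * ⁅x, u⁆ := by
      rw [commutatorElement_def, commutatorElement_def, commutatorElement_def]; group
    rw [e1, c2 x hx _ (hJ y hy u hu), mul_inv_cancel_right]
  have hall : ∀ x ∈ X (sr k), ∀ u ∈ X (sr j), x * u = u * x := by
    intro x hx u hu
    obtain ⟨y, hy, rfl⟩ := exists_diff (fun x hx => conj_mem_X R hTc hs0.1 hx) hNk.sq hf x hx
    have hy' : s0 * y * s0⁻¹ ∈ X (sr k) := conj_mem_X R hTc hs0.1 hy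
    have e1 : ⁅(s0 * y * s0⁻¹)⁻¹, u⁆ = ⁅s0 * y * s0⁻¹, u⁆⁻¹ := by
      have := hmull _ hy' _ (inv_mem hy') u hu
      rw [mul_inv_cancel, commutatorElement_one_left] at this
      exact (inv_eq_of_mul_eq_one_left this.symm).symm
    have e2 : ⁅s0 * y * s0⁻¹, u⁆ = ⁅y, u⁆ := by
      have h1 := hc s0 hs0 u hu
      have h2 : ⁅s0 * y * s0⁻¹, u⁆ = s0 * ⁅y, u⁆ * s0⁻¹ := by
        conv_lhs => rw [← h1]
        rw [commutatorElement_def, commutatorElement_def]; group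
      rw [h2, t2 _ (hJ y hy u hu)]
    have e3 := hmull y hy _ (inv_mem hy') u hu
    rw [e1, e2, inv_mul_cancel] at e3
    exact commutatorElement_eq_one_iff_mul_comm.1 e3
  -- the contradiction
  obtain ⟨x, hx, -, -, hx1, -, -⟩ := hNk.two
  obtain ⟨u, hu, hu1⟩ := ((X (-sr j)).bot_or_exists_ne_one).resolve_left
    (Nodes.Bruhat.X_ne_bot R (isRoot_sr cs h j).neg)
  obtain ⟨a, ha, s, hs, b, hb, e⟩ := R.rk1 j u hu hu1
  have hm : s * n j = a⁻¹ * u * b⁻¹ := by rw [e]; group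
  have k1 : u * x = x * u := comm_neg R hjk0.symm hu hx
  have k2 : a⁻¹ * x = x * a⁻¹ := (hall x hx _ (inv_mem ha)).symm
  have k3 : b⁻¹ * x = x * b⁻¹ := (hall x hx _ (inv_mem hb)).symm
  have k4 : (s * n j) * x = x * (s * n j) := by
    rw [hm, mul_assoc, k3, ← mul_assoc, mul_assoc a⁻¹, k1, ← mul_assoc, k2]
    group
  have k5 : n j * x * (n j)⁻¹ ∈ X (sr j + sr k) := by
    have := R.conj_mem hnj (isRoot_sr cs h k) hx
    rwa [ejk] at this
  have k6 : s⁻¹ * x * s = n j * x * (n j)⁻¹ := by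
    have : s⁻¹ * (s * n j * x) * (n j)⁻¹ = s⁻¹ * (x * (s * n j)) * (n j)⁻¹ := by rw [k4]
    calc s⁻¹ * x * s = s⁻¹ * (x * (s * n j)) * (n j)⁻¹ := by group
      _ = s⁻¹ * (s * n j * x) * (n j)⁻¹ := this.symm
      _ = n j * x * (n j)⁻¹ := by group
  have k7 : x ∈ X (sr j + sr k) := by
    have h1 := R.tor _ hk' s hs
    rw [← h1, mem_cj, k6]
    exact k5
  have h8 := ParSys.Fam.X_inf_V R k x hx (le_Sup (S := PosNe cs h k) ⟨hk', add_nonneg (sr_nonneg j) (sr_nonneg k), by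
    intro h0
    have := congrFun h0 j
    rw [Pi.add_apply, sr_self, sr_ne hjk0] at this
    omega⟩ k7)
  exact hx1 h8

/-- **The rank one torus of a neighbour is not trivial on `X_j`.** -/
theorem nd [Finite Y] {j k : I} (hjk0 : j ≠ k) (hNk : TrNode T n X k) (hNj : TrNode T n X j)
    (hm : M j k = 3 ∨ M j k = 4) : ∃ s ∈ TI T n X k, ∀ x ∈ X (sr j), s * x * s⁻¹ = x → x = 1 := by
  by_contra hcon
  push Not at hcon
  have hc : ∀ s ∈ TI T n X k, Ct X s j := by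
    intro s hs
    refine (fpf_or_ct R hTc hNj hs.1).resolve_right fun hf => ?_
    obtain ⟨x, hx, e, hx1⟩ := hcon s hs
    exact hx1 (hf x hx e)
  rcases hm with hm | hm
  · have h1 := h.rel j k hjk0
    have h2 : A j k = -1 ∧ A k j = -1 := by omega
    exact nd3 R hTc hNk h2.1 h2.2 hc
  · have h1 := h.rel j k hjk0
    have h2 : (A j k = -1 ∧ A k j = -2) ∨ (A j k = -2 ∧ A k j = -1) := by (clear * - hm h1; solve | lia | omega)
    rcases h2 with ⟨e1, e2⟩ | ⟨e1, e2⟩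
    · exact nd4_both R hTc hjk0 hNk hNj e1 e2 hc (ct_symm R hTc hNk (by rw [e1, e2]; norm_num) hc)
    · exact nd4_both R hTc hjk0.symm hNj hNk e2 e1 (ct_symm R hTc hNk (by rw [e1, e2]; norm_num) hc) hc

omit hTc in
/-- The rank one group of `j` centralises `X_i` if `m = 2`. -/
theorem comm_LL {i j : I} (hij : i ≠ j) (h2 : M i j = 2) {t x : Y} (ht : t ∈ LL X (sr j)) (hx : x ∈ X (sr i)) :
    t * x = x * t := by
  have h1 : LL X (sr j) ≤ Subgroup.centralizer {x} := by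
    refine sup_le ?_ ?_
    · intro u hu
      rw [Subgroup.mem_centralizer_singleton_iff]
      refine KFacts.RgdSL.comm_of_not_btwn R (isRoot_sr cs h j) (isRoot_sr cs h i) ?_ ?_ ?_ hu hx
      · intro h0
        have := congrFun h0 j
        rw [sr_self, sr_ne hij.symm] at this
        omega
      · intro h0
        have := congrFun h0 j
        rw [Pi.neg_apply, sr_self, sr_ne hij.symm] at this
        omega
      · rintro z ⟨hzr, m, a, b, hm, ha, hb, he⟩
        have q1 := congrFun he i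
        have q2 := congrFun he j
        simp only [Pi.smul_apply, Pi.add_apply, smul_eq_mul, sr_self, sr_ne hij, sr_ne hij.symm, mul_one, mul_zero,
          zero_add, add_zero] at q1 q2
        have hs : Supp i j z := by
          intro l hl1 hl2
          have q3 := congrFun he l
          simp only [Pi.smul_apply, Pi.add_apply, smul_eq_mul, sr_ne hl1, sr_ne hl2, mul_zero, add_zero] at q3
          exact (mul_eq_zero.1 q3).resolve_left hm.ne'
        have hz0 : 0 ≤ z := by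
          rcases hzr.pos_or_neg with h0 | h0
          · exact h0
          · have := mul_nonpos_of_nonneg_of_nonpos hm.le (h0 j)
            exfalso
            have h00 : m * z j ≤ 0 := this
            linarith only [ha, q2, this]
        rcases roots_orth cs h hij h2 hzr hs hz0 with rfl | rfl
        · simp only [sr_ne hij.symm] at q2; omega
        · simp only [sr_ne hij] at q1; omega
    · intro u hu
      rw [Subgroup.mem_centralizer_singleton_iff]
      exact comm_neg R hij hu hx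
  exact Subgroup.mem_centralizer_singleton_iff.1 (h1 ht)

/-- **(k6)** for `m = 2`. -/
theorem exists_sep_two {i j : I} (hij : i ≠ j) (h2 : M i j = 2) (hNj : TrNode T n X j) :
    ∃ t ∈ T, Ct X t i ∧ ∀ x ∈ X (sr j), t * x * t⁻¹ = x → x = 1 := by
  obtain ⟨s, hs, hf⟩ := exists_fpf R hTc hNj
  exact ⟨s, hs.1, fun x hx => by rw [comm_LL R hij h2 hs.2.1 hx, mul_inv_cancel_right], hf⟩

/-- **(k6)** for adjacent nodes, with a third node. -/
theorem exists_sep_adj [Finite Y] (hN : ∀ i, TrNode T n X i) {i j k : I} (hij : i ≠ j) (hik : i ≠ k) (hjk : j ≠ k)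
    (h1 : M i j ≠ 2) (h2 : M i k ≠ 2 ∨ M j k ≠ 2) :
    (∃ t ∈ T, Ct X t i ∧ ∀ x ∈ X (sr j), t * x * t⁻¹ = x → x = 1) ∨
      ∃ t ∈ T, Ct X t j ∧ ∀ x ∈ X (sr i), t * x * t⁻¹ = x → x = 1 := by
  have key : ∀ i j k : I, i ≠ j → i ≠ k → j ≠ k → M i j ≠ 2 → M j k ≠ 2 →
      ∃ t ∈ T, Ct X t i ∧ ∀ x ∈ X (sr j), t * x * t⁻¹ = x → x = 1 := by
    intro i j k hij hik hjk h1 h3
    have h4 : M i k = 2 := by
      by_contra h5
      exact no_triangle cs h hij hik hjk h1 h5 h3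
    have h6 : M j k ≠ 6 := by
      intro h7
      exact no_six cs h hik hij hjk.symm h7 h1
    have h8 : M j k = 3 ∨ M j k = 4 := by
      have := h.rel j k hjk
      omega
    obtain ⟨s, hs, hf⟩ := nd R hTc hjk (hN k) (hN j) h8
    exact ⟨s, hs.1, fun x hx => by rw [comm_LL R hik h4 hs.2.1 hx, mul_inv_cancel_right], hf⟩
  rcases h2 with h2 | h2
  · exact Or.inr (key j i k hij.symm hjk hik (by rw [M.symmetric]; exact h1) h2)
  · exact Or.inl (key i j k hij hik hjk h1 h2)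

/-- **(k6)**, all pairs, in a connected diagram of rank at least three. -/
theorem exists_sep [Finite Y] (hN : ∀ i, TrNode T n X i) {i j : I} (hij : i ≠ j)
    (hk : M i j ≠ 2 → ∃ k, i ≠ k ∧ j ≠ k ∧ (M i k ≠ 2 ∨ M j k ≠ 2)) :
    (∃ t ∈ T, Ct X t i ∧ ∀ x ∈ X (sr j), t * x * t⁻¹ = x → x = 1) ∨
      ∃ t ∈ T, Ct X t j ∧ ∀ x ∈ X (sr i), t * x * t⁻¹ = x → x = 1 := by
  by_cases h2 : M i j = 2
  · exact Or.inl (exists_sep_two R hTc hij h2 (hN j))
  · obtain ⟨k, h3, h4, h5⟩ := hk h2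
    exact exists_sep_adj R hTc hN hij h3 h4 h2 h5

end ND

end Cfsg.Agent.Omega.Lie.End.KTorus

end

section


/-!
# The K-side of the END of NODE LIE: rows (helper650)

Everything is stated for a root group datum `R : RGD cs h 2 T n X`; `X (sr i)` is the simple root group of the node `i`,
`TL T X i = T ⊓ ⟨X (sr i), X (-sr i)⟩` its own torus.

* `KRow cs h T n X` : what is needed of a simple group of rank `≥ 2`;
* `HasRow Y`, `KTable` : the table.
* `RankOneSide`, `DeadY` : the groups of rank one, and `²F₄`.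
-/

set_option autoImplicit false

namespace Cfsg.Agent.Omega.Lie.End

open Subgroup CoxeterSystem Cfsg.Agent.ChevalleyStructure.CoxeterGeom Cfsg.Agent.Tits.Roots Cfsg.Agent.Tits.Core
  Cfsg.Agent.Tits.RootComb Cfsg.Agent.Nodes.Comb Cfsg.Agent.Nodes.Reps Cfsg.Agent.Nodes.BNOf
  Cfsg.Agent.KFacts.RgdCharP

section defs

variable {I W Y : Type*} [Fintype I] [DecidableEq I] [Group W] [Group Y] {M : CoxeterMatrix I}
  {A : I → I → ℤ}

/-- the own torus of the node `i` -/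
def TL (T : Subgroup Y) (X : (I → ℤ) → Subgroup Y) (i : I) : Subgroup Y := T ⊓ (X (sr i) ⊔ X (-sr i))

/-- `H` is transitive by conjugation on the nontrivial elements of `P`. -/
def TrOn (H P : Subgroup Y) : Prop := ∀ x ∈ P, x ≠ 1 → ∀ y ∈ P, y ≠ 1 → ∃ t ∈ H, t * x * t⁻¹ = y

/-- Some element of `H` acts fixed-point-freely on `P`. -/
def FpOn (H P : Subgroup Y) : Prop := ∃ t ∈ H, ∀ x ∈ P, t * x * t⁻¹ = x → x = 1

/-- Some element of `H` centralises `P` and acts fixed-point-freely on `Q`. -/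
def SpOn (H P Q : Subgroup Y) : Prop :=
  ∃ t ∈ H, (∀ x ∈ P, t * x * t⁻¹ = x) ∧ ∀ x ∈ Q, t * x * t⁻¹ = x → x = 1

/-- `P` and `Q` do not commute. -/
def NComm (P Q : Subgroup Y) : Prop := ∃ x ∈ P, ∃ y ∈ Q, x * y ≠ y * x

/-- **A row of rank `≥ 2`** (helper923's `TrNode`: the node is an `SL₂(F)` with `|F| ≥ 4`). In `tr`, `sp2` one may assume
that all root groups have order `≥ 4` and exponent 2 (so there is nothing to prove for `q = 2` and for the unitary groups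
of odd degree). `sp2` : only `PSp₄(q)`, `U₄(q)`; `six` : only `G₂(q)`, `³D₄(q)`, both orders. -/
structure KRow (cs : CoxeterSystem M W) (h : IsCartan M A) (T : Subgroup Y) (n : I → Y) (X : (I → ℤ) → Subgroup Y) :
    Prop where
  two : ∃ i j : I, i ≠ j
  conn : Conn M
  ab : ∀ s ∈ T, ∀ t ∈ T, s * t = t * s
  tr : (∀ k, 4 ≤ Nat.card (X (sr k))) → (∀ k, ∀ x ∈ X (sr k), x * x = 1) → ∀ i, KTorus.TrNode T n X i
  sp2 : (∀ k, 4 ≤ Nat.card (X (sr k))) → (∀ k, ∀ x ∈ X (sr k), x * x = 1) → ∀ i j, M i j = 4 →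
    (∀ k, k = i ∨ k = j) → SpOn T (X (sr i)) (X (sr j)) ∨ SpOn T (X (sr j)) (X (sr i))
  six : ∀ i j, M i j = 6 → (∀ k, k = i ∨ k = j) ∧ NComm (X (sr i)) (X (rep cs h (cs.simple j) (sr i)))

end defs

/-- `Y` has a root group datum which is a row of rank `≥ 2`. -/
def HasRow (Y : Type*) [Group Y] : Prop :=
  ∃ (l : ℕ) (M : CoxeterMatrix (Fin l)) (A : Fin l → Fin l → ℤ) (h : IsCartan M A) (T : Subgroup Y) (n : Fin l → Y)
    (X : (Fin l → ℤ) → Subgroup Y), Finite M.Group ∧ RGD M.toCoxeterSystem h 2 T n X ∧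
      RGD.Sup X {x | IsRoot M.toCoxeterSystem h x} = ⊤ ∧ KRow M.toCoxeterSystem h T n X

/-- `Y ≅ L₂(F)` -/
def IsLTwo (Y : Type*) [Group Y] : Prop :=
  ∃ (F : Type) (_ : Field F) (_ : Fintype F), CharP F 2 ∧ 4 ≤ Fintype.card F ∧
    Nonempty (Y ≃* Matrix.ProjectiveSpecialLinearGroup (Fin 2) F)

/-- `Y ≅ U₃(q)` -/
def IsUThree (Y : Type*) [Group Y] : Prop :=
  ∃ (F : Type) (_ : Field F) (_ : Fintype F) (_ : CharP F 2) (q : ℕ), Fintype.card F = q ^ 2 ∧ q ≠ 2 ∧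
    Nonempty (Y ≃* PSU 3 F q)

universe u

/-- **The table** (helper923, helper679). -/
def KTable : Prop :=
  ∀ (Y : Type u) [Group Y] [Finite Y], IsSimpleGroup Y → IsLieTypeChar 2 Y →
    HasRow Y ∨ IsLTwo Y ∨ IsUThree Y ∨ Lie.IsoSuzuki Y ∨ Lie.Iso2F4 Y

end Cfsg.Agent.Omega.Lie.End

end

section


/-!
# (k4) FRAT of the K-side of LieBNP, over root group data of any rank

`frat`: `X₀ ≤ U` covers `U / (Q_i ∩ Q_j)`  ==>  `X₀` covers `U / Q_{ij}`, if the middle root groups of the rank two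
subsystem of `i`, `j` are in `U'`; this holds for `M i j = 2, 3` always (`le_comm_three`), and for `M i j = 4` if
a torus element centralises `X α_i` and is f.p.f. on `X α_j` or conversely (`le_comm_four`).
-/

set_option autoImplicit false
set_option linter.unusedSectionVars false

namespace Cfsg.Agent.OmegaEnd.Frat

open CoxeterSystem Cfsg.Agent.ChevalleyStructure.CoxeterGeom Cfsg.Agent.Tits.Roots Cfsg.Agent.Tits.Core
  Cfsg.Agent.Tits.RootComb Cfsg.Agent.Nodes.Comb Cfsg.Agent.Nodes.Reps Cfsg.Agent.Nodes.BNOf Cfsg.Agent.Nodes.BNOf.RGD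
  Cfsg.Agent.Nodes.ZFam Cfsg.Agent.Nodes.Bruhat Cfsg.Agent.ParSys Cfsg.Agent.ParSys.Fam
  Cfsg.Agent.KFacts.RgdFilt Cfsg.Agent.KFacts.RgdPar
open scoped commutatorElement

variable {I W Y : Type*} [Fintype I] [DecidableEq I] [Group W] [Finite W] [Group Y] {M : CoxeterMatrix I}
  {cs : CoxeterSystem M W} {A : I → I → ℤ} {h : IsCartan M A} {p : ℕ} {T : Subgroup Y} {n : I → Y}
  {X : (I → ℤ) → Subgroup Y}

/-! ### The unipotent radical of the parabolic subgroup of type `{i, j}` -/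

/-- The positive roots which are not supported on `{i, j}`. -/
def PosNot (cs : CoxeterSystem M W) (h : IsCartan M A) (i j : I) : Set (I → ℤ) :=
  {x | IsRoot cs h x ∧ 0 ≤ x ∧ ¬ Supp i j x}

omit [Finite W] in
theorem exists_coord {i j : I} {x : I → ℤ} (hx : x ∈ PosNot cs h i j) : ∃ k, k ≠ i ∧ k ≠ j ∧ 0 < x k := by
  obtain ⟨-, h0, hs⟩ := hx
  unfold Supp at hs
  push Not at hs
  obtain ⟨k, hki, hkj, hk⟩ := hs
  exact ⟨k, hki, hkj, lt_of_le_of_ne (h0 k) (Ne.symm hk)⟩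

omit [Finite W] in
theorem mem_of_coord {i j k : I} {x : I → ℤ} (hx : IsRoot cs h x) (hki : k ≠ i) (hkj : k ≠ j) (hk : 0 < x k) :
    x ∈ PosNot cs h i j := by
  refine ⟨hx, ?_, fun hs => ?_⟩
  · rcases hx.pos_or_neg with h1 | h1
    · exact h1
    · have h2 : x k ≤ 0 := h1 k
      omega
  · rw [hs k hki hkj] at hk
    exact lt_irrefl _ hk

omit [Finite W] in
theorem PosNot_subset (i j : I) : PosNot cs h i j ⊆ Pos cs h := fun _ hx => ⟨hx.1, hx.2.1⟩

omit [Finite W] in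
theorem X_le_normalizer (R : RGD cs h p T n X) {i j : I} {x : I → ℤ} (hx : IsRoot cs h x) (hs : Supp i j x) :
    X x ≤ Subgroup.normalizer (Sup X (PosNot cs h i j) : Set Y) := by
  refine R.le_normalizer hx ?_
  intro y hy
  refine ⟨hy.1, Or.inr ⟨?_, ?_⟩⟩
  · rintro rfl
    exact hy.2.2 (by simpa using hs.neg)
  · rintro z ⟨hz, m, a, b, hm, ha, hb, e⟩
    obtain ⟨k, hki, hkj, hk⟩ := exists_coord hy
    refine mem_of_coord hz hki hkj ?_
    have h1 := congrFun e k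
    rw [Pi.add_apply, Pi.smul_apply, Pi.smul_apply, Pi.smul_apply, hs k hki hkj, smul_zero, zero_add,
      smul_eq_mul, smul_eq_mul] at h1
    have h2 : 0 < m * z k := by rw [h1]; exact mul_pos hb hk
    exact (mul_pos_iff_of_pos_left hm).1 h2

omit [Finite W] in
theorem U_le_normalizer (R : RGD cs h p T n X) (i j : I) :
    Sup X (Pos cs h) ≤ Subgroup.normalizer (Sup X (PosNot cs h i j) : Set Y) := by
  refine Sup_le fun z hz => ?_
  by_cases hs : Supp i j z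
  · exact X_le_normalizer R hz.1 hs
  · exact (le_Sup (S := PosNot cs h i j) ⟨hz.1, hz.2, hs⟩).trans Subgroup.le_normalizer

omit [Finite W] in
theorem cj_n (R : RGD cs h p T n X) {i j l : I} (hl : l = i ∨ l = j) :
    cj (n l) (Sup X (PosNot cs h i j)) = Sup X (PosNot cs h i j) := by
  have key : cj (n l) (Sup X (PosNot cs h i j)) ≤ Sup X (PosNot cs h i j) := by
    rw [cj_Sup]
    refine iSup_le ?_
    rintro ⟨y, hy⟩
    change cj (n l) (X y) ≤ _
    rw [R.conj l y hy.1]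
    obtain ⟨k, hki, hkj, hk⟩ := exists_coord hy
    refine le_Sup (mem_of_coord (hy.1.act _) hki hkj ?_)
    rw [rep_simple_apply]
    · exact hk
    · rcases hl with rfl | rfl
      · exact hki
      · exact hkj
  apply le_antisymm key
  have h3 : cj (n l * n l) (Sup X (PosNot cs h i j)) = Sup X (PosNot cs h i j) := by
    rw [cj_Sup]
    exact iSup_congr fun z => R.tor z.1 z.2.1 _ (R.sq_mem_T l)
  calc Sup X (PosNot cs h i j) = cj (n l) (cj (n l) (Sup X (PosNot cs h i j))) := by rw [← cj_mul, h3]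
    _ ≤ cj (n l) (Sup X (PosNot cs h i j)) := cj_mono _ key

omit [Finite W] in
/-- The parabolic subgroup of type `{i, j}` normalises the unipotent radical. -/
theorem par_le_normalizer (R : RGD cs h p T n X) (i j : I) :
    B cs h T X ⊔ Subgroup.closure {n i, n j} ≤ Subgroup.normalizer (Sup X (PosNot cs h i j) : Set Y) := by
  refine sup_le (sup_le (R.T_le_normalizer fun _ hx => hx.1) (U_le_normalizer R i j)) ?_
  rw [Subgroup.closure_le]
  rintro x (rfl | rfl)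
  · exact mem_normalizer_iff_cj.2 (cj_n R (Or.inl rfl))
  · exact mem_normalizer_iff_cj.2 (cj_n R (Or.inr rfl))

omit [Finite W] in
theorem le_Qk (R : RGD cs h p T n X) {i j : I} {P : Subgroup Y} (hP : P ≤ B cs h T X ⊔ Subgroup.closure {n i, n j}) :
    Sup X (PosNot cs h i j) ≤ Qk (B cs h T X) P := by
  intro x hx g hg
  have h1 := (Subgroup.mem_normalizer_iff.1 (inv_mem (par_le_normalizer R i j (hP hg))) x).1 hx
  rw [inv_inv] at h1
  exact U_le_B (Sup_mono (PosNot_subset i j) h1)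

/-- **FRAT**, the root groups of the middle roots being in `U'`. -/
theorem frat_of_comm [Finite Y] [Fact p.Prime] (R : RGD cs h p T n X) {i j : I} (hij : i ≠ j)
    (hc : ∀ k : ℤ, 1 < k → k < M i j → X (cyc cs h i j k) ≤ ⁅Sup X (Pos cs h), Sup X (Pos cs h)⁆)
    {Pi Pj P : Subgroup Y} (hi : n i ∈ Pi) (hj : n j ∈ Pj)
    (hP : P ≤ B cs h T X ⊔ Subgroup.closure {n i, n j}) {X₀ : Subgroup Y} (hX₀ : X₀ ≤ Sup X (Pos cs h))
    (hcov : ∀ u ∈ Sup X (Pos cs h), ∃ x ∈ X₀, x⁻¹ * u ∈ Qk (B cs h T X) Pi ∧ x⁻¹ * u ∈ Qk (B cs h T X) Pj) :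
    ∀ u ∈ Sup X (Pos cs h), ∃ x ∈ X₀, x⁻¹ * u ∈ Qk (B cs h T X) P := by
  have hNU : Sup X (PosNot cs h i j) ≤ Sup X (Pos cs h) := Sup_mono (PosNot_subset i j)
  have hle : Sup X (Pos cs h) ≤ X₀ ⊔ Sup X (PosNot cs h i j) := by
    refine le_of_sup_commutator R.isPGroup_Upos (sup_le hX₀ hNU) ?_
    intro u hu
    obtain ⟨x, hx, h1, h2⟩ := hcov u hu
    have h3 : x⁻¹ * u ∈ Sup X (Pos cs h) := mul_mem (inv_mem (hX₀ hx)) hu
    have h4 := mem_V_of_stab R i h3 (h1 _ hi)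
    have h5 := mem_V_of_stab R j h3 (h2 _ hj)
    have h6 := V_inf_V R i j _ h4 h5
    have h7 : Sup X (PosNN cs h i j) ≤
        Sup X (PosNot cs h i j) ⊔ ⁅Sup X (Pos cs h), Sup X (Pos cs h)⁆ := by
      refine Sup_le ?_
      rintro z ⟨hz, hz0, hzi, hzj⟩
      by_cases hs : Supp i j z
      · obtain ⟨k, hk1, hk2, rfl⟩ := exists_cyc_pos cs h hij hz hs hz0
        refine (hc k ?_ ?_).trans le_sup_right
        · rcases eq_or_lt_of_le hk1 with h8 | h8
          · rw [← h8, cyc_one] at hzi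
            exact absurd rfl hzi
          · exact h8
        · rcases eq_or_lt_of_le hk2 with h8 | h8
          · rw [h8, cyc_m cs h hij] at hzj
            exact absurd rfl hzj
          · exact h8
      · exact (le_Sup (S := PosNot cs h i j) ⟨hz, hz0, hs⟩).trans le_sup_left
    have e : u = x * (x⁻¹ * u) := by group
    rw [e, sup_assoc]
    exact mul_mem (Subgroup.mem_sup_left hx) (Subgroup.mem_sup_right (h7 h6))
  intro u hu
  have h1 : u ∈ ((X₀ ⊔ Sup X (PosNot cs h i j) : Subgroup Y) : Set Y) := hle hu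
  rw [Subgroup.coe_mul_of_left_le_normalizer_right _ _ (hX₀.trans (U_le_normalizer R i j)), Set.mem_mul] at h1
  obtain ⟨x, hx, w, hw, rfl⟩ := h1
  refine ⟨x, hx, ?_⟩
  rw [inv_mul_cancel_left]
  exact le_Qk R hP hw

/-! ### The rank one groups -/

/-- the decomposition of the nontrivial elements of `X α_i` -/
theorem rk1_pos (R : RGD cs h p T n X) (i : I) {u : Y} (hu : u ∈ X (sr i)) (hu1 : u ≠ 1) :
    ∃ a ∈ X (-sr i), ∃ t ∈ T, ∃ b ∈ X (-sr i), u = a * (t * n i) * b := by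
  have hn : ∀ x ∈ X (sr i), n i * x * (n i)⁻¹ ∈ X (-sr i) := fun x hx => by
    have := R.conj_mem (rp_simple cs R.nsys i) (isRoot_sr cs h i) hx
    rwa [rep_simple_sr] at this
  have hn' : ∀ x ∈ X (sr i), (n i)⁻¹ * x * n i ∈ X (-sr i) := fun x hx => by
    have := R.conj_mem' (rp_simple cs R.nsys i) (isRoot_sr cs h i) hx
    rwa [inv_simple, rep_simple_sr] at this
  have h1 : n i * u * (n i)⁻¹ ≠ 1 := by
    intro h2
    apply hu1
    have e : u = (n i)⁻¹ * (n i * u * (n i)⁻¹) * n i := by group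
    rw [e, h2]; group
  obtain ⟨a, ha, t, ht, b, hb, e⟩ := R.rk1 i _ (hn u hu) h1
  have ht' : (n i)⁻¹ * t * n i ∈ T := by
    have := (Subgroup.mem_normalizer_iff.1 (inv_mem (R.nsys.norm i)) t).1 ht
    rwa [inv_inv] at this
  refine ⟨_, hn' a ha, _, ht', _, hn' b hb, ?_⟩
  have e2 : u = (n i)⁻¹ * (n i * u * (n i)⁻¹) * n i := by group
  rw [e2, e]; group

theorem mu_conj' (R : RGD cs h p T n X) {i : I} {t : Y} (ht : t ∈ T) {x : I → ℤ} (hx : IsRoot cs h x) {g : Y}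
    (hg : g ∈ X x) : (t * n i)⁻¹ * g * (t * n i) ∈ X (rep cs h (cs.simple i) x) := by
  have h1 : Rp cs R.nsys (cs.simple i) (t * n i) := by
    have := (rp_of_mem (cs := cs) (hN := R.nsys) ht).mul (rp_simple cs R.nsys i)
    rwa [one_mul] at this
  have := R.conj_mem' h1 hx hg
  rwa [inv_simple] at this

theorem T_conj (R : RGD cs h p T n X) {t : Y} (ht : t ∈ T) {x : I → ℤ} (hx : IsRoot cs h x) {g : Y}
    (hg : g ∈ X x) : t * g * t⁻¹ ∈ X x := by
  rw [← R.tor x hx t ht]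
  exact conj_mem_cj.2 hg

/-- a torus element f.p.f. on `X α_i` is f.p.f. on `X (-α_i)` -/
theorem fpf_neg (R : RGD cs h p T n X) {i : I} {t : Y} (ht : t ∈ T) (hf : ∀ x ∈ X (sr i), t * x * t⁻¹ = x → x = 1) :
    ∀ x ∈ X (-sr i), t * x * t⁻¹ = x → x = 1 := by
  intro x hx hx2
  by_contra hx1
  obtain ⟨a, ha, s, hs, b, hb, e⟩ := R.rk1 i x hx hx1
  have hXB : ∀ y ∈ X (sr i), y ∈ B cs h T X := fun y hy => X_le_B (isRoot_sr cs h i) (sr_nonneg i) hy
  -- `t a t⁻¹ = a`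
  have hta := T_conj R ht (isRoot_sr cs h i) ha
  have htb := T_conj R ht (isRoot_sr cs h i) hb
  have hs' : t * s * n i * t⁻¹ * (n i)⁻¹ ∈ T := by
    have h2 : n i * t⁻¹ * (n i)⁻¹ ∈ T := (Subgroup.mem_normalizer_iff.1 (R.nsys.norm i) t⁻¹).1 (inv_mem ht)
    have e2 : t * s * n i * t⁻¹ * (n i)⁻¹ = t * s * (n i * t⁻¹ * (n i)⁻¹) := by group
    rw [e2]
    exact mul_mem (mul_mem ht hs) h2
  have e3 : a * s * n i * b = (t * a * t⁻¹) * (t * s * n i * t⁻¹ * (n i)⁻¹) * n i * (t * b * t⁻¹) := by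
    rw [← e]
    conv_lhs => rw [← hx2, e]
    group
  have h4 : a⁻¹ * (t * a * t⁻¹) ∈ X (sr i) := mul_mem (inv_mem ha) hta
  have h5 : n i * (b * (t * b * t⁻¹)⁻¹) * (n i)⁻¹ ∈ X (-sr i) := by
    have := R.conj_mem (rp_simple cs R.nsys i) (isRoot_sr cs h i) (mul_mem hb (inv_mem htb))
    rwa [rep_simple_sr] at this
  have e6 : n i * (b * (t * b * t⁻¹)⁻¹) * (n i)⁻¹ =
      s⁻¹ * (a⁻¹ * (t * a * t⁻¹)) * (t * s * n i * t⁻¹ * (n i)⁻¹) := by
    have : n i * b = s⁻¹ * a⁻¹ * (a * s * n i * b) := by group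
    have e7 : n i * (b * (t * b * t⁻¹)⁻¹) * (n i)⁻¹ = (n i * b) * ((t * b * t⁻¹)⁻¹ * (n i)⁻¹) := by group
    rw [e7, this, e3]
    group
  have h6 := neg_inf_B R i _ h5 (by
    rw [e6]
    exact mul_mem (mul_mem (T_le_B (inv_mem hs)) (hXB _ h4)) (T_le_B hs'))
  have h7 : b * (t * b * t⁻¹)⁻¹ = 1 := by
    have : b * (t * b * t⁻¹)⁻¹ = (n i)⁻¹ * (n i * (b * (t * b * t⁻¹)⁻¹) * (n i)⁻¹) * n i := by group
    rw [this, h6]; group
  have hb1 : b = 1 := hf b hb (mul_inv_eq_one.1 h7).symm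
  rw [hb1, mul_one] at e
  -- `x = a s n_i ∈ X_{-i}`
  have h8 : (n i)⁻¹ * (s⁻¹ * a * s) * n i ∈ X (-sr i) := by
    have h9 : s⁻¹ * a * s ∈ X (sr i) := by
      have := T_conj R (inv_mem hs) (isRoot_sr cs h i) ha
      rwa [inv_inv] at this
    have := R.conj_mem' (rp_simple cs R.nsys i) (isRoot_sr cs h i) h9
    rwa [inv_simple, rep_simple_sr] at this
  have h10 : s * n i ∈ X (-sr i) := by
    have e11 : s * n i = x * ((n i)⁻¹ * (s⁻¹ * a * s) * n i)⁻¹ := by rw [e]; group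
    rw [e11]
    exact mul_mem hx (inv_mem h8)
  -- then `x = a (s n_i)`, so `a ∈ X_{-i} ∩ X_i`
  have h11 : a = 1 := by
    refine neg_inf_B R i a ?_ (hXB a ha)
    have e12 : a = x * (s * n i)⁻¹ := by rw [e]; group
    rw [e12]
    exact mul_mem hx (inv_mem h10)
  rw [h11, one_mul] at e
  -- conjugating `X_i` by `x ∈ X_{-i}` gives `X_{-i}`
  have h12 : X (sr i) = X (-sr i) := by
    have h13 : cj x (X (-sr i)) = X (-sr i) := cj_eq_of_mem hx
    have h14 : cj x (X (-sr i)) = X (sr i) := by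
      rw [e, cj_mul, R.conj i _ (isRoot_sr cs h i).neg, map_neg, rep_simple_sr, neg_neg,
        R.tor _ (isRoot_sr cs h i) s hs]
    rw [← h14, h13]
  apply hx1
  apply neg_inf_B R i x hx
  apply hXB
  rw [h12]
  exact hx

/-! ### The middle root groups are in `U'` -/

omit [Finite W] in
/-- reading the rank two subsystem backwards -/
theorem cyc_swap {i j : I} (hij : i ≠ j) (k : ℤ) : cyc cs h j i k = cyc cs h i j (M i j + 1 - k) := by
  have hz : ∀ a : ℤ, (cs.simple j * cs.simple i) ^ a = (cs.simple i * cs.simple j) ^ (-a) := by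
    intro a
    rw [zpow_neg, ← inv_zpow, mul_inv_rev, inv_simple, inv_simple]
  rcases Int.even_or_odd' k with ⟨c, rfl | rfl⟩
  · have e : (M i j : ℤ) + 1 - 2 * c = (M i j + 1) + 2 * (-c) := by ring
    rw [e, cyc_shift, cyc_m1 cs h hij, cyc_even, hz]
  · have e : (M i j : ℤ) + 1 - (2 * c + 1) = M i j + 2 * (-c) := by ring
    rw [e, cyc_shift, cyc_m cs h hij, cyc_odd, hz]

theorem cyc_ne {i j : I} (hij : i ≠ j) {k l : ℤ} (hk : 1 ≤ k) (hkl : k < l) (hl : l ≤ M i j) :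
    cyc cs h i j k ≠ cyc cs h i j l := by
  intro he
  have hpos := dt_pos cs h hij hk hkl hl
  rw [he] at hpos
  unfold dt at hpos
  have : cyc cs h i j l i * cyc cs h i j l j - cyc cs h i j l j * cyc cs h i j l i = 0 := by ring
  omega

theorem cyc_ne_neg {i j : I} (hij : i ≠ j) {k l : ℤ} (hk : 1 ≤ k) (hkl : k < l) (hl : l ≤ M i j) :
    cyc cs h i j k ≠ -cyc cs h i j l := by
  intro he
  have h1 := cyc_nonneg cs h hij hk (by omega)
  rw [he] at h1
  exact (isRoot_cyc cs h i j l).neg.not_pos_neg h1 (neg_nonpos.2 (cyc_nonneg cs h hij (by omega) hl))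

/-- the root groups of the roots number `a`, ..., `b` -/
def Win (cs : CoxeterSystem M W) (h : IsCartan M A) (X : (I → ℤ) → Subgroup Y) (i j : I) (a b : ℤ) : Subgroup Y :=
  Sup X {z | ∃ r : ℤ, a ≤ r ∧ r ≤ b ∧ z = cyc cs h i j r}

theorem le_Win {i j : I} {a b r : ℤ} (h1 : a ≤ r) (h2 : r ≤ b) : X (cyc cs h i j r) ≤ Win cs h X i j a b :=
  le_Sup (S := {z | ∃ r : ℤ, a ≤ r ∧ r ≤ b ∧ z = cyc cs h i j r}) ⟨r, h1, h2, rfl⟩

theorem Win_le {i j : I} {a b : ℤ} {K : Subgroup Y} (hK : ∀ r, a ≤ r → r ≤ b → X (cyc cs h i j r) ≤ K) :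
    Win cs h X i j a b ≤ K := by
  refine Sup_le ?_
  rintro z ⟨r, h1, h2, rfl⟩
  exact hK r h1 h2

/-- the commutator relations -/
theorem comm_Win (R : RGD cs h p T n X) {i j : I} (hij : i ≠ j) {k l : ℤ} (hk : 1 ≤ k) (hkl : k < l) (hl : l ≤ M i j)
    {x y : Y} (hx : x ∈ X (cyc cs h i j k)) (hy : y ∈ X (cyc cs h i j l)) :
    ⁅x, y⁆ ∈ Win cs h X i j (k + 1) (l - 1) := by
  have h1 := R.comm _ _ (isRoot_cyc cs h i j k) (isRoot_cyc cs h i j l) (cyc_ne hij hk hkl hl)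
    (cyc_ne_neg hij hk hkl hl) x hx y hy
  refine (?_ : _root_.Cfsg.Agent.Nodes.Reps.btw cs h X _ _ ≤ _) h1
  unfold Nodes.Reps.btw
  refine iSup_le ?_
  rintro ⟨z, hz⟩
  obtain ⟨r, hr1, hr2, rfl⟩ := window cs h hij hk hkl hl hz
  exact le_Win (by omega) (by omega)

/-- `X (-α_i)` and `X α_j` commute. -/
theorem neg_comm (R : RGD cs h p T n X) {i j : I} (hij : i ≠ j) {b v : Y} (hb : b ∈ X (-sr i)) (hv : v ∈ X (sr j)) :
    b * v * b⁻¹ = v := by
  have h1 := R.comm (-sr i) (sr j) (isRoot_sr cs h i).neg (isRoot_sr cs h j) ?_ ?_ b hb v hv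
  · have h2 : _root_.Cfsg.Agent.Nodes.Reps.btw cs h X (-sr i) (sr j) ≤ ⊥ := by
      unfold Nodes.Reps.btw
      refine iSup_le ?_
      rintro ⟨z, hz, m, a, b, hm, ha, hb, e⟩
      exfalso
      have e1 := congrFun e i
      have e2 := congrFun e j
      rw [Pi.add_apply, Pi.smul_apply, Pi.smul_apply, Pi.smul_apply, Pi.neg_apply, sr_self, sr_ne hij,
        smul_eq_mul, smul_eq_mul, smul_eq_mul] at e1
      rw [Pi.add_apply, Pi.smul_apply, Pi.smul_apply, Pi.smul_apply, Pi.neg_apply, sr_self, sr_ne hij.symm,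
        smul_eq_mul, smul_eq_mul, smul_eq_mul] at e2
      rcases hz.pos_or_neg with h3 | h3
      · have h4 : 0 ≤ z i := h3 i
        have : 0 ≤ m * z i := mul_nonneg hm.le h4
        omega
      · have h4 : z j ≤ 0 := h3 j
        have : m * z j ≤ 0 := mul_nonpos_of_nonneg_of_nonpos hm.le h4
        omega
    have h3 : ⁅b, v⁆ = 1 := Subgroup.mem_bot.1 (h2 h1)
    rw [commutatorElement_def, mul_inv_eq_one] at h3
    exact h3
  · intro he
    have := congrFun he i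
    rw [Pi.neg_apply, sr_self, sr_ne hij] at this
    omega
  · intro he
    have := congrFun he i
    rw [Pi.neg_apply, Pi.neg_apply, sr_self, sr_ne hij] at this
    omega

/-- `[X (-α_i), X z₂]` -/
theorem neg_comm_two (R : RGD cs h p T n X) {i j : I} (hij : i ≠ j) (h3 : 3 ≤ M i j) {a w : Y} (ha : a ∈ X (-sr i))
    (hw : w ∈ X (cyc cs h i j 2)) : ⁅a, w⁆ ∈ Win cs h X i j 3 (M i j) := by
  have hM : (3 : ℤ) ≤ M i j := by exact_mod_cast h3
  have e1 : rep cs h (cs.simple i) (cyc cs h i j 2) = cyc cs h i j (M i j) := by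
    rw [left_cyc cs h hij]; congr 1; ring
  have e0 : rep cs h (cs.simple i) (-sr i) = cyc cs h i j 1 := by
    rw [map_neg, rep_simple_sr, neg_neg, cyc_one]
  have h1 := R.comm (-sr i) (cyc cs h i j 2) (isRoot_sr cs h i).neg (isRoot_cyc cs h i j 2) ?_ ?_ a ha w hw
  · refine (?_ : _root_.Cfsg.Agent.Nodes.Reps.btw cs h X _ _ ≤ _) h1
    unfold Nodes.Reps.btw
    refine iSup_le ?_
    rintro ⟨z, hz⟩
    have h2 := hz.act (cs.simple i)
    rw [e1, e0] at h2
    obtain ⟨r, hr1, hr2, hr⟩ := window cs h hij (le_refl 1) (by omega) (le_refl _) h2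
    have h4 : z = cyc cs h i j (M i j + 2 - r) := by
      rw [← left_cyc cs h hij, ← hr, ← rep_mul_apply, simple_mul_simple_self, map_one, Module.End.one_apply]
    change X z ≤ _
    rw [h4]
    exact le_Win (by omega) (by omega)
  · intro he
    have h2 := cyc_nonneg cs h hij (k := 2) (by omega) (by omega)
    rw [← he] at h2
    exact (isRoot_sr cs h i).neg.not_pos_neg h2 (neg_nonpos.2 (sr_nonneg i))
  · intro he
    have h2 := congrArg (rep cs h (cs.simple i)) he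
    rw [map_neg (rep cs h (cs.simple i)) (cyc cs h i j 2), e0, e1] at h2
    exact cyc_ne_neg hij (le_refl 1) (by omega) (le_refl _) h2

/-- **The first component of the commutators.** -/
theorem first_comp (R : RGD cs h p T n X) {i j : I} (hij : i ≠ j) (h3 : 3 ≤ M i j) {u w : Y} (hu : u ∈ X (sr i))
    (hu1 : u ≠ 1) (hw : w ∈ X (cyc cs h i j 2)) :
    ∃ v ∈ X (sr j), ∃ c ∈ Win cs h X i j 3 (M i j), ⁅u, v⁆ = c * w * v⁻¹ := by
  obtain ⟨a, ha, t, ht, b, hb, e⟩ := rk1_pos R i hu hu1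
  have hv : (t * n i)⁻¹ * w * (t * n i) ∈ X (sr j) := by
    have h1 := mu_conj' R (i := i) ht (isRoot_cyc cs h i j 2) hw
    rw [left_cyc cs h hij] at h1
    have e1 : (M i j : ℤ) + 2 - 2 = M i j := by ring
    rwa [e1, cyc_m cs h hij] at h1
  refine ⟨_, hv, ⁅a, w⁆, neg_comm_two R hij h3 ha hw, ?_⟩
  have h2 := neg_comm R hij hb hv
  have h5 : u * ((t * n i)⁻¹ * w * (t * n i)) * u⁻¹ = a * w * a⁻¹ := by
    have e5 : u * ((t * n i)⁻¹ * w * (t * n i)) * u⁻¹ =
        a * (t * n i) * (b * ((t * n i)⁻¹ * w * (t * n i)) * b⁻¹) * (t * n i)⁻¹ * a⁻¹ := by rw [e]; group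
    rw [e5, h2]; group
  have e6 : ⁅u, (t * n i)⁻¹ * w * (t * n i)⁆ =
      (u * ((t * n i)⁻¹ * w * (t * n i)) * u⁻¹) * ((t * n i)⁻¹ * w * (t * n i))⁻¹ := by
    rw [commutatorElement_def]
  rw [e6, h5, commutatorElement_def]; group

theorem Win_le_V {i j : I} (hij : i ≠ j) {a b : ℤ} (ha : 1 ≤ a) (hb : b < M i j) :
    Win cs h X i j a b ≤ Sup X (PosNe cs h j) := by
  refine Win_le fun r h1 h2 => le_Sup ⟨isRoot_cyc cs h i j r, cyc_nonneg cs h hij (by omega) (by omega), ?_⟩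
  rw [← cyc_m cs h hij]
  exact cyc_ne hij (by omega) (by omega) (le_refl _)

/-- type `A₂`: `[X α_i, X α_j] = X (α_i + α_j)` -/
theorem le_comm_three [Finite Y] (R : RGD cs h p T n X) {i j : I} (hij : i ≠ j) (h3 : M i j = 3) :
    X (cyc cs h i j 2) ≤ ⁅Sup X (Pos cs h), Sup X (Pos cs h)⁆ := by
  have hM : (M i j : ℤ) = 3 := by exact_mod_cast h3
  intro w hw
  obtain ⟨u, hu, hu1⟩ := exists_ne_one R i
  obtain ⟨v, hv, c, hc, e⟩ := first_comp R hij h3.ge hu hu1 hw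
  have hXU : ∀ l, X (sr l) ≤ Sup X (Pos cs h) := fun l => le_Sup (S := Pos cs h) ⟨isRoot_sr cs h l, sr_nonneg l⟩
  have h1 : ⁅u, v⁆ ∈ X (cyc cs h i j 2) := by
    have h2 := comm_Win R hij (le_refl 1) (by omega) (le_refl _) (x := u) (y := v) (by rwa [cyc_one])
      (by rwa [cyc_m cs h hij])
    refine (Win_le fun r h4 h5 => ?_ : Win cs h X i j (1 + 1) (M i j - 1) ≤ _) h2
    have : r = 2 := by omega
    rw [this]
  have hc' : c ∈ X (sr j) := by
    refine (Win_le fun r h4 h5 => ?_ : Win cs h X i j 3 (M i j) ≤ _) hc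
    have : r = M i j := by omega
    rw [this, cyc_m cs h hij]
  have h4 : ⁅w, v⁻¹⁆ = 1 := by
    have h2 := comm_Win R hij (k := 2) (l := M i j) (by omega) (by omega) (le_refl _) hw
      (y := v⁻¹) (by rw [cyc_m cs h hij]; exact inv_mem hv)
    have h5 : Win cs h X i j (2 + 1) (M i j - 1) ≤ ⊥ := Win_le fun r h4 h5 => by omega
    exact Subgroup.mem_bot.1 (h5 h2)
  have h6 : w * v⁻¹ = v⁻¹ * w := by
    rw [commutatorElement_def, mul_inv_eq_one, mul_inv_eq_iff_eq_mul] at h4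
    exact h4
  have h7 : c * v⁻¹ = ⁅u, v⁆ * w⁻¹ := by
    rw [e, mul_assoc c w, h6]; group
  have h8 : c * v⁻¹ = 1 := by
    refine eq_one_of_mem_V R j (mul_mem hc' (inv_mem hv)) ?_
    have h9 : X (cyc cs h i j 2) ≤ Sup X (PosNe cs h j) :=
      (le_Win (le_refl 2) (le_refl 2)).trans (Win_le_V hij (by omega) (by omega))
    rw [h7]
    exact h9 (mul_mem h1 (inv_mem hw))
  have h9 : w = ⁅u, v⁆ := by
    rw [h7, mul_inv_eq_one] at h8
    exact h8.symm
  rw [h9]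
  exact Subgroup.commutator_mem_commutator (hXU i hu) (hXU j hv)

/-- type `B₂`: the elements of `X z₂` are in `U'` modulo `X z₃`. -/
theorem comp_four [Finite Y] (R : RGD cs h p T n X) {i j : I} (hij : i ≠ j) (h4 : M i j = 4) {w : Y}
    (hw : w ∈ X (cyc cs h i j 2)) :
    ∃ y ∈ X (cyc cs h i j 3), y * w ∈ ⁅Sup X (Pos cs h), Sup X (Pos cs h)⁆ := by
  have hM : (M i j : ℤ) = 4 := by exact_mod_cast h4
  obtain ⟨u, hu, hu1⟩ := exists_ne_one R i
  obtain ⟨v, hv, c, hc, e⟩ := first_comp R hij (by omega) hu hu1 hw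
  have hXU : ∀ l, X (sr l) ≤ Sup X (Pos cs h) := fun l => le_Sup (S := Pos cs h) ⟨isRoot_sr cs h l, sr_nonneg l⟩
  have h1 : ⁅u, v⁆ ∈ Win cs h X i j 2 3 := by
    have h2 := comm_Win R hij (le_refl 1) (by omega) (le_refl _) (x := u) (y := v) (by rwa [cyc_one])
      (by rwa [cyc_m cs h hij])
    rw [hM] at h2
    exact h2
  have h2 : w * v⁻¹ * w⁻¹ ∈ Win cs h X i j 3 (M i j) := by
    have h5 := comm_Win R hij (k := 2) (l := M i j) (by omega) (by omega) (le_refl _) hw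
      (y := v⁻¹) (by rw [cyc_m cs h hij]; exact inv_mem hv)
    have e5 : w * v⁻¹ * w⁻¹ = ⁅w, v⁻¹⁆ * v⁻¹ := by rw [commutatorElement_def]; group
    rw [e5]
    refine mul_mem ?_ ?_
    · refine (Win_le fun r h6 h7 => ?_ : Win cs h X i j (2 + 1) (M i j - 1) ≤ _) h5
      exact le_Win (by omega) (by omega)
    · have h6 : X (cyc cs h i j (M i j)) ≤ Win cs h X i j 3 (M i j) := le_Win (by omega) (le_refl _)
      rw [cyc_m cs h hij] at h6
      exact h6 (inv_mem hv)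
  have h5 : ⁅u, v⁆ * w⁻¹ ∈ Win cs h X i j 3 (M i j) := by
    have e5 : ⁅u, v⁆ * w⁻¹ = c * (w * v⁻¹ * w⁻¹) := by rw [e]; group
    rw [e5]
    exact mul_mem hc h2
  have h6 : ⁅u, v⁆ * w⁻¹ ∈ Win cs h X i j 2 3 :=
    mul_mem h1 (inv_mem (le_Win (le_refl 2) (by omega) hw))
  -- `X z₄` normalises `X z₃`
  have h7 : X (cyc cs h i j (M i j)) ≤ Subgroup.normalizer (X (cyc cs h i j 3) : Set Y) := by
    intro y hy
    have key : ∀ y ∈ X (cyc cs h i j (M i j)), ∀ x ∈ X (cyc cs h i j 3), y * x * y⁻¹ = x := by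
      intro y hy x hx
      have h8 := comm_Win R hij (k := 3) (l := M i j) (by omega) (by omega) (le_refl _) hx hy
      have h9 : Win cs h X i j (3 + 1) (M i j - 1) ≤ ⊥ := Win_le fun r h4 h5 => by omega
      have h10 := Subgroup.mem_bot.1 (h9 h8)
      rw [commutatorElement_def, mul_inv_eq_one, mul_inv_eq_iff_eq_mul] at h10
      rw [← h10]; group
    rw [Subgroup.mem_normalizer_iff]
    intro x
    constructor
    · intro hx
      rw [key y hy x hx]; exact hx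
    · intro hx
      have h8 := key y⁻¹ (inv_mem hy) _ hx
      have e8 : y⁻¹ * (y * x * y⁻¹) * y⁻¹⁻¹ = x := by group
      rw [e8] at h8
      rw [h8]; exact hx
  have h8 : Win cs h X i j 3 (M i j) ≤ X (cyc cs h i j 3) ⊔ X (cyc cs h i j (M i j)) := by
    refine Win_le fun r h9 h10 => ?_
    rcases (by omega : r = 3 ∨ r = M i j) with rfl | rfl
    · exact le_sup_left
    · exact le_sup_right
  have h9 : ⁅u, v⁆ * w⁻¹ ∈ ((X (cyc cs h i j 3) ⊔ X (cyc cs h i j (M i j)) : Subgroup Y) : Set Y) := h8 h5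
  rw [Subgroup.coe_mul_of_right_le_normalizer_left _ _ h7, Set.mem_mul] at h9
  obtain ⟨y, hy, z, hz, e9⟩ := h9
  have h10 : z = 1 := by
    rw [cyc_m cs h hij] at hz
    refine eq_one_of_mem_V R j hz (Win_le_V hij (a := 2) (b := 3) (by omega) (by omega) ?_)
    have e10 : z = y⁻¹ * (⁅u, v⁆ * w⁻¹) := by rw [← e9]; group
    rw [e10]
    exact mul_mem (inv_mem (le_Win (by omega) (le_refl 3) hy)) h6
  rw [h10, mul_one] at e9
  refine ⟨y, hy, ?_⟩
  have e11 : y * w = ⁅u, v⁆ := by rw [e9]; group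
  rw [e11]
  exact Subgroup.commutator_mem_commutator (hXU i hu) (hXU j hv)

omit [Finite W] in
theorem swap_two {i j : I} (hij : i ≠ j) (h4 : M i j = 4) : cyc cs h j i 2 = cyc cs h i j 3 := by
  have hM : (M i j : ℤ) = 4 := by exact_mod_cast h4
  rw [cyc_swap hij, hM]; norm_num

omit [Finite W] in
theorem swap_three {i j : I} (hij : i ≠ j) (h4 : M i j = 4) : cyc cs h j i 3 = cyc cs h i j 2 := by
  have hM : (M i j : ℤ) = 4 := by exact_mod_cast h4
  rw [cyc_swap hij, hM]; norm_num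

/-- an f.p.f. automorphism of a finite group: every element is `w⁻¹ w^t` -/
theorem exists_of_fpf [Finite Y] {K : Subgroup Y} {t : Y} (hK : ∀ x ∈ K, t * x * t⁻¹ ∈ K)
    (hf : ∀ x ∈ K, t * x * t⁻¹ = x → x = 1) : ∀ x ∈ K, ∃ w ∈ K, x = w⁻¹ * (t * w * t⁻¹) := by
  let f : K → K := fun w => ⟨w.1⁻¹ * (t * w.1 * t⁻¹), mul_mem (inv_mem w.2) (hK _ w.2)⟩
  have hinj : Function.Injective f := by
    intro w w' e
    have e1 : w.1⁻¹ * (t * w.1 * t⁻¹) = w'.1⁻¹ * (t * w'.1 * t⁻¹) := congrArg Subtype.val e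
    have e2 : t * (w'.1 * w.1⁻¹) * t⁻¹ = w'.1 * w.1⁻¹ := by
      have e3 : t * w'.1 * t⁻¹ = w'.1 * (w.1⁻¹ * (t * w.1 * t⁻¹)) := by rw [e1]; group
      have e4 : t * (w'.1 * w.1⁻¹) * t⁻¹ = (t * w'.1 * t⁻¹) * (t * w.1 * t⁻¹)⁻¹ := by group
      rw [e4, e3]; group
    have e5 := hf _ (mul_mem w'.2 (inv_mem w.2)) e2
    exact Subtype.ext (mul_inv_eq_one.1 e5).symm
  have hsur := Finite.surjective_of_injective hinj
  intro x hx
  obtain ⟨w, hw⟩ := hsur ⟨x, hx⟩
  exact ⟨w.1, w.2, (congrArg Subtype.val hw).symm⟩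

theorem T_conj_U (R : RGD cs h p T n X) {t : Y} (ht : t ∈ T) :
    ∀ x ∈ ⁅Sup X (Pos cs h), Sup X (Pos cs h)⁆, t * x * t⁻¹ ∈ ⁅Sup X (Pos cs h), Sup X (Pos cs h)⁆ := by
  intro x hx
  have h1 : cj t (Sup X (Pos cs h)) = Sup X (Pos cs h) := mem_normalizer_iff_cj.1 (R.T_le_normalizer_U ht)
  have h2 : cj t ⁅Sup X (Pos cs h), Sup X (Pos cs h)⁆ = ⁅Sup X (Pos cs h), Sup X (Pos cs h)⁆ := by
    unfold cj at h1 ⊢
    rw [Subgroup.map_commutator, h1]
  rw [← h2]
  exact conj_mem_cj.2 hx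

/-- a torus element which centralises `X z₃` and is f.p.f. on `X z₂` -/
theorem mid_of_tor [Finite Y] (R : RGD cs h p T n X) {i j : I} (hij : i ≠ j) (h4 : M i j = 4)
    (hs : ∃ t ∈ T, (∀ x ∈ X (cyc cs h i j 3), t * x * t⁻¹ = x) ∧
      ∀ x ∈ X (cyc cs h i j 2), t * x * t⁻¹ = x → x = 1) :
    X (cyc cs h i j 2) ≤ ⁅Sup X (Pos cs h), Sup X (Pos cs h)⁆ ∧
      X (cyc cs h i j 3) ≤ ⁅Sup X (Pos cs h), Sup X (Pos cs h)⁆ := by
  obtain ⟨t, ht, h3, h5⟩ := hs
  have h6 : X (cyc cs h i j 2) ≤ ⁅Sup X (Pos cs h), Sup X (Pos cs h)⁆ := by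
    intro x hx
    obtain ⟨w, hw, rfl⟩ := exists_of_fpf (fun x hx => T_conj R ht (isRoot_cyc cs h i j 2) hx) h5 x hx
    obtain ⟨y, hy, hyw⟩ := comp_four R hij h4 hw
    have h7 := T_conj_U R ht _ hyw
    have e8 : t * (y * w) * t⁻¹ = (t * y * t⁻¹) * (t * w * t⁻¹) := by group
    rw [e8, h3 y hy] at h7
    have h9 := mul_mem (inv_mem hyw) h7
    have e10 : (y * w)⁻¹ * (y * (t * w * t⁻¹)) = w⁻¹ * (t * w * t⁻¹) := by group
    rwa [e10] at h9
  refine ⟨h6, fun x hx => ?_⟩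
  have h4' : M j i = 4 := by rw [M.symmetric]; exact h4
  rw [← swap_two (cs := cs) (h := h) hij h4] at hx
  obtain ⟨y, hy, hyx⟩ := comp_four R hij.symm h4' hx
  rw [swap_three (cs := cs) (h := h) hij h4] at hy
  have := mul_mem (inv_mem (h6 hy)) hyx
  rwa [inv_mul_cancel_left] at this

theorem mid_four [Finite Y] (R : RGD cs h p T n X) {i j : I} (hij : i ≠ j) (h4 : M i j = 4)
    (hs : ∃ t ∈ T, (∀ x ∈ X (sr i), t * x * t⁻¹ = x) ∧ ∀ x ∈ X (sr j), t * x * t⁻¹ = x → x = 1) :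
    X (cyc cs h i j 2) ≤ ⁅Sup X (Pos cs h), Sup X (Pos cs h)⁆ ∧
      X (cyc cs h i j 3) ≤ ⁅Sup X (Pos cs h), Sup X (Pos cs h)⁆ := by
  obtain ⟨t, ht, h1, h2⟩ := hs
  have h2' := fpf_neg R ht h2
  -- transport with `n_i n_j`
  set! g : Y := n i * n j with hg
  have hgw : Rp cs R.nsys (cs.simple i * cs.simple j) g := (rp_simple cs R.nsys i).mul (rp_simple cs R.nsys j)
  have hsh : ∀ k, rep cs h (cs.simple i * cs.simple j) (cyc cs h i j k) = cyc cs h i j (k + 2) := by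
    intro k
    have := cyc_shift cs h i j k 1
    rw [zpow_one, mul_one] at this
    exact this.symm
  have hcj : ∀ k, cj g (X (cyc cs h i j k)) = X (cyc cs h i j (k + 2)) := by
    intro k
    rw [R.conj_rp hgw (isRoot_cyc cs h i j k), hsh]
  have htT : g * t * g⁻¹ ∈ T := by
    have h5 := (Subgroup.mem_normalizer_iff.1 (mul_mem (R.nsys.norm i) (R.nsys.norm j)) t).1 ht
    exact h5
  refine mid_of_tor R hij h4 ⟨g * t * g⁻¹, htT, ?_, ?_⟩
  · intro x hx
    have h6 := hcj 1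
    rw [cyc_one] at h6
    have e : (1 : ℤ) + 2 = 3 := by norm_num
    rw [e] at h6
    rw [← h6, mem_cj] at hx
    have h7 := h1 _ hx
    have e8 : (g * t * g⁻¹) * x * (g * t * g⁻¹)⁻¹ = g * (t * (g⁻¹ * x * g) * t⁻¹) * g⁻¹ := by group
    rw [e8, h7]; group
  · intro x hx hx2
    have h6 := hcj 0
    rw [cyc_zero, zero_add] at h6
    rw [← h6, mem_cj] at hx
    have h7 : t * (g⁻¹ * x * g) * t⁻¹ = g⁻¹ * x * g := by
      have e8 : t * (g⁻¹ * x * g) * t⁻¹ = g⁻¹ * ((g * t * g⁻¹) * x * (g * t * g⁻¹)⁻¹) * g := by group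
      rw [e8, hx2]
    have h8 := h2' _ hx h7
    have e9 : x = g * (g⁻¹ * x * g) * g⁻¹ := by group
    rw [e9, h8]; group

/-- In the double bond `i`, `j` one of the two pairs of orthogonal root groups commutes. -/
def CommFour (cs : CoxeterSystem M W) (h : IsCartan M A) (X : (I → ℤ) → Subgroup Y) (i j : I) : Prop :=
  (∀ a ∈ X (sr i), ∀ b ∈ X (cyc cs h i j 3), a * b * a⁻¹ = b) ∨
    ∀ a ∈ X (sr j), ∀ b ∈ X (cyc cs h i j 2), a * b * a⁻¹ = b

omit [Finite W] in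
theorem CommFour.symm {i j : I} (hij : i ≠ j) (h4 : M i j = 4) (hc : CommFour cs h X i j) : CommFour cs h X j i := by
  rcases hc with h1 | h1
  · right
    rw [swap_two (cs := cs) (h := h) hij h4]
    exact h1
  · left
    rw [swap_three (cs := cs) (h := h) hij h4]
    exact h1

/-- type `B₂` -/
theorem le_comm_four [Finite Y] (R : RGD cs h p T n X) {i j : I} (hij : i ≠ j) (h4 : M i j = 4)
    (hs : (∃ t ∈ T, (∀ x ∈ X (sr i), t * x * t⁻¹ = x) ∧ ∀ x ∈ X (sr j), t * x * t⁻¹ = x → x = 1) ∨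
      ∃ t ∈ T, (∀ x ∈ X (sr j), t * x * t⁻¹ = x) ∧ ∀ x ∈ X (sr i), t * x * t⁻¹ = x → x = 1) :
    X (cyc cs h i j 2) ≤ ⁅Sup X (Pos cs h), Sup X (Pos cs h)⁆ ∧
      X (cyc cs h i j 3) ≤ ⁅Sup X (Pos cs h), Sup X (Pos cs h)⁆ := by
  rcases hs with hs | hs
  · exact mid_four R hij h4 hs
  · have h4' : M j i = 4 := by rw [M.symmetric]; exact h4
    have h1 := mid_four R hij.symm h4' hs
    rw [swap_two (cs := cs) (h := h) hij h4, swap_three (cs := cs) (h := h) hij h4] at h1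
    exact h1.symm

/-- **(k4) FRAT.** -/
theorem frat [Finite Y] [Fact p.Prime] (R : RGD cs h p T n X) {i j : I} (hij : i ≠ j) (h6 : M i j ≠ 6)
    (h4 : M i j = 4 → (∃ t ∈ T, (∀ x ∈ X (sr i), t * x * t⁻¹ = x) ∧ ∀ x ∈ X (sr j), t * x * t⁻¹ = x → x = 1) ∨
      ∃ t ∈ T, (∀ x ∈ X (sr j), t * x * t⁻¹ = x) ∧ ∀ x ∈ X (sr i), t * x * t⁻¹ = x → x = 1)
    {Pi Pj P : Subgroup Y} (hi : n i ∈ Pi) (hj : n j ∈ Pj)
    (hP : P ≤ B cs h T X ⊔ Subgroup.closure {n i, n j}) {X₀ : Subgroup Y} (hX₀ : X₀ ≤ Sup X (Pos cs h))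
    (hcov : ∀ u ∈ Sup X (Pos cs h), ∃ x ∈ X₀, x⁻¹ * u ∈ Qk (B cs h T X) Pi ∧ x⁻¹ * u ∈ Qk (B cs h T X) Pj) :
    ∀ u ∈ Sup X (Pos cs h), ∃ x ∈ X₀, x⁻¹ * u ∈ Qk (B cs h T X) P := by
  refine frat_of_comm R hij (fun k hk1 hk2 => ?_) hi hj hP hX₀ hcov
  rcases h.rel i j hij with ⟨h0, -⟩ | ⟨h0, -⟩ | ⟨h0, -⟩ | ⟨h0, -⟩
  · have : (M i j : ℤ) = 2 := by exact_mod_cast h0
    omega
  · have : (M i j : ℤ) = 3 := by exact_mod_cast h0
    obtain rfl : k = 2 := by omega
    exact le_comm_three R hij h0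
  · have : (M i j : ℤ) = 4 := by exact_mod_cast h0
    rcases (by omega : k = 2 ∨ k = 3) with rfl | rfl
    · exact (le_comm_four R hij h0 (h4 h0)).1
    · exact (le_comm_four R hij h0 (h4 h0)).2
  · exact absurd h0 h6

/-! ### The integral commutator formula -/

/-- the coordinates of the roots of a double bond -/
theorem coords_four {i j : I} (hij : i ≠ j) {a b : ℤ} (ha : -A i j = a) (hb : -A j i = b) :
    (cyc cs h i j 2 i = a ∧ cyc cs h i j 2 j = 1) ∧ (cyc cs h i j 3 i = b * a - 1 ∧ cyc cs h i j 3 j = b) := by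
  have h2 := cyc_apply cs h hij 2
  have h3 := cyc_apply cs h hij 3
  rw [ha, hb] at h2 h3
  simp only [co] at h2 h3
  norm_num at h2 h3
  exact ⟨h2, h3⟩

/-- The integral commutator formula gives `CommFour`. -/
theorem commFour_of_int (hX : IntComm cs h X) {i j : I} (hij : i ≠ j) (h4 : M i j = 4) : CommFour cs h X i j := by
  have hM : (M i j : ℤ) = 4 := by exact_mod_cast h4
  have key : ∀ {x y : I → ℤ}, IsRoot cs h x → IsRoot cs h y → x ≠ y → x ≠ -y → (∀ z, ¬ IB cs h x y z) →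
      ∀ a ∈ X x, ∀ b ∈ X y, a * b * a⁻¹ = b := by
    intro x y hx hy hxy hxy' hz a ha b hb
    have h5 := hX x y hx hy hxy hxy' a ha b hb
    have h6 : KFacts.RgdBorelTits.FS X {z | IB cs h x y z} ≤ ⊥ := by
      unfold KFacts.RgdBorelTits.FS
      exact iSup_le fun z => absurd z.2 (hz z.1)
    have h7 := Subgroup.mem_bot.1 (h6 h5)
    rw [commutatorElement_def, mul_inv_eq_one] at h7
    exact h7
  have hpos : ∀ z, IsRoot cs h z → Supp i j z → 0 ≤ z → z = sr i ∨ z = cyc cs h i j 2 ∨ z = cyc cs h i j 3 ∨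
      z = sr j := by
    intro z hz hs h0
    obtain ⟨k, hk1, hk2, rfl⟩ := exists_cyc_pos cs h hij hz hs h0
    rw [hM] at hk2
    rcases (by omega : k = 1 ∨ k = 2 ∨ k = 3 ∨ k = M i j) with rfl | rfl | rfl | rfl
    · exact Or.inl (cyc_one cs h i j)
    · exact Or.inr (Or.inl rfl)
    · exact Or.inr (Or.inr (Or.inl rfl))
    · exact Or.inr (Or.inr (Or.inr (cyc_m cs h hij)))
  have hi1 : (sr i : I → ℤ) i = 1 := sr_self i
  have hi2 : (sr i : I → ℤ) j = 0 := sr_ne hij.symm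
  have hj1 : (sr j : I → ℤ) j = 1 := sr_self j
  have hj2 : (sr j : I → ℤ) i = 0 := sr_ne hij
  rcases h.rel i j hij with ⟨h0, -⟩ | ⟨h0, -⟩ | ⟨h0, ⟨h1, h1'⟩ | ⟨h1, h1'⟩⟩ | ⟨h0, -⟩
  · omega
  · omega
  · -- `A i j = -1`, `A j i = -2`
    left
    obtain ⟨⟨c1, c2⟩, c3, c4⟩ := coords_four (cs := cs) (h := h) hij (a := 1) (b := 2) (by rw [h1]; norm_num)
      (by rw [h1']; norm_num)
    refine key (isRoot_sr cs h i) (isRoot_cyc cs h i j 3) ?_ ?_ ?_
    · intro he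
      have := congrFun he j
      omega
    · intro he
      have := congrFun he j
      rw [Pi.neg_apply] at this
      omega
    · rintro z ⟨hz, r, s, hr, hs, e⟩
      have e1 := congrFun e i
      have e2 := congrFun e j
      rw [Pi.add_apply, Pi.smul_apply, Pi.smul_apply, smul_eq_mul, smul_eq_mul, c3, hi1] at e1
      rw [Pi.add_apply, Pi.smul_apply, Pi.smul_apply, smul_eq_mul, smul_eq_mul, c4, hi2] at e2
      have hsz : Supp i j z := by
        intro k hki hkj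
        rw [e, Pi.add_apply, Pi.smul_apply, Pi.smul_apply, sr_ne hki, cyc_supp cs h 3 k hki hkj, smul_zero,
          smul_zero, add_zero]
      have hz0 : 0 ≤ z := by
        rcases hz.pos_or_neg with h5 | h5
        · exact h5
        · have h6 : z j ≤ 0 := h5 j
          omega
      rcases hpos z hz hsz hz0 with h5 | h5 | h5 | h5 <;> rw [h5] at e1 e2 <;> (clear * - h hi1 hr hs e1 c1 c3 hj2; omega)
  · right
    obtain ⟨⟨c1, c2⟩, c3, c4⟩ := coords_four (cs := cs) (h := h) hij (a := 2) (b := 1) (by rw [h1]; norm_num)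
      (by rw [h1']; norm_num)
    refine key (isRoot_sr cs h j) (isRoot_cyc cs h i j 2) ?_ ?_ ?_
    · intro he
      have := congrFun he i
      omega
    · intro he
      have := congrFun he i
      rw [Pi.neg_apply] at this
      omega
    · rintro z ⟨hz, r, s, hr, hs, e⟩
      have e1 := congrFun e i
      have e2 := congrFun e j
      rw [Pi.add_apply, Pi.smul_apply, Pi.smul_apply, smul_eq_mul, smul_eq_mul, c1, hj2] at e1
      rw [Pi.add_apply, Pi.smul_apply, Pi.smul_apply, smul_eq_mul, smul_eq_mul, c2, hj1] at e2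
      have hsz : Supp i j z := by
        intro k hki hkj
        rw [e, Pi.add_apply, Pi.smul_apply, Pi.smul_apply, sr_ne hkj, cyc_supp cs h 2 k hki hkj, smul_zero,
          smul_zero, add_zero]
      have hz0 : 0 ≤ z := by
        rcases hz.pos_or_neg with h5 | h5
        · exact h5
        · have h6 : z j ≤ 0 := h5 j
          omega
      rcases hpos z hz hsz hz0 with h5 | h5 | h5 | h5 <;> rw [h5] at e1 e2 <;> (clear * - h hi1 e1 c1 c2 hr e2 c3 hj2 hs; omega)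
  · omega

end Cfsg.Agent.OmegaEnd.Frat

end

section


/-!
# Double bonds (K-side of the END of NODE LIE)

* `sp_of` : `T` abelian, `M i j = 4`, the nodes `i`, `j` of type `TrNode`, `CommFour` ⟹ a torus element centralises one of
  `X_i`, `X_j` and is fixed-point-free on the other one. No coordinates;
* `tr_of_comm` : if `X_i` and `X_{s_j i}` commute, the torus of `j` is transitive on `X_i`;
* `krow_of` : `KRow` from `TrNode` and `CommFour`.
-/

set_option autoImplicit false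
set_option linter.unusedSectionVars false

namespace Cfsg.Agent.Omega.Lie.End.KFour

open CoxeterSystem Cfsg.Agent.ChevalleyStructure.CoxeterGeom Cfsg.Agent.Tits.Roots Cfsg.Agent.Tits.Core
  Cfsg.Agent.Tits.RootComb Cfsg.Agent.Nodes.Comb Cfsg.Agent.Nodes.Reps Cfsg.Agent.Nodes.BNOf Cfsg.Agent.Nodes.BNOf.RGD
  Cfsg.Agent.Nodes.FreeTorus Cfsg.Agent.Omega.Lie.End.KTorus
open scoped commutatorElement

variable {I W Y : Type*} [Fintype I] [DecidableEq I] [Group W] [Group Y] {M : CoxeterMatrix I}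
  {cs : CoxeterSystem M W} {A : I → I → ℤ} {h : IsCartan M A} {T : Subgroup Y} {n : I → Y}
  {X : (I → ℤ) → Subgroup Y} [Finite W]

/-- `H` is transitive by conjugation on the nontrivial elements of `P`. -/
def TrOn (H P : Subgroup Y) : Prop := ∀ x ∈ P, x ≠ 1 → ∀ y ∈ P, y ≠ 1 → ∃ t ∈ H, t * x * t⁻¹ = y

omit [Finite W] in
theorem TrNode.own {i : I} (hN : TrNode T n X i) : TrOn (T ⊓ LL X (sr i)) (X (sr i)) := by
  intro x hx hx1 y hy hy1
  obtain ⟨t, ht, e⟩ := hN.tr x hx y hy hx1 hy1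
  exact ⟨t, ⟨ht.1, ht.2.1⟩, e⟩

variable (R : RGD cs h 2 T n X)

include R

variable (hTc : ∀ s ∈ T, ∀ t ∈ T, s * t = t * s)

include hTc

end Cfsg.Agent.Omega.Lie.End.KFour

end

section


/-!
# `TrNode` is free

For every root group datum of characteristic two with abelian torus, every node `i` with `|X_i| ≥ 4` and `X_i` of exponent
two is of type `TrNode`: the elements of `T ∩ ⟨X_i, X_{-i}⟩` inverted by `n_i` are transitive on the nontrivial elements of
`X_i`. No coordinates, no identification of the rank one group: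

* `One.exists_conj` : `x ∈ X_i`, `y ∈ X_{-i}` nontrivial: `x y` has odd order, so `x` and `y` are conjugate;
* `One.tr` : the rank one torus is transitive on `X_i \ 1`;
* `One.fix` : a torus element which commutes with `n_i` centralises `X_i` (the elements `μ` are involutions, and `μ` is
  injective on `X_i \ 1`);
* `trNode`.
-/

set_option autoImplicit false
set_option linter.unusedSectionVars false

namespace Cfsg.Agent.Omega.Lie.End.KTrFree

/-- Rank one data of characteristic two with abelian torus. -/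
structure One {Y : Type*} [Group Y] (A B T : Subgroup Y) (n : Y) : Prop where
  ab : ∀ s ∈ T, ∀ t ∈ T, s * t = t * s
  odd : Odd (Nat.card T)
  sq : ∀ x ∈ A, x * x = 1
  TA : ∀ t ∈ T, ∀ x ∈ A, t * x * t⁻¹ ∈ A
  TB : ∀ t ∈ T, ∀ x ∈ B, t * x * t⁻¹ ∈ B
  nA : ∀ x ∈ A, n * x * n⁻¹ ∈ B
  nA' : ∀ x ∈ A, n⁻¹ * x * n ∈ B
  nB : ∀ x ∈ B, n * x * n⁻¹ ∈ A
  nB' : ∀ x ∈ B, n⁻¹ * x * n ∈ A
  nT : ∀ t ∈ T, n * t * n⁻¹ ∈ T
  nT' : ∀ t ∈ T, n⁻¹ * t * n ∈ T
  nn : n * n ∈ T
  rk : ∀ u ∈ B, u ≠ 1 → ∃ a ∈ A, ∃ t ∈ T, ∃ b ∈ A, u = a * t * n * b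
  inf : ∀ x ∈ B, ∀ a ∈ A, ∀ t ∈ T, x = a * t → x = 1

namespace One

variable {Y : Type*} [Group Y] {A B T : Subgroup Y} {n : Y}

theorem conj_ne {g x : Y} (hx : x ≠ 1) : g * x * g⁻¹ ≠ 1 := by
  intro h0
  apply hx
  have : x = g⁻¹ * (g * x * g⁻¹) * g := by group
  rw [this, h0]; group

theorem symm (D : One A B T n) : One B A T n where
  ab := D.ab
  odd := D.odd
  sq x hx := by
    have h1 := D.sq _ (D.nB x hx)
    have h2 : n * x * n⁻¹ * (n * x * n⁻¹) = n * (x * x) * n⁻¹ := by group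
    rw [h2] at h1
    have h3 : x * x = n⁻¹ * (n * (x * x) * n⁻¹) * n := by group
    rw [h3, h1]; group
  TA := D.TB
  TB := D.TA
  nA := D.nB
  nA' := D.nB'
  nB := D.nA
  nB' := D.nA'
  nT := D.nT
  nT' := D.nT'
  nn := D.nn
  rk u hu hu1 := by
    obtain ⟨a, ha, t, ht, b, hb, e⟩ := D.rk _ (D.nA u hu) (conj_ne hu1)
    refine ⟨n⁻¹ * a * n, D.nA' a ha, n⁻¹ * t * n, D.nT' t ht, n⁻¹ * b * n, D.nA' b hb, ?_⟩
    have h1 : u = n⁻¹ * (n * u * n⁻¹) * n := by group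
    rw [h1, e]; group
  inf x hx a ha t ht e := by
    have h1 := D.inf _ (D.nA x hx) _ (D.nB a ha) _ (D.nT t ht) (by rw [e]; group)
    by_contra hx1
    exact conj_ne hx1 h1

variable (D : One A B T n)

include D

theorem comm {x y : Y} (hx : x ∈ A) (hy : y ∈ A) : x * y = y * x := by
  have h1 := D.sq _ (A.mul_mem hx hy)
  have h2 := D.sq x hx
  have h3 := D.sq y hy
  have h4 : x⁻¹ = x := inv_eq_of_mul_eq_one_left h2
  have h5 : y⁻¹ = y := inv_eq_of_mul_eq_one_left h3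
  have h6 : (x * y)⁻¹ = x * y := inv_eq_of_mul_eq_one_left h1
  rw [← h6, mul_inv_rev, h4, h5]

theorem inf' {x : Y} (hA : x ∈ A) (hB : x ∈ B) : x = 1 :=
  D.inf x hB x hA 1 T.one_mem (by rw [mul_one])

theorem t_one {t : Y} (ht : t ∈ T) (h2 : t * t = 1) : t = 1 := by
  have h3 : t ^ Nat.card T = 1 := by
    have h4 : (⟨t, ht⟩ : T) ^ Nat.card T = 1 := pow_card_eq_one'
    exact congrArg Subtype.val h4
  obtain ⟨m, hm⟩ := D.odd
  rw [hm, pow_succ, pow_mul, pow_two, h2, one_pow, one_mul] at h3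
  exact h3

theorem exists_sqrt {t : Y} (ht : t ∈ T) : ∃ r ∈ T, r * r = t ∧ ∃ m : ℕ, r = t ^ m := by
  have h3 : t ^ Nat.card T = 1 := by
    have h4 : (⟨t, ht⟩ : T) ^ Nat.card T = 1 := pow_card_eq_one'
    exact congrArg Subtype.val h4
  obtain ⟨m, hm⟩ := D.odd
  refine ⟨t ^ (m + 1), T.pow_mem ht _, ?_, m + 1, rfl⟩
  rw [← pow_add]
  have : m + 1 + (m + 1) = Nat.card T + 1 := by omega
  rw [this, pow_succ, h3, one_mul]

/-- Bruhat decomposition in rank one. -/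
theorem bruhat {g : Y} (hg : g ∈ A ⊔ B) :
    (∃ a ∈ A, ∃ t ∈ T, g = a * t) ∨ ∃ a ∈ A, ∃ t ∈ T, ∃ b ∈ A, g = a * t * n * b := by
  have st : ∀ y, (y ∈ A ∨ y ∈ B) → ∀ x, ((∃ a ∈ A, ∃ t ∈ T, x = a * t) ∨
      ∃ a ∈ A, ∃ t ∈ T, ∃ b ∈ A, x = a * t * n * b) →
      ((∃ a ∈ A, ∃ t ∈ T, y * x = a * t) ∨ ∃ a ∈ A, ∃ t ∈ T, ∃ b ∈ A, y * x = a * t * n * b) := by
    rintro y (hy | hy) x hx
    · rcases hx with ⟨a, ha, t, ht, rfl⟩ | ⟨a, ha, t, ht, b, hb, rfl⟩
      · exact Or.inl ⟨y * a, A.mul_mem hy ha, t, ht, by group⟩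
      · exact Or.inr ⟨y * a, A.mul_mem hy ha, t, ht, b, hb, by group⟩
    · by_cases hy1 : y = 1
      · rw [hy1, one_mul]; exact hx
      obtain ⟨a, ha, t, ht, b, hb, rfl⟩ := D.rk y hy hy1
      rcases hx with ⟨a', ha', t', ht', rfl⟩ | ⟨a', ha', t', ht', b', hb', rfl⟩
      · refine Or.inr ⟨a, ha, t * (n * t' * n⁻¹), T.mul_mem ht (D.nT t' ht'), t'⁻¹ * (b * a') * t', ?_, by group⟩
        have := D.TA t'⁻¹ (T.inv_mem ht') _ (A.mul_mem hb ha')
        rwa [inv_inv] at this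
      · have hs : n * t' * n⁻¹ * (n * n) ∈ T := T.mul_mem (D.nT t' ht') D.nn
        by_cases hc : b * a' = 1
        · refine Or.inl ⟨a * ((t * (n * t' * n⁻¹ * (n * n))) * b' * (t * (n * t' * n⁻¹ * (n * n)))⁻¹),
            A.mul_mem ha (D.TA _ (T.mul_mem ht hs) _ hb'), t * (n * t' * n⁻¹ * (n * n)), T.mul_mem ht hs, ?_⟩
          calc a * t * n * b * (a' * t' * n * b') = a * t * n * (b * a') * t' * n * b' := by group
            _ = a * t * n * t' * n * b' := by rw [hc, mul_one]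
            _ = _ := by group
        · obtain ⟨a2, ha2, t2, ht2, b2, hb2, e2⟩ := D.rk _ (D.nA _ (A.mul_mem hb ha')) (conj_ne hc)
          generalize hS : n * t' * n⁻¹ * (n * n) = s at hs
          have hb3 : s⁻¹ * b2 * s ∈ A := by
            have := D.TA s⁻¹ (T.inv_mem hs) _ hb2
            rwa [inv_inv] at this
          refine Or.inr ⟨a * (t * a2 * t⁻¹), A.mul_mem ha (D.TA t ht _ ha2), t * t2 * (n * s * n⁻¹),
            T.mul_mem (T.mul_mem ht ht2) (D.nT s hs), s⁻¹ * b2 * s * b', A.mul_mem hb3 hb', ?_⟩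
          calc a * t * n * b * (a' * t' * n * b') = a * t * (n * (b * a') * n⁻¹) * (n * t' * n⁻¹ * (n * n)) * b' := by
                group
            _ = a * t * (a2 * t2 * n * b2) * s * b' := by rw [e2, hS]
            _ = _ := by group
  have hx' : g ∈ Subgroup.closure ((A : Set Y) ∪ (B : Set Y)) := by
    rw [Subgroup.closure_union, Subgroup.closure_eq, Subgroup.closure_eq]
    exact hg
  clear hg
  induction hx' using Subgroup.closure_induction_left with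
  | one => exact Or.inl ⟨1, one_mem _, 1, one_mem _, by group⟩
  | mul_left y hy x _ ih => exact st y hy x ih
  | inv_mul_cancel y hy x _ ih =>
    refine st y⁻¹ ?_ x ih
    rcases hy with hy | hy
    · exact Or.inl (A.inv_mem hy)
    · exact Or.inr (B.inv_mem hy)

/-- The conjugates of `A` intersect trivially. -/
theorem mem_of_conj {g x : Y} (hg : g ∈ A ⊔ B) (hx : x ∈ A) (hx1 : x ≠ 1) (h : g * x * g⁻¹ ∈ A) :
    ∃ a ∈ A, ∃ t ∈ T, g = a * t := by
  rcases D.bruhat hg with h1 | ⟨a, ha, t, ht, b, hb, rfl⟩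
  · exact h1
  · exfalso
    have h2 : b * x * b⁻¹ = x := by rw [D.comm hb hx, mul_inv_cancel_right]
    have h3 : t * (n * x * n⁻¹) * t⁻¹ ∈ B := D.TB t ht _ (D.nA x hx)
    have h4 : t * (n * x * n⁻¹) * t⁻¹ ∈ A := by
      have e : t * (n * x * n⁻¹) * t⁻¹ = a⁻¹ * (a * t * n * b * x * (a * t * n * b)⁻¹) * a := by
        have : a * t * n * b * x * (a * t * n * b)⁻¹ = a * t * n * (b * x * b⁻¹) * n⁻¹ * t⁻¹ * a⁻¹ := by group
        rw [this, h2]; group
      rw [e]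
      exact A.mul_mem (A.mul_mem (A.inv_mem ha) h) ha
    exact conj_ne (conj_ne hx1) (D.inf' h4 h3)

theorem mem_of_comm {x z : Y} (hz : z ∈ A ⊔ B) (hx : x ∈ A) (hx1 : x ≠ 1) (h : z * x = x * z) (hzz : z * z = 1) :
    z ∈ A := by
  obtain ⟨a, ha, t, ht, rfl⟩ := D.mem_of_conj hz hx hx1 (by rw [h, mul_inv_cancel_right]; exact hx)
  have h1 : t * t ∈ A := by
    have e : t * t = (t * a * t⁻¹)⁻¹ * a⁻¹ * (a * t * (a * t)) := by group
    rw [e, hzz, mul_one]
    exact A.mul_mem (A.inv_mem (D.TA t ht a ha)) (A.inv_mem ha)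
  have h2 : t * t = 1 := D.t_one (T.mul_mem ht ht) (D.sq _ h1)
  rw [D.t_one ht h2, mul_one]
  exact ha

/-- `x ∈ A` and `y ∈ B` are conjugate. -/
theorem exists_conj [Finite Y] {x y : Y} (hx : x ∈ A) (hx1 : x ≠ 1) (hy : y ∈ B) (hy1 : y ≠ 1) :
    ∃ g ∈ A ⊔ B, g * x * g⁻¹ = y := by
  have hA : A ≤ A ⊔ B := le_sup_left
  have hB : B ≤ A ⊔ B := le_sup_right
  have hxx := D.sq x hx
  have hyy := D.symm.sq y hy
  have hxi : x⁻¹ = x := inv_eq_of_mul_eq_one_left hxx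
  have hyi : y⁻¹ = y := inv_eq_of_mul_eq_one_left hyy
  have hrL : x * y ∈ A ⊔ B := mul_mem (hA hx) (hB hy)
  have hxr : ∀ k : ℕ, x * (x * y) ^ k * x⁻¹ = ((x * y) ^ k)⁻¹ := by
    intro k
    have h1 : x * (x * y) * x⁻¹ = (x * y)⁻¹ := by
      rw [mul_inv_rev, hxi, hyi]
      calc x * (x * y) * x = (x * x) * y * x := by group
        _ = y * x := by rw [hxx, one_mul]
    have h2 : x * (x * y) ^ k * x⁻¹ = (x * (x * y) * x⁻¹) ^ k := by rw [conj_pow]
    rw [h2, h1, inv_pow]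
  have hyr : ∀ k : ℕ, y * (x * y) ^ k * y⁻¹ = ((x * y) ^ k)⁻¹ := by
    intro k
    have h1 : y * (x * y) * y⁻¹ = (x * y)⁻¹ := by
      rw [mul_inv_rev, hxi, hyi]
      calc y * (x * y) * y = y * x * (y * y) := by group
        _ = y * x := by rw [hyy, mul_one]
    have h2 : y * (x * y) ^ k * y⁻¹ = (y * (x * y) * y⁻¹) ^ k := by rw [conj_pow]
    rw [h2, h1, inv_pow]
  have hpow : (x * y) ^ orderOf (x * y) = 1 := pow_orderOf_eq_one _
  rcases Nat.even_or_odd' (orderOf (x * y)) with ⟨m, hm | hm⟩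
  · exfalso
    have hpos := orderOf_pos (x * y)
    set! z := (x * y) ^ m with hz
    have hzz : z * z = 1 := by rw [hz, ← pow_add, ← two_mul, ← hm, hpow]
    have hz1 : z ≠ 1 := by
      intro h0
      have := orderOf_dvd_of_pow_eq_one h0
      have := Nat.le_of_dvd (by omega) this
      omega
    have hzi : z⁻¹ = z := inv_eq_of_mul_eq_one_left hzz
    have hzL : z ∈ A ⊔ B := pow_mem hrL m
    have h1 : z * x = x * z := by
      have := hxr m
      rw [← hz, hzi, mul_inv_eq_iff_eq_mul] at this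
      exact this.symm
    have h2 : z * y = y * z := by
      have := hyr m
      rw [← hz, hzi, mul_inv_eq_iff_eq_mul] at this
      exact this.symm
    have h3 := D.mem_of_comm hzL hx hx1 h1 hzz
    have h4 := D.symm.mem_of_comm (by rw [sup_comm]; exact hzL) hy hy1 h2 hzz
    exact hz1 (D.inf' h3 h4)
  · refine ⟨(x * y) ^ m, pow_mem hrL m, ?_⟩
    have h1 := hxr m
    have h2 : x * ((x * y) ^ m)⁻¹ = (x * y) ^ m * x := by
      have h3 := congrArg (fun g => g⁻¹) h1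
      simp only [mul_inv_rev, inv_inv] at h3
      calc x * ((x * y) ^ m)⁻¹ = x * (((x * y) ^ m)⁻¹ * x⁻¹) * x := by group
        _ = (x * y) ^ m * x := by rw [h3]
    have h4 : (x * y) ^ m * (x * y) ^ m * (x * y) = 1 := by
      rw [← pow_add, ← two_mul, ← pow_succ, ← hm, hpow]
    calc (x * y) ^ m * x * ((x * y) ^ m)⁻¹ = (x * y) ^ m * (x * ((x * y) ^ m)⁻¹) := by group
      _ = (x * y) ^ m * (x * y) ^ m * (x * y) * (y⁻¹ * x⁻¹ * x) := by rw [h2]; group
      _ = y := by rw [h4, hyi]; group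

/-- An element of `T n` in `⟨A, B⟩`. -/
theorem exists_mu {u : Y} (hu : u ∈ B) (hu1 : u ≠ 1) : ∃ a ∈ A, ∃ s ∈ T, s * n = a * u * a⁻¹ := by
  obtain ⟨a, ha, s, hs, b, hb, e⟩ := D.rk u hu hu1
  have hai : a⁻¹ = a := inv_eq_of_mul_eq_one_left (D.sq a ha)
  have hbi : b⁻¹ = b := inv_eq_of_mul_eq_one_left (D.sq b hb)
  have hui : u⁻¹ = u := inv_eq_of_mul_eq_one_left (D.symm.sq u hu)
  have hm : s * n = a * u * b := by
    have h1 : s * n = a⁻¹ * u * b⁻¹ := by rw [e]; group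
    rw [h1, hai, hbi]
  set m := s * n with hmdef
  have hmm : m * m ∈ T := by
    have e1 : m * m = s * (n * s * n⁻¹) * (n * n) := by rw [hmdef]; group
    rw [e1]
    exact T.mul_mem (T.mul_mem hs (D.nT s hs)) D.nn
  have hc : b * a⁻¹ = 1 := by
    have hcA : b * a⁻¹ ∈ A := A.mul_mem hb (A.inv_mem ha)
    have hmi : m⁻¹ = (b * a⁻¹) * m * (b * a⁻¹)⁻¹ := by
      have h1 : m⁻¹ = b * u * a := by rw [hm]; simp only [mul_inv_rev]; rw [hai, hbi, hui, ← mul_assoc]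
      have h2 : a * b⁻¹ = b⁻¹ * a := D.comm ha (A.inv_mem hb)
      have h3 : (b * a⁻¹)⁻¹ = b⁻¹ * a := by rw [mul_inv_rev, inv_inv, h2]
      rw [h1, h3, hm]
      group
    -- `m c⁻¹ m⁻¹ = c⁻¹ m⁻²`
    have h3 : m * (b * a⁻¹)⁻¹ * m⁻¹ = (b * a⁻¹)⁻¹ * (m * m)⁻¹ := by
      calc m * (b * a⁻¹)⁻¹ * m⁻¹ = (b * a⁻¹)⁻¹ * ((b * a⁻¹) * m * (b * a⁻¹)⁻¹) * m⁻¹ := by group
        _ = (b * a⁻¹)⁻¹ * m⁻¹ * m⁻¹ := by rw [← hmi]
        _ = _ := by group
    have h4 : m * (b * a⁻¹)⁻¹ * m⁻¹ ∈ B := by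
      have e1 : m * (b * a⁻¹)⁻¹ * m⁻¹ = s * (n * (b * a⁻¹)⁻¹ * n⁻¹) * s⁻¹ := by rw [hmdef]; group
      rw [e1]
      exact D.TB s hs _ (D.nA _ (A.inv_mem hcA))
    have h5 := D.inf _ h4 _ (A.inv_mem hcA) _ (T.inv_mem hmm) h3
    by_contra hne
    exact conj_ne (inv_ne_one.2 hne) h5
  have hab : b = a⁻¹ := by rw [hai]; exact mul_inv_eq_one.1 hc
  rw [hab] at hm
  exact ⟨a, ha, s, hs, hm⟩

/-- The rank one torus is transitive. -/
theorem tr [Finite Y] {x y : Y} (hx : x ∈ A) (hx1 : x ≠ 1) (hy : y ∈ A) (hy1 : y ≠ 1) :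
    ∃ t ∈ T, t ∈ A ⊔ B ∧ t * x * t⁻¹ = y := by
  have hA : A ≤ A ⊔ B := le_sup_left
  have hB : B ≤ A ⊔ B := le_sup_right
  obtain ⟨a, ha, s, hs, e⟩ := D.exists_mu (D.nA x hx) (conj_ne hx1)
  have hmL : s * n ∈ A ⊔ B := by
    rw [e]
    exact mul_mem (mul_mem (hA ha) (hB (D.nA x hx))) (inv_mem (hA ha))
  have h1 : s * n * y * (s * n)⁻¹ ∈ B := by
    have e1 : s * n * y * (s * n)⁻¹ = s * (n * y * n⁻¹) * s⁻¹ := by group
    rw [e1]
    exact D.TB s hs _ (D.nA y hy)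
  obtain ⟨g, hg, h2⟩ := D.exists_conj hx hx1 h1 (conj_ne hy1)
  have h3 : (s * n)⁻¹ * g * x * ((s * n)⁻¹ * g)⁻¹ = y := by
    calc (s * n)⁻¹ * g * x * ((s * n)⁻¹ * g)⁻¹ = (s * n)⁻¹ * (g * x * g⁻¹) * (s * n) := by group
      _ = y := by rw [h2]; group
  have h4 : (s * n)⁻¹ * g ∈ A ⊔ B := mul_mem (inv_mem hmL) hg
  obtain ⟨c, hc, t, ht, e2⟩ := D.mem_of_conj h4 hx hx1 (by rw [h3]; exact hy)
  refine ⟨t, ht, ?_, ?_⟩
  · have e3 : t = c⁻¹ * ((s * n)⁻¹ * g) := by rw [e2]; group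
    rw [e3]
    exact mul_mem (inv_mem (hA hc)) h4
  · rw [e2] at h3
    have h5 : c * (t * x * t⁻¹) = (t * x * t⁻¹) * c := D.comm hc (D.TA t ht x hx)
    calc t * x * t⁻¹ = c * (t * x * t⁻¹) * c⁻¹ := by rw [h5, mul_inv_cancel_right]
      _ = c * t * x * (c * t)⁻¹ := by group
      _ = y := h3

/-- A torus element which commutes with `n` centralises `A`. -/
theorem fix [Finite Y] {t : Y} (ht : t ∈ T) (hn : t * n = n * t) {x : Y} (hx : x ∈ A) : t * x * t⁻¹ = x := by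
  by_cases hx1 : x = 1
  · rw [hx1]; group
  have hB : B ≤ A ⊔ B := le_sup_right
  obtain ⟨a, ha, s, hs, e⟩ := D.exists_mu (D.nA x hx) (conj_ne hx1)
  set u := n * x * n⁻¹ with hu
  have huB : u ∈ B := D.nA x hx
  have hu1 : u ≠ 1 := conj_ne hx1
  have htm : t * (s * n) * t⁻¹ = s * n := by
    have h1 := D.ab t ht s hs
    calc t * (s * n) * t⁻¹ = (t * s) * n * t⁻¹ := by group
      _ = s * (t * n) * t⁻¹ := by rw [h1]; group
      _ = s * n := by rw [hn]; group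
  have h1 : (a⁻¹ * (t * a * t⁻¹)) * (t * u * t⁻¹) * (a⁻¹ * (t * a * t⁻¹))⁻¹ = u := by
    rw [e] at htm
    calc (a⁻¹ * (t * a * t⁻¹)) * (t * u * t⁻¹) * (a⁻¹ * (t * a * t⁻¹))⁻¹
        = a⁻¹ * (t * (a * u * a⁻¹) * t⁻¹) * a := by group
      _ = u := by rw [htm]; group
  have hdA : a⁻¹ * (t * a * t⁻¹) ∈ A := A.mul_mem (A.inv_mem ha) (D.TA t ht a ha)
  obtain ⟨b, hb, r, hr, e2⟩ := D.symm.mem_of_conj (g := a⁻¹ * (t * a * t⁻¹))
    (Subgroup.mem_sup_right hdA) (D.TB t ht u huB) (conj_ne hu1) (by rw [h1]; exact huB)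
  have h2 : a⁻¹ * (t * a * t⁻¹) = 1 := D.symm.inf _ hdA b hb r hr e2
  rw [h2] at h1
  have h3 : t * u * t⁻¹ = u := by
    calc t * u * t⁻¹ = 1 * (t * u * t⁻¹) * 1⁻¹ := by group
      _ = u := h1
  have h4 : n⁻¹ * t = t * n⁻¹ := by
    calc n⁻¹ * t = n⁻¹ * (t * n) * n⁻¹ := by group
      _ = t * n⁻¹ := by rw [hn]; group
  calc t * x * t⁻¹ = (t * n⁻¹) * u * (t * n⁻¹)⁻¹ := by rw [hu]; group
    _ = n⁻¹ * (t * u * t⁻¹) * n := by rw [← h4]; group
    _ = x := by rw [h3, hu]; group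

/-- The elements of the rank one torus which are inverted by `n` are transitive. -/
theorem tr_inv [Finite Y] {x y : Y} (hx : x ∈ A) (hx1 : x ≠ 1) (hy : y ∈ A) (hy1 : y ≠ 1) :
    ∃ t ∈ T, t ∈ A ⊔ B ∧ n * t * n⁻¹ = t⁻¹ ∧ t * x * t⁻¹ = y := by
  obtain ⟨t, ht, htL, e⟩ := D.tr hx hx1 hy hy1
  obtain ⟨r, hr, hrr, k, hk⟩ := D.exists_sqrt ht
  have hrL : r ∈ A ⊔ B := by rw [hk]; exact pow_mem htL k
  have hσ := D.nT r hr
  have hσL : n * r * n⁻¹ ∈ A ⊔ B := by
    have h1 : A ⊔ B ≤ (A ⊔ B).comap (MulAut.conj n).toMonoidHom := by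
      refine sup_le ?_ ?_
      · intro u hu
        exact Subgroup.mem_sup_right (D.nA u hu)
      · intro u hu
        exact Subgroup.mem_sup_left (D.nB u hu)
    exact h1 hrL
  have h2 : n * (n * r * n⁻¹) * n⁻¹ = r := by
    have h3 := D.ab _ D.nn r hr
    calc n * (n * r * n⁻¹) * n⁻¹ = (n * n) * r * (n * n)⁻¹ := by group
      _ = r := by rw [h3]; group
  have hp : r * (n * r * n⁻¹) ∈ T := T.mul_mem hr hσ
  have hpn : r * (n * r * n⁻¹) * n = n * (r * (n * r * n⁻¹)) := by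
    have h3 : n * (r * (n * r * n⁻¹)) * n⁻¹ = r * (n * r * n⁻¹) := by
      calc n * (r * (n * r * n⁻¹)) * n⁻¹ = (n * r * n⁻¹) * (n * (n * r * n⁻¹) * n⁻¹) := by group
        _ = r * (n * r * n⁻¹) := by rw [h2, D.ab _ hσ r hr]
    exact (mul_inv_eq_iff_eq_mul.1 h3).symm
  have hfix := D.fix hp hpn hx
  refine ⟨r * (n * r * n⁻¹)⁻¹, T.mul_mem hr (T.inv_mem hσ), mul_mem hrL (inv_mem hσL), ?_, ?_⟩
  · calc n * (r * (n * r * n⁻¹)⁻¹) * n⁻¹ = (n * r * n⁻¹) * (n * (n * r * n⁻¹) * n⁻¹)⁻¹ := by group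
      _ = (n * r * n⁻¹) * r⁻¹ := by rw [h2]
      _ = (r * (n * r * n⁻¹)⁻¹)⁻¹ := by group
  · have h3 : t = (r * (n * r * n⁻¹)⁻¹) * (r * (n * r * n⁻¹)) := by
      have h4 := D.ab r hr _ hσ
      calc t = r * r := hrr.symm
        _ = r * (n * r * n⁻¹)⁻¹ * ((n * r * n⁻¹) * r) := by group
        _ = _ := by rw [← h4]
    calc r * (n * r * n⁻¹)⁻¹ * x * (r * (n * r * n⁻¹)⁻¹)⁻¹
        = r * (n * r * n⁻¹)⁻¹ * (r * (n * r * n⁻¹) * x * (r * (n * r * n⁻¹))⁻¹) * (r * (n * r * n⁻¹)⁻¹)⁻¹ := by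
          rw [hfix]
      _ = ((r * (n * r * n⁻¹)⁻¹) * (r * (n * r * n⁻¹))) * x * ((r * (n * r * n⁻¹)⁻¹) * (r * (n * r * n⁻¹)))⁻¹ := by
          group
      _ = t * x * t⁻¹ := by rw [← h3]
      _ = y := e

end One

open CoxeterSystem Cfsg.Agent.ChevalleyStructure.CoxeterGeom Cfsg.Agent.Tits.Roots Cfsg.Agent.Tits.Core
  Cfsg.Agent.Tits.RootComb Cfsg.Agent.Nodes.Comb Cfsg.Agent.Nodes.Reps Cfsg.Agent.Nodes.BNOf Cfsg.Agent.Nodes.BNOf.RGD
  Cfsg.Agent.Nodes.FreeTorus Cfsg.Agent.Omega.Lie.End.KTorus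

variable {I W Y : Type*} [Fintype I] [DecidableEq I] [Group W] [Group Y] {M : CoxeterMatrix I}
  {cs : CoxeterSystem M W} {A : I → I → ℤ} {h : IsCartan M A} {T : Subgroup Y} {n : I → Y}
  {X : (I → ℤ) → Subgroup Y} [Finite W]

/-- The rank one data of a node. -/
theorem one_of_rgd (R : RGD cs h 2 T n X) (hTc : ∀ s ∈ T, ∀ t ∈ T, s * t = t * s) {i : I}
    (hsq : ∀ x ∈ X (sr i), x * x = 1) : One (X (sr i)) (X (-sr i)) T (n i) := by
  have hni := rp_simple cs R.nsys i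
  have hN := R.nsys.norm i
  have hTX : ∀ r, IsRoot cs h r → ∀ t ∈ T, ∀ u ∈ X r, t * u * t⁻¹ ∈ X r := by
    intro r hr t ht u hu
    have h1 := R.tor r hr t ht
    rw [← h1]
    exact conj_mem_cj.2 hu
  refine ⟨hTc, Nat.coprime_two_right.1 R.tcop, hsq, hTX _ (isRoot_sr cs h i), hTX _ (isRoot_sr cs h i).neg, ?_, ?_, ?_,
    ?_, fun t ht => (Subgroup.mem_normalizer_iff.1 hN t).1 ht, fun t ht => (Subgroup.mem_normalizer_iff''.1 hN t).1 ht,
    R.sq_mem_T i, R.rk1 i, ?_⟩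
  · intro x hx
    have := R.conj_mem hni (isRoot_sr cs h i) hx
    rwa [rep_simple_sr] at this
  · intro x hx
    have := R.conj_mem' hni (isRoot_sr cs h i) hx
    rwa [inv_simple, rep_simple_sr] at this
  · intro x hx
    have := R.conj_mem hni (isRoot_sr cs h i).neg hx
    rwa [map_neg, rep_simple_sr, neg_neg] at this
  · intro x hx
    have := R.conj_mem' hni (isRoot_sr cs h i).neg hx
    rwa [inv_simple, map_neg, rep_simple_sr, neg_neg] at this
  · intro x hx a ha t ht e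
    refine ParSys.Fam.neg_inf_B R i x hx ?_
    rw [e]
    exact mul_mem (X_le_B (isRoot_sr cs h i) (sr_nonneg i) ha) (T_le_B ht)

/-- **`TrNode` is free**: every node with `|X_i| ≥ 4` of exponent two, over an abelian torus. -/
theorem trNode [Finite Y] (R : RGD cs h 2 T n X) (hTc : ∀ s ∈ T, ∀ t ∈ T, s * t = t * s) {i : I}
    (h4 : 4 ≤ Nat.card (X (sr i))) (hsq : ∀ x ∈ X (sr i), x * x = 1) : TrNode T n X i where
  two := by
    have hfin : Fintype ↥(X (sr i)) := Fintype.ofFinite _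
    rw [Nat.card_eq_fintype_card] at h4
    obtain ⟨a, b, c, hab, hac, hbc⟩ := Fintype.two_lt_card_iff.1 (by omega : 2 < Fintype.card ↥(X (sr i)))
    have key : ∀ u v : ↥(X (sr i)), u ≠ v → (u : Y) ≠ v := fun u v huv e => huv (Subtype.ext e)
    by_cases ha : (a : Y) = 1
    · refine ⟨b, b.2, c, c.2, ?_, ?_, key _ _ hbc⟩
      · intro e; exact key _ _ hab (by rw [ha, e])
      · intro e; exact key _ _ hac (by rw [ha, e])
    · by_cases hb : (b : Y) = 1
      · refine ⟨a, a.2, c, c.2, ha, ?_, key _ _ hac⟩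
        intro e; exact key _ _ hbc (by rw [hb, e])
      · exact ⟨a, a.2, b, b.2, ha, hb, key _ _ hab⟩
  sq := hsq
  tr x hx y hy hx1 hy1 := by
    obtain ⟨t, ht, htL, hn, e⟩ := (one_of_rgd R hTc hsq).tr_inv hx hx1 hy hy1
    exact ⟨t, ⟨ht, htL, hn⟩, e⟩

end Cfsg.Agent.Omega.Lie.End.KTrFree

end

section


/-!
# The torus of a central extension of odd degree is abelian

* `comm_of_cyc` : `T` acts on the elementary abelian 2-group `A` as an abelian group transitive on `A \ 1`, the kernel of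
  the action is central in `T`: `T` is abelian (the image is cyclic);
* `fix_eq_one` : an element of `T ∩ ⟨A, B⟩` centralising `A` is trivial (`One`, `T` abelian).
-/

set_option autoImplicit false
set_option linter.unusedSectionVars false

namespace Cfsg.Agent.Omega.CR.Ab

open Subgroup Cfsg.Agent.Omega.Lie.End.KTrFree

section cyc

variable {Y : Type*} [Group Y] {A T : Subgroup Y}

theorem comm_of_sq (hsq : ∀ x ∈ A, x * x = 1) {x y : Y} (hx : x ∈ A) (hy : y ∈ A) : x * y = y * x := by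
  have h1 := hsq _ (A.mul_mem hx hy)
  have h4 : x⁻¹ = x := inv_eq_of_mul_eq_one_left (hsq x hx)
  have h5 : y⁻¹ = y := inv_eq_of_mul_eq_one_left (hsq y hy)
  have h6 : (x * y)⁻¹ = x * y := inv_eq_of_mul_eq_one_left h1
  rw [← h6, mul_inv_rev, h4, h5]

/-- **The torus of rank one is abelian.** -/
theorem comm_of_cyc [Finite Y] (hsq : ∀ x ∈ A, x * x = 1) (hA : A ≠ ⊥) (TA : ∀ t ∈ T, ∀ x ∈ A, t * x * t⁻¹ ∈ A)
    (hab : ∀ s ∈ T, ∀ t ∈ T, ∀ x ∈ A, (s * t) * x * (s * t)⁻¹ = (t * s) * x * (t * s)⁻¹)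
    (htr : ∀ x ∈ A, ∀ y ∈ A, x ≠ 1 → y ≠ 1 → ∃ t ∈ T, t * x * t⁻¹ = y)
    (hc : ∀ c ∈ T, (∀ x ∈ A, c * x * c⁻¹ = x) → ∀ t ∈ T, c * t = t * c) : ∀ s ∈ T, ∀ t ∈ T, s * t = t * s := by
  classical
  let _ : CommGroup A := { (inferInstance : Group A) with
    mul_comm := fun a b => Subtype.ext (comm_of_sq hsq a.2 b.2) }
  obtain ⟨a₀, ha₀, ha01⟩ := (A.bot_or_exists_ne_one).resolve_left hA
  -- the action
  let φ : T →* AddMonoid.End (Additive A) :=
    { toFun := fun t =>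
        { toFun := fun x => Additive.ofMul ⟨(t : Y) * (x.toMul : Y) * (t : Y)⁻¹, TA t t.2 _ x.toMul.2⟩
          map_zero' := by
            apply Additive.toMul.injective
            apply Subtype.ext
            change (t : Y) * 1 * (t : Y)⁻¹ = 1
            group
          map_add' := fun x y => by
            apply Additive.toMul.injective
            apply Subtype.ext
            change (t : Y) * ((x.toMul : Y) * (y.toMul : Y)) * (t : Y)⁻¹ =
              (t : Y) * (x.toMul : Y) * (t : Y)⁻¹ * ((t : Y) * (y.toMul : Y) * (t : Y)⁻¹)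
            group }
      map_one' := by
        ext x
        change (1 : Y) * (x.toMul : Y) * (1 : Y)⁻¹ = (x.toMul : Y)
        group
      map_mul' := fun s t => by
        ext x
        change ((s : Y) * (t : Y)) * (x.toMul : Y) * ((s : Y) * (t : Y))⁻¹ =
          (s : Y) * ((t : Y) * (x.toMul : Y) * (t : Y)⁻¹) * (s : Y)⁻¹
        group }
  have hφ : ∀ (t : T) (x : Additive A), ((φ t x).toMul : Y) = (t : Y) * (x.toMul : Y) * (t : Y)⁻¹ := fun _ _ => rfl
  -- the commutant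
  let R := Subring.centralizer (Set.range φ)
  have hmem : ∀ r : AddMonoid.End (Additive A), r ∈ R ↔ ∀ t : T, φ t * r = r * φ t := by
    intro r
    rw [Subring.mem_centralizer_iff]
    constructor
    · intro h t
      exact h _ ⟨t, rfl⟩
    · rintro h _ ⟨t, rfl⟩
      exact h t
  -- a nonzero element of the commutant is injective
  have hinj : ∀ r ∈ R, ∀ x : Additive A, x ≠ 0 → r x = 0 → r = 0 := by
    intro r hr x hx h0
    ext1 y
    by_cases hy : y = 0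
    · rw [hy, map_zero, map_zero]
    obtain ⟨t, ht, e⟩ := htr (x.toMul : Y) x.toMul.2 (y.toMul : Y) y.toMul.2
      (fun e => hx (Additive.toMul.injective (Subtype.ext e))) (fun e => hy (Additive.toMul.injective (Subtype.ext e)))
    have h1 : φ ⟨t, ht⟩ x = y := Additive.toMul.injective (Subtype.ext e)
    have h2 := congrArg (fun f : AddMonoid.End (Additive A) => f x) ((hmem r).1 hr ⟨t, ht⟩)
    change φ ⟨t, ht⟩ (r x) = r (φ ⟨t, ht⟩ x) at h2
    rw [h0, map_zero, h1] at h2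
    rw [← h2]
    rfl
  have hx₀ : Additive.ofMul (⟨a₀, ha₀⟩ : A) ≠ 0 := by
    intro e
    exact ha01 (congrArg Subtype.val (Additive.ofMul.injective e))
  have hnt : Nontrivial R := by
    refine ⟨⟨0, 1, fun e => hx₀ ?_⟩⟩
    have h1 : (0 : AddMonoid.End (Additive A)) = 1 := congrArg Subtype.val e
    have h2 := congrArg (fun f : AddMonoid.End (Additive A) => f (Additive.ofMul (⟨a₀, ha₀⟩ : A))) h1
    exact h2.symm
  have hnzd : (NoZeroDivisors R :) := by
    refine ⟨fun {r s} hrs => ?_⟩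
    by_contra hcon
    push Not at hcon
    obtain ⟨hr, hs⟩ := hcon
    have h1 : (s : AddMonoid.End (Additive A)) (Additive.ofMul (⟨a₀, ha₀⟩ : A)) ≠ 0 := fun e =>
      hs (Subtype.ext (hinj _ s.2 _ hx₀ e))
    have h2 : (r : AddMonoid.End (Additive A)) ((s : AddMonoid.End (Additive A)) (Additive.ofMul (⟨a₀, ha₀⟩ : A))) = 0 := by
      have h3 := congrArg (fun f : R => (f : AddMonoid.End (Additive A)) (Additive.ofMul (⟨a₀, ha₀⟩ : A))) hrs
      exact h3
    exact hr (Subtype.ext (hinj _ r.2 _ h1 h2))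
  have hdom : (IsDomain R :) := NoZeroDivisors.to_isDomain R
  have hfinE : Finite (AddMonoid.End (Additive A)) :=
    Finite.of_injective (fun f : AddMonoid.End (Additive A) => (f : Additive A → Additive A)) DFunLike.coe_injective
  have hfin : Finite R := Subtype.finite
  have hfield := Finite.isDomain_to_isField R
  let _ : CommRing R := { (inferInstance : Ring R) with mul_comm := (hfield.mul_comm :) }
  have hdom' : IsDomain R := hdom
  -- the homomorphism to the units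
  let f : T →* R :=
    { toFun := fun t => ⟨φ t, (hmem _).2 fun s => by
        rw [← map_mul, ← map_mul]
        ext x
        exact hab s s.2 t t.2 _ x.toMul.2⟩
      map_one' := Subtype.ext (map_one φ)
      map_mul' := fun s t => Subtype.ext (map_mul φ s t) }
  have hcyc : IsCyclic Rˣ := inferInstance
  have hker : f.toHomUnits.ker ≤ Subgroup.center T := by
    intro c hc'
    rw [MonoidHom.mem_ker] at hc'
    have h1 : f c = 1 := congrArg Units.val hc'
    have h2 : φ c = 1 := congrArg Subtype.val h1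
    rw [Subgroup.mem_center_iff]
    intro t
    have h3 := hc c c.2 (fun x hx => by
      have h4 := congrArg (fun g : AddMonoid.End (Additive A) => ((g (Additive.ofMul ⟨x, hx⟩)).toMul : Y)) h2
      exact h4) t t.2
    exact Subtype.ext h3.symm
  intro s hs t ht
  exact congrArg Subtype.val (commutative_of_cyclic_center_quotient f.toHomUnits hker ⟨s, hs⟩ ⟨t, ht⟩)

end cyc

section one

variable {Y : Type*} [Group Y] {A B T : Subgroup Y} {n : Y} (D : _root_.Cfsg.Agent.Omega.Lie.End.KTrFree.One A B T n)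
include D

/-- the involution `m = s n ∈ ⟨A, B⟩` -/
theorem exists_m (hA : A ≠ ⊥) : ∃ s ∈ T, s * n ∈ A ⊔ B ∧ s * n * (s * n) = 1 := by
  obtain ⟨x, hx, hx1⟩ := (A.bot_or_exists_ne_one).resolve_left hA
  obtain ⟨a, ha, s, hs, e⟩ := D.exists_mu (D.nA x hx) (One.conj_ne hx1)
  refine ⟨s, hs, ?_, ?_⟩
  · rw [e]
    exact mul_mem (mul_mem (mem_sup_left ha) (mem_sup_right (D.nA x hx))) (inv_mem (mem_sup_left ha))
  · rw [e]
    have h1 := D.symm.sq _ (D.nA x hx)
    calc a * (n * x * n⁻¹) * a⁻¹ * (a * (n * x * n⁻¹) * a⁻¹) = a * (n * x * n⁻¹ * (n * x * n⁻¹)) * a⁻¹ := by group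
      _ = 1 := by rw [h1]; group

/-- the elements of the rank one torus are inverted by `m` -/
theorem inverted (hA : A ≠ ⊥) {s : Y} (hs : s ∈ T) (hmm : s * n * (s * n) = 1) {c : Y}
    (hc : c ∈ T) (hcL : c ∈ A ⊔ B) : s * n * c * (s * n)⁻¹ = c⁻¹ := by
  obtain ⟨m, hmd⟩ : ∃ m, m = s * n := ⟨_, rfl⟩
  rw [← hmd] at hmm ⊢
  have hmi : m⁻¹ = m := inv_eq_of_mul_eq_one_left hmm
  have hmT : ∀ t ∈ T, m * t * m⁻¹ ∈ T := by
    intro t ht
    have e : m * t * m⁻¹ = s * (n * t * n⁻¹) * s⁻¹ := by rw [hmd]; group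
    rw [e]
    exact T.mul_mem (T.mul_mem hs (D.nT t ht)) (T.inv_mem hs)
  have hmA : ∀ x ∈ A, m * x * m⁻¹ ∈ B := by
    intro x hx
    have e : m * x * m⁻¹ = s * (n * x * n⁻¹) * s⁻¹ := by rw [hmd]; group
    rw [e]
    exact D.TB s hs _ (D.nA x hx)
  have hmB : ∀ x ∈ B, m * x * m⁻¹ ∈ A := by
    intro x hx
    have e : m * x * m⁻¹ = s * (n * x * n⁻¹) * s⁻¹ := by rw [hmd]; group
    rw [e]
    exact D.TA s hs _ (D.nB x hx)
  -- the inverted elements
  let TI : Subgroup Y :=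
    { carrier := {t | t ∈ T ∧ m * t * m⁻¹ = t⁻¹}
      one_mem' := ⟨T.one_mem, by group⟩
      mul_mem' := by
        rintro a b ⟨ha, ha'⟩ ⟨hb, hb'⟩
        refine ⟨T.mul_mem ha hb, ?_⟩
        have e : m * (a * b) * m⁻¹ = (m * a * m⁻¹) * (m * b * m⁻¹) := by group
        rw [e, ha', hb', mul_inv_rev, D.ab _ (T.inv_mem ha) _ (T.inv_mem hb)]
      inv_mem' := by
        rintro a ⟨ha, ha'⟩
        refine ⟨T.inv_mem ha, ?_⟩
        have e : m * a⁻¹ * m⁻¹ = (m * a * m⁻¹)⁻¹ := by group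
        rw [e, ha'] }
  have hTI : TI ≤ T := fun t ht => ht.1
  have D' : _root_.Cfsg.Agent.Omega.Lie.End.KTrFree.One A B TI m :=
    { ab := fun s hs t ht => D.ab s (hTI hs) t (hTI ht)
      odd := Odd.of_dvd_nat D.odd (card_dvd_of_le hTI)
      sq := D.sq
      TA := fun t ht => D.TA t (hTI ht)
      TB := fun t ht => D.TB t (hTI ht)
      nA := hmA
      nA' := fun x hx => by
        have := hmA x hx
        rw [hmi] at this ⊢
        exact this
      nB := hmB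
      nB' := fun x hx => by
        have := hmB x hx
        rw [hmi] at this ⊢
        exact this
      nT := fun t ht => by
        rw [ht.2]
        exact TI.inv_mem ht
      nT' := fun t ht => by
        have h1 := ht.2
        rw [hmi] at h1 ⊢
        rw [h1]
        exact TI.inv_mem ht
      nn := by
        rw [hmm]
        exact TI.one_mem
      rk := fun u hu hu1 => by
        obtain ⟨a, ha, r, hr, e⟩ := D.exists_mu hu hu1
        have hrr : r * n * (r * n) = 1 := by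
          rw [e]
          have h1 := D.symm.sq u hu
          calc a * u * a⁻¹ * (a * u * a⁻¹) = a * (u * u) * a⁻¹ := by group
            _ = 1 := by rw [h1]; group
        have hri : (r * n)⁻¹ = r * n := inv_eq_of_mul_eq_one_left hrr
        refine ⟨a⁻¹, A.inv_mem ha, r * n * m⁻¹, ⟨?_, ?_⟩, a, ha, ?_⟩
        · have e1 : r * n * m⁻¹ = r * s⁻¹ := by rw [hmd]; group
          rw [e1]
          exact T.mul_mem hr (T.inv_mem hs)
        · have e1 : (r * n * m⁻¹)⁻¹ = m * (r * n) := by rw [mul_inv_rev, inv_inv, hri]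
          rw [e1]
          calc m * (r * n * m⁻¹) * m⁻¹ = m * (r * n) * (m * m)⁻¹ := by group
            _ = m * (r * n) := by rw [hmm]; group
        · have e1 : u = a⁻¹ * (a * u * a⁻¹) * a := by group
          rw [e1, ← e]
          group
      inf := fun x hx a ha t ht e => D.inf x hx a ha t (hTI ht) e }
  rcases D'.bruhat hcL with ⟨a, ha, t, ht, e⟩ | ⟨a, ha, t, ht, b, hb, e⟩
  · have h1 : n * a * n⁻¹ = 1 := by
      -- `a ∈ A ∩ T`
      have haT : a ∈ T := by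
        have e1 : a = c * t⁻¹ := by rw [e]; group
        rw [e1]
        exact T.mul_mem hc (T.inv_mem ht.1)
      refine D.inf _ (D.nA a ha) 1 A.one_mem _ (D.nT a haT) ?_
      rw [one_mul]
    have h2 : a = 1 := by
      by_contra h3
      exact One.conj_ne h3 h1
    rw [e, h2, one_mul]
    exact ht.2
  · exfalso
    obtain ⟨x, hx, hx1⟩ := (A.bot_or_exists_ne_one).resolve_left hA
    have h1 : m * x * m⁻¹ ∈ B := hmA x hx
    have hme : m = t⁻¹ * a⁻¹ * c * b⁻¹ := by rw [e]; group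
    have hbx : b⁻¹ * x * b⁻¹⁻¹ ∈ A := A.mul_mem (A.mul_mem (A.inv_mem hb) hx) (A.inv_mem (A.inv_mem hb))
    have h2 : m * x * m⁻¹ ∈ A := by
      have e1 : m * x * m⁻¹ = t⁻¹ * (a⁻¹ * (c * (b⁻¹ * x * b⁻¹⁻¹) * c⁻¹) * a) * t⁻¹⁻¹ := by rw [hme]; group
      rw [e1]
      exact D.TA _ (T.inv_mem ht.1) _ (A.mul_mem (A.mul_mem (A.inv_mem ha) (D.TA c hc _ hbx)) ha)
    exact One.conj_ne hx1 (D.inf' h2 h1)

/-- **An element of the rank one torus centralising `A` is trivial.** -/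
theorem fix_eq_one (hA : A ≠ ⊥) {c : Y} (hc : c ∈ T) (hcL : c ∈ A ⊔ B) (hfix : ∀ x ∈ A, c * x * c⁻¹ = x) : c = 1 := by
  obtain ⟨s, hs, hm, hmm⟩ := exists_m D hA
  have h1 := inverted D hA hs hmm hc hcL
  obtain ⟨m, hmd⟩ : ∃ m, m = s * n := ⟨_, rfl⟩
  rw [← hmd] at hm hmm h1
  have hcA : A ≤ centralizer {c} := by
    intro x hx
    rw [mem_centralizer_singleton_iff]
    exact (mul_inv_eq_iff_eq_mul.1 (hfix x hx)).symm
  have hcB : B ≤ centralizer {c} := by
    intro x hx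
    rw [mem_centralizer_singleton_iff]
    -- `x = m y m⁻¹`
    have hy : m⁻¹ * x * m ∈ A := by
      have e : m⁻¹ * x * m = (s * n)⁻¹ * x * (s * n) := by rw [hmd]
      have e1 : (s * n)⁻¹ * x * (s * n) = n⁻¹ * (s⁻¹ * x * s⁻¹⁻¹) * n := by group
      rw [e, e1]
      exact D.nB' _ (D.TB _ (T.inv_mem hs) x hx)
    have h2 := hfix _ hy
    have h3 : m * c⁻¹ * m⁻¹ = c := by
      have e : m * c⁻¹ * m⁻¹ = (m * c * m⁻¹)⁻¹ := by group
      rw [e, h1, inv_inv]
    have h4 : c * x * c⁻¹ = x := by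
      calc c * x * c⁻¹ = (m * c⁻¹ * m⁻¹) * x * (m * c⁻¹ * m⁻¹)⁻¹ := by rw [h3]
        _ = m * (c⁻¹ * (m⁻¹ * x * m) * c) * m⁻¹ := by group
        _ = m * (c⁻¹ * (c * (m⁻¹ * x * m) * c⁻¹) * c) * m⁻¹ := by rw [h2]
        _ = x := by group
    exact (mul_inv_eq_iff_eq_mul.1 h4).symm
  have h5 : m * c = c * m := mem_centralizer_singleton_iff.1 ((sup_le hcA hcB) hm)
  have h6 : c⁻¹ = c := by rw [← h1, h5, mul_inv_cancel_right]
  refine D.t_one hc ?_
  calc c * c = c * c⁻¹ := by rw [h6]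
    _ = 1 := mul_inv_cancel c

end one

end Cfsg.Agent.Omega.CR.Ab

end

section


/-!
# The K-side: the parabolic subgroups of a root group datum (interface, helper650)

`PFacts cs h T X` : to be proved for an arbitrary finite group `Y` with `R : RGD cs h 2 T n X` and
`RGD.Sup X {x | IsRoot cs h x} = ⊤` (helpers 57, 366, 894).
-/

set_option autoImplicit false

namespace Cfsg.Agent.Omega.Lie.End

open Subgroup CoxeterSystem Cfsg.Agent.ChevalleyStructure.CoxeterGeom Cfsg.Agent.Tits.Roots Cfsg.Agent.Tits.Core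
  Cfsg.Agent.Tits.RootComb Cfsg.Agent.Nodes.Comb Cfsg.Agent.Nodes.Reps Cfsg.Agent.Nodes.BNOf
  Cfsg.Agent.Nodes.LeviDec Cfsg.Agent.KFacts.RgdCharP Cfsg.Agent.ParSys

variable {I W Y : Type*} [Fintype I] [DecidableEq I] [Group W] [Group Y] {M : CoxeterMatrix I}
  {A : I → I → ℤ}

/-- The facts on the minimal parabolic subgroups. -/
structure PFacts (cs : CoxeterSystem M W) (h : IsCartan M A) (T : Subgroup Y) (X : (I → ℤ) → Subgroup Y) : Prop where
  norm : normalizer (RGD.Sup X (RGD.Pos cs h) : Set Y) = RGD.B cs h T X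
  gen : ⨆ i, PJ cs h T X {i} = ⊤
  rel : ∀ i, (RGD.B cs h T X).relIndex (PJ cs h T X {i}) = Nat.card (X (sr i)) + 1
  ptr : ∀ i, Hall.HallData.PTr (RGD.B cs h T X) (RGD.Sup X (RGD.Pos cs h)) (PJ cs h T X {i})
  reg : ∀ i, ∀ u ∈ RGD.Sup X (RGD.Pos cs h), ∀ g ∈ PJ cs h T X {i}, g ∉ RGD.B cs h T X →
    g⁻¹ * u * g ∈ RGD.B cs h T X → u ∈ Qk (RGD.B cs h T X) (PJ cs h T X {i})
  dec : ∀ i, ∀ u ∈ RGD.Sup X (RGD.Pos cs h), ∃ x ∈ X (sr i), ∃ v ∈ RGD.Sup X (RGD.Pos cs h),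
    v ∈ Qk (RGD.B cs h T X) (PJ cs h T X {i}) ∧ u = x * v
  inf : ∀ i, ∀ x ∈ X (sr i), x ∈ Qk (RGD.B cs h T X) (PJ cs h T X {i}) → x = 1
  poly : ∀ i j, i ≠ j → _root_.Cfsg.Agent.ParSys.Polygon (RGD.B cs h T X) (fun i => PJ cs h T X {i}) i j (M i j)
  ncl : ∀ i, X (sr i) ⊔ X (-sr i) ≤ NCl (RGD.Sup X (RGD.Pos cs h)) (PJ cs h T X {i})

end Cfsg.Agent.Omega.Lie.End

end

section


/-!
# The K-side: torus elements on the covering group (helper650)

* `KTor cs h T X` : the torus elements needed for `KSys`;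
* `KRow.kTor` : a row has them (helper923's KTorus);
* `KTor.lift` : they lift to a central extension of odd degree.
-/

set_option autoImplicit false
set_option linter.unusedSectionVars false

namespace Cfsg.Agent.Omega.Lie.End

open Subgroup CoxeterSystem Cfsg.Agent.ChevalleyStructure.CoxeterGeom Cfsg.Agent.Tits.Roots Cfsg.Agent.Tits.Core
  Cfsg.Agent.Tits.RootComb Cfsg.Agent.Nodes.Comb Cfsg.Agent.Nodes.Reps Cfsg.Agent.Nodes.BNOf
  Cfsg.Agent.KFacts.RgdCharP Cfsg.Agent.Nodes.RGDLift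

variable {I W Y : Type*} [Fintype I] [DecidableEq I] [Group W] [Group Y] {M : CoxeterMatrix I}
  {cs : CoxeterSystem M W} {A : I → I → ℤ} {h : IsCartan M A} {T : Subgroup Y} {n : I → Y}
  {X : (I → ℤ) → Subgroup Y}

/-- The torus elements needed for `KSys`. -/
structure KTor (M : CoxeterMatrix I) (T : Subgroup Y) (X : (I → ℤ) → Subgroup Y) : Prop where
  own : ∀ i, FpOn (TL T X i) (X (sr i))
  fp : ∀ i j, i ≠ j → M i j ≠ 2 → FpOn (TL T X j) (X (sr i))
  sep : ∀ i j, i ≠ j → (M i j = 4 ∨ ∃ k, k ≠ i ∧ k ≠ j) →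
    SpOn T (X (sr i)) (X (sr j)) ∨ SpOn T (X (sr j)) (X (sr i))

theorem KRow.kTor [Finite W] [Finite Y] (R : RGD cs h 2 T n X) (hr : KRow cs h T n X) (h6 : ∀ i j, M i j ≠ 6)
    (big : ∀ k, 4 ≤ Nat.card (X (sr k))) (ex : ∀ k, ∀ x ∈ X (sr k), x * x = 1) : KTor M T X := by
  have hN := hr.tr big ex
  refine ⟨fun i => ?_, fun i j hij h2 => ?_, fun i j hij hk => ?_⟩
  · obtain ⟨s, hs, hf⟩ := KTorus.exists_fpf R hr.ab (hN i)
    exact ⟨s, ⟨hs.1, hs.2.1⟩, hf⟩
  · have hm : M i j = 3 ∨ M i j = 4 := by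
      rcases h.rel i j hij with h3 | h3 | h3 | h3
      · exact absurd h3.1 h2
      · exact Or.inl h3.1
      · exact Or.inr h3.1
      · exact absurd h3.1 (h6 i j)
    obtain ⟨s, hs, hf⟩ := KTorus.nd R hr.ab hij (hN j) (hN i) hm
    exact ⟨s, ⟨hs.1, hs.2.1⟩, hf⟩
  · by_cases h3 : ∃ k, k ≠ i ∧ k ≠ j
    · obtain ⟨k, hki, hkj⟩ := h3
      obtain ⟨a, ha, b, hb, hab⟩ := hr.conn {i, j} ⟨i, Or.inl rfl⟩ (fun e => by
        have h5 : k ∈ ({i, j} : Set I) := by rw [e]; trivial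
        rcases h5 with h5 | h5
        · exact hki h5
        · exact hkj h5)
      have hbi : b ≠ i := fun e => hb (Or.inl e)
      have hbj : b ≠ j := fun e => hb (Or.inr e)
      have h4 : M i b ≠ 2 ∨ M j b ≠ 2 := by
        rcases ha with rfl | ha
        · exact Or.inl hab
        · have ha' : a = j := ha
          subst ha'
          exact Or.inr hab
      rcases KTorus.exists_sep R hr.ab hN hij (fun _ => ⟨b, hbi.symm, hbj.symm, h4⟩) with h5 | h5
      · exact Or.inl h5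
      · exact Or.inr h5
    · push Not at h3
      have h4 : ∀ k, k = i ∨ k = j := fun k => by
        by_cases hki : k = i
        · exact Or.inl hki
        · exact Or.inr (h3 k hki)
      have h5 : M i j = 4 := hk.resolve_right (fun ⟨k, hki, hkj⟩ => hkj (h3 k hki))
      exact hr.sp2 big ex i j h5 h4

section Lift

variable {K : Type*} [Group K] [Finite K] {f : K →* Y} (hf : f.ker ≤ center K)
  (hp : (Nat.card f.ker).Coprime 2) (hs : Function.Surjective f)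

include hf hp in
theorem lft_inj {P : Subgroup Y} (hP : IsPGroup 2 P) {x y : K} (hx : x ∈ lft 2 f P) (hy : y ∈ lft 2 f P)
    (e : f x = f y) : x = y := by
  have : Fact (Nat.Prime 2) := ⟨Nat.prime_two⟩
  have h1 := eq_one_of_mem_lft hf hp hP (mul_mem (inv_mem hx) hy) (by rw [map_mul, map_inv, e, inv_mul_cancel])
  exact inv_mul_eq_one.1 h1

include hf hp hs in
theorem exists_mem_lft {P : Subgroup Y} (hP : IsPGroup 2 P) {y : Y} (hy : y ∈ P) : ∃ x ∈ lft 2 f P, f x = y := by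
  have : Fact (Nat.Prime 2) := ⟨Nat.prime_two⟩
  rw [← map_lft hf hp hs hP] at hy
  exact hy

include hf hp hs in
theorem card_lft {P : Subgroup Y} (hP : IsPGroup 2 P) : Nat.card (lft 2 f P) = Nat.card P := by
  have : Fact (Nat.Prime 2) := ⟨Nat.prime_two⟩
  refine Nat.card_congr (Equiv.ofBijective (fun x : lft 2 f P => (⟨f x, ((mem_lft hf hP).1 x.2).1⟩ : P)) ⟨?_, ?_⟩)
  · intro x y e
    exact Subtype.ext (lft_inj hf hp hP x.2 y.2 (congrArg Subtype.val e))
  · rintro ⟨y, hy⟩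
    obtain ⟨x, hx, e⟩ := exists_mem_lft hf hp hs hP hy
    exact ⟨⟨x, hx⟩, Subtype.ext e⟩

include hf hp hs in
theorem sq_of_lft {P : Subgroup Y} (hP : IsPGroup 2 P) (h : ∀ x ∈ lft 2 f P, x * x = 1) : ∀ y ∈ P, y * y = 1 := by
  intro y hy
  obtain ⟨x, hx, rfl⟩ := exists_mem_lft hf hp hs hP hy
  rw [← map_mul, h x hx, map_one]

include hf hp hs in
theorem NComm.lift {P Q : Subgroup Y} (hP : IsPGroup 2 P) (hQ : IsPGroup 2 Q) (h : NComm P Q) :
    NComm (lft 2 f P) (lft 2 f Q) := by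
  obtain ⟨x, hx, y, hy, hxy⟩ := h
  obtain ⟨x', hx', rfl⟩ := exists_mem_lft hf hp hs hP hx
  obtain ⟨y', hy', rfl⟩ := exists_mem_lft hf hp hs hQ hy
  exact ⟨x', hx', y', hy', fun e => hxy (by rw [← map_mul, e, map_mul])⟩

include hf hp hs in
theorem exists_mem_TL {T : Subgroup Y} {X : (I → ℤ) → Subgroup Y} {i : I} (h1 : IsPGroup 2 (X (sr i)))
    (h2 : IsPGroup 2 (X (-sr i))) {t : Y} (ht : t ∈ TL T X i) :
    ∃ t' ∈ TL (T.comap f) (fun x => lft 2 f (X x)) i, f t' = t := by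
  have : Fact (Nat.Prime 2) := ⟨Nat.prime_two⟩
  have h3 : t ∈ (lft 2 f (X (sr i)) ⊔ lft 2 f (X (-sr i))).map f := by
    rw [Subgroup.map_sup, map_lft hf hp hs h1, map_lft hf hp hs h2]
    exact ht.2
  obtain ⟨l, hl, rfl⟩ := h3
  exact ⟨l, ⟨ht.1, hl⟩, rfl⟩

include hf hp hs in
theorem FpOn.lift {T : Subgroup Y} {X : (I → ℤ) → Subgroup Y} {i : I} {P : Subgroup Y} (h1 : IsPGroup 2 (X (sr i)))
    (h2 : IsPGroup 2 (X (-sr i))) (hP : IsPGroup 2 P) (h : FpOn (TL T X i) P) :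
    FpOn (TL (T.comap f) (fun x => lft 2 f (X x)) i) (lft 2 f P) := by
  have : Fact (Nat.Prime 2) := ⟨Nat.prime_two⟩
  obtain ⟨t, ht, hfp⟩ := h
  obtain ⟨t', ht', rfl⟩ := exists_mem_TL hf hp hs h1 h2 ht
  refine ⟨t', ht', fun x hx e => ?_⟩
  refine eq_one_of_mem_lft hf hp hP hx (hfp _ ((mem_lft hf hP).1 hx).1 ?_)
  rw [← map_inv, ← map_mul, ← map_mul, e]

include hf hp hs in
theorem SpOn.lift {T P Q : Subgroup Y} (hP : IsPGroup 2 P) (hQ : IsPGroup 2 Q)
    (hT : ∀ t ∈ T, cj t P = P) (h : SpOn T P Q) : SpOn (T.comap f) (lft 2 f P) (lft 2 f Q) := by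
  have : Fact (Nat.Prime 2) := ⟨Nat.prime_two⟩
  obtain ⟨t, ht, h1, h2⟩ := h
  obtain ⟨t', rfl⟩ := hs t
  refine ⟨t', ht, fun x hx => ?_, fun x hx e => ?_⟩
  · refine lft_inj hf hp hP ?_ hx ?_
    · have h3 : cj t' (lft 2 f P) = lft 2 f P := by rw [cj_lft, hT _ ht]
      rw [← h3]
      exact conj_mem_cj.2 hx
    · rw [map_mul, map_mul, map_inv]
      exact h1 _ ((mem_lft hf hP).1 hx).1
  · refine eq_one_of_mem_lft hf hp hQ hx (h2 _ ((mem_lft hf hQ).1 hx).1 ?_)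
    rw [← map_inv, ← map_mul, ← map_mul, e]

include hf hp hs in
theorem KTor.lift [Finite W] (R : RGD cs h 2 T n X) (ht : KTor M T X) :
    KTor M (T.comap f) (fun x => lft 2 f (X x)) where
  own i := (ht.own i).lift hf hp hs (R.pgrp i) (R.pgrp' (isRoot_sr cs h i).neg) (R.pgrp i)
  fp i j hij h2 := (ht.fp i j hij h2).lift hf hp hs (R.pgrp j) (R.pgrp' (isRoot_sr cs h j).neg) (R.pgrp i)
  sep i j hij hk := (ht.sep i j hij hk).imp
    (fun h1 => h1.lift hf hp hs (R.pgrp i) (R.pgrp j) (R.tor _ (isRoot_sr cs h i)))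
    (fun h1 => h1.lift hf hp hs (R.pgrp j) (R.pgrp i) (R.tor _ (isRoot_sr cs h j)))

end Lift

end Cfsg.Agent.Omega.Lie.End

end

section


/-!
# The field `frat` of `KSys` from root group data

`frat_row` : the literal field, for `S = U`, `N(S) = B`, `P i = PJ {i}`, for the pairs with `M i j ≠ 6`; for `M i j = 4` the
input is `SpOn` in one of the two orders.
-/

set_option autoImplicit false
set_option linter.unusedSectionVars false

namespace Cfsg.Agent.OmegaEnd.Frat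

open CoxeterSystem Cfsg.Agent.ChevalleyStructure.CoxeterGeom Cfsg.Agent.Tits.Roots Cfsg.Agent.Tits.Core
  Cfsg.Agent.Tits.RootComb Cfsg.Agent.Tits.Exchange Cfsg.Agent.Nodes.Comb Cfsg.Agent.Nodes.Reps
  Cfsg.Agent.Nodes.BNOf Cfsg.Agent.Nodes.StabComb Cfsg.Agent.Nodes.Bruhat Cfsg.Agent.Nodes.LeviDec
  Cfsg.Agent.Omega.Lie.End Cfsg.Agent.ParSys

variable {I W Y : Type*} [Fintype I] [DecidableEq I] [Group W] [Finite W] [Group Y] {M : CoxeterMatrix I}
  {cs : CoxeterSystem M W} {A : I → I → ℤ} {h : IsCartan M A} {p : ℕ} {T : Subgroup Y} {n : I → Y}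
  {X : (I → ℤ) → Subgroup Y}

omit [Finite W] in
theorem PJ_le (R : RGD cs h p T n X) (i : I) :
    PJ cs h T X {i} ≤ RGD.B cs h T X ⊔ Subgroup.closure {n i} := by
  have hn : n i ∈ RGD.B cs h T X ⊔ Subgroup.closure {n i} :=
    Subgroup.mem_sup_right (Subgroup.subset_closure rfl)
  refine sup_le (sup_le (RGD.T_le_B.trans le_sup_left) (RGD.Sup_le ?_)) ?_
  · rintro x ⟨hx, hx0⟩
    have h0 : ∀ k, k ≠ i → x k = 0 := fun k hk => hx0 k (by simpa using hk)
    rcases hx.pos_or_neg with h1 | h1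
    · exact (RGD.X_le_B hx h1).trans le_sup_left
    · have h2 : -x = sr i := hx.neg.eq_sr (neg_nonneg.2 h1) i fun k hk => by rw [Pi.neg_apply, h0 k hk, neg_zero]
      have h3 : x = -sr i := by rw [← h2, neg_neg]
      have h4 := R.conj i _ (isRoot_sr cs h i)
      rw [rep_simple_sr] at h4
      rw [h3, ← h4]
      rintro _ ⟨y, hy, rfl⟩
      change n i * y * (n i)⁻¹ ∈ _
      exact mul_mem (mul_mem hn (Subgroup.mem_sup_left (RGD.X_le_B (isRoot_sr cs h i) (sr_nonneg i) hy))) (inv_mem hn)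
  · refine le_trans (RGD.Sup_le fun x hx => ?_) le_sup_left
    exact RGD.X_le_B hx.1 hx.2.1

omit [Finite W] in
theorem PJ_sup_le (R : RGD cs h p T n X) (i j : I) :
    PJ cs h T X {i} ⊔ PJ cs h T X {j} ≤ RGD.B cs h T X ⊔ Subgroup.closure {n i, n j} :=
  sup_le ((PJ_le R i).trans (sup_le_sup_left (Subgroup.closure_mono (by simp)) _))
    ((PJ_le R j).trans (sup_le_sup_left (Subgroup.closure_mono (by simp)) _))

/-- **The field `frat` of `KSys`.** -/
theorem frat_row [Finite Y] [Fact p.Prime] (R : RGD cs h p T n X) {i j : I} (hij : i ≠ j) (h6 : M i j ≠ 6)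
    (h4 : M i j = 4 → SpOn T (X (sr i)) (X (sr j)) ∨ SpOn T (X (sr j)) (X (sr i))) :
    ∀ X₀ ≤ RGD.Sup X (RGD.Pos cs h), (∀ u ∈ RGD.Sup X (RGD.Pos cs h), ∃ x ∈ X₀,
      x⁻¹ * u ∈ Qk (RGD.B cs h T X) (PJ cs h T X {i}) ∧ x⁻¹ * u ∈ Qk (RGD.B cs h T X) (PJ cs h T X {j})) →
    ∀ u ∈ RGD.Sup X (RGD.Pos cs h), ∃ x ∈ X₀,
      x⁻¹ * u ∈ Qk (RGD.B cs h T X) (PJ cs h T X {i} ⊔ PJ cs h T X {j}) := by
  intro X₀ hX₀ hcov
  have hn : ∀ k, n k ∈ PJ cs h T X {k} := fun k => LJ_le_PJ (n_mem_LJ R (Set.mem_singleton k))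
  exact frat R hij h6 h4 (hn i) (hn j) (PJ_sup_le R i j) hX₀ hcov

end Cfsg.Agent.OmegaEnd.Frat

end

section


/-!
# The minimal parabolic subgroups of a root group datum, in the form of `KSys`

`R : RGD cs h p T n X` on an arbitrary finite group `Y`; `U = Sup X Pos`, `B = T U`, `P i = PJ cs h T X {i}`.

* `relIndex_P`, `ptr`, `reg`, `qk_inf_U`, `exists_mul`, `disj`, `polygon`, `iSup_eq_top`, `le_NCl`.
-/

set_option autoImplicit false
set_option linter.unusedSectionVars false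

namespace Cfsg.Agent.Omega.Lie.End.KParab

open Subgroup CoxeterSystem Cfsg.Agent.ChevalleyStructure.CoxeterGeom Cfsg.Agent.Tits.Roots Cfsg.Agent.Tits.Core
  Cfsg.Agent.Tits.RootComb Cfsg.Agent.Nodes.Comb Cfsg.Agent.Nodes.Reps Cfsg.Agent.Nodes.BNOf
  Cfsg.Agent.Nodes.StabComb Cfsg.Agent.Nodes.Bruhat Cfsg.Agent.Nodes.LeviDec Cfsg.Agent.Nodes.OppDec
  Cfsg.Agent.ParSys Cfsg.Agent.Omega.Lie.End

variable {I W Y : Type*} [Fintype I] [DecidableEq I] [Group W] [Group Y] {M : CoxeterMatrix I}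
  {cs : CoxeterSystem M W} {A : I → I → ℤ} {h : IsCartan M A} {p : ℕ} {T : Subgroup Y} {n : I → Y}
  {X : (I → ℤ) → Subgroup Y}

/-- the unipotent radical of a minimal parabolic subgroup -/
theorem VJ_eq (i : I) : VJ cs h X {i} = RGD.Sup X (RGD.PosNe cs h i) := by
  have e : NotJ cs h {i} = RGD.PosNe cs h i := by
    ext x
    constructor
    · rintro ⟨hx, h0, k, hk, hk0⟩
      refine ⟨hx, h0, ?_⟩
      rintro rfl
      rw [sr_ne (fun e => hk e)] at hk0
      exact lt_irrefl _ hk0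
    · rintro ⟨hx, h0, hne⟩
      obtain ⟨k, hk, hk0⟩ := Cfsg.Agent.Nodes.StabComb.exists_coeff hx h0 hne
      exact ⟨hx, h0, k, hk, hk0⟩
  unfold VJ
  rw [e]

section

variable (R : RGD cs h p T n X) [Finite W]

include R

/-- (a) -/
theorem relIndex_P [Finite Y] (i : I) :
    (RGD.B cs h T X).relIndex (PJ cs h T X {i}) = Nat.card (X (sr i)) + 1 :=
  EH3Close.OfRGD.relIndex_PJ R i

/-- (b) `U` is transitive on the chambers `≠ B` of a panel -/
theorem ptr (i : I) : Hall.HallData.PTr (RGD.B cs h T X) (RGD.Sup X (RGD.Pos cs h)) (PJ cs h T X {i}) := by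
  intro g hg hgB g' hg' hgB'
  obtain ⟨u, hu, b, hb, rfl⟩ := EH3Close.OfRGD.exists_form R hg hgB
  obtain ⟨u', hu', b', hb', rfl⟩ := EH3Close.OfRGD.exists_form R hg' hgB'
  have hXU : X (sr i) ≤ RGD.Sup X (RGD.Pos cs h) := RGD.le_Sup (S := RGD.Pos cs h) ⟨isRoot_sr cs h i, sr_nonneg i⟩
  exact ⟨u' * u⁻¹, mul_mem (hXU hu') (inv_mem (hXU hu)), b⁻¹ * b', mul_mem (inv_mem hb) hb', by group⟩

/-- (c) -/
theorem reg (i : I) : ∀ u ∈ RGD.Sup X (RGD.Pos cs h), ∀ g ∈ PJ cs h T X {i}, g ∉ RGD.B cs h T X →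
    g⁻¹ * u * g ∈ RGD.B cs h T X → u ∈ Qk (RGD.B cs h T X) (PJ cs h T X {i}) :=
  fun _ hu _ hg hgB hc _ hy => EH3Close.OfRGD.pan R hu hg hgB hc hy

/-- (d) the kernel on the panel -/
theorem qk_inf_U (i : I) : Qk (RGD.B cs h T X) (PJ cs h T X {i}) ⊓ RGD.Sup X (RGD.Pos cs h) = VJ cs h X {i} := by
  rw [VJ_eq]
  apply le_antisymm
  · rintro u ⟨hQ, hu⟩
    have h1 := hQ (n i) (EH3Close.OfRGD.n_mem R i)
    refine EH3Close.OfRGD.mem_V_of_conj R hu (one_mem _) ?_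
    rwa [inv_one, one_mul, mul_one]
  · intro u hu
    exact ⟨fun y hy => EH3Close.OfRGD.conj_mem_of_mem_V R hu hy,
      RGD.Sup_mono (S := RGD.PosNe cs h i) (S' := RGD.Pos cs h) (fun z hz => ⟨hz.1, hz.2.1⟩) hu⟩

theorem mem_qk {i : I} {u : Y} (hu : u ∈ RGD.Sup X (RGD.Pos cs h)) :
    u ∈ Qk (RGD.B cs h T X) (PJ cs h T X {i}) ↔ u ∈ VJ cs h X {i} := by
  rw [← qk_inf_U R i]
  exact ⟨fun h => ⟨h, hu⟩, fun h => h.1⟩

/-- (d) `U = X_i V_i` -/
theorem exists_mul (i : I) {u : Y} (hu : u ∈ RGD.Sup X (RGD.Pos cs h)) :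
    ∃ x ∈ X (sr i), ∃ v ∈ VJ cs h X {i}, u = x * v := by
  obtain ⟨x, hx, v, hv, e⟩ := (mem_U_iff R (J := {i})).1 hu
  refine ⟨x, ?_, v, hv, e⟩
  have h1 : UJ cs h X {i} ≤ X (sr i) := by
    refine RGD.Sup_le fun y hy => ?_
    have h2 : y = sr i := hy.1.eq_sr hy.2.1 i fun k hk => hy.2.2 k hk
    rw [h2]
  exact h1 hx

/-- (d) `X_i ⊓ V_i = 1` -/
theorem disj (i : I) : X (sr i) ⊓ VJ cs h X {i} = ⊥ := by
  rw [eq_bot_iff]
  rintro u ⟨hu, hv⟩
  rw [VJ_eq] at hv
  rw [Subgroup.mem_bot]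
  exact eq_one_of_mem_PosNe R hu hv

/-- (e) -/
theorem polygon (i j : I) : _root_.Cfsg.Agent.ParSys.Polygon (RGD.B cs h T X) (fun j => PJ cs h T X {j}) i j (M i j) :=
  EH3Close.OfRGD.polygon R i j

omit [Finite W] in
/-- (g) the Levi complement is in the normal closure of `U` in `P_i` -/
theorem le_NCl [Finite W] (i : I) : X (sr i) ⊔ X (-sr i) ≤ NCl (RGD.Sup X (RGD.Pos cs h)) (PJ cs h T X {i}) := by
  have hXU : X (sr i) ≤ RGD.Sup X (RGD.Pos cs h) := RGD.le_Sup (S := RGD.Pos cs h) ⟨isRoot_sr cs h i, sr_nonneg i⟩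
  refine sup_le (fun x hx => ?_) (fun x hx => ?_)
  · refine Subgroup.subset_closure ⟨1, one_mem _, ?_⟩
    rw [inv_one, one_mul, mul_one]
    exact hXU hx
  · refine Subgroup.subset_closure ⟨n i, EH3Close.OfRGD.n_mem R i, hXU ?_⟩
    have h1 := R.conj_mem' (rp_simple cs R.nsys i) (isRoot_sr cs h i).neg hx
    rwa [inv_simple, map_neg, rep_simple_sr, neg_neg] at h1

end

/-- the Bruhat group is everything -/
theorem GG_eq_top (hG1 : RGD.Sup X {x | IsRoot cs h x} = ⊤) : GG cs h T X = ⊤ := by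
  rw [eq_top_iff, ← hG1]
  exact RGD.Sup_le fun x hx => X_le_GG hx

/-- (f) -/
theorem iSup_eq_top [Finite W] (R : RGD cs h p T n X) (hG1 : RGD.Sup X {x | IsRoot cs h x} = ⊤) :
    ⨆ i, PJ cs h T X {i} = ⊤ := by
  rcases isEmpty_or_nonempty I with hI | ⟨⟨i⟩⟩
  · rw [eq_top_iff, ← hG1]
    refine RGD.Sup_le fun x hx => ?_
    exfalso
    exact hx.ne_zero (funext fun i => (hI.false i).elim)
  · have h1 := EH3Close.OfRGD.gen_top R (GG_eq_top hG1)
    rwa [sup_eq_right.2 (le_trans (B_le_PJ (J := {i})) (le_iSup (fun j => PJ cs h T X {j}) i))] at h1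

end Cfsg.Agent.Omega.Lie.End.KParab

end

section


/-!
# The K-side: `PFacts` from helper57's `KParab` (helper650)
-/

set_option autoImplicit false
set_option linter.unusedSectionVars false

namespace Cfsg.Agent.Omega.Lie.End

open Subgroup CoxeterSystem Cfsg.Agent.ChevalleyStructure.CoxeterGeom Cfsg.Agent.Tits.Roots Cfsg.Agent.Tits.Core
  Cfsg.Agent.Tits.RootComb Cfsg.Agent.Nodes.Comb Cfsg.Agent.Nodes.Reps Cfsg.Agent.Nodes.BNOf
  Cfsg.Agent.Nodes.Bruhat Cfsg.Agent.Nodes.StabComb Cfsg.Agent.Nodes.LeviDec Cfsg.Agent.KFacts.RgdAut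
  Cfsg.Agent.KFacts.RgdDiag Cfsg.Agent.KFacts.RgdRigid Cfsg.Agent.KFacts.RgdCharP Cfsg.Agent.ParSys

variable {I : Type*} {W Y : Type*} [Fintype I] [DecidableEq I] [Group W] [Group Y] {M : CoxeterMatrix I}
  {cs : CoxeterSystem M W} {A : I → I → ℤ} {h : IsCartan M A} {T : Subgroup Y} {n : I → Y}
  {X : (I → ℤ) → Subgroup Y}

theorem pfacts [Finite W] [Finite Y] [Nonempty I] (R : RGD cs h 2 T n X)
    (hG1 : RGD.Sup X {x | IsRoot cs h x} = ⊤) : PFacts cs h T X := by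
  have : Fact (Nat.Prime 2) := ⟨Nat.prime_two⟩
  have hG := Cfsg.Agent.KFacts.RgdRigid.GG_eq_top (T := T) hG1
  refine
    { norm := normalizer_U' R hG
      gen := ?_
      rel := fun i => KParab.relIndex_P R i
      ptr := fun i => KParab.ptr R i
      reg := fun i => KParab.reg R i
      dec := fun i u hu => ?_
      inf := fun i x hx hxQ => ?_
      poly := fun i j _ => KParab.polygon R i j
      ncl := fun i => KParab.le_NCl R i }
  · exact KParab.iSup_eq_top R hG1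
  · obtain ⟨x, hx, v, hv, e⟩ := KParab.exists_mul R i hu
    have hvU : v ∈ RGD.Sup X (RGD.Pos cs h) := VJ_le_U {i} hv
    exact ⟨x, hx, v, hvU, (KParab.mem_qk R hvU).2 hv, e⟩
  · have hxU : x ∈ RGD.Sup X (RGD.Pos cs h) := RGD.le_Sup (S := RGD.Pos cs h) ⟨isRoot_sr cs h i, sr_nonneg i⟩ hx
    have h1 : x ∈ X (sr i) ⊓ VJ cs h X {i} := ⟨hx, (KParab.mem_qk R hxU).1 hxQ⟩
    rw [KParab.disj R i] at h1
    exact h1

end Cfsg.Agent.Omega.Lie.End

end

private theorem dce_008d84cd40dc : _root_.True := by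
  try have : _root_.True := by simp only [_root_.Cfsg.Agent.Omega.Lie.End.KTorus.TI.congr_simp]
  exact _root_.True.intro
end

-- part: Mrg/Omega/Lie/End/KLTwo
section
prune_inst 0x4010000000018050270001c469600009200480c000cc00e0206802e0209002821b4a011110000204c00380068134400000200000000000400011800801080000031000000000016000004400000000000000000000000000000000000000000000
set_option linter.all false
open scoped Cfsg.Agent.FastGrp

-- merged: Cfsg.Agent.Mrg.Omega.EH3.Rank1.LTwo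
section

/-!
# EH3, the row `L₂(q)`, `q ≥ 8` even (helper234)

* `node` : the node data of `SL₂(F)`, `F` finite of characteristic 2;
* `row_sl2`, `row` : `RowEH3 SL₂(F)`, `RowEH3 PSL₂(F)` for `|F| ≥ 8`.
-/

set_option autoImplicit false

namespace Cfsg.Agent.Omega.EH3.Rank1.LTwo

open Subgroup TwoF
open scoped Matrix MatrixGroups

universe u v

variable {F : Type*} [Field F]

/-- upper unitriangular matrices -/
def up (x : F) : SL(2, F) := ⟨!![1, x; 0, 1], by rw [Matrix.det_fin_two_of]; ring⟩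

/-- diagonal matrices -/
def dg (k : Fˣ) : SL(2, F) := ⟨!![(k : F), 0; 0, ((k⁻¹ : Fˣ) : F)], by
  rw [Matrix.det_fin_two_of, mul_zero, sub_zero, Units.mul_inv]⟩

/-- lower unitriangular matrices -/
def lo (x : F) : SL(2, F) := ⟨!![1, 0; x, 1], by rw [Matrix.det_fin_two_of]; ring⟩

theorem up_val (x : F) : (up x : Matrix (Fin 2) (Fin 2) F) = !![1, x; 0, 1] := rfl

theorem up_mul (x y : F) : up x * up y = up (x + y) := by
  apply Subtype.ext
  rw [Matrix.SpecialLinearGroup.coe_mul, up_val, up_val, up_val, Matrix.mul_fin_two]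
  congr 1
  ext i j
  (revert i j; simp [add_comm, _root_.Fin.forall_fin_succ])

theorem up_zero : up (0 : F) = 1 := by
  apply Subtype.ext
  rw [up_val, Matrix.SpecialLinearGroup.coe_one]
  ext i j
  (revert i j; simp only [_root_.Fin.forall_fin_succ, _root_.Matrix.of_apply, _root_.Matrix.cons_val', _root_.Matrix.cons_val_fin_one, Fin.isValue, _root_.Matrix.cons_val_zero, _root_.Matrix.cons_val_succ, _root_.IsEmpty.forall_iff, _root_.and_true, _root_.Matrix.one_apply_eq, Nat.reduceAdd, _root_.Fin.succ_zero_eq_one, _root_.ne_eq, _root_.zero_ne_one, _root_.not_false_eq_true, _root_.Matrix.one_apply_ne, _root_.and_self, _root_.Fin.succ_ne_zero, _root_.true_and])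

theorem up_inv (x : F) : (up x)⁻¹ = up (-x) := by
  rw [inv_eq_iff_mul_eq_one, up_mul, add_neg_cancel, up_zero]

theorem dg_one : dg (1 : Fˣ) = 1 := by
  apply Subtype.ext
  rw [Matrix.SpecialLinearGroup.coe_one]
  show !![((1 : Fˣ) : F), 0; 0, (((1 : Fˣ)⁻¹ : Fˣ) : F)] = 1
  rw [inv_one, Units.val_one]
  ext i j
  (revert i j; simp only [_root_.Fin.forall_fin_succ, _root_.Matrix.of_apply, _root_.Matrix.cons_val', _root_.Matrix.cons_val_fin_one, Fin.isValue, _root_.Matrix.cons_val_zero, _root_.Matrix.cons_val_succ, _root_.IsEmpty.forall_iff, _root_.and_true, _root_.Matrix.one_apply_eq, Nat.reduceAdd, _root_.Fin.succ_zero_eq_one, _root_.ne_eq, _root_.zero_ne_one, _root_.not_false_eq_true, _root_.Matrix.one_apply_ne, _root_.and_self, _root_.Fin.succ_ne_zero, _root_.true_and])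

theorem dg_mul (k l : Fˣ) : dg k * dg l = dg (k * l) := by
  apply Subtype.ext
  rw [Matrix.SpecialLinearGroup.coe_mul]
  show !![(k : F), 0; 0, ((k⁻¹ : Fˣ) : F)] * !![(l : F), 0; 0, ((l⁻¹ : Fˣ) : F)]
    = !![((k * l : Fˣ) : F), 0; 0, (((k * l)⁻¹ : Fˣ) : F)]
  rw [Matrix.mul_fin_two, mul_inv, Units.val_mul, Units.val_mul]
  ext i j
  (revert i j; simp [_root_.Fin.forall_fin_succ])

theorem dg_pow (k : Fˣ) (n : ℕ) : dg k ^ n = dg (k ^ n) := by
  induction n with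
  | zero => rw [pow_zero, pow_zero, dg_one]
  | succ n ih => rw [pow_succ, ih, dg_mul, pow_succ]

theorem dg_inv (k : Fˣ) : (dg k)⁻¹ = dg k⁻¹ := by
  rw [inv_eq_iff_mul_eq_one, dg_mul, mul_inv_cancel, dg_one]

theorem dg_up (k : Fˣ) (x : F) : dg k * up x * (dg k)⁻¹ = up ((k : F) ^ 2 * x) := by
  rw [dg_inv]
  apply Subtype.ext
  rw [Matrix.SpecialLinearGroup.coe_mul, Matrix.SpecialLinearGroup.coe_mul]
  show !![(k : F), 0; 0, ((k⁻¹ : Fˣ) : F)] * !![1, x; 0, 1] * !![((k⁻¹ : Fˣ) : F), 0; 0, ((k⁻¹⁻¹ : Fˣ) : F)]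
    = !![1, (k : F) ^ 2 * x; 0, 1]
  rw [Matrix.mul_fin_two, Matrix.mul_fin_two, inv_inv]
  ext i j
  fin_cases i <;> fin_cases j
  · simp
  · simp
    ring
  · simp
  · simp

/-- a Weyl group element -/
def wm : SL(2, F) := ⟨!![0, 1; -1, 0], by rw [Matrix.det_fin_two_of]; ring⟩

theorem wm_conj (k : Fˣ) (x : F) : (wm⁻¹ * (dg k * up x) * wm).1 1 0 = -((k : F) * x) := by
  rw [Matrix.SpecialLinearGroup.coe_mul, Matrix.SpecialLinearGroup.coe_mul,
    Matrix.SpecialLinearGroup.coe_mul, Matrix.SpecialLinearGroup.coe_inv]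
  show ((!![0, 1; -1, 0] : Matrix (Fin 2) (Fin 2) F).adjugate *
    (!![(k : F), 0; 0, ((k⁻¹ : Fˣ) : F)] * !![1, x; 0, 1]) * !![0, 1; -1, 0] : Matrix (Fin 2) (Fin 2) F) 1 0 = _
  rw [Matrix.adjugate_fin_two_of, Matrix.mul_fin_two, Matrix.mul_fin_two, Matrix.mul_fin_two]
  simp

theorem lo_conj (k : Fˣ) (x : F) :
    ((lo 1)⁻¹ * (dg k * up x) * lo 1).1 1 0 = ((k⁻¹ : Fˣ) : F) - (k : F) * (1 + x) := by
  rw [Matrix.SpecialLinearGroup.coe_mul, Matrix.SpecialLinearGroup.coe_mul,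
    Matrix.SpecialLinearGroup.coe_mul, Matrix.SpecialLinearGroup.coe_inv]
  show ((!![1, 0; 1, 1] : Matrix (Fin 2) (Fin 2) F).adjugate *
    (!![(k : F), 0; 0, ((k⁻¹ : Fˣ) : F)] * !![1, x; 0, 1]) * !![1, 0; 1, 1] : Matrix (Fin 2) (Fin 2) F) 1 0 = _
  rw [Matrix.adjugate_fin_two_of, Matrix.mul_fin_two, Matrix.mul_fin_two, Matrix.mul_fin_two]
  simp only [_root_.mul_one, _root_.MulZeroClass.mul_zero, _root_.add_zero, _root_.one_mul, _root_.neg_zero, _root_.Units.val_inv_eq_inv_val, _root_.MulZeroClass.zero_mul, _root_.zero_add, _root_.neg_mul, _root_.Fin.isValue, _root_.Matrix.of_apply, _root_.Matrix.cons_val', _root_.Matrix.cons_val_zero, _root_.Matrix.cons_val_fin_one, _root_.Matrix.cons_val_one]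
  ring

/-- the group of upper unitriangular matrices -/
def U (F : Type*) [Field F] : Subgroup SL(2, F) where
  carrier := Set.range up
  one_mem' := ⟨0, up_zero⟩
  mul_mem' := by
    rintro _ _ ⟨x, rfl⟩ ⟨y, rfl⟩
    exact ⟨x + y, (up_mul x y).symm⟩
  inv_mem' := by
    rintro _ ⟨x, rfl⟩
    exact ⟨-x, (up_inv x).symm⟩

theorem mem_U {g : SL(2, F)} : g ∈ U F ↔ ∃ x, up x = g := Iff.rfl

theorem det_eq (g : SL(2, F)) : g.1 0 0 * g.1 1 1 - g.1 0 1 * g.1 1 0 = 1 := by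
  rw [← Matrix.det_fin_two]
  exact g.2

/-- the upper triangular matrices are `D U` -/
theorem eq_of_lower {g : SL(2, F)} (h : g.1 1 0 = 0) : ∃ (k : Fˣ) (x : F), g = dg k * up x := by
  have hd := det_eq g
  rw [h, mul_zero, sub_zero] at hd
  have h0 : g.1 0 0 ≠ 0 := fun h0 => by rw [h0, zero_mul] at hd; exact zero_ne_one hd
  refine ⟨Units.mk0 _ h0, (g.1 0 0)⁻¹ * g.1 0 1, ?_⟩
  apply Subtype.ext
  rw [Matrix.SpecialLinearGroup.coe_mul]
  show g.1 = !![(g.1 0 0), 0; 0, (((Units.mk0 _ h0)⁻¹ : Fˣ) : F)] * !![1, (g.1 0 0)⁻¹ * g.1 0 1; 0, 1]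
  rw [Matrix.mul_fin_two]
  ext i j
  fin_cases i <;> fin_cases j
  · simp only [_root_.Fin.zero_eta, _root_.Fin.isValue, _root_.mul_one, _root_.MulZeroClass.mul_zero, _root_.add_zero, _root_.Units.val_inv_eq_inv_val, _root_.Units.val_mk0, _root_.MulZeroClass.zero_mul, _root_.zero_add, _root_.Matrix.of_apply, _root_.Matrix.cons_val', _root_.Matrix.cons_val_zero, _root_.Matrix.cons_val_fin_one]
  · show g.1 0 1 = g.1 0 0 * ((g.1 0 0)⁻¹ * g.1 0 1) + 0 * 1
    rw [← mul_assoc, mul_inv_cancel₀ h0]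
    ring
  · simpa only [_root_.Fin.mk_one, _root_.Fin.isValue, _root_.Fin.zero_eta, _root_.mul_one, _root_.MulZeroClass.mul_zero, _root_.add_zero, _root_.Units.val_inv_eq_inv_val, _root_.Units.val_mk0, _root_.MulZeroClass.zero_mul, _root_.zero_add, _root_.Matrix.of_apply, _root_.Matrix.cons_val', _root_.Matrix.cons_val_zero, _root_.Matrix.cons_val_fin_one, _root_.Matrix.cons_val_one] using h
  · have h1 : g.1 1 1 = (g.1 0 0)⁻¹ := eq_inv_of_mul_eq_one_right hd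
    simp only [h1, _root_.Fin.mk_one, _root_.Fin.isValue, _root_.mul_one, _root_.MulZeroClass.mul_zero, _root_.add_zero, _root_.Units.val_inv_eq_inv_val, _root_.Units.val_mk0, _root_.MulZeroClass.zero_mul, _root_.zero_add, _root_.Matrix.of_apply, _root_.Matrix.cons_val', _root_.Matrix.cons_val_one, _root_.Matrix.cons_val_fin_one]

/-- `N(U)` = upper triangular matrices -/
theorem mem_norm {g : SL(2, F)} : g ∈ normalizer ((U F : Subgroup SL(2, F)) : Set SL(2, F)) ↔ g.1 1 0 = 0 := by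
  constructor
  · intro h
    obtain ⟨x, hx⟩ := (mem_normalizer_iff.1 h (up 1)).1 ⟨1, rfl⟩
    have h1 : up x * g = g * up 1 := by rw [hx, inv_mul_cancel_right]
    have h2 := congrFun (congrFun (congrArg Subtype.val h1) 1) 1
    have h3 : (up x * g).1 1 1 = g.1 1 1 := by
      rw [Matrix.SpecialLinearGroup.coe_mul, Matrix.mul_apply, Fin.sum_univ_two, up_val]
      simp
    have h4 : (g * up 1).1 1 1 = g.1 1 0 + g.1 1 1 := by
      rw [Matrix.SpecialLinearGroup.coe_mul, Matrix.mul_apply, Fin.sum_univ_two, up_val]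
      simp
    have h5 : g.1 1 1 = g.1 1 0 + g.1 1 1 := h3.symm.trans (h2.trans h4)
    exact (add_eq_right.mp h5.symm)
  · intro h
    obtain ⟨k, x, rfl⟩ := eq_of_lower h
    refine mul_mem ?_ (le_normalizer (mem_U.2 ⟨x, rfl⟩))
    rw [mem_normalizer_iff]
    intro t
    constructor
    · rintro ⟨y, rfl⟩
      exact ⟨_, (dg_up k y).symm⟩
    · rintro ⟨y, hy⟩
      refine ⟨((k⁻¹ : Fˣ) : F) ^ 2 * y, ?_⟩
      rw [← dg_up, hy, ← dg_inv]
      group

/-- **the node data of `SL₂(F)`** -/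
theorem node [Finite F] [CharP F 2] : ∃ (φ : SL(2, F) → F) (c : SL(2, F)) (lam : F),
    NodeL (⊤ : Subgroup SL(2, F)) (U F) ⊥ φ c lam := by
  classical
  have := Fintype.ofFinite F
  have h2 : (2 : F) = 0 := CharP.cast_eq_zero F 2
  obtain ⟨m, hm⟩ := IsCyclic.exists_generator (α := Fˣ)
  have hord : orderOf m = Nat.card F - 1 := by
    rw [orderOf_eq_card_of_forall_mem_zpowers hm, Nat.card_units]
  have hodd : Odd (Nat.card F - 1) := by
    have h1 : 2 ∣ Nat.card F := by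
      rw [Nat.card_eq_fintype_card, ← CharP.cast_eq_zero_iff F 2]
      exact FiniteField.cast_card_eq_zero F
    have h3 : 0 < Nat.card F := Nat.card_pos
    obtain ⟨k, hk⟩ := h1
    exact ⟨k - 1, by omega⟩
  refine ⟨fun g => g.1 0 1, dg m, (m : F) ^ 2, ?_⟩
  have e01 : ∀ x : F, (up x).1 0 1 = x := fun x => rfl
  refine
    { T_le := le_top
      O_le := bot_le
      two := ?_
      norm := ?_
      trans := ?_
      core := ?_
      map_mul := ?_
      ker := ?_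
      surj := ?_
      c_mem := mem_top _
      c_norm := ?_
      gen := ?_
      act := ?_
      ne := pow_ne_zero 2 m.ne_zero
      ord := ?_
      tor := ?_ }
  · rintro ⟨_, x, rfl⟩
    refine ⟨1, Subtype.ext ?_⟩
    show up x ^ (2 ^ 1) = 1
    rw [pow_one, pow_two, up_mul, ← two_mul, h2, zero_mul, up_zero]
  · intro g _ o ho
    rw [mem_bot] at ho ⊢
    rw [ho, mul_one, mul_inv_cancel]
  · intro g _ hg k _ hk
    rw [mem_norm] at hg hk
    refine ⟨up (k.1 0 0 / k.1 1 0 - g.1 0 0 / g.1 1 0), ⟨_, rfl⟩, ?_⟩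
    rw [mem_norm]
    have h1 : ∀ a b : SL(2, F), (a⁻¹ * b).1 1 0 = a.1 0 0 * b.1 1 0 - a.1 1 0 * b.1 0 0 := by
      intro a b
      rw [Matrix.SpecialLinearGroup.coe_mul, Matrix.mul_apply, Fin.sum_univ_two,
        Matrix.SpecialLinearGroup.coe_inv, Matrix.adjugate_fin_two]
      simp only [_root_.Fin.isValue, _root_.Matrix.of_apply, _root_.Matrix.cons_val', _root_.Matrix.cons_val_zero, _root_.Matrix.cons_val_fin_one, _root_.Matrix.cons_val_one, _root_.neg_mul]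
      ring
    rw [h1]
    have h3 : ∀ x : F, (up x * g).1 0 0 = g.1 0 0 + x * g.1 1 0 := by
      intro x
      rw [Matrix.SpecialLinearGroup.coe_mul, Matrix.mul_apply, Fin.sum_univ_two, up_val]
      simp
    have h4 : ∀ x : F, (up x * g).1 1 0 = g.1 1 0 := by
      intro x
      rw [Matrix.SpecialLinearGroup.coe_mul, Matrix.mul_apply, Fin.sum_univ_two, up_val]
      simp
    rw [h3, h4]
    field_simp
    ring
  · intro g _ hg
    have g10 : g.1 1 0 = 0 := by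
      have := hg 1 (mem_top _)
      rw [inv_one, one_mul, mul_one, mem_norm] at this
      exact this
    obtain ⟨k, x, rfl⟩ := eq_of_lower g10
    have h7 := hg wm (mem_top _)
    rw [mem_norm, wm_conj] at h7
    have hx : x = 0 := (mul_eq_zero.1 (neg_eq_zero.1 h7)).resolve_left k.ne_zero
    have h5 := hg (lo 1) (mem_top _)
    rw [mem_norm, lo_conj, hx, add_zero, mul_one] at h5
    have hk : (k : F) * k = 1 := by
      have h6 := Units.inv_mul k
      rwa [sub_eq_zero.1 h5] at h6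
    have hk1 : (k : F) = 1 := by
      have h8 : ((k : F) - 1) * ((k : F) - 1) = 0 := by linear_combination hk + (1 - (k : F)) * h2
      exact sub_eq_zero.1 (mul_self_eq_zero.1 h8)
    have hk2 : k = 1 := Units.ext hk1
    rw [mem_bot, hx, up_zero, mul_one, hk2, dg_one]
  · rintro _ ⟨x, rfl⟩ _ ⟨y, rfl⟩
    show (up x * up y).1 0 1 = _
    rw [up_mul]
    rfl
  · rintro _ ⟨x, rfl⟩
    show x = 0 ↔ _
    rw [mem_bot]
    constructor
    · rintro rfl
      exact up_zero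
    · intro h
      have h1 := congrFun (congrFun (congrArg Subtype.val h) 0) 1
      have h3 : (1 : SL(2, F)).1 0 1 = 0 := by
        rw [Matrix.SpecialLinearGroup.coe_one]
        exact Matrix.one_apply_ne (by decide)
      exact h1.trans h3
  · intro x
    exact ⟨up x, ⟨x, rfl⟩, rfl⟩
  · rw [mem_norm]
    rfl
  · intro g _ hg
    rw [mem_norm] at hg
    obtain ⟨k, x, rfl⟩ := eq_of_lower hg
    obtain ⟨n, hn⟩ := (mem_powers_iff_mem_zpowers.2 (hm k) : k ∈ Submonoid.powers m)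
    refine ⟨n, up x, ⟨x, rfl⟩, ?_⟩
    rw [dg_pow]
    congr 2
    exact hn.symm
  · rintro _ ⟨x, rfl⟩
    rw [dg_up]
    rfl
  · intro k hk
    have h1 : m ^ (2 * k) = 1 := by
      apply Units.ext
      rw [pow_mul]
      simpa only [_root_.Units.val_pow_eq_pow_val, _root_.Units.val_one] using hk
    have h3 := orderOf_dvd_of_pow_eq_one h1
    rw [hord] at h3
    exact (Nat.Coprime.dvd_of_dvd_mul_left (Nat.coprime_two_right.2 hodd) h3)
  · rw [dg_pow, ← hord, pow_orderOf_eq_one, dg_one]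
    exact (U F).one_mem

/-- the row of `L₂(q)` for groups `K` isomorphic to `SL₂(F)` -/
theorem row_of_equiv [Finite F] [CharP F 2] (h8 : 8 ≤ Nat.card F) {K : Type v} [Group K] (e : K ≃* SL(2, F)) :
    RowEH3.{u} K := by
  intro H V _ _ _ ρ b q a D X w L π hL hπ hX C
  have := C.finite_H
  have hp : Fact (Nat.Prime 2) := ⟨Nat.prime_two⟩
  have h2 : (2 : F) = 0 := CharP.cast_eq_zero F 2
  obtain ⟨φ, c, lam, hn⟩ := node (F := F)
  have hodd : Odd (Nat.card F - 1) := by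
    have := Fintype.ofFinite F
    have h1 : 2 ∣ Nat.card F := by
      rw [Nat.card_eq_fintype_card, ← CharP.cast_eq_zero_iff F 2]
      exact FiniteField.cast_card_eq_zero F
    obtain ⟨k, hk⟩ := h1
    exact ⟨k - 1, by omega⟩
  obtain ⟨U', hU'⟩ := exists_sylow_of_odd hn.two fun g hg => ⟨_, hodd, hn.pow_mem_T (mem_top g) hg⟩
  -- the isomorphism `L ≃* SL₂(F)`
  have hcov := hπ.comp e
  have hker := OddKer.ker_eq_bot_sl2 hcov
  have hinj : Function.Injective (e.toMonoidHom.comp π) := (MonoidHom.ker_eq_bot_iff _).1 hker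
  let f₀ : L ≃* SL(2, F) := MulEquiv.ofBijective (e.toMonoidHom.comp π) ⟨hinj, hcov.surj⟩
  obtain ⟨T, hx, -⟩ := C.exists_T_sub hL
  obtain ⟨f, hf, hfE, hfT⟩ := exists_transport f₀ T U'
  rw [hU'] at hfT
  obtain ⟨φ', -, hn'⟩ := hn.mapInj hf
  rw [hfE, hfT] at hn'
  have hfix := hn'.fix C hx h8
  have hbot := C.eq_bot_of_normal_fix hL hfix
  -- `L = 1`
  obtain ⟨y, hy⟩ : ∃ y : SL(2, F), y ≠ 1 := ⟨up 1, by
    intro h
    have h1 := congrFun (congrFun (congrArg Subtype.val h) 0) 1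
    have h3 : (1 : SL(2, F)).1 0 1 = 0 := by
      rw [Matrix.SpecialLinearGroup.coe_one]
      exact Matrix.one_apply_ne (by decide)
    exact one_ne_zero (h1.trans h3)⟩
  apply hy
  apply hf
  rw [map_one]
  have h1 : f y ∈ L := by
    rw [← hfE]
    exact ⟨y, mem_top _, rfl⟩
  rw [hbot] at h1
  exact mem_bot.1 h1

theorem center_eq_bot [Finite F] [CharP F 2] : center SL(2, F) = ⊥ := by
  obtain ⟨φ, c, lam, hn⟩ := node (F := F)
  rw [eq_bot_iff]
  intro g hg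
  refine hn.core g (mem_top g) fun h _ => ?_
  have h1 : h⁻¹ * g * h = g := by rw [mul_assoc, ← mem_center_iff.1 hg h, inv_mul_cancel_left]
  rw [h1, mem_normalizer_iff]
  intro t
  rw [← mem_center_iff.1 hg t, mul_inv_cancel_right]

/-- `PSL₂(F) = SL₂(F)` in characteristic 2 -/
theorem psl_equiv [Finite F] [CharP F 2] : Nonempty (Matrix.ProjectiveSpecialLinearGroup (Fin 2) F ≃* SL(2, F)) :=
  ⟨(QuotientGroup.quotientMulEquivOfEq center_eq_bot).trans QuotientGroup.quotientBot⟩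

/-- **the row `L₂(q)`, `q ≥ 8` even** -/
theorem row [Finite F] [CharP F 2] (h8 : 8 ≤ Nat.card F) {K : Type v} [Group K]
    (h : Nonempty (K ≃* Matrix.ProjectiveSpecialLinearGroup (Fin 2) F)) : RowEH3.{u} K := by
  obtain ⟨e⟩ := h
  obtain ⟨e'⟩ := psl_equiv (F := F)
  exact row_of_equiv h8 (e.trans e')

end Cfsg.Agent.Omega.EH3.Rank1.LTwo

end

-- merged: Cfsg.Agent.Mrg.Omega.Lie.End.KLTwo
section

section


/-!
# The K-side of the END of NODE LIE: the groups `L₂(q)` (helper578)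

`kLTwo : KLTwo`: let `K` be perfect with odd centre and `K / Z(K) ≅ L₂(F)`, `F` of characteristic 2, `|F| ≥ 4`. Then
`Z(K) = 1` (transfer) and `TAct S T` implies `KSys` with one node, or `|T| = 3` and `T` acts by field automorphisms
(`KExc`).

* `Co S F` : coordinates on `S`: `S = φ(F)`, and `N(S)` acts on it as `Fˣ`;
* `Co.card_three` : if some `1 ≠ t₀ ∈ T` fixes `1 ≠ u₀ ∈ S`, then `|T| = 3` and `T` fixes `u₀` (Dedekind's lemma).
-/

set_option autoImplicit false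

namespace Cfsg.Agent.Omega.Lie.End.LTwoSide

open Subgroup Cfsg.Agent.ParSys Cfsg.Agent.Omega.EH3.Rank1.LTwo
open scoped Matrix MatrixGroups Pointwise

section coord

variable {K : Type*} [Group K] {F : Type*} [Field F]

/-- coordinates on `S` -/
structure Co (S : Subgroup K) (φ : F → K) : Prop where
  add : ∀ x y, φ (x + y) = φ x * φ y
  inj : ∀ x y, φ x = φ y → x = y
  mem : ∀ u, u ∈ S ↔ ∃ a, φ a = u
  dia : ∀ c : F, c ≠ 0 → ∃ d ∈ normalizer (S : Set K), ∀ a, d * φ a * d⁻¹ = φ (c * a)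
  nor : ∀ b ∈ normalizer (S : Set K), ∃ c : F, ∀ a, b * φ a * b⁻¹ = φ (c * a)

variable {S : Subgroup K} {φ : F → K} {T : Subgroup (MulAut K)}

theorem Co.zero (C : Co S φ) : φ 0 = 1 := by
  have h := C.add 0 0
  rw [add_zero] at h
  exact (mul_eq_left.1 h.symm)

theorem Co.neg (C : Co S φ) (x : F) : φ (-x) = (φ x)⁻¹ := by
  rw [eq_inv_iff_mul_eq_one, ← C.add, neg_add_cancel, C.zero]

theorem stab_norm (h : TAct S T) {t : MulAut K} (ht : t ∈ T) {b : K} (hb : b ∈ normalizer (S : Set K)) :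
    t b ∈ normalizer (S : Set K) := by
  have hs : ∀ x, t x ∈ S ↔ x ∈ S := by
    intro x
    refine ⟨fun hx => ?_, h.stab t ht x⟩
    have := h.stab t⁻¹ (inv_mem ht) _ hx
    rwa [MulAut.inv_apply_self] at this
  rw [mem_normalizer_iff] at hb ⊢
  intro x
  have e : t b * x * (t b)⁻¹ = t (b * t⁻¹ x * b⁻¹) := by
    rw [map_mul, map_mul, map_inv, MulAut.apply_inv_self]
  rw [e, hs, ← hb]
  have h2 := hs (t⁻¹ x)
  rwa [MulAut.apply_inv_self] at h2

theorem AT_le (h : TAct S T) : AT S T ≤ S := by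
  rw [AT, closure_le]
  rintro _ ⟨t, ht, u, hu, rfl⟩
  exact mul_mem (inv_mem hu) (h.stab t ht u hu)

/-- only `1` is trivial on `S` -/
theorem eq_one_of_triv (h : TAct S T) {t : MulAut K} (ht : t ∈ T) (hS : ∀ u ∈ S, t u = u) : t = 1 := by
  by_contra h1
  apply h.ne
  rw [eq_bot_iff]
  intro a ha
  exact h.fpf t ht h1 a ha (hS a (AT_le h ha))

/-- a fixed point of one `t₀ ≠ 1` is fixed by `T` -/
theorem fix_all (h : TAct S T) {t₀ : MulAut K} (ht₀ : t₀ ∈ T) (h1 : t₀ ≠ 1) {u : K} (hu : u ∈ S) (hf : t₀ u = u)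
    {t : MulAut K} (ht : t ∈ T) : t u = u := by
  have h2 := h.fpf t₀ ht₀ h1 (u⁻¹ * t u) (subset_closure ⟨t, ht, u, hu, rfl⟩) (by
    have h3 : t₀ (t u) = t (t₀ u) := by
      rw [← MulAut.mul_apply, ← MulAut.mul_apply, h.comm t₀ ht₀ t ht]
    rw [map_mul, map_inv, h3, hf])
  exact (inv_mul_eq_one.1 h2).symm

variable [CharP F 2]

theorem Co.card_three [Finite K] (C : Co S φ) (h : TAct S T) {t₀ : MulAut K} (ht₀ : t₀ ∈ T) (h1 : t₀ ≠ 1) {u₀ : K}
    (hu₀ : u₀ ∈ S) (hu1 : u₀ ≠ 1) (hf : t₀ u₀ = u₀) : Nat.card T = 3 := by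
  classical
  obtain ⟨x₀, hx₀⟩ := (C.mem u₀).1 hu₀
  have hx0 : x₀ ≠ 0 := by
    rintro rfl
    exact hu1 (hx₀.symm.trans C.zero)
  -- the action on the coordinates
  have hex : ∀ t : T, ∀ x : F, ∃ y, φ y = (t : MulAut K) (φ x) := fun t x =>
    (C.mem _).1 (h.stab t t.2 _ ((C.mem _).2 ⟨x, rfl⟩))
  choose f hfe using hex
  have f_add : ∀ t x y, f t (x + y) = f t x + f t y := by
    intro t x y
    apply C.inj
    rw [C.add, hfe, hfe, hfe, C.add, map_mul]
  have f_x₀ : ∀ t, f t x₀ = x₀ := by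
    intro t
    apply C.inj
    rw [hfe, hx₀]
    exact fix_all h ht₀ h1 hu₀ hf t.2
  have f_zero : ∀ t, f t 0 = 0 := by
    intro t
    apply C.inj
    rw [hfe, C.zero, map_one]
  have f_mul : ∀ t s x, f (t * s) x = f t (f s x) := by
    intro t s x
    apply C.inj
    rw [hfe, hfe, hfe]
    rfl
  -- semilinearity
  have hsemi : ∀ t : T, ∀ c : F, ∃ α, ∀ y, f t (c * y) = α * f t y := by
    intro t c
    by_cases hc : c = 0
    · refine ⟨0, fun y => ?_⟩
      rw [hc, zero_mul, zero_mul, f_zero]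
    obtain ⟨d, hd, hdc⟩ := C.dia c hc
    obtain ⟨α, hα⟩ := C.nor _ (stab_norm h t.2 hd)
    refine ⟨α, fun y => ?_⟩
    apply C.inj
    rw [hfe, ← hdc, map_mul, map_mul, map_inv, ← hfe, hα]
  have hs : ∀ t c y, f t (c * y) = (f t (c * x₀) / x₀) * f t y := by
    intro t c y
    obtain ⟨α, hα⟩ := hsemi t c
    rw [hα, hα, f_x₀, mul_div_assoc, div_self hx0, mul_one]
  let σ : T → (F →* F) := fun t =>
    { toFun := fun c => f t (c * x₀) / x₀
      map_one' := by rw [one_mul, f_x₀, div_self hx0]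
      map_mul' := by
        intro c c'
        rw [mul_assoc, hs, mul_div_assoc] }
  have σ_def : ∀ t c, σ t c = f t (c * x₀) / x₀ := fun _ _ => rfl
  have σ_inj : Function.Injective σ := by
    intro t t' htt
    have h2 : ∀ y, f t y = f t' y := by
      intro y
      have h3 := DFunLike.congr_fun htt (y / x₀)
      rw [σ_def, σ_def, div_mul_cancel₀ _ hx0] at h3
      have h4 := (div_left_inj' hx0).1 h3
      exact h4
    have h3 := eq_one_of_triv h (mul_mem (inv_mem t'.2) t.2) (by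
      intro u hu
      obtain ⟨y, rfl⟩ := (C.mem u).1 hu
      rw [MulAut.mul_apply, ← hfe, h2, hfe, MulAut.inv_apply_self])
    exact Subtype.ext (inv_mul_eq_one.1 h3).symm
  -- Dedekind
  have hli : LinearIndependent F (fun t : T => (σ t : F → F)) :=
    (linearIndependent_monoidHom F F).comp σ σ_inj
  -- the relation
  have hrel : ∀ t t' t'' : T, (∀ a ∈ AT S T, (t : MulAut K) a * (t' : MulAut K) a = (t'' : MulAut K) a) → ∀ s : T, ∀ c,
      σ (t * s) c + σ t c + (σ (t' * s) c + σ t' c) + (σ (t'' * s) c + σ t'' c) = 0 := by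
    intro t t' t'' hr s c
    set y := c * x₀ with hy
    have ha : φ (f s y - y) ∈ AT S T := by
      refine subset_closure ⟨s, s.2, φ y, (C.mem _).2 ⟨y, rfl⟩, ?_⟩
      rw [sub_eq_neg_add, C.add, C.neg, hfe]
    have h2 := hr _ ha
    rw [← hfe, ← hfe, ← hfe, ← C.add] at h2
    have h3 := C.inj _ _ h2
    have f_sub : ∀ t : T, f t (f s y - y) = f (t * s) y + f t y := by
      intro t
      have h4 : f t (f s y - y) + f t y = f (t * s) y := by rw [← f_add, sub_add_cancel, f_mul]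
      rw [← h4, add_assoc, CharTwo.add_self_eq_zero, add_zero]
    rw [f_sub, f_sub, f_sub] at h3
    have e : σ (t * s) c + σ t c + (σ (t' * s) c + σ t' c) + (σ (t'' * s) c + σ t'' c)
        = ((f (t * s) y + f t y + (f (t' * s) y + f t' y)) + (f (t'' * s) y + f t'' y)) / x₀ := by
      simp only [σ_def]
      ring
    rw [e, h3, CharTwo.add_self_eq_zero, zero_div]
  -- two different elements of `T`
  have : Finite (MulAut K) := Finite.of_injective (fun a : MulAut K => (a : K → K)) DFunLike.coe_injective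
  have hnt : Nontrivial T := by
    rw [← Finite.one_lt_card_iff_nontrivial]
    have := h.three
    omega
  obtain ⟨t, t', htt⟩ := exists_pair_ne T
  obtain ⟨t'', ht'', hr⟩ := h.scal t t.2 t' t'.2 (fun e => htt (Subtype.ext e))
  -- the six terms
  have hr6 := hrel t t' ⟨t'', ht''⟩ hr
  set r : T := ⟨t'', ht''⟩ with hrdef
  have key : ∀ x : T, x = t ∨ x = t' ∨ x = r := by
    intro x
    by_contra hx
    rw [not_or, not_or] at hx
    obtain ⟨hx1, hx2, hx3⟩ := hx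
    -- the six-term relation, for every `s`
    have h6 : ∀ s : T, (if t * s = x then (1 : F) else 0) + (if t' * s = x then (1 : F) else 0)
        + (if r * s = x then (1 : F) else 0) = 0 := by
      intro s
      let l : T →₀ F := Finsupp.single (t * s) 1 + Finsupp.single t 1 + (Finsupp.single (t' * s) 1
        + Finsupp.single t' 1) + (Finsupp.single (r * s) 1 + Finsupp.single r 1)
      have hl : l = 0 := by
        apply (linearIndependent_iff.1 hli) l
        simp only [l, map_add, Finsupp.linearCombination_single, one_smul]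
        funext c
        exact hr6 s c
      have hlx : l x = 0 := by rw [hl]; rfl
      simp only [l, Finsupp.add_apply, Finsupp.single_apply] at hlx
      rw [if_neg (Ne.symm hx1), if_neg (Ne.symm hx2), if_neg (Ne.symm hx3), add_zero, add_zero, add_zero] at hlx
      exact hlx
    have aux : ∀ a b : T, a * (b⁻¹ * x) = x → a = b := by
      intro a b e
      rw [← mul_assoc] at e
      exact mul_inv_eq_one.1 (mul_eq_right.1 e)
    by_cases hrt : r = t
    · have h7 := h6 (t'⁻¹ * x)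
      rw [hrt, if_neg (fun e => htt (aux _ _ e)), if_pos (mul_inv_cancel_left _ _), add_zero, zero_add] at h7
      exact one_ne_zero h7
    · have h7 := h6 (t⁻¹ * x)
      rw [if_pos (mul_inv_cancel_left _ _), if_neg (fun e => htt (aux _ _ e).symm), if_neg (fun e => hrt (aux _ _ e)),
        add_zero, add_zero] at h7
      exact one_ne_zero h7
  have hle : Nat.card T ≤ 3 := by
    have : Fintype T := Fintype.ofFinite T
    rw [Nat.card_eq_fintype_card, ← Finset.card_univ]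
    refine le_trans (Finset.card_le_card (t := {t, t', r}) ?_) Finset.card_le_three
    intro x _
    rcases key x with rfl | rfl | rfl <;> simp
  exact le_antisymm hle h.three

end coord

section sl

variable {F : Type*} [Field F]

theorem sl_mul (g h : SL(2, F)) (i j : Fin 2) : (g * h).1 i j = g.1 i 0 * h.1 0 j + g.1 i 1 * h.1 1 j := by
  rw [Matrix.SpecialLinearGroup.coe_mul, Matrix.mul_apply, Fin.sum_univ_two]

theorem up_entries (x : F) : (up x).1 0 0 = 1 ∧ (up x).1 0 1 = x ∧ (up x).1 1 0 = 0 ∧ (up x).1 1 1 = 1 :=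
  ⟨rfl, rfl, rfl, rfl⟩

/-- the inverse of `wm` -/
def wi : SL(2, F) := ⟨!![0, -1; 1, 0], by rw [Matrix.det_fin_two_of]; ring⟩

theorem wm_mul_wi : (wm : SL(2, F)) * wi = 1 := by
  apply Subtype.ext
  rw [Matrix.SpecialLinearGroup.coe_mul, Matrix.SpecialLinearGroup.coe_one]
  show !![0, 1; -1, 0] * !![0, -1; 1, 0] = (1 : Matrix (Fin 2) (Fin 2) F)
  rw [Matrix.mul_fin_two]
  ext i j
  (revert i j; simp only [_root_.Fin.forall_fin_succ, _root_.MulZeroClass.mul_zero, _root_.mul_one, _root_.zero_add, _root_.mul_neg, _root_.neg_zero, _root_.add_zero, _root_.neg_neg, _root_.Matrix.of_apply, _root_.Matrix.cons_val', _root_.Matrix.cons_val_fin_one, Fin.isValue, _root_.Matrix.cons_val_zero, _root_.Matrix.cons_val_succ, _root_.IsEmpty.forall_iff, _root_.and_true, _root_.Matrix.one_apply_eq, Nat.reduceAdd, _root_.Fin.succ_zero_eq_one, _root_.ne_eq, _root_.zero_ne_one, _root_.not_false_eq_true, _root_.Matrix.one_apply_ne, _root_.and_self,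 _root_.Fin.succ_ne_zero, _root_.true_and])

theorem bruhat {g : SL(2, F)} (h : g.1 1 0 ≠ 0) : ∃ x : F, ∃ b : SL(2, F), b.1 1 0 = 0 ∧ g = up x * wm * b := by
  refine ⟨g.1 0 0 / g.1 1 0, wi * (up (-(g.1 0 0 / g.1 1 0)) * g), ?_, ?_⟩
  · rw [sl_mul, sl_mul, sl_mul]
    show (1 : F) * (1 * g.1 0 0 + -(g.1 0 0 / g.1 1 0) * g.1 1 0) + 0 * _ = 0
    field_simp
    ring
  · rw [← mul_assoc, mul_assoc (up _) wm wi, wm_mul_wi, mul_one, ← mul_assoc, up_mul, add_neg_cancel, up_zero, one_mul]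

theorem lower_mul {g h : SL(2, F)} (hg : g.1 1 0 = 0) (hh : h.1 1 0 = 0) : (g * h).1 1 0 = 0 := by
  rw [sl_mul, hg, hh, zero_mul, mul_zero, add_zero]

theorem lower_inv {g : SL(2, F)} (hg : g.1 1 0 = 0) : (g⁻¹).1 1 0 = 0 := by
  rw [Matrix.SpecialLinearGroup.coe_inv, Matrix.adjugate_fin_two]
  simpa using hg

theorem wm_up {x : F} (h : (wm⁻¹ * up x * wm).1 1 0 = 0) : x = 0 := by
  have h1 := wm_conj (1 : Fˣ) x
  rw [dg_one, one_mul, h, Units.val_one, one_mul] at h1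
  exact neg_eq_zero.1 h1.symm

theorem reg {g : SL(2, F)} (hg : g.1 1 0 ≠ 0) {x : F} (h : (g⁻¹ * up x * g).1 1 0 = 0) : x = 0 := by
  obtain ⟨y, b, hb, rfl⟩ := bruhat hg
  apply wm_up
  have e : wm⁻¹ * up x * wm = b * ((up y * wm * b)⁻¹ * up x * (up y * wm * b)) * b⁻¹ := by
    have h1 : up x = (up y)⁻¹ * up x * up y := by
      rw [up_inv, up_mul, up_mul]
      congr 1
      ring
    conv_lhs => rw [h1]
    group
  rw [e]
  exact lower_mul (lower_mul hb h) (lower_inv hb)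

theorem cent_up [CharP F 2] {y : F} (hy : y ≠ 0) {g : SL(2, F)} (h : g * up y = up y * g) : g ∈ U F := by
  have h00 := congrArg (fun m : SL(2, F) => m.1 0 0) h
  have h01 := congrArg (fun m : SL(2, F) => m.1 0 1) h
  simp only [sl_mul, (up_entries y).1, (up_entries y).2.1, (up_entries y).2.2.1, (up_entries y).2.2.2] at h00 h01
  have h10 : g.1 1 0 = 0 := by
    have : y * g.1 1 0 = 0 := by linear_combination -h00
    exact (mul_eq_zero.1 this).resolve_left hy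
  have h11 : g.1 0 0 = g.1 1 1 := by
    have : y * (g.1 0 0 - g.1 1 1) = 0 := by linear_combination h01
    exact sub_eq_zero.1 ((mul_eq_zero.1 this).resolve_left hy)
  have hd := det_eq g
  rw [h10, mul_zero, sub_zero, h11] at hd
  have h1 : g.1 1 1 = 1 := by
    have h2 : (2 : F) = 0 := CharTwo.two_eq_zero
    have h5 : (g.1 1 1 - 1) * (g.1 1 1 - 1) = 0 := by linear_combination hd + (1 - g.1 1 1) * h2
    exact sub_eq_zero.1 (mul_self_eq_zero.1 h5)
  refine mem_U.2 ⟨g.1 0 1, ?_⟩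
  apply Subtype.ext
  rw [up_val]
  ext i j
  fin_cases i <;> fin_cases j
  · simp [h11, h1]
  · simp
  · simp [h10]
  · simp [h1]

end sl

section main

variable {K : Type*} [Group K] {F : Type*} [Field F] {S : Subgroup K} {e : K ≃* SL(2, F)}

theorem mem_N (hS : ∀ x, x ∈ S ↔ e x ∈ U F) {x : K} : x ∈ normalizer (S : Set K) ↔ (e x).1 1 0 = 0 := by
  rw [← mem_norm, mem_normalizer_iff, mem_normalizer_iff]
  constructor
  · intro h y
    have h1 := h (e.symm y)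
    rw [hS, hS, map_mul, map_mul, map_inv, MulEquiv.apply_symm_apply] at h1
    exact h1
  · intro h y
    rw [hS, hS, map_mul, map_mul, map_inv]
    exact h (e y)

theorem co [CharP F 2] [Finite F] (hS : ∀ x, x ∈ S ↔ e x ∈ U F) : Co S (fun a : F => e.symm (up a)) where
  add x y := by rw [← up_mul, map_mul]
  inj x y h := by
    have h1 := e.symm.injective h
    exact congrArg (fun m : SL(2, F) => m.1 0 1) h1
  mem u := by
    rw [hS, mem_U]
    constructor
    · rintro ⟨x, hx⟩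
      exact ⟨x, by rw [hx, MulEquiv.symm_apply_apply]⟩
    · rintro ⟨x, hx⟩
      exact ⟨x, by rw [← hx, MulEquiv.apply_symm_apply]⟩
  dia c hc := by
    obtain ⟨k, hk⟩ := FiniteField.isSquare_of_char_two (ringChar.eq_iff.2 inferInstance) c
    have hk0 : k ≠ 0 := by
      rintro rfl
      exact hc (by rw [hk, mul_zero])
    refine ⟨e.symm (dg (Units.mk0 k hk0)), (mem_N hS).2 ?_, fun a => ?_⟩
    · rw [MulEquiv.apply_symm_apply]
      rfl
    · rw [← map_mul, ← map_inv, ← map_mul, dg_up, hk, pow_two]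
      rfl
  nor b hb := by
    rw [mem_N hS] at hb
    obtain ⟨k, x, hkx⟩ := eq_of_lower hb
    refine ⟨(k : F) ^ 2, fun a => ?_⟩
    apply e.injective
    rw [map_mul, map_mul, map_inv, MulEquiv.apply_symm_apply, MulEquiv.apply_symm_apply, hkx, ← dg_up]
    have h1 : up a = up x * up a * (up x)⁻¹ := by
      rw [up_inv, up_mul, up_mul]
      congr 1
      ring
    conv_rhs => rw [h1]
    group

theorem qk (hS : ∀ x, x ∈ S ↔ e x ∈ U F) {u : K} (hu : u ∈ S) (h : u ∈ Qk (normalizer (S : Set K)) ⊤) : u = 1 := by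
  obtain ⟨x, hx⟩ := mem_U.1 ((hS u).1 hu)
  have h1 := h (e.symm wm) (mem_top _)
  rw [mem_N hS, map_mul, map_mul, map_inv, MulEquiv.apply_symm_apply, ← hx] at h1
  rw [wm_up h1, up_zero] at hx
  exact (MulEquiv.map_eq_one_iff e).1 hx.symm

theorem AT_eq [Finite K] {T : Subgroup (MulAut K)} (h : TAct S T)
    (hf : ∀ t ∈ T, t ≠ 1 → ∀ u ∈ S, t u = u → u = 1) : ∀ u ∈ S, u ∈ AT S T := by
  have : Finite (MulAut K) := Finite.of_injective (fun a : MulAut K => (a : K → K)) DFunLike.coe_injective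
  have hnt : Nontrivial T := by
    rw [← Finite.one_lt_card_iff_nontrivial]
    have := h.three
    omega
  obtain ⟨t, ht1⟩ := exists_ne (1 : T)
  have ht1' : (t : MulAut K) ≠ 1 := fun h1 => ht1 (Subtype.ext h1)
  let β : S → S := fun u => ⟨(u : K)⁻¹ * (t : MulAut K) u, mul_mem (inv_mem u.2) (h.stab t t.2 u u.2)⟩
  have hinj : Function.Injective β := by
    intro u v huv
    have h1 : (u : K)⁻¹ * (t : MulAut K) u = (v : K)⁻¹ * (t : MulAut K) v := congrArg Subtype.val huv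
    have h2 := hf t t.2 ht1' (v * (u : K)⁻¹) (mul_mem v.2 (inv_mem u.2)) (by
      rw [map_mul, map_inv]
      have h3 : (t : MulAut K) v = v * ((u : K)⁻¹ * (t : MulAut K) u) := by rw [h1, mul_inv_cancel_left]
      rw [h3]
      group)
    exact Subtype.ext (mul_inv_eq_one.1 h2).symm
  intro u hu
  obtain ⟨v, hv⟩ := Finite.injective_iff_surjective.1 hinj ⟨u, hu⟩
  have hv' : (v : K)⁻¹ * (t : MulAut K) v = u := congrArg Subtype.val hv
  exact subset_closure ⟨t, t.2, v, v.2, hv'.symm⟩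

theorem ksys [Finite K] [Finite F] [CharP F 2] (h4 : 4 ≤ Nat.card F) (hP : IsPGroup 2 S)
    (hodd : Odd (S.relIndex (normalizer (S : Set K)))) (hS : ∀ x, x ∈ S ↔ e x ∈ U F) {T : Subgroup (MulAut K)}
    (h : TAct S T) (hf : ∀ t ∈ T, t ≠ 1 → ∀ u ∈ S, t u = u → u = 1) :
    KSys S T (fun _ : Unit => (⊤ : Subgroup K)) (fun _ _ => 2) := by
  classical
  have := Fintype.ofFinite F
  have hmv : Moved S T (⊤ : Subgroup K) := by
    intro t ht ht1 u hu h1
    have h2 := qk hS (mul_mem (inv_mem hu) (h.stab t ht u hu)) h1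
    have h3 := hf t ht ht1 u hu (inv_mul_eq_one.1 h2).symm
    rw [h3]
    exact one_mem _
  have wm_not : (wm : SL(2, F)).1 1 0 ≠ 0 := by
    show (-1 : F) ≠ 0
    exact neg_ne_zero.2 one_ne_zero
  refine
    { isP := hP
      odd := hodd
      le := fun _ => le_top
      gen := by rw [iSup_const]
      T_P := fun _ _ _ _ _ => mem_top _
      B_A := ?_
      dich := fun _ => Or.inr hmv
      moved := ⟨(), hmv⟩
      five := fun _ => ?_
      ptr := fun _ => ?_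
      reg := fun _ => ?_
      m_two := fun i j hij => (hij (Subsingleton.elim i j)).elim
      m_symm := fun _ _ => rfl
      conn := ?_
      poly := fun i j hij => (hij (Subsingleton.elim i j)).elim
      frat := fun i j hij => (hij (Subsingleton.elim i j)).elim
      fpf := fun _ => ?_
      sep := fun i j hij => (hij (Subsingleton.elim i j)).elim
      nbr := fun i _ hj => (hj.choose_spec (Subsingleton.elim _ _)).elim }
  · intro b hb a ha
    exact AT_eq h hf _ (((mem_normalizer_iff.1 hb) a).1 (AT_le h ha))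
  · -- five chambers
    rw [relIndex_top_right]
    let f : Option F → K ⧸ normalizer (S : Set K) := fun o => match o with
      | none => ((1 : K) : K ⧸ normalizer (S : Set K))
      | some x => ((e.symm (up x * wm) : K) : K ⧸ normalizer (S : Set K))
    have hwm : ∀ x : F, ¬ (e.symm (up x * wm) ∈ normalizer (S : Set K)) := by
      intro x hx
      rw [mem_N hS, MulEquiv.apply_symm_apply, sl_mul] at hx
      have h1 : (0 : F) * (wm : SL(2, F)).1 0 0 + 1 * (wm : SL(2, F)).1 1 0 = 0 := hx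
      rw [zero_mul, zero_add, one_mul] at h1
      exact wm_not h1
    have hinj : Function.Injective f := by
      intro o o' ho
      match o, o', ho with
      | none, none, _ => rfl
      | none, some x, ho =>
        exfalso
        have h1 := QuotientGroup.eq.1 ho
        rw [inv_one, one_mul] at h1
        exact hwm x h1
      | some x, none, ho =>
        exfalso
        have h1 := QuotientGroup.eq.1 ho.symm
        rw [inv_one, one_mul] at h1
        exact hwm x h1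
      | some x, some y, ho =>
        have h1 := QuotientGroup.eq.1 ho
        rw [← map_inv, ← map_mul, mem_N hS, MulEquiv.apply_symm_apply] at h1
        have h2 : (up x * wm)⁻¹ * (up y * wm) = wm⁻¹ * up (-x + y) * (wm : SL(2, F)) := by
          rw [← up_mul, ← up_inv]
          group
        rw [h2] at h1
        have h3 := wm_up h1
        have h4 : x = y := by linear_combination -h3
        rw [h4]
    have h5 := Nat.card_le_card_of_injective f hinj
    rw [Finite.card_option] at h5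
    rw [Subgroup.index]
    omega
  · intro g _ hg g' _ hg'
    rw [mem_N hS] at hg hg'
    obtain ⟨x, b, hb, hx⟩ := bruhat hg
    obtain ⟨x', b', hb', hx'⟩ := bruhat hg'
    refine ⟨e.symm (up (x' - x)), (hS _).2 ?_, e.symm (b⁻¹ * b'), (mem_N hS).2 ?_, ?_⟩
    · rw [MulEquiv.apply_symm_apply]
      exact ⟨_, rfl⟩
    · rw [MulEquiv.apply_symm_apply]
      exact lower_mul (lower_inv hb) hb'
    · apply e.injective
      have h1 : up x' = up (x' - x) * up x := by rw [up_mul, sub_add_cancel]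
      rw [map_mul, map_mul, MulEquiv.apply_symm_apply, MulEquiv.apply_symm_apply, hx, hx', h1]
      group
  · intro u hu g _ hg hgu
    rw [mem_N hS] at hg hgu
    obtain ⟨x, hx⟩ := mem_U.1 ((hS u).1 hu)
    rw [map_mul, map_mul, map_inv, ← hx] at hgu
    rw [reg hg hgu, up_zero] at hx
    rw [(MulEquiv.map_eq_one_iff e).1 hx.symm]
    exact one_mem _
  · intro I hI hI'
    obtain ⟨a, ha⟩ := hI
    obtain ⟨b, hb⟩ := hI'
    exact (hb (by rwa [Subsingleton.elim b a])).elim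
  · -- a torus element
    have hc : 1 < Fintype.card Fˣ := by
      rw [Fintype.card_units, ← Nat.card_eq_fintype_card]
      omega
    obtain ⟨k, hk⟩ := Fintype.exists_ne_of_one_lt_card hc 1
    refine ⟨e.symm (dg k), (mem_N hS).2 ?_, ⟨Fintype.card Fˣ, ?_, ?_⟩, ?_⟩
    · rw [MulEquiv.apply_symm_apply]
      rfl
    · obtain ⟨n, -, hn⟩ := FiniteField.card F 2
      rw [Nat.coprime_two_left, Fintype.card_units, hn]
      exact Nat.Even.sub_odd Nat.one_le_two_pow ((Nat.even_pow' n.ne_zero).2 even_two) odd_one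
    · rw [← map_pow, dg_pow, pow_card_eq_one, dg_one, map_one]
    · intro u hu h1
      obtain ⟨x, hx⟩ := mem_U.1 ((hS u).1 hu)
      have hu' : u = e.symm (up x) := by rw [hx, MulEquiv.symm_apply_apply]
      have h2 : e.symm (dg k) * u * (e.symm (dg k))⁻¹ * u⁻¹ ∈ S := by
        refine mul_mem ?_ (inv_mem hu)
        rw [hS, map_mul, map_mul, map_inv, MulEquiv.apply_symm_apply, ← hx, dg_up]
        exact ⟨_, rfl⟩
      have h3 := qk hS h2 h1
      have h4 := congrArg e (mul_inv_eq_one.1 h3)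
      rw [map_mul, map_mul, map_inv, MulEquiv.apply_symm_apply, ← hx, dg_up] at h4
      have h5 : (k : F) ^ 2 * x = x := congrArg (fun m : SL(2, F) => m.1 0 1) h4
      have h6 : x = 0 := by
        by_contra hx0
        apply hk
        have h7 : (k : F) ^ 2 = 1 := mul_right_cancel₀ hx0 (h5.trans (one_mul x).symm)
        have h8 : ((k : F) - 1) * ((k : F) - 1) = 0 := by
          have h2 : (2 : F) = 0 := CharTwo.two_eq_zero
          linear_combination h7 + (1 - (k : F)) * h2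
        exact Units.ext (sub_eq_zero.1 (mul_self_eq_zero.1 h8))
      rw [h6, up_zero] at hx
      rw [(MulEquiv.map_eq_one_iff e).1 hx.symm]
      exact one_mem _

end main

/-- **The K-side for `K ≅ SL₂(F)`.** -/
theorem side {K : Type*} [Group K] [Finite K] {F : Type} [Field F] [Finite F] [CharP F 2] (h4 : 4 ≤ Nat.card F)
    (e : K ≃* SL(2, F)) {S : Subgroup K} (hP : IsPGroup 2 S) (hodd : Odd (S.relIndex (normalizer (S : Set K))))
    (hS : ∀ x, x ∈ S ↔ e x ∈ U F) {T : Subgroup (MulAut K)} (h : TAct S T) :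
    (∃ (J : Type) (_ : Finite J) (P : J → Subgroup K) (m : J → J → ℕ), KSys S T P m) ∨ KExc K S T := by
  by_cases hf : ∀ t ∈ T, t ≠ 1 → ∀ u ∈ S, t u = u → u = 1
  · exact Or.inl ⟨Unit, inferInstance, _, _, ksys h4 hP hodd hS h hf⟩
  · right
    simp only [not_forall] at hf
    obtain ⟨t₀, ht₀, h1, u₀, hu₀, hfx, hu1⟩ := hf
    obtain ⟨e'⟩ := psl_equiv (F := F)
    exact ⟨(co hS).card_three h ht₀ h1 hu₀ hu1 hfx, ⟨u₀, hu₀, hu1, fun t ht => fix_all h ht₀ h1 hu₀ hfx ht⟩,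
      F, inferInstance, Fintype.ofFinite F, ringChar.eq_iff.2 inferInstance, ⟨e.trans e'.symm⟩⟩

/-- the unitriangular group is a Sylow 2-subgroup -/
theorem sylow_eq {K : Type*} [Group K] [Finite K] {F : Type*} [Field F] [CharP F 2] (e : K ≃* SL(2, F)) :
    ∃ Q : Sylow 2 K, ∀ x, x ∈ Q ↔ e x ∈ U F := by
  have hU : IsPGroup 2 ((U F).comap e.toMonoidHom : Subgroup K) := by
    rintro ⟨x, hx⟩
    obtain ⟨y, hy⟩ := hx
    refine ⟨1, ?_⟩
    apply Subtype.ext
    apply e.injective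
    show e (x ^ 2 ^ 1) = e 1
    have hy' : up y = e x := hy
    rw [pow_one, pow_two, map_mul, map_one, ← hy', up_mul, CharTwo.add_self_eq_zero, up_zero]
  obtain ⟨Q, hQ⟩ := hU.exists_le_sylow
  refine ⟨Q, fun x => ⟨fun hx => ?_, fun hx => hQ hx⟩⟩
  have hup : ∀ y : F, e.symm (up y) ∈ (Q : Subgroup K) := fun y => hQ (by
    show e (e.symm (up y)) ∈ U F
    rw [MulEquiv.apply_symm_apply]
    exact ⟨y, rfl⟩)
  have hne : e.symm (up (1 : F)) ≠ 1 := by
    intro h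
    rw [MulEquiv.map_eq_one_iff] at h
    exact one_ne_zero (congrArg (fun m : SL(2, F) => m.1 0 1) h)
  have : Nontrivial (Q : Subgroup K) := ⟨⟨⟨_, hup 1⟩, 1, fun h => hne (congrArg Subtype.val h)⟩⟩
  have hc := Q.isPGroup'.center_nontrivial
  obtain ⟨⟨⟨z, hzQ⟩, hzc⟩, hz1⟩ := exists_ne (1 : center (Q : Subgroup K))
  have hz1' : z ≠ 1 := fun h => hz1 (Subtype.ext (Subtype.ext h))
  have hcomm : ∀ w ∈ (Q : Subgroup K), w * z = z * w := fun w hw =>
    congrArg Subtype.val ((mem_center_iff.1 hzc) ⟨w, hw⟩)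
  have hcU : ∀ {y : F}, y ≠ 0 → ∀ w, w * e.symm (up y) = e.symm (up y) * w → e w ∈ U F := by
    intro y hy w hw
    apply cent_up hy
    have := congrArg e hw
    rwa [map_mul, map_mul, MulEquiv.apply_symm_apply] at this
  obtain ⟨y, hy⟩ := hcU one_ne_zero z (hcomm _ (hup 1)).symm
  have hzy : z = e.symm (up y) := by rw [hy, MulEquiv.symm_apply_apply]
  have hy0 : y ≠ 0 := by
    rintro rfl
    apply hz1'
    rw [hzy, up_zero, map_one]
  exact hcU hy0 x (by rw [← hzy]; exact hcomm x hx)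

/-- `Z(K) = 1` -/
theorem exists_equiv {K : Type*} [Group K] [Finite K] (hp : commutator K = ⊤) (hodd : Odd (Nat.card (center K)))
    {F : Type*} [Field F] [Finite F] [CharP F 2] (e : (K ⧸ center K) ≃* SL(2, F)) : Nonempty (K ≃* SL(2, F)) := by
  have : Fintype F := Fintype.ofFinite F
  have : Fact (Nat.Prime 2) := ⟨Nat.prime_two⟩
  let π : K →* SL(2, F) := e.toMonoidHom.comp (QuotientGroup.mk' (center K))
  have hsurj : Function.Surjective π := e.surjective.comp (QuotientGroup.mk'_surjective _)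
  have hker : π.ker = center K := by
    ext x
    rw [MonoidHom.mem_ker]
    show e (QuotientGroup.mk' (center K) x) = 1 ↔ _
    rw [MulEquiv.map_eq_one_iff]
    exact QuotientGroup.eq_one_iff x
  have hG : commutator SL(2, F) = ⊤ := by
    rw [eq_top_iff]
    intro g _
    obtain ⟨x, rfl⟩ := hsurj g
    have hx : x ∈ commutator K := by rw [hp]; trivial
    rw [commutator_def] at hx ⊢
    have h2 := Subgroup.mem_map_of_mem π hx
    rw [Subgroup.map_commutator] at h2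
    exact Subgroup.commutator_mono le_top le_top h2
  have hbot : π.ker = ⊥ := by
    by_contra hne
    have h1 : Nat.card π.ker ≠ 1 := by rwa [Ne, Subgroup.card_eq_one]
    obtain ⟨p, hpr, hdvd⟩ := Nat.exists_prime_and_dvd h1
    have : Fact p.Prime := ⟨hpr⟩
    have hp2 : p ≠ 2 := by
      rintro rfl
      rw [hker] at hdvd
      exact (Nat.not_even_iff_odd.2 hodd) (even_iff_two_dvd.2 hdvd)
    exact Cfsg.Agent.S0102.result hG (p := p) (fun P => Cfsg.Agent.S0262.result 2 p hp2 hp2 P) π hsurj hker.le hp hdvd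
  exact ⟨MulEquiv.ofBijective π ⟨(MonoidHom.ker_eq_bot_iff π).1 hbot, hsurj⟩⟩

universe u

end Cfsg.Agent.Omega.Lie.End.LTwoSide

end

section


/-!
# K-side of NODE LIE, the dead families: the criterion `PhiAb`

`PhiAb P`: every normal elementary abelian 2-subgroup of the group `P` lies in the Frattini subgroup.
If `P` is a finite 2-group with `PhiAb P`, and `Γ` is a group of automorphisms of odd order such that `[P, Γ]` is
elementary abelian, then `Γ = 1` (`eq_one_of_phiAb`).  `PhiAb.trivial`, `false_of_tact`: the form with a subgroup `S` of a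
group `K` and `Γ ≤ Aut K`.
-/

set_option autoImplicit false

namespace Cfsg.Agent.Omega.Lie.End.DeadPhi

open Cfsg.Agent.Schreier.Tools2 Cfsg.Agent.Schreier.TwoGen

/-- Every normal elementary abelian 2-subgroup lies in the Frattini subgroup. -/
def PhiAb (P : Type*) [Group P] : Prop :=
  ∀ A : Subgroup P, A.Normal → (∀ a ∈ A, ∀ b ∈ A, a * b = b * a) → (∀ a ∈ A, a * a = 1) → A ≤ frattini P

variable {P : Type*} [Group P]

theorem PhiAb.map {Q : Type*} [Group Q] (e : P ≃* Q) (h : PhiAb P) : PhiAb Q := by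
  intro A hA hab hsq x hx
  have h1 : A.comap e.toMonoidHom ≤ frattini P := by
    refine h _ (hA.comap _) ?_ ?_
    · intro a ha b hb
      apply e.injective
      rw [map_mul, map_mul]
      exact hab _ ha _ hb
    · intro a ha
      apply e.injective
      rw [map_mul, map_one]
      exact hsq _ ha
  have h2 : e.symm x ∈ frattini P := h1 (by show e (e.symm x) ∈ A; rwa [e.apply_symm_apply])
  have h3 : e.symm x ∈ (frattini Q).comap e.toMonoidHom :=
    frattini_le_comap_frattini_of_surjective (φ := e.toMonoidHom) e.surjective h2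
  have h4 : e (e.symm x) ∈ frattini Q := h3
  rwa [e.apply_symm_apply] at h4

/-- `[P, Γ]` -/
def com (Γ : Subgroup (MulAut P)) : Subgroup P := Subgroup.closure {x | ∃ γ ∈ Γ, ∃ s, x = s⁻¹ * γ s}

theorem com_normal (Γ : Subgroup (MulAut P)) : (com Γ).Normal := by
  have key : ∀ g : P, ∀ γ ∈ Γ, ∀ s : P, g * (s⁻¹ * γ s) * g⁻¹ ∈ com Γ := by
    intro g γ hγ s
    have h1 : (s * g⁻¹)⁻¹ * γ (s * g⁻¹) ∈ com Γ := Subgroup.subset_closure ⟨γ, hγ, _, rfl⟩
    have h2 : (g⁻¹)⁻¹ * γ g⁻¹ ∈ com Γ := Subgroup.subset_closure ⟨γ, hγ, _, rfl⟩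
    have h3 := mul_mem h1 (inv_mem h2)
    have e : g * (s⁻¹ * γ s) * g⁻¹ = (s * g⁻¹)⁻¹ * γ (s * g⁻¹) * ((g⁻¹)⁻¹ * γ g⁻¹)⁻¹ := by
      rw [map_mul, map_inv]
      group
    rw [e]
    exact h3
  refine ⟨fun x hx g => ?_⟩
  have h1 : com Γ ≤ (com Γ).comap (MulAut.conj g).toMonoidHom := by
    conv_lhs => rw [com]
    rw [Subgroup.closure_le]
    rintro _ ⟨γ, hγ, s, rfl⟩
    exact key g γ hγ s
  exact h1 hx

/-- **The criterion.** -/
theorem eq_one_of_phiAb [Finite P] (hP : IsPGroup 2 P) (h : PhiAb P) {Γ : Subgroup (MulAut P)}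
    (hodd : Odd (Nat.card Γ)) (hab : ∀ a ∈ com Γ, ∀ b ∈ com Γ, a * b = b * a) (hsq : ∀ a ∈ com Γ, a * a = 1) :
    ∀ γ ∈ Γ, γ = 1 := by
  have : Fact (Nat.Prime 2) := ⟨Nat.prime_two⟩
  have h1 := h (com Γ) (com_normal Γ) hab hsq
  intro γ hγ
  refine eq_one_of_coprime hP γ ?_ fun t => ?_
  · rw [Nat.coprime_two_right]
    exact Odd.of_dvd_nat hodd (Subgroup.orderOf_dvd_natCard Γ hγ)
  · have h2 : t⁻¹ * γ t ∈ frattini P := h1 (Subgroup.subset_closure ⟨γ, hγ, t, rfl⟩)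
    have h3 := (inferInstance : (frattini P).Normal).conj_mem _ h2 t
    have e : t * (t⁻¹ * γ t) * t⁻¹ = γ t * t⁻¹ := by group
    rwa [e] at h3

/-- The restriction of a group of automorphisms stabilising `S`. -/
theorem exists_res {K : Type*} [Group K] [Finite K] {S : Subgroup K} {T : Subgroup (MulAut K)}
    (hst : ∀ t ∈ T, ∀ u ∈ S, t u ∈ S) :
    ∃ r : T →* MulAut S, ∀ (t : T) (u : S), ((r t u : S) : K) = (t : MulAut K) (u : K) := by
  have hst' : ∀ t ∈ T, ∀ u ∈ S, t.symm u ∈ S := fun t ht u hu => hst t⁻¹ (inv_mem ht) u hu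
  let f : T → MulAut S := fun t =>
    { toFun := fun u => ⟨(t : MulAut K) (u : K), hst t t.2 u u.2⟩
      invFun := fun u => ⟨(t : MulAut K).symm (u : K), hst' t t.2 u u.2⟩
      left_inv := fun u => Subtype.ext ((t : MulAut K).symm_apply_apply u)
      right_inv := fun u => Subtype.ext ((t : MulAut K).apply_symm_apply u)
      map_mul' := fun u v => Subtype.ext (map_mul (t : MulAut K) (u : K) (v : K)) }
  exact ⟨{ toFun := f, map_one' := rfl, map_mul' := fun _ _ => rfl }, fun t u => rfl⟩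

/-- **The criterion for a subgroup `S` of a group `K`.** -/
theorem PhiAb.trivial {K : Type*} [Group K] [Finite K] {S : Subgroup K} (hS : IsPGroup 2 S) (h : PhiAb S)
    {T : Subgroup (MulAut K)} (hodd : Odd (Nat.card T)) (hst : ∀ t ∈ T, ∀ u ∈ S, t u ∈ S) {A : Subgroup K}
    (hA : ∀ t ∈ T, ∀ u ∈ S, u⁻¹ * t u ∈ A) (hab : ∀ a ∈ A, ∀ b ∈ A, a * b = b * a) (hsq : ∀ a ∈ A, a * a = 1) :
    ∀ t ∈ T, ∀ u ∈ S, t u = u := by
  obtain ⟨r, hr⟩ := exists_res hst
  have h1 : com r.range ≤ A.subgroupOf S := by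
    rw [com, Subgroup.closure_le]
    rintro _ ⟨_, ⟨t, rfl⟩, s, rfl⟩
    rw [SetLike.mem_coe, Subgroup.mem_subgroupOf, Subgroup.coe_mul, Subgroup.coe_inv, hr]
    exact hA t t.2 s s.2
  have key := eq_one_of_phiAb hS h (Γ := r.range)
    (Odd.of_dvd_nat hodd (by
      have := Subgroup.card_range_dvd r
      exact this))
    (fun a ha b hb => Subtype.ext (hab _ (Subgroup.mem_subgroupOf.1 (h1 ha)) _ (Subgroup.mem_subgroupOf.1 (h1 hb))))
    (fun a ha => Subtype.ext (hsq _ (Subgroup.mem_subgroupOf.1 (h1 ha))))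
  intro t ht u hu
  have h2 := key (r ⟨t, ht⟩) ⟨_, rfl⟩
  have h3 := hr ⟨t, ht⟩ ⟨u, hu⟩
  rw [h2] at h3
  exact h3.symm

/-- elementwise form of `PhiAb S` for a 2-subgroup `S` of `K` -/
theorem phiAb_of {K : Type*} [Group K] {S : Subgroup K} [Finite S] (hS : IsPGroup 2 S)
    (h : ∀ A : Subgroup K, A ≤ S → (∀ s ∈ S, ∀ a ∈ A, s * a * s⁻¹ ∈ A) → (∀ a ∈ A, ∀ b ∈ A, a * b = b * a) →
      (∀ a ∈ A, a * a = 1) → A ≤ sqs S) : PhiAb S := by
  intro A hA hab hsq x hx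
  have h1 := h (A.map S.subtype) (by rintro _ ⟨a, _, rfl⟩; exact a.2) (by
      rintro s hs _ ⟨a, ha, rfl⟩
      exact ⟨(⟨s, hs⟩ * a * ⟨s, hs⟩⁻¹ :), hA.conj_mem a ha _, rfl⟩) (by
      rintro _ ⟨a, ha, rfl⟩ _ ⟨b, hb, rfl⟩
      exact congrArg Subtype.val (hab a ha b hb)) (by
      rintro _ ⟨a, ha, rfl⟩
      exact congrArg Subtype.val (hsq a ha))
  obtain ⟨y, hy, e⟩ := sqs_le_frattini hS (h1 ⟨x, hx, rfl⟩)
  have : y = x := Subtype.ext e
  rwa [← this]

/-- `PhiAb P` if all the involutions of the 2-group `P` are squares. -/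
theorem phiAb_of_sq [Finite P] (hP : IsPGroup 2 P) (h : ∀ x : P, x * x = 1 → ∃ y, x = y * y) : PhiAb P := by
  have : Fact (Nat.Prime 2) := ⟨Nat.prime_two⟩
  intro A _ _ hsq x hx
  obtain ⟨y, rfl⟩ := h x (hsq x hx)
  rw [← pow_two]
  exact Cfsg.Agent.Lib.FrattiniPGroup.pow_mem_frattini hP y

/-- If one Sylow 2-subgroup has the property, so has every other one. -/
theorem PhiAb.sylow {K : Type*} [Group K] [Finite K] {S : Sylow 2 K} (h : PhiAb S) (P : Sylow 2 K) : PhiAb P := by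
  have : Fact (Nat.Prime 2) := ⟨Nat.prime_two⟩
  exact h.map (S.equiv P)

/-- transport along an isomorphism of the ambient groups -/
theorem PhiAb.of_iso {Y Z : Type*} [Group Y] [Group Z] [Finite Y] (f : Y ≃* Z) (h : ∀ P : Sylow 2 Z, PhiAb P)
    (S : Sylow 2 Y) : PhiAb S := by
  have : Fact (Nat.Prime 2) := ⟨Nat.prime_two⟩
  have : Finite Z := Finite.of_equiv Y f.toEquiv
  have h1 := h (S.mapSurjective (f := f.toMonoidHom) f.surjective)
  have h2 : ((S.mapSurjective (f := f.toMonoidHom) f.surjective : Sylow 2 Z) : Subgroup Z) =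
      (S : Subgroup Y).map f.toMonoidHom := Sylow.coe_mapSurjective _ _
  exact h1.map ((MulEquiv.subgroupCongr h2).trans (f.subgroupMap (S : Subgroup Y)).symm)

theorem false_of_tact {K : Type*} [Group K] [Finite K] {S : Subgroup K} (hS : IsPGroup 2 S) (h : PhiAb S)
    {T : Subgroup (MulAut K)} (hT : TAct S T) : False := by
  have h1 := h.trivial hS hT.odd hT.stab (A := AT S T)
    (fun t ht u hu => Subgroup.subset_closure ⟨t, ht, u, hu, rfl⟩) hT.ab hT.sq
  refine hT.ne (Subgroup.closure_eq_bot_iff.2 ?_)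
  rintro _ ⟨t, ht, u, hu, rfl⟩
  rw [h1 t ht u hu, inv_mul_cancel]
  rfl

end Cfsg.Agent.Omega.Lie.End.DeadPhi

end

end

private theorem dce_0574ed9268a8 : _root_.True := by
  try have : _root_.True := by simp only [_root_.Cfsg.Agent.Omega.Lie.End.AT.eq_1]
  try have : _root_.True := by simp only [_root_.Cfsg.Agent.Omega.Lie.End.DeadPhi.com.eq_1]
  exact _root_.True.intro
end

-- part: Mrg/Omega/Lie/End/KDead
section
prune_inst 0x304404412202000018050070003c46d600019000680c01cc400a4006886f0220020921b4a01111100a224c00380068134c00d0420000000a000400011d01a080a810003040000004001f000004400000000000000000000000000000000004000000000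
set_option linter.all false
open scoped Cfsg.Agent.FastGrp

-- merged: Cfsg.Agent.Mrg.Omega.Lie.End.DeadRankOne
section

/-!
# K-side of NODE LIE, the dead families: `U₃(q)` and `Sz(q)`

The involutions of a Sylow 2-subgroup are squares (`PhiAb`).
-/

set_option autoImplicit false

namespace Cfsg.Agent.Omega.Lie.End.DeadPhi

open Cfsg.Agent.LieRecognition Cfsg.Agent.LieRecognition.HermHeis Cfsg.Agent.ThreePrime

section unitary

variable {F : Type*} [Field F] [CharP F 2] {σ : F →+* F} [hσ : Fact (∀ x, σ (σ x) = x)]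

theorem phiAb_heis [Finite F] {n : ℕ} (hn : 1 ≤ n) (hs : ∀ x, σ x = x ^ (2 ^ n))
    (hF : Nat.card F = (2 ^ n) ^ 2) : PhiAb (Heis σ) := by
  have : Fact (Nat.Prime 2) := ⟨Nat.prime_two⟩
  have hq : 1 < 2 ^ n := Nat.one_lt_two_pow (by omega)
  have h2 : IsPGroup 2 (Heis σ) :=
    IsPGroup.of_card (n := n * 3) (by rw [HermHeis.card_heis hq hs hF, ← pow_mul])
  refine phiAb_of_sq h2 fun x hx => ?_
  have ha : x.a = 0 := (mul_self_eq_one_iff x).1 hx
  have hb : σ x.b = x.b := b_fixed_of_a_eq_zero ha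
  have hring : ringChar F = 2 := ringChar.eq F 2 ▸ rfl
  obtain ⟨l, hl⟩ := FiniteField.isSquare_of_char_two hring x.b
  have hlf : σ l = l := by
    have h1 : σ l * σ l = l * l := by rw [← map_mul, ← hl, hb]
    have h2 : (σ l + l) * (σ l + l) = 0 := by
      linear_combination h1 + CharTwo.add_self_eq_zero (l * l + σ l * l)
    exact CharTwo.add_eq_zero.mp (mul_self_eq_zero.mp h2)
  obtain ⟨y, hy⟩ := exists_heis_a (σ := σ) hq hs hF l
  refine ⟨y, ?_⟩
  ext
  · rw [mul_a, ha, CharTwo.add_self_eq_zero]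
  · rw [mul_b, hy, hlf, CharTwo.add_self_eq_zero, zero_add, hl]

end unitary

/-- `U₃(q)` -/
theorem phiAb_uThree {F : Type*} [Field F] [Finite F] {n : ℕ} (hn : 1 ≤ n) (hF : Nat.card F = (2 ^ n) ^ 2)
    (S : Sylow 2 (Cfsg.PSU 3 F (2 ^ n))) : PhiAb S := by
  obtain ⟨_, σ, _, hs, -, h⟩ := PSUThreeSylow.exists_heis_equiv F hn hF
  obtain ⟨e⟩ := h S
  exact (phiAb_heis hn hs hF).map e

/-- `Sz(q)` -/
theorem phiAb_sz {J : Type*} [Group J] [Finite J] (h : Cfsg.Lie.IsoSuzuki J) (S : Sylow 2 J) : PhiAb S := by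
  have : Fact (Nat.Prime 2) := ⟨Nat.prime_two⟩
  obtain ⟨F, iF, iF', m, hm, hc, ⟨R⟩⟩ := SzRel.exists_rel h
  obtain ⟨-, ho, -⟩ := Cfsg.Agent.Omega.EH3.Rank1.arith hm
  obtain ⟨P, hP⟩ := Cfsg.Agent.Omega.EH3.Rank1.sz_sylow R (by rw [Nat.card_eq_fintype_card, hc]; exact ho)
  have key : PhiAb P := by
    refine phiAb_of_sq P.2 fun x hx => ?_
    have h1 : (x : J) ∈ R.T := by rw [← hP]; exact x.2
    obtain ⟨a, b, hab⟩ := h1
    have h2 : R.u a b * R.u a b = 1 := by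
      rw [← hab]
      exact congrArg Subtype.val hx
    have h3 : a = 0 := (R.u_sq_iff a b).1 h2
    subst h3
    obtain ⟨c, hc⟩ : ∃ c : F, c * R.θ c = b := by
      by_cases hb : b = 0
      · exact ⟨0, by rw [hb, zero_mul]⟩
      · obtain ⟨k, hk⟩ := R.exists_mul_theta (Units.mk0 b hb)
        exact ⟨k, by rw [hk, Units.val_mk0]⟩
    refine ⟨⟨R.u c 0, by rw [hP]; exact R.u_mem c 0⟩, Subtype.ext ?_⟩
    rw [Subgroup.coe_mul, R.u_mul_self, hc, hab]
  exact key.sylow S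

end Cfsg.Agent.Omega.Lie.End.DeadPhi

end

-- merged: Cfsg.Agent.Mrg.Omega.Lie.End.DeadTwF
section

/-!
# K-side of NODE LIE, the dead families: `²F₄(q)`, `q ≥ 8`

`U = X₁ X₂ ⋯ X₈` the Sylow 2-subgroup of `²F₄(q)` (an octagon), `A` a normal elementary abelian subgroup of `U`.
The elements of `A` are involutions, so their `X₈`-part is `x₈(0, w)`.  If the `X₁`-part of `a ∈ A` is `x₁(t)`, then
`b := [a, x₈(1, 0)] ∈ A` is conjugate to `x₂(t, ·)` modulo `U₃₇ = X₃ ⋯ X₇`, and `b² = 1` gives `t = 0`.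
So `A ≤ Φ(U)`.
-/

set_option autoImplicit false
set_option linter.unusedSectionVars false

namespace Cfsg.Agent.Omega.Lie.End.DeadPhi

open Cfsg.Lie
open Cfsg.Agent.ChevalleyStructure.TwF4.Rel
open Cfsg.Agent.ChevalleyStructure.TwF4.Groups Cfsg.Agent.ChevalleyStructure.TwF4.RankOne
open Cfsg.Agent.ChevalleyStructure.TwF4.Twisted Cfsg.Agent.ChevalleyStructure.TwF4.TwistedFix
open Cfsg.Agent.ChevalleyStructure.TwF4.BN
open Cfsg.Agent.Schreier.TwFFour Cfsg.Agent.Schreier.TwoGen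
open Cfsg.Agent.Octagon.KRel (x8)
open Cfsg.Agent.Octagon.KSys Cfsg.Agent.Octagon.KPar Cfsg.Agent.Octagon.KRoot Cfsg.Agent.Octagon.Pkg
open Cfsg.Agent.ParSys.Fam.TwoFFour

section absComm

variable {G : Type*} [Group G]

/-- the square of the middle part of a commutator -/
theorem sq_mem_of {M : Subgroup G} {v c x z : G} (hv : ∀ m ∈ M, v * m * v⁻¹ ∈ M) (hz : ∀ m ∈ M, z * m * z⁻¹ ∈ M)
    (h1 : v⁻¹ * (x⁻¹ * v * x) ∈ M)
    (h2 : (v⁻¹ * c * (x⁻¹ * v * x)) * (v⁻¹ * c * (x⁻¹ * v * x)) = 1) (h3 : z⁻¹ * c ∈ M) : z * z ∈ M := by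
  have h4 : z⁻¹ * c * (v * (v⁻¹ * (x⁻¹ * v * x)) * v⁻¹) ∈ M := mul_mem h3 (hv _ h1)
  set m := z⁻¹ * c * (v * (v⁻¹ * (x⁻¹ * v * x)) * v⁻¹) with hm
  have h5 : z * m * (z * m) = 1 := by
    have e : z * m * (z * m) = v * ((v⁻¹ * c * (x⁻¹ * v * x)) * (v⁻¹ * c * (x⁻¹ * v * x))) * v⁻¹ := by
      rw [hm]; group
    rw [e, h2, mul_one, mul_inv_cancel]
  have h6 : z * z = (z * m⁻¹ * z⁻¹) * m⁻¹ := by
    have h7 : z * m = (z * m)⁻¹ := eq_inv_of_mul_eq_one_left h5
    have h8 : z = m⁻¹ * z⁻¹ * m⁻¹ := by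
      calc z = (z * m) * m⁻¹ := by group
        _ = (z * m)⁻¹ * m⁻¹ := by rw [← h7]
        _ = _ := by group
    calc z * z = z * (m⁻¹ * z⁻¹ * m⁻¹) := by rw [← h8]
      _ = _ := by group
  rw [h6]
  exact mul_mem (hz _ (inv_mem h4)) (inv_mem h4)

end absComm

section TwistedGroup

variable {K : Type*} [Field K] [Fintype K] [CharP K 2] {φ : K →+* K} {e : ℕ}

/-- the product of the root groups `3, …, 7` -/
def Mid (K : Type*) [Field K] [Fintype K] [CharP K 2] (e : ℕ) : Subgroup ↥(twistedF4 K e) :=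
  V8 K e ⊓ (V8 K e).comap (MulAut.conj (m1 K e)).toMonoidHom

theorem mem_Mid {g : ↥(twistedF4 K e)} : g ∈ Mid K e ↔ g ∈ V8 K e ∧ m1 K e * g * (m1 K e)⁻¹ ∈ V8 K e := Iff.rfl

theorem m1_V1 {g : ↥(twistedF4 K e)} (hg : g ∈ V1 K e) : m1 K e * g * (m1 K e)⁻¹ ∈ V1 K e := n1_ge2' _ hg

theorem V1_le_U0 : V1 K e ≤ U0 K e := fun _ hv => pos_le_pos (ge_pos 2) hv

theorem m1_conj_conj (g : ↥(twistedF4 K e)) : m1 K e * (m1 K e * g * (m1 K e)⁻¹) * (m1 K e)⁻¹ = g := by
  calc m1 K e * (m1 K e * g * (m1 K e)⁻¹) * (m1 K e)⁻¹ = (m1 K e * m1 K e) * g * (m1 K e * m1 K e)⁻¹ := by group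
    _ = g := by rw [m1_sq]; group

theorem conj_Mid {g x : ↥(twistedF4 K e)} (hg : g ∈ V1 K e) (hx : x ∈ Mid K e) : g * x * g⁻¹ ∈ Mid K e := by
  rw [mem_Mid] at hx ⊢
  refine ⟨conj_V8 (U0_le_B0 (V1_le_U0 hg)) hx.1, ?_⟩
  have e1 : m1 K e * (g * x * g⁻¹) * (m1 K e)⁻¹ =
      (m1 K e * g * (m1 K e)⁻¹) * (m1 K e * x * (m1 K e)⁻¹) * (m1 K e * g * (m1 K e)⁻¹)⁻¹ := by group
  rw [e1]
  exact conj_V8 (U0_le_B0 (V1_le_U0 (m1_V1 hg))) hx.2

theorem rep_mid : ∀ k : ZMod (2 * 8), 3 ≤ rep k → rep k ≤ 7 → 1 ≤ rep (10 - k) ∧ rep (10 - k) ≤ 7 := by decide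

theorem XX_V8 {k : ZMod (2 * 8)} (h1 : 1 ≤ rep k) (h2 : rep k ≤ 7) : XX K e k ≤ V8 K e :=
  fun _ hg => cls_le7 h1 h2 hg

theorem XX_Mid {k : ZMod (2 * 8)} (h1 : 3 ≤ rep k) (h2 : rep k ≤ 7) : XX K e k ≤ Mid K e := by
  intro g hg
  obtain ⟨h3, h4⟩ := rep_mid k h1 h2
  refine mem_Mid.2 ⟨XX_V8 (by omega) h2 hg, XX_V8 h3 h4 ?_⟩
  exact (maps_m1 k g).2 hg

theorem XX_V1 {k : ZMod (2 * 8)} (h1 : 2 ≤ rep k) (h2 : rep k ≤ 8) : XX K e k ≤ V1 K e := by
  intro g hg
  refine GA_mono (fun s hs h => ?_) hg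
  have h3 : cls s = rep k := of_decide_eq_true h
  have h4 := cls_pos (k := rep k) h2 s hs h
  unfold geB
  rw [Bool.and_eq_true]
  exact ⟨decide_eq_true h4, decide_eq_true (by omega)⟩

theorem y3_Mid (hφ : Rln φ e) (t : K) : y3 hφ t ∈ Mid K e := XX_Mid (by decide) (by decide) ((memXX3 hφ _).2 ⟨t, rfl⟩)
theorem y5_Mid (hφ : Rln φ e) (t : K) : y5 hφ t ∈ Mid K e := XX_Mid (by decide) (by decide) ((memXX5 hφ _).2 ⟨t, rfl⟩)
theorem y7_Mid (hφ : Rln φ e) (t : K) : y7 hφ t ∈ Mid K e := XX_Mid (by decide) (by decide) ((memXX7 hφ _).2 ⟨t, rfl⟩)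
theorem y4_Mid (hφ : Rln φ e) (p u : K) : y4 hφ p u ∈ Mid K e :=
  XX_Mid (by decide) (by decide) ((memXX4 hφ _).2 ⟨p, u, rfl⟩)
theorem y6_Mid (hφ : Rln φ e) (p u : K) : y6 hφ p u ∈ Mid K e :=
  XX_Mid (by decide) (by decide) ((memXX6 hφ _).2 ⟨p, u, rfl⟩)
theorem y2_V1 (hφ : Rln φ e) (p u : K) : y2 hφ p u ∈ V1 K e :=
  XX_V1 (by decide) (by decide) ((memXX2 hφ _).2 ⟨p, u, rfl⟩)
theorem y8_V1 (hφ : Rln φ e) (p u : K) : y8 hφ p u ∈ V1 K e :=
  XX_V1 (by decide) (by decide) ((memXX8 hφ _).2 ⟨p, u, rfl⟩)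
theorem y2_V8 (hφ : Rln φ e) (p u : K) : y2 hφ p u ∈ V8 K e :=
  XX_V8 (by decide) (by decide) ((memXX2 hφ _).2 ⟨p, u, rfl⟩)
theorem y1_V8 (hφ : Rln φ e) (t : K) : y1 hφ t ∈ V8 K e :=
  XX_V8 (by decide) (by decide) ((memXX1 hφ _).2 ⟨t, rfl⟩)

/-- `[x₂, x₈] ∈ U₃₇` -/
theorem comm28 (hφ : Rln φ e) (p u q v : K) : (y2 hφ p u)⁻¹ * (y8 hφ q v)⁻¹ * y2 hφ p u * y8 hφ q v ∈ Mid K e := by
  have h := (octPar hφ).r28 p u q v
  have e1 : (y2 hφ p u)⁻¹ * (y8 hφ q v)⁻¹ * y2 hφ p u * y8 hφ q v =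
      (y2 hφ p u)⁻¹ * (y8 hφ q v)⁻¹ * (y2 hφ p u * y8 hφ q v) := by group
  rw [e1, h]
  simp only [mul_assoc, inv_mul_cancel_left]
  exact mul_mem (y3_Mid hφ _) (mul_mem (y4_Mid hφ _ _) (mul_mem (y5_Mid hφ _) (mul_mem (y6_Mid hφ _ _) (y7_Mid hφ _))))

/-- `[x₁(t), x₈(1, 0)] ∈ x₂(t, ·) U₃₇` -/
theorem comm18 (hφ : Rln φ e) (t : K) : ∃ s : K,
    (y2 hφ t s)⁻¹ * ((y1 hφ t)⁻¹ * (y8 hφ 1 0)⁻¹ * y1 hφ t * y8 hφ 1 0) ∈ Mid K e := by
  have h := (octPar hφ).r18 t 1 0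
  rw [mul_one t] at h
  have e1 : (y1 hφ t)⁻¹ * (y8 hφ 1 0)⁻¹ * y1 hφ t * y8 hφ 1 0 =
      (y1 hφ t)⁻¹ * (y8 hφ 1 0)⁻¹ * (y1 hφ t * y8 hφ 1 0) := by group
  refine ⟨t * φ t * 1 * φ 1 + t * φ t * 0, ?_⟩
  rw [e1, h]
  simp only [mul_assoc, inv_mul_cancel_left]
  exact mul_mem (y3_Mid hφ _) (mul_mem (y4_Mid hφ _ _) (mul_mem (y5_Mid hφ _) (mul_mem (y6_Mid hφ _ _) (y7_Mid hφ _))))

/-- `V₁ ∩ V₈ = U₂₇ = U₃₇ X₂` -/
theorem dec_mid (hφ : Rln φ e) {v : ↥(twistedF4 K e)} (h1 : v ∈ V1 K e) (h8 : v ∈ V8 K e) :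
    ∃ x ∈ Mid K e, ∃ p u : K, v = x * y2 hφ p u := by
  obtain ⟨w, hw, r, z, h⟩ := decU_b hφ (V1_le_U0 (m1_V1 h1))
  have h2 : (⟨xb e r z, xb_mem r z⟩ : ↥(twistedF4 K e)) = y8 hφ (r ^ e) z := by
    apply Subtype.ext
    rw [coe_y8, xb_eq hφ, hφ.phi_pow]
  have h3 : v = (m1 K e * w * (m1 K e)⁻¹) * y2 hφ (r ^ e) z := by
    rw [← m1_conj_conj v, h, h2]
    show m1 K e * (w * y8 hφ (r ^ e) z) * (m1 K e)⁻¹ = (m1 K e * w * (m1 K e)⁻¹) * (m1 K e * y8 hφ (r ^ e) z * (m1 K e)⁻¹)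
    group
  refine ⟨m1 K e * w * (m1 K e)⁻¹, mem_Mid.2 ⟨?_, ?_⟩, r ^ e, z, h3⟩
  · have h4 : m1 K e * w * (m1 K e)⁻¹ = v * (y2 hφ (r ^ e) z)⁻¹ := by rw [h3]; group
    rw [h4]
    exact mul_mem h8 (inv_mem (y2_V8 hφ _ _))
  · rw [m1_conj_conj]
    exact hw

theorem y2_Mid (hφ : Rln φ e) {c : K} (h : y2 hφ 0 c ∈ Mid K e) : c = 0 := by
  have h1 := (mem_Mid.1 h).2
  have h2 : m1 K e * y2 hφ 0 c * (m1 K e)⁻¹ = y8 hφ 0 c := m1_conj_conj _
  rw [h2] at h1
  have h3 : x8 φ 0 c ∈ GA K (leB 7) := h1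
  rw [xb_eq hφ, map_zero] at h3
  exact xb_le7 hφ.pos.ne' h3

/-- an element whose square and whose commutator with `x₈(1, 0)` have square 1 -/
theorem mem_V1 (hφ : Rln φ e) {A : Subgroup ↥(twistedF4 K e)} (hAU : A ≤ U0 K e)
    (hn : ∀ s ∈ U0 K e, ∀ a ∈ A, s * a * s⁻¹ ∈ A) (hsq : ∀ a ∈ A, a * a = 1) {a : ↥(twistedF4 K e)} (ha : a ∈ A) :
    a ∈ V1 K e ∧ a ∈ W8 K e ⟨φ, hφ⟩ := by
  have haW : a ∈ W8 K e ⟨φ, hφ⟩ := (mem_W8_iff hφ (hAU ha)).2 (by rw [hsq a ha]; exact one_mem _)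
  refine ⟨?_, haW⟩
  obtain ⟨v0, hv0, t0, h0⟩ := decU_a hφ (hAU ha)
  set t := t0 ^ e with ht
  have hy1 : (⟨xa e t0, xa_mem t0⟩ : ↥(twistedF4 K e)) = y1 hφ t := by
    apply Subtype.ext
    rw [coe_y1, xa_eq hφ, ht, hφ.phi_pow]
  rw [hy1] at h0
  set v := (y1 hφ t)⁻¹ * a with hv
  have hv1 : v ∈ V1 K e := by
    have e1 : v = (y1 hφ t)⁻¹ * v0 * (y1 hφ t)⁻¹⁻¹ := by rw [hv, h0]; group
    rw [e1]
    exact conj_V1 (U0_le_B0 (inv_mem (U1 hφ t))) hv0
  have hvW : v ∈ W8 K e ⟨φ, hφ⟩ := mul_mem (inv_mem (V8_le_W8 (y1_V8 hφ t))) haW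
  obtain ⟨w, hw⟩ := mem_W8.1 hvW
  have hw8 : (y8 hφ 0 w)⁻¹ * v ∈ V8 K e := by
    show (x8 φ 0 w)⁻¹ * (v : GL chevF4.Idx K) ∈ GA K (leB 7)
    rw [xb_eq hφ, map_zero]
    exact hw
  obtain ⟨x, hx, p, u, hxp⟩ := dec_mid hφ (mul_mem (inv_mem (y8_V1 hφ 0 w)) hv1) hw8
  have hc : y8 hφ 1 0 * y8 hφ 0 w = y8 hφ 0 w * y8 hφ 1 0 := by
    apply Subtype.ext
    show x8 φ 1 0 * x8 φ 0 w = x8 φ 0 w * x8 φ 1 0
    rw [xb_eq hφ, xb_eq hφ, map_zero]
    exact xb_comm hφ _ _ _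
  have hcomm : (y8 hφ 1 0)⁻¹ * y8 hφ 0 w * y8 hφ 1 0 = y8 hφ 0 w := by
    rw [mul_assoc, ← hc, inv_mul_cancel_left]
  have hvx : v = y8 hφ 0 w * (x * y2 hφ p u) := by rw [← hxp, mul_inv_cancel_left]
  obtain ⟨s, hs⟩ := comm18 hφ t
  have key := sq_mem_of (M := Mid K e) (v := v) (c := (y1 hφ t)⁻¹ * (y8 hφ 1 0)⁻¹ * y1 hφ t * y8 hφ 1 0)
    (x := y8 hφ 1 0) (z := y2 hφ t s) (fun m hm => conj_Mid hv1 hm) (fun m hm => conj_Mid (y2_V1 hφ t s) hm)
    ?_ ?_ hs
  · have h1 := (octPar hφ).m2 t s t s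
    rw [h1, CharTwo.add_self_eq_zero, CharTwo.add_self_eq_zero, zero_add] at key
    have h2 := y2_Mid hφ key
    have h3 : t = 0 := by
      rcases mul_eq_zero.1 h2 with h | h
      · exact h
      · exact (map_eq_zero φ).1 h
    have h4 : y1 hφ (0 : K) = 1 := by
      have := (octPar hφ).m1 0 0
      rw [add_zero] at this
      exact mul_eq_left.1 this
    have h5 : a = v := by rw [hv, h3, h4, inv_one, one_mul]
    rw [h5]
    exact hv1
  · have e1 : v⁻¹ * ((y8 hφ 1 0)⁻¹ * v * y8 hφ 1 0) =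
        (x * y2 hφ p u)⁻¹ * ((y8 hφ 0 w)⁻¹ * ((y8 hφ 1 0)⁻¹ * y8 hφ 0 w * y8 hφ 1 0)) *
          ((y8 hφ 1 0)⁻¹ * (x * y2 hφ p u) * y8 hφ 1 0) := by
      rw [hvx]; group
    have e2 : (x * y2 hφ p u)⁻¹ * ((y8 hφ 1 0)⁻¹ * (x * y2 hφ p u) * y8 hφ 1 0) =
        ((y2 hφ p u)⁻¹ * (x⁻¹ * ((y8 hφ 1 0)⁻¹ * x * (y8 hφ 1 0)⁻¹⁻¹)) * (y2 hφ p u)⁻¹⁻¹) *
          ((y2 hφ p u)⁻¹ * (y8 hφ 1 0)⁻¹ * y2 hφ p u * y8 hφ 1 0) := by
      group
    rw [e1, hcomm, inv_mul_cancel, mul_one, e2]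
    exact mul_mem (conj_Mid (inv_mem (y2_V1 hφ p u))
      (mul_mem (inv_mem hx) (conj_Mid (inv_mem (y8_V1 hφ 1 0)) hx))) (comm28 hφ p u 1 0)
  · have e1 : v⁻¹ * ((y1 hφ t)⁻¹ * (y8 hφ 1 0)⁻¹ * y1 hφ t * y8 hφ 1 0) * ((y8 hφ 1 0)⁻¹ * v * y8 hφ 1 0) =
        a⁻¹ * ((y8 hφ 1 0)⁻¹ * a * (y8 hφ 1 0)⁻¹⁻¹) := by
      rw [hv]; group
    rw [e1]
    exact hsq _ (mul_mem (inv_mem ha) (hn _ (inv_mem (U8 hφ 1 0)) a ha))

theorem mem_sqs (hφ : Rln φ e) {c : K} (hc0 : c ≠ 0) (hc1 : c ≠ 1) {a : ↥(twistedF4 K e)} (h1 : a ∈ V1 K e)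
    (hW : a ∈ W8 K e ⟨φ, hφ⟩) : a ∈ sqs (U0 K e) := by
  obtain ⟨w, hw⟩ := mem_W8.1 hW
  have h8 : (y8 hφ 0 w)⁻¹ * a ∈ V8 K e := by
    show (x8 φ 0 w)⁻¹ * (a : GL chevF4.Idx K) ∈ GA K (leB 7)
    rw [xb_eq hφ, map_zero]
    exact hw
  have h2 := V_inf hφ hc0 hc1 (mul_mem (inv_mem (y8_V1 hφ 0 w)) h1) h8
  have h3 : ⁅U0 K e, U0 K e⁆ ≤ sqs (U0 K e) := Subgroup.commutator_le.2 fun a ha b hb => comm_mem ha hb
  obtain ⟨s, hs⟩ : ∃ s : K, s ^ (e + 1) = w := by
    by_cases hw0 : w = 0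
    · exact ⟨0, by rw [hw0, zero_pow (by omega)]⟩
    · have h4 := congrArg (fun x : Kˣ => (x : K)) (exists_root hφ (Units.mk0 w hw0))
      exact ⟨_, h4⟩
  have h4 : y8 hφ 0 w = ⟨xb e s 0, xb_mem s 0⟩ * ⟨xb e s 0, xb_mem s 0⟩ := by
    apply Subtype.ext
    show x8 φ 0 w = xb e s 0 * xb e s 0
    rw [xb_eq hφ, map_zero, xb_sq hφ, hs]
  have h5 : y8 hφ 0 w ∈ sqs (U0 K e) := by
    rw [h4]
    exact sq_mem (xb_U s 0)
  have h6 : a = y8 hφ 0 w * ((y8 hφ 0 w)⁻¹ * a) := by group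
  rw [h6]
  exact mul_mem h5 (h3 h2)

end TwistedGroup

section Final

variable {K : Type*} [Field K] [Fintype K] {m : ℕ}

theorem phiAb_U0 (hm : 1 ≤ m) (hK : Fintype.card K = 2 ^ (2 * m + 1)) [CharP K 2] {φ : K →+* K} (hφ : Rln φ (2 ^ m)) :
    PhiAb (U0 K (2 ^ m)) := by
  obtain ⟨c, hc0, hc1⟩ := card_ge hm hK
  refine phiAb_of (isPGroup_U0 hK) fun A hAU hn _ hsq a ha => ?_
  obtain ⟨h1, h2⟩ := mem_V1 hφ hAU hn hsq ha
  exact mem_sqs hφ hc0 hc1 h1 h2

theorem exists_sylow_U0 (hK : Fintype.card K = 2 ^ (2 * m + 1)) [CharP K 2] {φ : K →+* K} (hφ : Rln φ (2 ^ m)) :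
    ∃ P : Sylow 2 ↥(twistedF4 K (2 ^ m)), (P : Subgroup ↥(twistedF4 K (2 ^ m))) = U0 K (2 ^ m) := by
  obtain ⟨P, hPB, hPN, -, hPS⟩ := Cfsg.Agent.ChevalleyStructure.TwF4.BNIrred.exists_bnPair_irreducible hφ
  have hB : P.B = B0 K (2 ^ m) := hPB
  have hdec := dec hK hφ
  have node_1 : Cfsg.Agent.Schreier.BNSch.Node P (U0 K (2 ^ m)) (m1 K (2 ^ m)) (V1 K (2 ^ m)) := node1 hφ hB
  have node_2 : Cfsg.Agent.Schreier.BNSch.Node P (U0 K (2 ^ m)) (m2 hφ) (V8 K (2 ^ m)) := node2 hφ hB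
  have hN := Cfsg.Agent.Schreier.BNSch.normalizer_eq P (U0 K (2 ^ m)) (by rw [hB]; exact U0_le_B0) (by
    intro b hb u hu
    rw [hB] at hb
    exact conj_U0 hb hu) (by
    intro s hs
    rw [hPS] at hs
    rcases hs with rfl | hs
    · obtain ⟨u, hu, huV⟩ := node_1.ne
      exact ⟨u, hu, fun h => huV (node_1.stab u hu h)⟩
    · rw [Set.mem_singleton_iff] at hs
      subst hs
      obtain ⟨u, hu, huV⟩ := node_2.ne
      exact ⟨u, hu, fun h => huV (node_2.stab u hu h)⟩)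
  refine Cfsg.Agent.Omega.EH3.Rank1.exists_sylow_of_odd (isPGroup_U0 hK) fun g hg => ⟨2 ^ (2 * m + 1) - 1, ?_, ?_⟩
  · refine Nat.Even.sub_odd Nat.one_le_two_pow ⟨2 ^ (2 * m), by rw [pow_succ]; ring⟩ odd_one
  · rw [hN, hB] at hg
    obtain ⟨s, t, u, hu, hbu⟩ := hdec.1 g hg
    have hgu : g = u * tt hdec s t := Subtype.ext hbu
    have key : ∀ n : ℕ, ∃ x ∈ U0 K (2 ^ m), g ^ n = x * tt hdec (s ^ n) (t ^ n) := by
      intro n
      induction n with
      | zero => exact ⟨1, one_mem _, by rw [pow_zero, pow_zero, pow_zero, tt_one, mul_one]⟩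
      | succ n ih =>
        obtain ⟨x, hx, h1⟩ := ih
        refine ⟨x * (tt hdec (s ^ n) (t ^ n) * u * (tt hdec (s ^ n) (t ^ n))⁻¹),
          mul_mem hx (tt_conj_U0 hdec _ _ u hu), ?_⟩
        rw [pow_succ, h1, pow_succ, pow_succ, ← tt_mul, hgu]
        group
    obtain ⟨x, hx, h1⟩ := key (2 ^ (2 * m + 1) - 1)
    have h3 : ∀ x : Kˣ, x ^ (2 ^ (2 * m + 1) - 1) = 1 := by
      intro x
      have h4 := pow_card_eq_one' (x := x)
      rwa [Nat.card_units, Nat.card_eq_fintype_card, hK] at h4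
    rw [h1, h3, h3, tt_one, mul_one]
    exact hx

end Final

/-- `²F₄(q)`, `q ≥ 8` -/
theorem phiAb_twoFFour {Y : Type*} [Group Y] [Finite Y] (h : Iso2F4 Y) (S : Sylow 2 Y) : PhiAb S := by
  have : Fact (Nat.Prime 2) := ⟨Nat.prime_two⟩
  obtain ⟨K, _, _, m, hm, hK, ⟨f⟩⟩ := h
  have : CharP K 2 := charP_two hK
  obtain ⟨φ, hφ⟩ := exists_rln hK
  obtain ⟨P, hP⟩ := exists_sylow_U0 hK hφ
  have h1 : PhiAb P := by
    have h2 := phiAb_U0 hm hK hφ
    rw [← hP] at h2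
    exact h2
  exact PhiAb.of_iso f (fun Q => h1.sylow Q) S

end Cfsg.Agent.Omega.Lie.End.DeadPhi

end

-- merged: Cfsg.Agent.Mrg.Omega.Lie.End.KDead
section

/-!
# K-side of NODE LIE: `KDead` (`U₃(q)`, `Sz(q)`, `²F₄(q)`)

`kDead : KDead`, and `dead_cover`: the same for a group `K` with odd centre and `K / Z(K)` in the list.
-/

set_option autoImplicit false

namespace Cfsg.Agent.Omega.Lie.End

open Subgroup DeadPhi

theorem phiAb_isUThree {Y : Type*} [Group Y] [Finite Y] (h : IsUThree Y) (S : Sylow 2 Y) : PhiAb S := by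
  have : Fact (Nat.Prime 2) := ⟨Nat.prime_two⟩
  obtain ⟨F, _, _, _, q, hc, -, ⟨f⟩⟩ := h
  obtain ⟨n, hn1, rfl⟩ : ∃ n, 1 ≤ n ∧ q = 2 ^ n := by
    obtain ⟨k, -, hk⟩ := FiniteField.card F 2
    rw [hc] at hk
    have h1 : q ∣ 2 ^ (k : ℕ) := ⟨q, by rw [← hk, pow_two]⟩
    obtain ⟨n, -, hn⟩ := (Nat.dvd_prime_pow Nat.prime_two).1 h1
    refine ⟨n, ?_, hn⟩
    by_contra h0
    have h2 : n = 0 := by omega
    rw [h2, pow_zero] at hn
    have h3 := Fintype.one_lt_card (α := F)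
    rw [hc, hn] at h3
    omega
  exact PhiAb.of_iso f (fun P => phiAb_uThree hn1 (by rw [Nat.card_eq_fintype_card, hc]) P) S

/-- the Sylow 2-subgroups of `U₃(q)`, `Sz(q)`, `²F₄(q)` -/
theorem phiAb_dead {Y : Type*} [Group Y] [Finite Y] (h : IsUThree Y ∨ Cfsg.Lie.IsoSuzuki Y ∨ Cfsg.Lie.Iso2F4 Y)
    (S : Sylow 2 Y) : PhiAb S := by
  rcases h with h | h | h
  · exact phiAb_isUThree h S
  · exact phiAb_sz h S
  · exact phiAb_twoFFour h S

universe u

end Cfsg.Agent.Omega.Lie.End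

end

private theorem dce_7f25549079ed : _root_.True := by
  try have : _root_.True := by simp only [_root_.Cfsg.Agent.Omega.Lie.End.DeadPhi.Mid.congr_simp]
  exact _root_.True.intro
end
end
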