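import Cfsg.Agent.Mrg.Omega.VP
import Cfsg.Agent.Mrg.Omega.BTwo.Entry
import Cfsg.Agent.Mrg.Omega.Lie.TorD
import Cfsg.Agent.Mrg.Omega.BTwo.SemiBasic
import Cfsg.Agent.Mrg.Omega.BTwo.RadQ_m3
import Cfsg.Agent.Mrg.Omega.BTwo.QuadGrp
import Cfsg.Agent.StdEven.Syl
import Cfsg.Agent.Lib.NormalAbelian
import Cfsg.Agent.Mrg.Omega.BTwo.CoordNat
import Cfsg.Agent.Mrg.Omega.All.Basic_m3
import Cfsg.Agent.Mrg.Omega.FrameI
import Cfsg.Agent.Lib.CoprimeCommutator
import Cfsg.Agent.Mrg.Omega.Lie.LemmaTComp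
import Cfsg.Agent.Mrg.Omega.Lie.End.KDead
import Cfsg.Agent.HexGlob.SLQuot
import Cfsg.Agent.SignalizersComponents.Components
import Mathlib
import Cfsg.Agent.KFacts.RgdRigid
import Cfsg.Agent.KFacts.RgdPar
import Cfsg.Agent.KFacts.RgdCharP
import Cfsg.Agent.KFacts.RgdTau
import Cfsg.Agent.Solvable.Glauberman
import Cfsg.Agent.KFacts.RgdEx
import Cfsg.Agent.KFacts.SLRow.Psl
import Cfsg.Agent.KFacts.Mult.TypeA
import Cfsg.Agent.KFacts.RgdOpp
import Cfsg.Agent.KFacts.RgdVJ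
import Cfsg.Agent.KFacts.RgdDiag
import Cfsg.Agent.Mrg.Omega.BTwo.Conj
import Cfsg.Agent.Mrg.ParSys.Fam.TwoFFour
import Cfsg.Agent.FastGrp
import Cfsg.Agent.Prune
set_option linter.all false

section
prune_inst 0x7ffceefbabb8b9dfdfff7e7faff8dffc19909fffe6dff94b7fe069ff0bdf03040fe5fbaf09e010fe0ed6e09490b87853f97eca3feb6bdc7ffffd5ff45ffbee0ff5f7bd0951d698340fbc0fff63f0778a7f3fffffffffffffffffffffffffffbeffffffffffff

-- part: Mrg/Omega/IIa4/Lay
section
prune_inst 0x11000144444000000000050040001e46b60001920048080048200d420488ae00000008608c2004121020000400300048100800000000000000000000011800800008000280080000000000000080400000000000000000000000000000000000000000000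
set_option linter.all false
open scoped Cfsg.Agent.FastGrp

-- merged: Cfsg.Agent.Mrg.Omega.IIa4.Entry
section

/-!
# II.a: the entry (`BTC` from a mutual pair of one type)

`V = V_P` a natural module, `(V, V^g)` a mutual pair, `R = V ∩ V^g`:
* `le_QQ`: `V ≤ O₂(N_G(R))` (so `b = 2`);
* `btc`: the structure `BTC V (points of V)`;
* `exists_crd`: coordinates.
-/

set_option autoImplicit false
set_option linter.unusedSectionVars false

namespace Cfsg.Agent.Omega.IIa4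

open Subgroup Cfsg.Agent.Lib.SL2Mat Cfsg.Agent.Omega.NatPair Cfsg.Agent.Omega.BTwo

section lin

variable {F : Type*} [Field F]

/-- the stabiliser of a line in `SL₂(F)` is transitive on the vectors outside the line -/
theorem exists_move_line {w v y : Fin 2 → F} (hv : dt w v ≠ 0) (hy : dt w y ≠ 0) :
    ∃ A : Matrix.SpecialLinearGroup (Fin 2) F, (∃ c : F, c ≠ 0 ∧ ap A w = c • w) ∧ ap A v = y := by
  set c := dt w v * (dt w y)⁻¹ with hc
  have hc0 : c ≠ 0 := mul_ne_zero hv (inv_ne_zero hy)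
  obtain ⟨D, hD1, hD2⟩ := exists_basis hv
  have h1 : dt (c • w) y = dt w v := by
    rw [dt_smul_left, hc, mul_assoc, inv_mul_cancel₀ hy, mul_one]
  obtain ⟨D', hD1', hD2'⟩ := exists_basis (w := c • w) (u := y) (by rw [h1]; exact hv)
  refine ⟨D' * D⁻¹, ⟨c, hc0, ?_⟩, ?_⟩
  · nth_rewrite 1 [← hD1]
    rw [ap_mul, ap_inv_ap, hD1']
  · have h2 : v = dt w v • ap D ![0, 1] := by rw [hD2, smul_smul, mul_inv_cancel₀ hv, one_smul]
    conv_lhs => rw [h2]
    rw [ap_smul, ap_mul, ap_inv_ap, hD2', h1, smul_smul, mul_inv_cancel₀ hv, one_smul]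

end lin

variable {G : Type*} [Group G] {F : Type*} [Field F] {V : Subgroup G}

/-- the elements of `N(R)` centralising `R` and `Q / R` form a 2-group if `C_{N(R)}(Q) ≤ Q` -/
theorem stab_le [Finite G] {R : Subgroup G} (hR : R ≤ QQ R)
    (hc : normalizer (R : Set G) ⊓ centralizer (QQ R : Set G) ≤ QQ R) {x : G}
    (hx : x ∈ normalizer (R : Set G)) (h1 : ∀ r ∈ R, x * r = r * x)
    (h2 : ∀ y ∈ QQ R, x * y * x⁻¹ * y⁻¹ ∈ R) : x ∈ QQ R := by
  let T : Subgroup G :=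
    { carrier := {x | x ∈ normalizer (R : Set G) ∧ (∀ r ∈ R, x * r = r * x) ∧ ∀ y ∈ QQ R, x * y * x⁻¹ * y⁻¹ ∈ R}
      one_mem' := ⟨one_mem _, fun r _ => by rw [one_mul, mul_one], fun y _ => by
        have : 1 * y * 1⁻¹ * y⁻¹ = 1 := by group
        rw [this]; exact one_mem _⟩
      mul_mem' := by
        rintro a b ⟨ha, ha1, ha2⟩ ⟨hb, hb1, hb2⟩
        refine ⟨mul_mem ha hb, fun r hr => ?_, fun y hy => ?_⟩
        · rw [mul_assoc, hb1 r hr, ← mul_assoc, ha1 r hr, mul_assoc]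
        · have e : a * b * y * (a * b)⁻¹ * y⁻¹ = a * (b * y * b⁻¹ * y⁻¹) * a⁻¹ * (a * y * a⁻¹ * y⁻¹) := by group
          rw [e]
          exact mul_mem (conj_mem_of_normalizer ha (hb2 y hy)) (ha2 y hy)
      inv_mem' := by
        rintro a ⟨ha, ha1, ha2⟩
        refine ⟨inv_mem ha, fun r hr => ?_, fun y hy => ?_⟩
        · rw [inv_mul_eq_iff_eq_mul, ← mul_assoc, ha1 r hr, mul_inv_cancel_right]
        · have e : a⁻¹ * y * a⁻¹⁻¹ * y⁻¹ = a⁻¹ * (a * y * a⁻¹ * y⁻¹)⁻¹ * a := by group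
          rw [e]
          exact conj_inv_mem_of_normalizer ha (inv_mem (ha2 y hy)) }
  have hT : IsPGroup 2 T := by
    refine isPGroup_of_odd fun c hcT ho => ?_
    obtain ⟨hc1, hc2, hc3⟩ := hcT
    have hcQ : c ∈ QQ R := by
      refine hc (mem_inf.2 ⟨hc1, mem_centralizer_iff.2 fun y hy => ?_⟩)
      exact (comm_of_odd ho ((O2_isPGroup _).to_le hR) (hc3 y hy) (hc2 _ (hc3 y hy))).symm
    obtain ⟨n, hn⟩ := O2_isPGroup (normalizer (R : Set G)) ⟨c, hcQ⟩
    have hn' : c ^ 2 ^ n = 1 := congrArg Subtype.val hn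
    have hco : Nat.Coprime (orderOf c) (2 ^ n) := (Nat.coprime_two_right.2 ho).pow_right n
    exact orderOf_eq_one_iff.1 (Nat.eq_one_of_dvd_coprimes hco dvd_rfl (orderOf_dvd_of_pow_eq_one hn'))
  have hTN : T ≤ normalizer (R : Set G) := fun y hy => hy.1
  refine le_O2_of_normal hTN hT ?_ (show x ∈ T from ⟨hx, h1, h2⟩)
  rintro g hg a ⟨ha, ha1, ha2⟩
  refine ⟨mul_mem (mul_mem hg ha) (inv_mem hg), fun r hr => ?_, fun y hy => ?_⟩
  · have h3 := ha1 _ (conj_inv_mem_of_normalizer hg hr)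
    calc g * a * g⁻¹ * r = g * (a * (g⁻¹ * r * g)) * g⁻¹ := by group
      _ = g * (g⁻¹ * r * g * a) * g⁻¹ := by rw [h3]
      _ = r * (g * a * g⁻¹) := by group
  · have h3 := ha2 _ (conj_inv_mem_of_normalizer (le_normalizer_O2 _ hg) hy)
    have h4 := conj_mem_of_normalizer hg h3
    have e : g * (a * (g⁻¹ * y * g) * a⁻¹ * (g⁻¹ * y * g)⁻¹) * g⁻¹ = g * a * g⁻¹ * y * (g * a * g⁻¹)⁻¹ * y⁻¹ := by
      group
    rwa [e] at h4

/-- **`b = 2`** for a mutual pair of one type -/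
theorem le_QQ [Finite G] [Finite F] [CharP F 2] (M : NatMod F V) (S : Sylow 2 G)
    (hS : (S : Subgroup G) ≤ normalizer (V : Set G)) {g : G} (h : NatPair.Mutual V (NatPair.cj g V))
    (hc : normalizer ((V ⊓ NatPair.cj g V : Subgroup G) : Set G) ⊓
      centralizer (QQ (V ⊓ NatPair.cj g V) : Set G) ≤ QQ (V ⊓ NatPair.cj g V)) :
    V ≤ QQ (V ⊓ NatPair.cj g V) := by
  have : Fact (Nat.Prime 2) := ⟨Nat.prime_two⟩
  obtain ⟨-, w, w', hw, hw', hl, -⟩ := pair M (M.conj g) h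
  rw [hl] at hc ⊢
  obtain ⟨S₁, hSV, hSR⟩ := M.exists_sylow S hS hw.ne
  have hQS : QQ (M.line w) ≤ (S₁ : Subgroup G) := by
    have h3 : IsPGroup 2 ((S₁ : Subgroup G) ⊔ QQ (M.line w) : Subgroup G) :=
      S₁.isPGroup'.to_sup_of_normal_right' (O2_isPGroup _) (hSR.trans (le_normalizer_O2 _))
    have h4 := S₁.is_maximal' h3 le_sup_left
    exact le_sup_right.trans_eq h4
  have hQV := hQS.trans hSV
  have hVR : V ≤ normalizer (M.line w : Set G) := by
    intro v hv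
    rw [mem_normalizer_iff]
    intro r
    constructor
    · intro hr
      rw [M.comm hv (M.line_le w hr), mul_inv_cancel_right]
      exact hr
    · intro hr
      have h1 : r ∈ V := by
        have h2 := mul_mem (mul_mem (inv_mem hv) (M.line_le w hr)) hv
        have e : v⁻¹ * (v * r * v⁻¹) * v = r := by group
        rwa [e] at h2
      rwa [M.comm hv h1, mul_inv_cancel_right] at hr
  have hV2 : IsPGroup 2 V := fun v => ⟨1, by
    rw [pow_one, pow_two]; exact Subtype.ext (M.sq v.2)⟩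
  have hRQ : M.line w ≤ QQ (M.line w) :=
    le_O2_of_normal le_normalizer (hV2.to_le (M.line_le w)) fun g hg a ha => conj_mem_of_normalizer hg ha
  by_cases hcase : ∃ v ∈ V, v ∈ QQ (M.line w) ∧ v ∉ M.line w
  · obtain ⟨v, hv, hvQ, hvR⟩ := hcase
    obtain ⟨x, rfl⟩ := (M.mem_iff v).1 hv
    have hx : dt w x ≠ 0 := by
      intro h0
      obtain ⟨c, rfl⟩ := exists_smul_of_dt hw.ne h0
      exact hvR (M.e_mem_line.2 ⟨c, rfl⟩)
    intro v' hv'
    obtain ⟨y, rfl⟩ := (M.mem_iff v').1 hv'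
    by_cases hy : dt w y = 0
    · obtain ⟨c, rfl⟩ := exists_smul_of_dt hw.ne hy
      exact hRQ (M.e_mem_line.2 ⟨c, rfl⟩)
    · obtain ⟨A, ⟨c, hc0, hAw⟩, hAx⟩ := exists_move_line hx hy
      obtain ⟨l, hlA⟩ := M.lift A
      have h1 : NatPair.cj l (M.line w) = M.line w := by
        rw [M.cj_line_of_ind hlA, hAw, M.line_smul hc0]
      have h2 : l ∈ normalizer (M.line w : Set G) := NatPair.cj_eq_iff.1 h1
      have h3 := conj_mem_of_normalizer (le_normalizer_O2 _ h2) hvQ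
      rwa [hlA, hAx] at h3
  · push Not at hcase
    intro v hv
    refine stab_le hRQ hc (hVR hv) (fun r hr => M.comm hv (M.line_le w hr)) fun y hy => ?_
    refine hcase _ ?_ ?_
    · have h1 : y * v⁻¹ * y⁻¹ ∈ V := conj_mem_of_normalizer (hQV hy) (inv_mem hv)
      have e : v * y * v⁻¹ * y⁻¹ = v * (y * v⁻¹ * y⁻¹) := by group
      rw [e]
      exact mul_mem hv h1
    · exact mul_mem (conj_mem_of_normalizer (le_normalizer_O2 _ (hVR hv)) hy) (inv_mem hy)

/-- a nontrivial normal subgroup of `S` contains a central involution of `S` -/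
theorem exists_central [Finite G] (S : Sylow 2 G) {T : Subgroup G} (hTS : T ≤ (S : Subgroup G))
    (hn : (S : Subgroup G) ≤ normalizer (T : Set G)) (hT : T ≠ ⊥) :
    ∃ z ∈ T, z ∈ (S : Subgroup G) ∧ z * z = 1 ∧ (∀ s ∈ (S : Subgroup G), s * z = z * s) ∧ z ≠ 1 := by
  have : Fact (Nat.Prime 2) := ⟨Nat.prime_two⟩
  have h1 : (T.subgroupOf (S : Subgroup G)).Normal := (normal_subgroupOf_iff_le_normalizer hTS).2 hn
  have h2 : Group.IsNilpotent (S : Subgroup G) := S.isPGroup'.isNilpotent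
  have h3 : T.subgroupOf (S : Subgroup G) ≠ ⊥ := by
    intro h
    rw [subgroupOf_eq_bot] at h
    exact hT (disjoint_self.1 (h.mono_right hTS))
  have h5 := Cfsg.Agent.Lib.NormalAbelian.normal_inf_center_ne_bot _ h3
  set C : Subgroup (S : Subgroup G) := T.subgroupOf (S : Subgroup G) ⊓ center (S : Subgroup G) with hC
  have h6 : Nontrivial C := (Subgroup.nontrivial_iff_ne_bot _).2 h5
  have h7 : 2 ∣ Nat.card C := by
    obtain ⟨n, hn⟩ := IsPGroup.iff_card.1 (S.isPGroup'.to_subgroup C)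
    rw [hn]
    have : n ≠ 0 := by
      rintro rfl
      rw [pow_zero] at hn
      exact absurd (Finite.one_lt_card_iff_nontrivial.2 h6) (by rw [hn]; norm_num)
    exact dvd_pow_self 2 this
  obtain ⟨z, hz⟩ := exists_prime_orderOf_dvd_card' 2 h7
  have hz2 : z * z = 1 := by
    have h3 := pow_orderOf_eq_one z
    rwa [hz, pow_two] at h3
  refine ⟨((z : (S : Subgroup G)) : G), ?_, (z : (S : Subgroup G)).2, ?_, ?_, ?_⟩
  · exact mem_subgroupOf.1 (mem_inf.1 z.2).1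
  · exact congrArg (fun t : C => ((t : (S : Subgroup G)) : G)) hz2
  · intro s hs
    exact congrArg Subtype.val (mem_center_iff.1 (mem_inf.1 z.2).2 ⟨s, hs⟩)
  · intro h
    have : z = 1 := Subtype.ext (Subtype.ext h)
    rw [this, orderOf_one] at hz
    norm_num at hz

theorem line_ne_bot (M : NatMod F V) {w : Fin 2 → F} (hw : w ≠ 0) : M.line w ≠ ⊥ := by
  intro h
  have h1 : M.e w ∈ M.line w := M.e_mem_line.2 ⟨1, (one_smul _ _).symm⟩
  rw [h, mem_bot, M.e_eq_one] at h1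
  exact hw h1

/-- `C_{N(R)}(O₂(N(R))) ≤ O₂(N(R))` for the lines `R` of `V` -/
theorem cenQ_line [Finite G] [Finite F] [CharP F 2] (hG : IsCharacteristicTwoType G) (M : NatMod F V) (S : Sylow 2 G)
    (hS : (S : Subgroup G) ≤ normalizer (V : Set G)) {w : Fin 2 → F} (hw : w ≠ 0) :
    normalizer (M.line w : Set G) ⊓ centralizer (QQ (M.line w) : Set G) ≤ QQ (M.line w) := by
  obtain ⟨S₁, -, hSR⟩ := M.exists_sylow S hS hw
  have hR2 : IsPGroup 2 (M.line w) := fun v => ⟨1, by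
    rw [pow_one, pow_two]; exact Subtype.ext (M.sq (M.line_le w v.2))⟩
  have hRQ : M.line w ≤ QQ (M.line w) :=
    le_O2_of_normal le_normalizer hR2 fun g hg a ha => conj_mem_of_normalizer hg ha
  have hne : ZN.o2 (normalizer (M.line w : Set G)) ≠ ⊥ := by
    intro h
    apply line_ne_bot M hw
    rw [eq_bot_iff]
    exact hRQ.trans_eq h
  exact MinSimple.Basic.char2_of_o2_ne_bot hG S₁ hSR hne

/-- **the entry**: `BTC` from a mutual pair of one type -/
theorem btc [Finite G] [Finite F] [CharP F 2] (hG : IsCharacteristicTwoType G) (M : NatMod F V) (S : Sylow 2 G)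
    (hS : (S : Subgroup G) ≤ normalizer (V : Set G))
    (hZ : ∀ z ∈ (S : Subgroup G), z * z = 1 → (∀ s ∈ (S : Subgroup G), s * z = z * s) → z ∈ V) {g : G}
    (h : NatPair.Mutual V (NatPair.cj g V)) : V ≤ QQ (V ⊓ NatPair.cj g V) ∧ BTC V (pt M) := by
  have hfact : Fact (Nat.Prime 2) := ⟨Nat.prime_two⟩
  obtain ⟨-, w, w', hw, hw', hl, -⟩ := pair M (M.conj g) h
  have hQ : V ≤ QQ (V ⊓ NatPair.cj g V) := by
    refine le_QQ M S hS h ?_
    rw [hl]
    exact cenQ_line hG M S hS hw.ne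
  have hb := bt M S hS h hQ
  have hTS : ∀ T : Subgroup G, IsPGroup 2 T → normalizer (V : Set G) ≤ normalizer (T : Set G) →
      T ≤ (S : Subgroup G) := fun T hT hn => MinPar.le_of_le_normalizer S hT (hS.trans hn)
  refine ⟨hQ, ⟨hb, ?_, ?_, ?_⟩⟩
  · intro T hT _ hn hTV
    by_contra hne
    obtain ⟨z, hzT, hzS, hz2, hzc, hz1⟩ := exists_central S (hTS T hT hn) (hS.trans hn) hne
    have h1 : z ∈ T ⊓ V := ⟨hzT, hZ z hzS hz2 hzc⟩
    rw [hTV, mem_bot] at h1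
    exact hz1 h1
  · intro i T hT _ _ hVT hRT
    by_contra hne
    have hST : (S : Subgroup G) ≤ normalizer (T : Set G) := hS.trans hVT
    have hTN : T ≤ ZN.o2 (normalizer (T : Set G)) :=
      le_O2_of_normal le_normalizer hT fun g hg a ha => conj_mem_of_normalizer hg ha
    have hne2 : ZN.o2 (normalizer (T : Set G)) ≠ ⊥ := fun h0 => hne (le_bot_iff.1 (h0 ▸ hTN))
    have hch := MinSimple.Basic.char2_of_o2_ne_bot hG S hST hne2
    -- the line `V ∩ V^g`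
    obtain ⟨x, hx, hxR⟩ := hb.trans_one i ⟨M.line w, w, hw.ne, rfl⟩
    have hxR' : BTwo.cj x (pt M i) = M.line w := hxR
    have hRT' : normalizer ((V ⊓ NatPair.cj g V : Subgroup G) : Set G) ≤ normalizer (T : Set G) := by
      rw [hl, ← hxR', BTwo.normalizer_cj]
      rw [cj_le_iff]
      intro y hy
      exact mul_mem (mul_mem (hVT hx) (hRT hy)) (inv_mem (hVT hx))
    refine nonlocal M S hS hZ h hVT hRT' (O2_le _) (O2_isPGroup _) (le_normalizer_O2 _) ?_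
    intro y hy hyc
    exact hch (mem_inf.2 ⟨hy, mem_centralizer_iff.2 fun q hq => hyc q hq⟩)
  · rintro ⟨_, u, hu, rfl⟩
    exact cenQ_line hG M S hS hu

end Cfsg.Agent.Omega.IIa4

end

-- merged: Cfsg.Agent.Mrg.Omega.BTwo.Semi
section

section


/-!
# SQ3, `b = 2`, `q ≥ 4`: #11043 (8.5), (8.6) and the conclusion `O₂(N(R)) = W_R` is semi-extraspecial
-/

set_option autoImplicit false
set_option linter.unusedSectionVars false

namespace Cfsg.Agent.Omega.BTwo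

open Subgroup
open scoped commutatorElement

universe u v w

variable {G : Type u} [Group G] {ι : Type w}

namespace Coord

variable {V : Subgroup G} {R : ι → Subgroup G} {i j : ι} {F : Type v} [Field F]
  {v : F → F → G} {w1 w2 : F → G} {M : Type u} [AddCommGroup M] [Module F M] {p1 p2 : G → M}

section

variable (c : Coord V R i j v w1 w2) (b : BT V R) (y : YMod (DD V R) (UU V R i) (UU V R j) w1 w2 M p1 p2)
include c b

/-- `U j = [U j, h(a)] D` -/
theorem exists_hh [Finite F] [CharP F 2] {a : F} (ha : a ≠ 0) (ha1 : a ≠ 1) {x : G} (hx : x ∈ UU V R j) :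
    ∃ x' ∈ UU V R j, ∃ d ∈ DD V R, x = x' * (hh w1 w2 a * x'⁻¹ * (hh w1 w2 a)⁻¹) * d := by
  obtain ⟨M, i1, i2, p1, p2, y⟩ := c.exists_yMod b
  have hne : (1 : F) - a⁻¹ ≠ 0 := by
    intro h
    apply ha1
    have h1 : a⁻¹ = 1 := (sub_eq_zero.1 h).symm
    rw [← inv_inv a, h1, inv_one]
  obtain ⟨x', hx', e⟩ := y.surj2 ((1 - a⁻¹)⁻¹ • p2 x)
  have hx'' := inv_mem hx'
  have h1 := YMod.hh_mem2 b c ha hx''
  have h2 : p2 (x' * (hh w1 w2 a * x'⁻¹ * (hh w1 w2 a)⁻¹)) = p2 x := by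
    rw [y.mul2 _ hx' _ h1, y.hh_p2 b c ha hx'', y.p2_inv hx', smul_neg, ← sub_eq_add_neg]
    have h3 : p2 x' - a⁻¹ • p2 x' = (1 - a⁻¹) • p2 x' := by rw [sub_smul, one_smul]
    rw [h3, e, smul_smul, mul_inv_cancel₀ hne, one_smul]
  refine ⟨x', hx', (x' * (hh w1 w2 a * x'⁻¹ * (hh w1 w2 a)⁻¹))⁻¹ * x, ?_, by group⟩
  refine (y.ker2 _ (mul_mem (inv_mem (mul_mem hx' h1)) hx)).1 ?_
  rw [y.mul2 _ (inv_mem (mul_mem hx' h1)) _ hx, y.p2_inv (mul_mem hx' h1), h2, neg_add_cancel]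

end

/-! ### (8.5) -/

omit [Field F] in
theorem _root_.Cfsg.Agent.Omega.BTwo.comm_central {p q x y : G} (h1 : p * x = x * p) (h2 : p * y = y * p)
    (h3 : q * x = x * q) (h4 : q * y = y * q) (h5 : p * q = q * p) :
    (p * x) * (q * y) * (p * x)⁻¹ * (q * y)⁻¹ = x * y * x⁻¹ * y⁻¹ := by
  have k1 : Commute (p * q) x := (show Commute p x from h1).mul_left h3
  have k2 : Commute (p * q) y := (show Commute p y from h2).mul_left h4
  have e1 : (p * x) * (q * y) = (p * q) * (x * y) := by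
    calc (p * x) * (q * y) = p * (x * q) * y := by group
      _ = (p * q) * (x * y) := by rw [← h3]; group
  have e2 : (q * y) * (p * x) = (p * q) * (y * x) := by
    calc (q * y) * (p * x) = q * (y * p) * x := by group
      _ = (q * p) * (y * x) := by rw [← h2]; group
      _ = _ := by rw [h5]
  have k3 : Commute (p * q) (x * y * (y * x)⁻¹) := (k1.mul_right k2).mul_right (k2.mul_right k1).inv_right
  calc (p * x) * (q * y) * (p * x)⁻¹ * (q * y)⁻¹ = ((p * x) * (q * y)) * ((q * y) * (p * x))⁻¹ := by group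
    _ = (p * q) * (x * y * (y * x)⁻¹) * (p * q)⁻¹ := by rw [e1, e2]; group
    _ = x * y * (y * x)⁻¹ := by rw [k3.eq]; group
    _ = x * y * x⁻¹ * y⁻¹ := by group

omit [Field F] in
theorem _root_.Cfsg.Agent.Omega.BTwo.comm_two {x x0 w w0 r1 r2 k : G} (e1 : w0 * x * w0⁻¹ * x⁻¹ = r1)
    (e2 : w * x0 * w⁻¹ * x0⁻¹ = r2) (e3 : w0 * w * w0⁻¹ * w⁻¹ = k) (hx : x0 * x = x * x0)
    (h1 : x0 * r1 = r1 * x0) (h2 : x * r2 = r2 * x) (h3 : x0 * k = k * x0) (h4 : x * k = k * x)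
    (h5 : k * r2 = r2 * k) (h : (x0 * w0) * (x * w) * (x0 * w0)⁻¹ * (x * w)⁻¹ = k) : r1 = r2 := by
  have f1 : w0 * x = r1 * x * w0 := by rw [← e1]; group
  have f2 : w * x0 = r2 * x0 * w := by rw [← e2]; group
  have g1 : (x0 * w0) * (x * w) = r1 * (x0 * x) * (w0 * w) := by
    calc (x0 * w0) * (x * w) = x0 * (w0 * x) * w := by group
      _ = (x0 * r1) * x * w0 * w := by rw [f1]; group
      _ = r1 * (x0 * x) * (w0 * w) := by rw [h1]; group
  have g2 : (x * w) * (x0 * w0) = r2 * (x0 * x) * (w * w0) := by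
    calc (x * w) * (x0 * w0) = x * (w * x0) * w0 := by group
      _ = (x * r2) * x0 * w * w0 := by rw [f2]; group
      _ = r2 * (x * x0) * (w * w0) := by rw [h2]; group
      _ = _ := by rw [hx]
  have g3 : (x0 * w0) * (x * w) * (x0 * w0)⁻¹ * (x * w)⁻¹ = r1 * k * r2⁻¹ := by
    have k1 : (x0 * x) * k = k * (x0 * x) := by rw [mul_assoc, h4, ← mul_assoc, h3, mul_assoc]
    calc (x0 * w0) * (x * w) * (x0 * w0)⁻¹ * (x * w)⁻¹
        = ((x0 * w0) * (x * w)) * ((x * w) * (x0 * w0))⁻¹ := by group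
      _ = r1 * ((x0 * x) * (w0 * w * w0⁻¹ * w⁻¹)) * (x0 * x)⁻¹ * r2⁻¹ := by rw [g1, g2]; group
      _ = r1 * k * r2⁻¹ := by rw [e3, k1]; group
  rw [h] at g3
  calc r1 = (r1 * k * r2⁻¹) * (k * r2⁻¹)⁻¹ := by group
    _ = k * (k * r2⁻¹)⁻¹ := by rw [← g3]
    _ = (k * r2) * k⁻¹ := by group
    _ = r2 := by rw [h5]; group

section beta

variable (c : Coord V R i j v w1 w2) (b : BTC V R)

/-- `z` acts on `W i / (V Z i)...` with parameter `β` -/
def Bt (V : Subgroup G) (R : ι → Subgroup G) (i : ι) (v : F → F → G) (z : G) (β : F) : Prop :=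
  ∀ w ∈ WW V (R i), ∀ a : F, (∀ b c, w * v b c * w⁻¹ = v (b + a * c) c) →
    ∃ b, (v b (a * β))⁻¹ * (z * w * z⁻¹ * w⁻¹) ∈ ZW V R i

include b in
/-- `[z, w] ∈ V Z i` -/
theorem _root_.Cfsg.Agent.Omega.BTwo.BTC.exists_V {z w : G} (hz : z ∈ centralizer (V : Set G))
    (hU : ∀ u ∈ UU V R i, z * u = u * z) (hw : w ∈ WW V (R i)) :
    ∃ x ∈ V, x⁻¹ * (z * w * z⁻¹ * w⁻¹) ∈ ZW V R i := by
  have hzw : z * w * z⁻¹ ∈ WW V (R i) := conj_mem_of_normalizer (b.cen_le_NW i hz) hw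
  have hm : z * w * z⁻¹ * w⁻¹ ∈ WW V (R i) := mul_mem hzw (inv_mem hw)
  obtain ⟨x, hx, h1⟩ := b.cen_U (b.W_le_Q i hm) (fun u hu => by
    -- `[z w z⁻¹, u] = [w, u]`
    have hr := b.WU hw hu
    set r := w * u * w⁻¹ * u⁻¹ with hrdef
    have h1 : z * r * z⁻¹ = r := by
      rw [← mem_centralizer_iff.1 hz r (b.R_le i hr)]; group
    have h2 : (z * w * z⁻¹) * u * (z * w * z⁻¹)⁻¹ = r * u := by
      calc (z * w * z⁻¹) * u * (z * w * z⁻¹)⁻¹ = z * w * (z⁻¹ * (u * z)) * w⁻¹ * z⁻¹ := by group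
        _ = z * (w * u * w⁻¹) * z⁻¹ := by rw [← hU u hu]; group
        _ = (z * r * z⁻¹) * (z * u * z⁻¹) := by rw [hrdef]; group
        _ = r * u := by rw [h1, hU u hu]; group
    have h3 : w⁻¹ * u * w = r⁻¹ * u := by
      have h4 := b.QR i w (b.W_le_Q i hw) _ hr
      have h5 : w⁻¹ * r * w = r := by
        calc w⁻¹ * r * w = w⁻¹ * (r * w) := by group
          _ = r := by rw [← h4]; group
      have h6 : w * u * w⁻¹ = r * u := by rw [hrdef]; group
      calc w⁻¹ * u * w = (w⁻¹ * r * w)⁻¹ * (w⁻¹ * (r * u) * w) := by group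
        _ = r⁻¹ * u := by rw [h5, ← h6]; group
    have h7 : (z * w * z⁻¹) * r⁻¹ = r⁻¹ * (z * w * z⁻¹) := b.QR i _ (b.W_le_Q i hzw) _ (inv_mem hr)
    have h8 : (z * w * z⁻¹ * w⁻¹) * u * (z * w * z⁻¹ * w⁻¹)⁻¹ = u := by
      calc (z * w * z⁻¹ * w⁻¹) * u * (z * w * z⁻¹ * w⁻¹)⁻¹
          = (z * w * z⁻¹) * (w⁻¹ * u * w) * (z * w * z⁻¹)⁻¹ := by group
        _ = ((z * w * z⁻¹) * r⁻¹) * u * (z * w * z⁻¹)⁻¹ := by rw [h3]; group
        _ = r⁻¹ * ((z * w * z⁻¹) * u * (z * w * z⁻¹)⁻¹) := by rw [h7]; group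
        _ = u := by rw [h2]; group
    rwa [mul_inv_eq_iff_eq_mul] at h8)
  have h2 : x⁻¹ * (z * w * z⁻¹ * w⁻¹) ∈ WW V (R i) := mul_mem (inv_mem (V_le_WW V (R i) hx)) hm
  exact ⟨x, hx, h2, h1⟩

include c b

/-- existence of the parameter -/
theorem exists_Bt {z : G} (hz : z ∈ centralizer (V : Set G)) (hU : ∀ u ∈ UU V R i, z * u = u * z) :
    ∃ β : F, Bt V R i v z β := by
  obtain ⟨x0, hx0, h0⟩ := b.exists_V hz hU (c.w1_mem 1)
  obtain ⟨b0, c0, rfl⟩ := (c.mem_V x0).1 hx0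
  refine ⟨c0, fun w hw a ha => ?_⟩
  obtain ⟨x, hx, h1⟩ := b.exists_V hz hU hw
  obtain ⟨b1, c1, rfl⟩ := (c.mem_V x).1 hx
  refine ⟨b1, ?_⟩
  suffices h : c1 = a * c0 by rwa [← h]
  -- `z [w0, w] z⁻¹ = [w0, w]`
  set w0 := w1 1 with hw0
  have hw0m : w0 ∈ WW V (R i) := c.w1_mem 1
  set ζ0 := (v b0 c0)⁻¹ * (z * w0 * z⁻¹ * w0⁻¹) with hζ0
  set ζ := (v b1 c1)⁻¹ * (z * w * z⁻¹ * w⁻¹) with hζ
  have e0 : z * w0 * z⁻¹ = ζ0 * (v b0 c0 * w0) := by
    have h2 := comm_ZW h0 (V_le_WW V (R i) hx0)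
    rw [← mul_assoc, h2, hζ0]; group
  have e1 : z * w * z⁻¹ = ζ * (v b1 c1 * w) := by
    have h2 := comm_ZW h1 (V_le_WW V (R i) hx)
    rw [← mul_assoc, h2, hζ]; group
  have hX0 : v b0 c0 * w0 ∈ WW V (R i) := mul_mem (V_le_WW V (R i) hx0) hw0m
  have hX1 : v b1 c1 * w ∈ WW V (R i) := mul_mem (V_le_WW V (R i) hx) hw
  have hr := b.WW_comm i hw0m hw
  have e2 : (v b0 c0 * w0) * (v b1 c1 * w) * (v b0 c0 * w0)⁻¹ * (v b1 c1 * w)⁻¹ = w0 * w * w0⁻¹ * w⁻¹ := by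
    have h3 : z * (w0 * w * w0⁻¹ * w⁻¹) * z⁻¹ = w0 * w * w0⁻¹ * w⁻¹ := by
      rw [← mem_centralizer_iff.1 hz _ (b.R_le i hr)]; group
    have h4 := comm_ZW h0 hX0
    have h6 := comm_ZW h0 (ZW_le_W i h1)
    rw [← h3]
    calc (v b0 c0 * w0) * (v b1 c1 * w) * (v b0 c0 * w0)⁻¹ * (v b1 c1 * w)⁻¹
        = (ζ0 * (v b0 c0 * w0)) * (ζ * (v b1 c1 * w)) * (ζ0 * (v b0 c0 * w0))⁻¹ * (ζ * (v b1 c1 * w))⁻¹ :=
          (comm_central h4 (comm_ZW h0 hX1) (comm_ZW h1 hX0) (comm_ZW h1 hX1) h6).symm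
      _ = (z * w0 * z⁻¹) * (z * w * z⁻¹) * (z * w0 * z⁻¹)⁻¹ * (z * w * z⁻¹)⁻¹ := by rw [e0, e1]
      _ = z * (w0 * w * w0⁻¹ * w⁻¹) * z⁻¹ := by group
  have hR : ∀ a : F, v a 0 ∈ R i := fun a => (c.mem_R1 _).2 ⟨a, rfl⟩
  have f1 : w0 * v b1 c1 * w0⁻¹ * (v b1 c1)⁻¹ = v c1 0 := by
    have h3 := c.w1_act 1 b1 c1
    have h4 := c.v_add c1 0 b1 c1
    rw [← hw0, one_mul] at h3
    rw [zero_add, add_comm c1 b1] at h4
    rw [h3, h4]; group
  have f2 : w * v b0 c0 * w⁻¹ * (v b0 c0)⁻¹ = v (a * c0) 0 := by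
    have h3 := ha b0 c0
    have h4 := c.v_add (a * c0) 0 b0 c0
    rw [zero_add, add_comm (a * c0) b0] at h4
    rw [h3, h4]; group
  have h3 := comm_two f1 f2 rfl (b.V_comm _ hx0 _ hx) (b.V_comm _ hx0 _ (b.R_le i (hR _)))
    (b.V_comm _ hx _ (b.R_le i (hR _))) (b.V_comm _ hx0 _ (b.R_le i hr)) (b.V_comm _ hx _ (b.R_le i hr))
    (b.V_comm _ (b.R_le i hr) _ (b.R_le i (hR _))) e2
  exact (c.v_inj h3).1

/-- the parameter is additive -/
theorem Bt.mul [Finite G] {z z' : G} {β β' : F} (hz : z ∈ ZW V R j) (hz' : z' ∈ ZW V R j) (h : Bt V R i v z β)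
    (h' : Bt V R i v z' β') : Bt V R i v (z * z') (β + β') := by
  intro w hw a ha
  obtain ⟨b1, h1⟩ := h w hw a ha
  obtain ⟨b2, h2⟩ := h' w hw a ha
  refine ⟨b2 + b1, ?_⟩
  set ζ := (v b1 (a * β))⁻¹ * (z * w * z⁻¹ * w⁻¹) with hζ
  set ζ' := (v b2 (a * β'))⁻¹ * (z' * w * z'⁻¹ * w⁻¹) with hζ'
  have hzV := C_le_cen j hz.2
  have k1 : z * v b2 (a * β') = v b2 (a * β') * z := (mem_centralizer_iff.1 hzV _ (c.v_mem _ _)).symm
  have k2 : z * ζ' = ζ' * z := b.cen_comm (Ne.symm c.ne) hz.2 h2.2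
  have k3 := comm_ZW h2 (V_le_WW V (R i) (c.v_mem b1 (a * β)))
  have e1 : v (b2 + b1) (a * (β + β')) = v b2 (a * β') * v b1 (a * β) := by
    rw [← c.v_add, mul_add, add_comm (a * β)]
  have e2 : z * z' * w * (z * z')⁻¹ * w⁻¹ = v b2 (a * β') * v b1 (a * β) * (ζ' * ζ) := by
    calc z * z' * w * (z * z')⁻¹ * w⁻¹
        = z * (v b2 (a * β') * ζ') * z⁻¹ * (v b1 (a * β) * ζ) := by rw [hζ, hζ']; group
      _ = (z * v b2 (a * β')) * ζ' * z⁻¹ * (v b1 (a * β) * ζ) := by group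
      _ = v b2 (a * β') * (z * ζ') * z⁻¹ * (v b1 (a * β) * ζ) := by rw [k1]; group
      _ = v b2 (a * β') * (ζ' * v b1 (a * β)) * ζ := by rw [k2]; group
      _ = _ := by rw [k3]; group
  rw [e1, e2]
  have e3 : (v b2 (a * β') * v b1 (a * β))⁻¹ * (v b2 (a * β') * v b1 (a * β) * (ζ' * ζ)) = ζ' * ζ := by group
  rw [e3]
  exact mul_mem h2 h1

/-- the parameter is unique -/
theorem Bt.unique {z : G} {β β' : F} (h : Bt V R i v z β) (h' : Bt V R i v z β') : β = β' := by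
  obtain ⟨b1, h1⟩ := h (w1 1) (c.w1_mem 1) 1 (c.w1_act 1)
  obtain ⟨b2, h2⟩ := h' (w1 1) (c.w1_mem 1) 1 (c.w1_act 1)
  rw [one_mul] at h1 h2
  have h3 : (v b1 β)⁻¹ * v b2 β' ∈ ZW V R i := by
    have e : (v b1 β)⁻¹ * v b2 β' = ((v b1 β)⁻¹ * (z * w1 1 * z⁻¹ * (w1 1)⁻¹)) *
      ((v b2 β')⁻¹ * (z * w1 1 * z⁻¹ * (w1 1)⁻¹))⁻¹ := by group
    rw [e]
    exact mul_mem h1 (inv_mem h2)
  have h4 := comm_ZW h3 (c.w1_mem 1)
  have h5 : v b1 β * v (b2 - b1) (β' - β) = v b2 β' := by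
    rw [← c.v_add, add_sub_cancel, add_sub_cancel]
  have h6 : (v b1 β)⁻¹ * v b2 β' = v (b2 - b1) (β' - β) := by rw [← h5]; group
  rw [h6] at h4
  have h7 := c.w1_act 1 (b2 - b1) (β' - β)
  rw [← h4, mul_inv_cancel_right, one_mul] at h7
  have h8 := (c.v_inj h7).1
  exact (sub_eq_zero.1 (left_eq_add.1 h8)).symm

/-- the torus -/
theorem Bt.conj [CharP F 2] {z : G} {β : F} (h : Bt V R i v z β) {s : F} (hs : s ≠ 0) :
    Bt V R i v (hh w1 w2 s * z * (hh w1 w2 s)⁻¹) (s⁻¹ ^ 3 * β) := by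
  intro w hw a ha
  set t := hh w1 w2 s with ht
  have htN : t ∈ normalizer (R i : Set G) := cj_eq_self_iff.1 (c.hh_R1 b.toBT hs)
  have hwt : t⁻¹ * w * t ∈ WW V (R i) := conj_inv_mem_of_normalizer (normalizer_le_WW V (R i) htN) hw
  obtain ⟨b1, h1⟩ := h _ hwt (s⁻¹ ^ 2 * a) (by
    intro d e
    have e1 : t⁻¹ * w * t * v d e * (t⁻¹ * w * t)⁻¹ = t⁻¹ * (w * (t * v d e * t⁻¹) * w⁻¹) * t := by group
    rw [e1, c.hh_act hs, ha, c.hh_act_inv hs]
    congr 1
    · field_simp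
    · field_simp)
  refine ⟨s * b1, ?_⟩
  have h2 := conj_ZW htN h1
  have e2 : t * ((v b1 (s⁻¹ ^ 2 * a * β))⁻¹ * (z * (t⁻¹ * w * t) * z⁻¹ * (t⁻¹ * w * t)⁻¹)) * t⁻¹ =
      (t * v b1 (s⁻¹ ^ 2 * a * β) * t⁻¹)⁻¹ * ((t * z * t⁻¹) * w * (t * z * t⁻¹)⁻¹ * w⁻¹) := by group
  rw [e2, c.hh_act hs] at h2
  have e3 : s⁻¹ * (s⁻¹ ^ 2 * a * β) = a * (s⁻¹ ^ 3 * β) := by ring
  rwa [e3] at h2

/-- elements of `R j` -/
theorem Bt.of_mem {z : G} (hz : z ∈ R j) : Bt V R i v z 0 := by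
  intro w hw a ha
  obtain ⟨e, rfl⟩ := (c.mem_R2 z).1 hz
  refine ⟨-(a * e), ?_⟩
  have h1 := ha 0 e
  rw [zero_add] at h1
  have h2 : v 0 e * w * (v 0 e)⁻¹ * w⁻¹ = v (-(a * e)) 0 := by
    have h3 := c.v_add (-(a * e)) 0 (a * e) e
    rw [neg_add_cancel, zero_add] at h3
    calc v 0 e * w * (v 0 e)⁻¹ * w⁻¹ = v 0 e * (w * v 0 e * w⁻¹)⁻¹ := by group
      _ = v (-(a * e)) 0 := by rw [h1, h3]; group
  rw [h2, mul_zero, inv_mul_cancel]
  exact one_mem _

/-- **(8.5)** `β = 0` -/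
theorem Bt.eq_zero [Finite G] [Finite F] [CharP F 2] (hF : ∃ a : F, a ≠ 0 ∧ a ≠ 1) {z : G} {β : F}
    (hz : z ∈ ZW V R j) (h : Bt V R i v z β) : β = 0 := by
  obtain ⟨x, hx0, hx1⟩ := hF
  obtain ⟨M, i1, i2, p1, p2, y⟩ := c.exists_yMod b.toBT
  have hx2 : x + 1 ≠ 0 := by
    intro h1
    apply hx1
    rw [CharTwo.add_eq_zero] at h1
    exact h1
  have hzU := ZW_le_U (V := V) (R := R) j hz
  have hN : ∀ s : F, s ≠ 0 → hh w1 w2 s ∈ normalizer (R j : Set G) :=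
    fun s hs => cj_eq_self_iff.1 (c.hh_R2 b.toBT hs)
  -- `z₁ = z^{h(x⁻¹)}`, `z₂ = z^{h((x+1)⁻¹)}`
  set z1 := hh w1 w2 x⁻¹ * z * (hh w1 w2 x⁻¹)⁻¹ with hz1
  set z2 := hh w1 w2 (x + 1)⁻¹ * z * (hh w1 w2 (x + 1)⁻¹)⁻¹ with hz2
  have hz1m : z1 ∈ ZW V R j := conj_ZW (hN _ (inv_ne_zero hx0)) hz
  have hz2m : z2 ∈ ZW V R j := conj_ZW (hN _ (inv_ne_zero hx2)) hz
  have hb1 := Bt.conj c b h (inv_ne_zero hx0)
  have hb2 := Bt.conj c b h (inv_ne_zero hx2)
  rw [← hz1, inv_inv] at hb1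
  rw [← hz2, inv_inv] at hb2
  have hp1 : p2 z1 = x • p2 z := by
    rw [hz1, y.hh_p2 b.toBT c (inv_ne_zero hx0) hzU, inv_inv]
  have hp2 : p2 z2 = (x + 1) • p2 z := by
    rw [hz2, y.hh_p2 b.toBT c (inv_ne_zero hx2) hzU, inv_inv]
  have hd : z1 * z * z2⁻¹ ∈ R j := by
    have hm : z1 * z * z2⁻¹ ∈ ZW V R j := mul_mem (mul_mem hz1m hz) (inv_mem hz2m)
    refine b.cen_DW ((y.ker2 _ (ZW_le_U j hm)).1 ?_) hm.2
    rw [y.mul2 _ (ZW_le_U j (mul_mem hz1m hz)) _ (ZW_le_U j (inv_mem hz2m)), y.mul2 _ (ZW_le_U j hz1m) _ hzU,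
      y.p2_inv (ZW_le_U j hz2m), hp1, hp2, add_smul, one_smul, add_neg_cancel]
  have h1 := Bt.mul c b hz1m hz hb1 h
  have h2 := Bt.mul c b (b.R_le_ZW j hd) hz2m (Bt.of_mem c b hd) hb2
  have e : z1 * z * z2⁻¹ * z2 = z1 * z := by group
  rw [e] at h2
  have h3 := Bt.unique c b h1 h2
  have h4 : (x * (x + 1)) * β = 0 := by
    have h5 : (3 : F) = 1 := by
      have : (2 : F) = 0 := CharTwo.two_eq_zero
      linear_combination this
    have h6 : (3 * x ^ 2 + 3 * x) * β = 0 := by linear_combination -h3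
    rw [h5, one_mul, one_mul] at h6
    linear_combination h6
  rcases mul_eq_zero.1 h4 with h5 | h5
  · rcases mul_eq_zero.1 h5 with h6 | h6
    · exact absurd h6 hx0
    · exact absurd h6 hx2
  · exact h5

/-- **(8.5)** `[Z j, U i] = 1 ⟹ Z j = R j` -/
theorem ZW_eq [Finite G] [Finite F] [CharP F 2] (hF : ∃ a : F, a ≠ 0 ∧ a ≠ 1)
    (hU : ∀ z ∈ ZW V R j, ∀ u ∈ UU V R i, z * u = u * z) : ZW V R j = R j := by
  refine b.ZW_eq c.ne fun z hz w hw => ?_
  obtain ⟨β, hβ⟩ := c.exists_Bt b (C_le_cen j hz.2) (hU z hz)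
  have h0 := Bt.eq_zero c b hF hz hβ
  obtain ⟨a, ha⟩ := c.W1_act w hw
  obtain ⟨b1, h1⟩ := hβ w hw a ha
  rw [h0, mul_zero] at h1
  have h2 : v b1 0 ∈ ZW V R i := b.R_le_ZW i ((c.mem_R1 _).2 ⟨b1, rfl⟩)
  have e : z * w * z⁻¹ * w⁻¹ = v b1 0 * ((v b1 0)⁻¹ * (z * w * z⁻¹ * w⁻¹)) := by group
  rw [e]
  exact mul_mem h2 h1

/-! ### the conclusion -/

/-- **(8.6)** -/
theorem comm_ZU [Finite G] [Finite F] [CharP F 2] (hF : ∃ a : F, a ≠ 0 ∧ a ≠ 1)
    (perf : UU V R j ≤ ⁅(⨆ h : normalizer (R i : Set G), Omega.BTwo.cj (h : G) (UU V R j)),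
      (⨆ h : normalizer (R i : Set G), Omega.BTwo.cj (h : G) (UU V R j))⁆ ⊔ QQ (R i)) {z u : G}
    (hz : z ∈ ZW V R i) (hu : u ∈ UU V R j) : z * u = u * z := by
  obtain ⟨a, ha, ha1⟩ := hF
  refine b.comm_ZU c.ne (t := hh w1 w2 a) (c.hh_mem_X b.toBT a) (cj_eq_self_iff.1 (c.hh_R1 b.toBT ha))
    (fun u hu => c.exists_hh b.toBT ha ha1 hu) (fun x hx => ?_) perf hz hu
  obtain ⟨w, hw, he⟩ := b.exists_eps_W hx
  refine ⟨w, hw, fun t ht => ?_⟩
  have h1 := inv_mem (b.CX ht he)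
  have e : (t * (x * w) * t⁻¹ * (x * w)⁻¹)⁻¹ = (x * w) * t * (x * w)⁻¹ * t⁻¹ := by group
  rwa [e] at h1

/-- `Z(W j) = R j` -/
theorem ZW_eq_R [Finite G] [Finite F] [CharP F 2] (hF : ∃ a : F, a ≠ 0 ∧ a ≠ 1)
    (perf : UU V R j ≤ ⁅(⨆ h : normalizer (R i : Set G), Omega.BTwo.cj (h : G) (UU V R j)),
      (⨆ h : normalizer (R i : Set G), Omega.BTwo.cj (h : G) (UU V R j))⁆ ⊔ QQ (R i)) : ZW V R j = R j := by
  refine c.ZW_eq b hF fun z hz u hu => ?_
  set n := nn w1 w2 1 with hn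
  have h2 : Omega.BTwo.cj n (R j) = R i := c.nn_R2 b.toBT one_ne_zero
  have hnV : n ∈ normalizer (V : Set G) := b.X_le_NV (c.nn_mem_X b.toBT 1)
  have h3 : n * u * n⁻¹ ∈ UU V R j := by
    rw [← b.cj_UU hnV (c.nn_R1 b.toBT one_ne_zero)]
    exact conj_mem_cj hu
  have h4 : n * z * n⁻¹ ∈ ZW V R i := by
    have e := b.cj_WW h2
    refine ⟨?_, ?_⟩
    · rw [← e]; exact conj_mem_cj hz.1
    · have h5 : n * z * n⁻¹ ∈ Omega.BTwo.cj n (centralizer (WW V (R j) : Set G)) := conj_mem_cj hz.2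
      rwa [← centralizer_cj, e] at h5
  have h5 := c.comm_ZU b hF perf h4 h3
  calc z * u = n⁻¹ * ((n * z * n⁻¹) * (n * u * n⁻¹)) * n := by group
    _ = u * z := by rw [h5]; group

/-- **#11043, `q ≥ 4`, the end**: `C(W k) = R k` and `O₂(N(R k)) = W k` -/
theorem semi [Finite G] [Finite F] [CharP F 2] (hF : ∃ a : F, a ≠ 0 ∧ a ≠ 1)
    (perf : UU V R j ≤ ⁅(⨆ h : normalizer (R i : Set G), Omega.BTwo.cj (h : G) (UU V R j)),
      (⨆ h : normalizer (R i : Set G), Omega.BTwo.cj (h : G) (UU V R j))⁆ ⊔ QQ (R i)) (k : ι) :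
    centralizer (WW V (R k) : Set G) = R k ∧ QQ (R k) = WW V (R k) := by
  have h1 : centralizer (WW V (R j) : Set G) = R j := by
    refine le_antisymm (fun x hx => ?_) (b.R_cen_W j)
    rw [← c.ZW_eq_R b hF perf]
    exact ⟨b.cen_W_le_W_of_coord c.symm hF hx, hx⟩
  have h2 : centralizer (WW V (R k) : Set G) = R k := by
    obtain ⟨x, -, hx⟩ := b.trans_one j k
    rw [← b.cj_WW hx, centralizer_cj, h1, hx]
  exact ⟨h2, b.Q_eq_W k h2.le⟩

end beta

end Coord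

end Cfsg.Agent.Omega.BTwo

end

section


/-!
# THEOREM F6 (bb OMEGA 13299): `C_G(z) ≤ N_G(R)` for `z ∈ R`, field automorphisms in `S` allowed

* `Cz.scalar`: an element of `N(V)` which normalises `R i`, `R j` and is trivial on `U j / D` acts on `R i` as a scalar.
* `Cz.O_le_cen`: a 2-subgroup `O` of `N(V) ∩ N(R i)` with `[O, C(R i)] ≤ Q i` centralises `R i`.
* `Cz.cen_V`: a 2-element of `N(V)` which normalises `R i`, `R j` and centralises `R i` centralises `V`.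
* `Cz.main`: `K = C_G(z)`, `O = O₂(K)`, `C_K(O) ≤ O` give `O ≤ Q i`, `Z(O) = R i` and `K ≤ N(R i)`.
-/

set_option autoImplicit false

namespace Cfsg.Agent.Omega.BTwo.Cz

open Subgroup

universe u v w

variable {G : Type u} [Group G] {ι : Type w} {V : Subgroup G} {R : ι → Subgroup G} {i j : ι}

section scalar

variable {F : Type v} [Field F] {v : F → F → G} {w1 w2 : F → G}

/-- the action of an element of `N(V) ∩ N(R i) ∩ N(R j)` on `V` and `W i` -/
theorem semi (c : Coord V R i j v w1 w2) (b : BT V R) {x : G} (hi : cj x (R i) = R i)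
    (hj : cj x (R j) = R j) : ∃ τ ρ σ : F → F, (∀ p, v (τ p) 0 = x * v p 0 * x⁻¹) ∧
      (∀ p, v 0 (ρ p) = x * v 0 p * x⁻¹) ∧
      (∀ s p q, (x * w1 s * x⁻¹) * v p q * (x * w1 s * x⁻¹)⁻¹ = v (p + σ s * q) q) ∧
      ∀ s q, τ (s * q) = σ s * ρ q := by
  have hR1 : ∀ p, ∃ q, v q 0 = x * v p 0 * x⁻¹ := by
    intro p
    rw [← c.mem_R1, ← hi]
    exact conj_mem_cj ((c.mem_R1 _).2 ⟨p, rfl⟩)
  have hR2 : ∀ p, ∃ q, v 0 q = x * v 0 p * x⁻¹ := by
    intro p
    rw [← c.mem_R2, ← hj]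
    exact conj_mem_cj ((c.mem_R2 _).2 ⟨p, rfl⟩)
  have hW : ∀ s, ∃ t, ∀ p q, (x * w1 s * x⁻¹) * v p q * (x * w1 s * x⁻¹)⁻¹ = v (p + t * q) q := by
    intro s
    apply c.W1_act
    rw [← b.cj_WW hi]
    exact conj_mem_cj (c.w1_mem s)
  choose τ hτ using hR1
  choose ρ hρ using hR2
  choose σ hσ using hW
  refine ⟨τ, ρ, σ, hτ, hρ, hσ, fun s q => ?_⟩
  have e1 : x * (w1 s * v 0 q * (w1 s)⁻¹) * x⁻¹ =
      (x * w1 s * x⁻¹) * (x * v 0 q * x⁻¹) * (x * w1 s * x⁻¹)⁻¹ := by group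
  rw [c.w1_act, ← hρ q, hσ] at e1
  have e2 : v (0 + s * q) q = v (s * q) 0 * v 0 q := by
    rw [← c.v_add, zero_add, add_zero, zero_add]
  rw [e2] at e1
  have e3 : x * (v (s * q) 0 * v 0 q) * x⁻¹ = (x * v (s * q) 0 * x⁻¹) * (x * v 0 q * x⁻¹) := by group
  rw [e3, ← hτ, ← hρ, ← c.v_add, add_zero, zero_add, zero_add] at e1
  exact (c.v_inj e1).1

/-- an element of `N(V)` which normalises `R i`, `R j` and is trivial on `U j / D` acts on `R i` as a scalar -/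
theorem scalar [Finite F] [CharP F 2] (c : Coord V R i j v w1 w2) (b : BT V R) (hU : ¬ UU V R j ≤ DD V R)
    {x : G} (hx : x ∈ normalizer (V : Set G)) (hi : cj x (R i) = R i) (hj : cj x (R j) = R j)
    (ht : ∀ u ∈ UU V R j, x * u * x⁻¹ * u⁻¹ ∈ DD V R) :
    ∃ κ : F, ∀ p, x * v p 0 * x⁻¹ = v (κ * p) 0 := by
  obtain ⟨M, _, _, p1, p2, ym⟩ := c.exists_yMod b
  obtain ⟨τ, ρ, σ, hτ, hρ, hσ, hrel⟩ := semi c b hi hj
  -- an element of `U j` outside `D`
  obtain ⟨u0, hu0, hu0'⟩ := SetLike.not_le_iff_exists.1 hU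
  have hm0 : p2 u0 ≠ 0 := fun h => hu0' ((ym.ker2 u0 hu0).1 h)
  set m0 := p2 u0 with hm0def
  have hxi : ∀ u ∈ UU V R i, x * u * x⁻¹ ∈ UU V R i := fun u hu => by
    rw [← b.cj_UU hx hi]; exact conj_mem_cj hu
  have hxj : ∀ u ∈ UU V R j, x * u * x⁻¹ ∈ UU V R j := fun u hu => by
    rw [← b.cj_UU hx hj]; exact conj_mem_cj hu
  have hp2 : ∀ u ∈ UU V R j, p2 (x * u * x⁻¹) = p2 u := by
    intro u hu
    have e : x * u * x⁻¹ = (x * u * x⁻¹ * u⁻¹) * u := by group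
    rw [e, ym.mul2 _ (b.D_le_U j (ht u hu)) _ hu, (ym.ker2 _ (b.D_le_U j (ht u hu))).2 (ht u hu), zero_add]
  -- `x` acts on `U i / D`
  have hp1 : ∀ m ∈ UU V R i, ∀ m' ∈ UU V R i, p1 m = p1 m' → p1 (x * m * x⁻¹) = p1 (x * m' * x⁻¹) := by
    intro m hm m' hm' e
    have h1 : m * m'⁻¹ ∈ DD V R := by
      rw [← ym.ker1 _ (mul_mem hm (inv_mem hm')), ym.mul1 _ hm _ (inv_mem hm'), e,
        ← ym.mul1 _ hm' _ (inv_mem hm'), mul_inv_cancel, ym.ker1 _ (one_mem _)]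
      exact one_mem _
    have h2 : x * (m * m'⁻¹) * x⁻¹ ∈ DD V R := conj_mem_of_normalizer (b.NV_le_ND hx) h1
    have e2 : x * m * x⁻¹ = x * (m * m'⁻¹) * x⁻¹ * (x * m' * x⁻¹) := by group
    rw [e2, ym.mul1 _ (b.D_le_U i h2) _ (hxi _ hm'), (ym.ker1 _ (b.D_le_U i h2)).2 h2, zero_add]
  have hkey : ∀ s, s ≠ 0 → ∃ m ∈ UU V R i, p1 m = m0 ∧ p1 (x * m * x⁻¹) = (σ s * s⁻¹) • m0 := by
    intro s hs
    obtain ⟨u, hu, hpu⟩ := ym.surj2 (s⁻¹ • m0)
    refine ⟨w1 s * u * (w1 s)⁻¹ * u⁻¹, b.WU' (c.w1_mem s) hu, ?_, ?_⟩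
    · rw [ym.act12 s u hu, hpu, smul_smul, mul_inv_cancel₀ hs, one_smul]
    · have hw : x * w1 s * x⁻¹ ∈ WW V (R i) := by
        rw [← b.cj_WW hi]; exact conj_mem_cj (c.w1_mem s)
      set y := x * w1 s * x⁻¹ with hy
      set u' := x * u * x⁻¹ with hu'
      have hu'' : u' ∈ UU V R j := hxj u hu
      have e1 : x * (w1 s * u * (w1 s)⁻¹ * u⁻¹) * x⁻¹ = y * u' * y⁻¹ * u'⁻¹ := by
        rw [hy, hu']; group
      have h3 := b.same hw (c.w1_mem (σ s)) (fun r hr => by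
        obtain ⟨p, q, rfl⟩ := (c.mem_V r).1 hr
        rw [hσ, c.w1_act]) (UU_le_YY j hu'')
      have e2 : y * u' * y⁻¹ * u'⁻¹ =
          (y * u' * y⁻¹ * (w1 (σ s) * u' * (w1 (σ s))⁻¹)⁻¹) * (w1 (σ s) * u' * (w1 (σ s))⁻¹ * u'⁻¹) := by
        group
      rw [e1, e2, ym.mul1 _ (b.D_le_U i h3) _ (b.WU' (c.w1_mem _) hu''),
        (ym.ker1 _ (b.D_le_U i h3)).2 h3, zero_add, ym.act12 _ _ hu'', hp2 u hu, hpu, smul_smul]
  have hσ1 : ∀ s, s ≠ 0 → σ s = σ 1 * s := by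
    intro s hs
    obtain ⟨m, hm, e1, e2⟩ := hkey s hs
    obtain ⟨m', hm', e1', e2'⟩ := hkey 1 one_ne_zero
    have h := hp1 m hm m' hm' (e1.trans e1'.symm)
    rw [e2, e2', inv_one, mul_one, ← sub_eq_zero, ← sub_smul, smul_eq_zero] at h
    rcases h with h | h
    · rw [← sub_eq_zero.1 h, mul_assoc, inv_mul_cancel₀ hs, mul_one]
    · exact absurd h hm0
  refine ⟨σ 1 * ρ 1, fun p => ?_⟩
  by_cases hp : p = 0
  · rw [hp, mul_zero, c.v_zero, mul_one, mul_inv_cancel]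
  · rw [← hτ]
    congr 1
    have := hrel p 1
    rw [mul_one] at this
    rw [this, hσ1 p hp]
    ring

theorem scalar_pow {f : F → G} {x : G} {κ : F} (h : ∀ p, x * f p * x⁻¹ = f (κ * p)) (n : ℕ) (p : F) :
    x ^ n * f p * (x ^ n)⁻¹ = f (κ ^ n * p) := by
  induction n with
  | zero => simp
  | succ n ih =>
    have e : x ^ (n + 1) * f p * (x ^ (n + 1))⁻¹ = x * (x ^ n * f p * (x ^ n)⁻¹) * x⁻¹ := by
      rw [pow_succ']; group
    rw [e, ih, h, pow_succ', mul_assoc]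

/-- a 2-element acting as a scalar acts trivially -/
theorem scalar_one [CharP F 2] {f : F → G} (hf : Function.Injective f) {x : G} {n : ℕ} (hn : x ^ 2 ^ n = 1)
    {κ : F} (h : ∀ p, x * f p * x⁻¹ = f (κ * p)) : ∀ p, x * f p * x⁻¹ = f p := by
  have h1 := scalar_pow h (2 ^ n) 1
  rw [hn, one_mul, inv_one, mul_one, mul_one] at h1
  have h2 : κ ^ 2 ^ n = 1 := (hf h1).symm
  have h3 : κ = 1 := by
    have h4 : (κ - 1) ^ 2 ^ n = 0 := by
      have : ExpChar F 2 := ExpChar.prime Nat.prime_two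
      rw [sub_pow_char_pow, h2, one_pow, sub_self]
    exact sub_eq_zero.1 (pow_eq_zero_iff (by positivity) |>.1 h4)
  intro p
  rw [h, h3, one_mul]

/-- a 2-subgroup `O` of `N(V) ∩ N(R i)` with `[O, C(R i)] ≤ Q i` centralises `R i` -/
theorem O_le_cen [Finite F] [CharP F 2] (c : Coord V R i j v w1 w2) (b : BT V R) (hU : ¬ UU V R j ≤ DD V R)
    {O : Subgroup G} (hO : IsPGroup 2 O) (hV : O ≤ normalizer (V : Set G))
    (hR : O ≤ normalizer (R i : Set G))
    (hc : ∀ x ∈ O, ∀ g ∈ centralizer (R i : Set G), x * g * x⁻¹ * g⁻¹ ∈ QQ (R i)) :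
    O ≤ centralizer (R i : Set G) := by
  intro x hx
  have hi : cj x (R i) = R i := cj_eq_self_iff.2 (hR hx)
  obtain ⟨k, hk⟩ := b.perm x (hV hx) j
  have hki : k ≠ i := by
    rintro rfl
    exact c.ne (b.R_index (cj_injective (hi.trans hk.symm)))
  obtain ⟨w, hw, hwk⟩ := b.trans i hki c.ne.symm
  have hwQ := b.W_le_Q i hw
  have h1 : cj (w * x) (R j) = R j := by rw [cj_mul, hk, hwk]
  have h2 : cj (w * x) (R i) = R i := by rw [cj_mul, hi, cj_eq_self_iff.2 (b.W_le_N i hw)]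
  have h3 : w * x ∈ normalizer (V : Set G) := mul_mem (b.W_le_NV i hw) (hV hx)
  have h4 : ∀ u ∈ UU V R j, (w * x) * u * (w * x)⁻¹ * u⁻¹ ∈ DD V R := by
    intro u hu
    rw [← b.UK c.ne]
    have huV : u ∈ centralizer (V : Set G) := UU_le_cen j hu
    have huR : u ∈ centralizer (R i : Set G) := centralizer_le (b.R_le i) huV
    refine mem_inf.2 ⟨?_, b.Q_le_K i ?_⟩
    · refine mul_mem ?_ (inv_mem hu)
      rw [← b.cj_UU h3 h1]
      exact conj_mem_cj hu
    · have e : (w * x) * u * (w * x)⁻¹ * u⁻¹ =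
          (w * (x * u * x⁻¹ * u⁻¹) * w⁻¹) * (w * (u * w⁻¹ * u⁻¹)) := by group
      rw [e]
      exact mul_mem (mul_mem (mul_mem hwQ (hc x hx u huR)) (inv_mem hwQ))
        (mul_mem hwQ (conj_mem_of_normalizer (le_normalizer_O2 _ (b.cen_le_N i huV)) (inv_mem hwQ)))
  obtain ⟨κ, hκ⟩ := scalar c b hU h3 h2 h1 h4
  have hκ' : ∀ p, x * v p 0 * x⁻¹ = v (κ * p) 0 := by
    intro p
    rw [← hκ p]
    have h5 : x * v p 0 * x⁻¹ ∈ R i := by
      rw [← hi]; exact conj_mem_cj ((c.mem_R1 _).2 ⟨p, rfl⟩)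
    have h6 := b.conj_R hwQ h5
    rw [← h6]; group
  obtain ⟨n, hn⟩ := hO ⟨x, hx⟩
  have hn' : x ^ 2 ^ n = 1 := congrArg Subtype.val hn
  have h7 := scalar_one (f := fun p => v p 0) (fun p q h => (c.v_inj h).1) hn' hκ'
  rw [mem_centralizer_iff]
  intro r hr
  obtain ⟨p, rfl⟩ := (c.mem_R1 r).1 hr
  exact (mul_inv_eq_iff_eq_mul.1 (h7 p)).symm

/-- a 2-element of `N(R i) ∩ N(R j)` which centralises `R i` centralises `V` -/
theorem cen_V [CharP F 2] (c : Coord V R i j v w1 w2) (b : BT V R) {x : G} (hi : x ∈ centralizer (R i : Set G))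
    (hj : cj x (R j) = R j) {n : ℕ} (hn : x ^ 2 ^ n = 1) : x ∈ centralizer (V : Set G) := by
  have hi' : cj x (R i) = R i := by
    rw [cj_eq_self_iff]
    refine le_normalizer_of (K := centralizer (R i : Set G)) (fun k hk r hr => ?_) hi
    rw [← mem_centralizer_iff.1 hk r hr, mul_inv_cancel_right]
    exact hr
  obtain ⟨τ, ρ, σ, hτ, hρ, hσ, hrel⟩ := semi c b hi' hj
  have h0 : ∀ p, τ p = p := by
    intro p
    have h1 := hτ p
    rw [← mem_centralizer_iff.1 hi (v p 0) ((c.mem_R1 _).2 ⟨p, rfl⟩), mul_inv_cancel_right] at h1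
    exact (c.v_inj h1).1
  have h1 : ∀ q, ρ q = (σ 1)⁻¹ * q := by
    intro q
    have h2 := hrel 1 q
    rw [h0, one_mul] at h2
    have h3 : σ 1 ≠ 0 := by
      intro h3
      have h4 := hrel 1 1
      rw [h0, h3, zero_mul, mul_one] at h4
      exact one_ne_zero h4
    calc ρ q = (σ 1)⁻¹ * (σ 1 * ρ q) := by rw [← mul_assoc, inv_mul_cancel₀ h3, one_mul]
      _ = (σ 1)⁻¹ * q := by rw [← h2]
  have h2 := scalar_one (f := fun p => v 0 p) (fun p q h => (c.v_inj h).2) hn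
    (κ := (σ 1)⁻¹) (fun p => by rw [← hρ, h1])
  rw [mem_centralizer_iff]
  intro y hy
  obtain ⟨p, q, rfl⟩ := (c.mem_V y).1 hy
  have e1 : v p q = v p 0 * v 0 q := by rw [← c.v_add, add_zero, zero_add]
  have e2 := h2 q
  have e3 := mem_centralizer_iff.1 hi (v p 0) ((c.mem_R1 _).2 ⟨p, rfl⟩)
  rw [e1]
  calc v p 0 * v 0 q * x = v p 0 * (v 0 q * x) := by group
    _ = v p 0 * (x * v 0 q) := by rw [← mul_inv_eq_iff_eq_mul.1 e2]
    _ = (v p 0 * x) * v 0 q := by group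
    _ = x * (v p 0 * v 0 q) := by rw [e3]; group

/-- a 2-element of `N(V)` which centralises `R i` acts trivially on `V / R i` -/
theorem comm_mem [CharP F 2] (c : Coord V R i j v w1 w2) (b : BT V R) {T : Subgroup G} (hT : IsPGroup 2 T)
    (hV : T ≤ normalizer (V : Set G)) (hC : T ≤ centralizer (R i : Set G)) (hW : WW V (R i) ≤ T) :
    ∀ m ∈ V, ∀ t ∈ T, t * m * t⁻¹ * m⁻¹ ∈ R i := by
  intro m hm t ht
  obtain ⟨k, hk⟩ := b.perm t (hV ht) j
  have hi : cj t (R i) = R i := by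
    rw [cj_eq_self_iff]
    refine le_normalizer_of (K := centralizer (R i : Set G)) (fun k hk r hr => ?_) (hC ht)
    rw [← mem_centralizer_iff.1 hk r hr, mul_inv_cancel_right]
    exact hr
  have hki : k ≠ i := by
    rintro rfl
    exact c.ne (b.R_index (cj_injective (hi.trans hk.symm)))
  obtain ⟨w, hw, hwk⟩ := b.trans i hki c.ne.symm
  have h1 : cj (w * t) (R j) = R j := by rw [cj_mul, hk, hwk]
  have hwt : w * t ∈ T := mul_mem (hW hw) ht
  obtain ⟨n, hn⟩ := hT ⟨_, hwt⟩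
  have h2 := cen_V c b (hC hwt) h1 (n := n) (congrArg Subtype.val hn)
  have h3 : t * m * t⁻¹ = w⁻¹ * m * w := by
    have h4 := mem_centralizer_iff.1 h2 m hm
    have h5 : w * t * m * t⁻¹ = m * w := by
      calc w * t * m * t⁻¹ = (w * t * m) * t⁻¹ := rfl
        _ = (m * (w * t)) * t⁻¹ := by rw [h4]
        _ = m * w := by group
    calc t * m * t⁻¹ = w⁻¹ * (w * t * m * t⁻¹) := by group
      _ = w⁻¹ * m * w := by rw [h5]; group
  rw [h3]
  have h6 := b.QV i w⁻¹ (b.W_le_Q i (inv_mem hw)) m hm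
  rwa [inv_inv] at h6

end scalar

/-- a nontrivial section `B / A` has a nontrivial fixed point under a 2-group -/
theorem exists_fixed_mod [Finite G] {T B A : Subgroup G} (hT : IsPGroup 2 T) (hBT : B ≤ T)
    (hB : T ≤ normalizer (B : Set G)) (hA : T ≤ normalizer (A : Set G)) (hne : ¬ B ≤ A) :
    ∃ m ∈ B, m ∉ A ∧ ∀ t ∈ T, t * m * t⁻¹ * m⁻¹ ∈ A := by
  have : Fact (Nat.Prime 2) := ⟨Nat.prime_two⟩
  have hnA : (A.subgroupOf T).Normal := normal_subgroupOf_of_le_normalizer hA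
  have hnB : (B.subgroupOf T).Normal := normal_subgroupOf_of_le_normalizer hB
  have hp : IsPGroup 2 (T ⧸ A.subgroupOf T) := hT.to_quotient _
  have : Group.IsNilpotent (T ⧸ A.subgroupOf T) := hp.isNilpotent
  let N : Subgroup (T ⧸ A.subgroupOf T) := (B.subgroupOf T).map (QuotientGroup.mk' (A.subgroupOf T))
  have hN : N.Normal := hnB.map _ (QuotientGroup.mk'_surjective _)
  have hN1 : N ≠ ⊥ := by
    intro h
    apply hne
    intro x hx
    have h1 : QuotientGroup.mk' (A.subgroupOf T) ⟨x, hBT hx⟩ ∈ N := ⟨⟨x, hBT hx⟩, hx, rfl⟩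
    rw [h, mem_bot] at h1
    exact (QuotientGroup.eq_one_iff (⟨x, hBT hx⟩ : T)).1 h1
  have h2 := Lib.NormalAbelian.normal_inf_center_ne_bot N hN1
  obtain ⟨⟨y, hy⟩, hy1⟩ := Subgroup.ne_bot_iff_exists_ne_one.1 h2
  obtain ⟨⟨m, hm, rfl⟩, hyc⟩ := mem_inf.1 hy
  refine ⟨m, hm, fun h => hy1 ?_, fun t ht => ?_⟩
  · apply Subtype.ext
    exact (QuotientGroup.eq_one_iff m).2 h
  · have h3 := mem_center_iff.1 hyc (QuotientGroup.mk' (A.subgroupOf T) ⟨t, ht⟩)
    rw [← map_mul, ← map_mul] at h3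
    have h4 : QuotientGroup.mk' (A.subgroupOf T) (⟨t, ht⟩ * m * (⟨t, ht⟩ : T)⁻¹ * m⁻¹) = 1 := by
      rw [mul_assoc, map_mul, h3, ← map_mul]
      rw [show m * ⟨t, ht⟩ * ((⟨t, ht⟩ : T)⁻¹ * m⁻¹) = 1 by group, map_one]
    have h5 := (QuotientGroup.eq_one_iff ((⟨t, ht⟩ : T) * m * (⟨t, ht⟩ : T)⁻¹ * m⁻¹)).1 h4
    exact h5

/-- `C_G(z)` and `R`: the part of the argument after `O₂(C_G(z)) ≤ C(R i)` -/
theorem core [Finite G] (b : BT V R) {i : ι} {z : G} (hz : z ∈ R i) {T : Subgroup G}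
    (hO : O2 (centralizer {z}) ≤ centralizer (R i : Set G))
    (hOc : ∀ g ∈ centralizer {z}, g ∈ centralizer (O2 (centralizer {z}) : Set G) → g ∈ O2 (centralizer {z}))
    (hT : IsPGroup 2 T) (hTC : T ≤ centralizer (R i : Set G)) (hQT : QQ (R i) ≤ T)
    (hFr : ∀ n ∈ normalizer (R i : Set G), ∃ c ∈ centralizer (R i : Set G), c * n ∈ normalizer (T : Set G))
    (hE' : ∀ m ∈ V, ∀ t ∈ T, t * m * t⁻¹ * m⁻¹ ∈ R i)
    (hE : ∀ m ∈ QQ (R i), (∀ t ∈ T, t * m * t⁻¹ * m⁻¹ ∈ R i) → m ∈ V) :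
    O2 (centralizer {z}) ≤ QQ (R i) ∧
      O2 (centralizer {z}) ⊓ centralizer (O2 (centralizer {z}) : Set G) = R i ∧
      centralizer {z} ≤ normalizer (R i : Set G) := by
  have hCK : centralizer (R i : Set G) ≤ centralizer {z} := centralizer_le (Set.singleton_subset_iff.2 hz)
  set K := centralizer {z} with hK
  set O := O2 K with hOdef
  have hCN : centralizer (R i : Set G) ≤ normalizer (R i : Set G) := by
    refine le_normalizer_of fun k hk r hr => ?_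
    rw [← mem_centralizer_iff.1 hk r hr, mul_inv_cancel_right]
    exact hr
  have hOQ : O ≤ QQ (R i) :=
    le_O2_of_chain (A := O) (B := centralizer (R i : Set G)) (C := centralizer (R i : Set G)) hO le_rfl hCN
      (O2_isPGroup _) (fun g hg a ha => conj_mem_of_normalizer (le_normalizer_O2 K (hCK hg)) ha)
      (fun g hg a ha => mul_mem (mul_mem hg ha) (inv_mem hg))
      (fun g hg a ha => conj_mem_of_normalizer (normalizer_le_normalizer_centralizer _ hg) ha)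
  have hVK : ∀ a ∈ V, a ∈ K := by
    intro a ha
    rw [hK, mem_centralizer_iff]
    rintro _ rfl
    exact b.V_comm _ (b.R_le i hz) a ha
  have hRO : R i ≤ O := by
    intro a ha
    refine hOc a (hVK a (b.R_le i ha)) ?_
    rw [mem_centralizer_iff]
    intro o ho
    exact (mem_centralizer_iff.1 (hO ho) a ha).symm
  set B := O ⊓ centralizer (O : Set G) with hB
  have hRB : R i ≤ B := fun a ha => mem_inf.2 ⟨hRO ha, by
    rw [mem_centralizer_iff]
    intro o ho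
    exact (mem_centralizer_iff.1 (hO ho) a ha).symm⟩
  have hKO : K ≤ normalizer (O : Set G) := le_normalizer_O2 K
  have hKB : K ≤ normalizer (B : Set G) := by
    intro g hg
    rw [← cj_eq_self_iff, hB, cj_inf, ← centralizer_cj, cj_eq_self_iff.2 (hKO hg)]
  have hBR : B ≤ R i := by
    by_contra h
    obtain ⟨m, hmB, hmR, hmt⟩ := exists_fixed_mod hT (inf_le_left.trans (hOQ.trans hQT))
      (hTC.trans (hCK.trans hKB)) (hTC.trans hCN) h
    have hmV : m ∈ V := hE m (hOQ (mem_inf.1 hmB).1) hmt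
    have hOV : O ≤ centralizer (V : Set G) := by
      intro o ho
      obtain ⟨k, hk⟩ := b.R_cov m hmV
      have hki : k ≠ i := by rintro rfl; exact hmR hk
      have hoQ := hOQ ho
      obtain ⟨l, hl⟩ := b.perm o (b.Q_le_NV i hoQ) k
      have h1 : m ∈ R l := by
        rw [← hl, mem_cj]
        have := mem_centralizer_iff.1 (mem_inf.1 hmB).2 o ho
        rw [mul_assoc, ← this]
        rwa [inv_mul_cancel_left]
      have h2 : l = k := by
        by_contra h3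
        exact hmR (by rw [b.eq_one h3 h1 hk]; exact one_mem _)
      rw [h2] at hl
      exact b.mem_cen_Q hki hoQ hl
    have hVB : V ≤ B := by
      intro a ha
      have h1 : a ∈ centralizer (O : Set G) := by
        rw [mem_centralizer_iff]
        intro o ho
        exact (mem_centralizer_iff.1 (hOV ho) a ha).symm
      exact mem_inf.2 ⟨hOc a (hVK a ha) h1, h1⟩
    have hWB : WW V (R i) ≤ B := by
      refine iSup_le fun h => ?_
      obtain ⟨c, hc, hcn⟩ := hFr h h.2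
      set n := c * (h : G) with hn
      have hnR : n ∈ normalizer (R i : Set G) := mul_mem (hCN hc) h.2
      have hnV : n ∈ normalizer (V : Set G) := by
        refine mem_normalizer_of_conj fun a ha => ?_
        refine hE _ (conj_mem_of_normalizer (le_normalizer_O2 _ hnR) (b.V_Q i ha)) fun t ht => ?_
        have h1 := hE' a ha _ (conj_inv_mem_of_normalizer hcn ht)
        have h2 := conj_mem_of_normalizer hnR h1
        have e : n * (n⁻¹ * t * n * a * (n⁻¹ * t * n)⁻¹ * a⁻¹) * n⁻¹ =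
            t * (n * a * n⁻¹) * t⁻¹ * (n * a * n⁻¹)⁻¹ := by group
        rwa [e] at h2
      have e1 : (h : G) = c⁻¹ * n := by rw [hn, inv_mul_cancel_left]
      rw [e1, cj_mul, cj_eq_self_iff.2 hnV]
      have h3 := cj_mono (g := c⁻¹) hVB
      rwa [cj_eq_self_iff.2 (hKB (hCK (inv_mem hc)))] at h3
    obtain ⟨a, ha, ha1⟩ := b.exists_ne i
    obtain ⟨w, hw, y, hy, e⟩ := b.exists_comm i ha
    apply ha1
    rw [← e]
    have h4 := mem_centralizer_iff.1 (mem_inf.1 (hWB hw)).2 y (mem_inf.1 (hVB hy)).1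
    rw [← h4]
    group
  have hBeq : B = R i := le_antisymm hBR hRB
  exact ⟨hOQ, hBeq, by rw [← hBeq]; exact hKB⟩

variable {F : Type v} [Field F] [Finite F] [CharP F 2] {v : F → F → G} {w1 w2 : F → G}

/-- **THEOREM F6.** `V` natural, `R i` a point, `z ∈ R i ∩ Z(S)`, `S` any Sylow subgroup of `G` normalising `V` and
`R i` (field automorphisms allowed), `U j > D`, `C_{Q i / R i}(S ∩ C(R i)) ≤ V / R i`:
then `O₂(C_G(z)) ≤ Q i` has centre `R i` and `C_G(z) ≤ N_G(R i)`. -/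
theorem main [Finite G] (c : Coord V R i j v w1 w2) (b : BT V R) (hU : ¬ UU V R j ≤ DD V R) (S : Sylow 2 G)
    (hSV : (S : Subgroup G) ≤ normalizer (V : Set G)) (hSR : (S : Subgroup G) ≤ normalizer (R i : Set G))
    {z : G} (hz : z ∈ R i) (hzS : (S : Subgroup G) ≤ centralizer {z})
    (hOc : ∀ g ∈ centralizer {z}, g ∈ centralizer (O2 (centralizer {z}) : Set G) → g ∈ O2 (centralizer {z}))
    (hE : ∀ m ∈ QQ (R i), (∀ t ∈ (S : Subgroup G), t ∈ centralizer (R i : Set G) → t * m * t⁻¹ * m⁻¹ ∈ R i) →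
      m ∈ V) :
    O2 (centralizer {z}) ≤ QQ (R i) ∧
      O2 (centralizer {z}) ⊓ centralizer (O2 (centralizer {z}) : Set G) = R i ∧
      centralizer {z} ≤ normalizer (R i : Set G) := by
  have : Fact (Nat.Prime 2) := ⟨Nat.prime_two⟩
  have hCK : centralizer (R i : Set G) ≤ centralizer {z} := centralizer_le (Set.singleton_subset_iff.2 hz)
  have hCN : centralizer (R i : Set G) ≤ normalizer (R i : Set G) := by
    refine le_normalizer_of fun k hk r hr => ?_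
    rw [← mem_centralizer_iff.1 hk r hr, mul_inv_cancel_right]
    exact hr
  -- a normal 2-subgroup of a subgroup containing `S` is in `S`
  have hnS : ∀ {L A : Subgroup G}, (S : Subgroup G) ≤ L → A ≤ L → IsPGroup 2 A → L ≤ normalizer (A : Set G) →
      A ≤ S := by
    intro L A hSL hAL hA hn
    have h1 : IsPGroup 2 ((S : Subgroup G) ⊔ A : Subgroup G) := by
      have h2 : IsPGroup 2 (S.subgroupOf L ⊔ A.subgroupOf L : Subgroup L) := by
        have : (A.subgroupOf L).Normal := normal_subgroupOf_of_le_normalizer hn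
        exact IsPGroup.to_sup_of_normal_right (S.isPGroup'.comap_of_injective _ L.subtype_injective)
          (hA.comap_of_injective _ L.subtype_injective)
      have h3 := h2.map L.subtype
      rwa [Subgroup.map_sup, subgroupOf_map_subtype, subgroupOf_map_subtype, inf_eq_left.2 hSL,
        inf_eq_left.2 hAL] at h3
    rw [← S.is_maximal' h1 le_sup_left]
    exact le_sup_right
  have hOS : O2 (centralizer {z}) ≤ (S : Subgroup G) :=
    hnS hzS (O2_le _) (O2_isPGroup _) (le_normalizer_O2 _)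
  have hQS : QQ (R i) ≤ (S : Subgroup G) := hnS hSR (O2_le _) (O2_isPGroup _) (le_normalizer_O2 _)
  have hQC : QQ (R i) ≤ centralizer (R i : Set G) := by
    intro g hg
    rw [mem_centralizer_iff]
    intro r hr
    exact (b.QR i g hg r hr).symm
  have hO : O2 (centralizer {z}) ≤ centralizer (R i : Set G) := by
    refine O_le_cen c b hU (O2_isPGroup _) (hOS.trans hSV) (hOS.trans hSR) fun x hx g hg => ?_
    -- `[O, C(R i)] ≤ O ∩ C(R i) ≤ O₂(C(R i)) ≤ Q i`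
    have h1 : O2 (centralizer {z}) ⊓ centralizer (R i : Set G) ≤ QQ (R i) :=
      le_O2_of_chain (A := O2 (centralizer {z}) ⊓ centralizer (R i : Set G)) (B := centralizer (R i : Set G))
        (C := centralizer (R i : Set G)) inf_le_right le_rfl hCN
        ((O2_isPGroup _).to_le inf_le_left)
        (fun g hg a ha => mem_inf.2 ⟨conj_mem_of_normalizer (le_normalizer_O2 _ (hCK hg)) (mem_inf.1 ha).1,
          mul_mem (mul_mem hg (mem_inf.1 ha).2) (inv_mem hg)⟩)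
        (fun g hg a ha => mul_mem (mul_mem hg ha) (inv_mem hg))
        (fun g hg a ha => conj_mem_of_normalizer (normalizer_le_normalizer_centralizer _ hg) ha)
    apply h1
    refine mem_inf.2 ⟨?_, ?_⟩
    · have e : x * g * x⁻¹ * g⁻¹ = x * (g * x⁻¹ * g⁻¹) := by group
      rw [e]
      exact mul_mem hx (conj_mem_of_normalizer (le_normalizer_O2 _ (hCK hg)) (inv_mem hx))
    · exact mul_mem (conj_mem_of_normalizer (normalizer_le_normalizer_centralizer _ (hSR (hOS hx))) hg)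
        (inv_mem hg)
  have hSyl : StdEven.Syl.IsSyl (S : Subgroup G) (normalizer (R i : Set G)) :=
    ⟨hSR, S.isPGroup', fun X hX _ hle => S.is_maximal' hX hle⟩
  have hT := hSyl.inf_normal hCN (normalizer_le_normalizer_centralizer _)
  refine core b hz hO hOc hT.two hT.le (le_inf hQS hQC) (fun n hn => ?_) ?_ fun m hm h => ?_
  · exact hT.frattini (normalizer_le_normalizer_centralizer _ hn)
  · exact comm_mem c b hT.two (inf_le_left.trans hSV) inf_le_right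
      ((b.W_le_Q i).trans (le_inf hQS hQC))
  · exact hE m hm fun t ht ht' => h t (mem_inf.2 ⟨ht, ht'⟩)

end Cfsg.Agent.Omega.BTwo.Cz

end

section


/-!
# `U j > D`, and `C_G(r) ≤ N(R)` for all `r ∈ R#`, `R` TI (THEOREM F6, second part)

* `Cz.not_UU_le`: `U j > D` (`c ≥ 1`), from a Sylow 2-subgroup of `G` in `N(V) ∩ N(R i)`;
* `Cz.exists_move`: `N(V) ∩ N(R i)` is transitive on `R i - 1`;
* `Cz.tir`: `R i` is TI as soon as `C_G(z) ≤ N(R i)` for one `i` and one `1 ≠ z ∈ R i`.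
-/

set_option autoImplicit false

namespace Cfsg.Agent.Omega.BTwo.Cz

open Subgroup

universe u v w

variable {G : Type u} [Group G] {ι : Type w} {V : Subgroup G} {R : ι → Subgroup G} {i j : ι}

theorem le_or_le {A B C : Subgroup G} (h : ∀ x ∈ C, x ∈ A ∨ x ∈ B) : C ≤ A ∨ C ≤ B := by
  by_contra hcon
  rw [not_or, SetLike.not_le_iff_exists, SetLike.not_le_iff_exists] at hcon
  obtain ⟨⟨x, hx, hxA⟩, y, hy, hyB⟩ := hcon
  have hxB := (h x hx).resolve_left hxA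
  have hyA := (h y hy).resolve_right hyB
  rcases h _ (mul_mem hx hy) with h1 | h1
  · exact hxA ((mul_mem_cancel_right hyA).1 h1)
  · exact hyB ((mul_mem_cancel_left hxB).1 h1)

/-- `c ≥ 1` -/
theorem not_UU_le [Finite G] (b : BTC V R) (S : Sylow 2 G) (hij : i ≠ j)
    (hSV : (S : Subgroup G) ≤ normalizer (V : Set G)) (hSR : (S : Subgroup G) ≤ normalizer (R i : Set G)) :
    ¬ UU V R j ≤ DD V R := by
  intro hU
  have b' := b.toBT
  have hUk : ∀ k, UU V R k ≤ DD V R := by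
    intro k
    obtain ⟨x, hx, hxk⟩ := b'.trans_one j k
    rw [← b'.cj_UU hx hxk, ← cj_eq_self_iff.2 (b'.NV_le_ND hx)]
    exact cj_mono hU
  have hD : DD V R ≤ V := by
    intro d hd
    refine b.lam_inj hd fun y hy => ?_
    rw [b'.Y_eq hij] at hy
    have hyD : y ∈ DD V R := (sup_le (hUk i) (hUk j)) hy
    exact b'.lam_D hd hyD
  have hUV : ∀ k, UU V R k ≤ V := fun k => (hUk k).trans hD
  obtain ⟨h, hh, H⟩ := b'.mt i
  have hRV' : R i ≤ cj h V := by
    rw [← cj_eq_self_iff.2 hh]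
    exact cj_mono (b'.R_le i)
  have key : ∀ x ∈ WW V (R i), x * x = 1 → x ∈ V ∨ x ∈ cj h V := by
    intro x hx hx2
    obtain ⟨v, hv, hxv⟩ := b'.W_fact (fun j k hj hk => (H j k hj hk).1) hh hx
    have hv0 := hUV i hxv
    set a := h * v * h⁻¹ with ha
    set v0 := a⁻¹ * x with hv0def
    have haV : a ∈ cj h V := conj_mem_cj hv
    have haW : a ∈ WW V (R i) := cj_le_WW hh haV
    have e : x = a * v0 := by rw [hv0def, mul_inv_cancel_left]
    by_cases hR : v0 ∈ R i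
    · right
      rw [e]
      exact mul_mem haV (hRV' hR)
    · left
      obtain ⟨k, hk⟩ := b'.R_cov v0 hv0
      have hki : k ≠ i := by rintro rfl; exact hR hk
      have ha2 : a * a = 1 := by
        rw [ha]
        have : h * v * h⁻¹ * (h * v * h⁻¹) = h * (v * v) * h⁻¹ := by group
        rw [this, b'.V_sq v hv, mul_one, mul_inv_cancel]
      have hcom : a * v0 = v0 * a := by
        rw [e] at hx2
        have h1 : a * v0 = v0⁻¹ * a⁻¹ := by
          rw [← mul_inv_rev, eq_inv_iff_mul_eq_one]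
          exact hx2
        rw [h1, b'.inv_eq hv0, inv_eq_of_mul_eq_one_left ha2]
      obtain ⟨l, hl⟩ := b'.perm a (b'.W_le_NV i haW) k
      have h1 : v0 ∈ R l := by
        rw [← hl, mem_cj, mul_assoc, ← hcom, inv_mul_cancel_left]
        exact hk
      have h2 : l = k := by
        by_contra h3
        exact hR (by rw [b'.eq_one h3 h1 hk]; exact one_mem _)
      rw [h2] at hl
      rw [e]
      exact mul_mem (hUV i (b'.mem_cen hki haW hl)) hv0
  have hcard : ∀ n, Nat.card (cj n V) = Nat.card V := fun n => card_cj n V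
  have two : ∀ n ∈ normalizer (R i : Set G), cj n V = V ∨ cj n V = cj h V := by
    intro n hn
    have h1 : ∀ x ∈ cj n V, x ∈ V ∨ x ∈ cj h V := by
      intro x hx
      refine key x (cj_le_WW hn hx) ?_
      rw [mem_cj] at hx
      have h2 := b'.V_sq _ hx
      have e : x * x = n * (n⁻¹ * x * n * (n⁻¹ * x * n)) * n⁻¹ := by group
      rw [e, h2, mul_one, mul_inv_cancel]
    rcases le_or_le h1 with h2 | h2
    · exact Or.inl (eq_of_le_of_card_ge h2 (hcard n).ge)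
    · exact Or.inr (eq_of_le_of_card_ge h2 (by rw [hcard n, hcard h]))
  have hne : cj h V ≠ V := by
    intro hcon
    obtain ⟨j', hj', -⟩ := b'.third i i
    obtain ⟨k, hki, hkj⟩ := b'.third i j'
    obtain ⟨⟨v, hv, hvk⟩, -⟩ := H j' k hj' hki
    have h1 : h * v * h⁻¹ ∈ V := by rw [← hcon]; exact conj_mem_cj hv
    have h2 : cj (h * v * h⁻¹) (R j') = R j' :=
      cj_eq_self_iff.2 (b'.cen_le_N j' (b'.V_le_cen h1))
    rw [h2] at hvk
    exact hkj (b'.R_index hvk).symm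
  have hrel : (normalizer (V : Set G) ⊓ normalizer (R i : Set G)).relIndex (normalizer (R i : Set G)) = 2 := by
    rw [relIndex_eq_two_iff]
    refine ⟨h, hh, fun n hn => ?_⟩
    by_cases h1 : n ∈ normalizer (V : Set G)
    · refine Or.inr ⟨⟨h1, hn⟩, fun h2 => hne ?_⟩
      have h3 : cj (n * h) V = V := cj_eq_self_iff.2 h2.1
      rw [cj_mul] at h3
      exact cj_injective (h3.trans (cj_eq_self_iff.2 h1).symm)
    · refine Or.inl ⟨⟨?_, mul_mem hn hh⟩, fun h2 => h1 h2.1⟩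
      have h2 : cj n V = cj h V := (two n hn).resolve_left fun h3 => h1 (cj_eq_self_iff.1 h3)
      change n * h ∈ normalizer (V : Set G)
      rw [← cj_eq_self_iff]
      rcases two _ (mul_mem hn hh) with h3 | h3
      · exact h3
      · exfalso
        rw [← h2, cj_mul] at h3
        exact hne (cj_injective h3)
  have h1 := relIndex_dvd_of_le_left (L := normalizer (R i : Set G)) (le_inf hSV hSR)
  rw [hrel] at h1
  have : Fact (Nat.Prime 2) := ⟨Nat.prime_two⟩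
  exact S.not_dvd_index (h1.trans (relIndex_dvd_index_of_le hSR))

variable {F : Type v} [Field F] [CharP F 2] {v : F → F → G} {w1 w2 : F → G}

/-- `N(V) ∩ N(R i)` is transitive on `R i - 1` -/
theorem exists_move (c : Coord V R i j v w1 w2) (b : BT V R) {r r' : G} (hr : r ∈ R i) (hr1 : r ≠ 1)
    (hr' : r' ∈ R i) (hr1' : r' ≠ 1) :
    ∃ n ∈ normalizer (R i : Set G), n ∈ normalizer (V : Set G) ∧ n * r * n⁻¹ = r' := by
  obtain ⟨p, rfl⟩ := (c.mem_R1 r).1 hr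
  obtain ⟨q, rfl⟩ := (c.mem_R1 r').1 hr'
  have hp : p ≠ 0 := by rintro rfl; exact hr1 c.v_zero
  have hq : q ≠ 0 := by rintro rfl; exact hr1' c.v_zero
  have ha : q * p⁻¹ ≠ 0 := mul_ne_zero hq (inv_ne_zero hp)
  refine ⟨hh w1 w2 (q * p⁻¹), cj_eq_self_iff.1 (c.hh_R1 b ha), b.X_le_NV (c.hh_mem_X b _), ?_⟩
  rw [c.hh_act ha, mul_zero, mul_assoc, inv_mul_cancel₀ hp, mul_one]

/-- `C_G(r) ≤ N(R k)` for all `1 ≠ r ∈ R k`, all `k` -/
theorem cen_le (c : ∀ i j : ι, i ≠ j → ∃ (v : F → F → G) (w1 w2 : F → G), Coord V R i j v w1 w2) (b : BT V R)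
    {z : G} (hz : z ∈ R i) (hz1 : z ≠ 1) (h : centralizer {z} ≤ normalizer (R i : Set G)) :
    ∀ k, ∀ r ∈ R k, r ≠ 1 → centralizer {r} ≤ normalizer (R k : Set G) := by
  -- conjugation
  have hcj : ∀ (x r : G) (k l : ι), cj x (R k) = R l → centralizer {r} ≤ normalizer (R k : Set G) →
      centralizer {x * r * x⁻¹} ≤ normalizer (R l : Set G) := by
    intro x r k l hx hr y hy
    rw [← hx, normalizer_cj, mem_cj]
    apply hr
    rw [mem_centralizer_iff]
    intro s hs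
    rw [Set.mem_singleton_iff.1 hs]
    have h1 := mem_centralizer_iff.1 hy _ (Set.mem_singleton _)
    have h2 : x⁻¹ * (x * r * x⁻¹ * y) * x = x⁻¹ * (y * (x * r * x⁻¹)) * x := by rw [h1]
    calc r * (x⁻¹ * y * x) = x⁻¹ * (x * r * x⁻¹ * y) * x := by group
      _ = x⁻¹ * (y * (x * r * x⁻¹)) * x := h2
      _ = x⁻¹ * y * x * r := by group
  intro k r hr hr1
  obtain ⟨x, hx, hxk⟩ := b.trans_one k i
  obtain ⟨l, hl, -⟩ := b.third i i
  obtain ⟨v, w1, w2, c'⟩ := c i l (Ne.symm hl)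
  have h1 : x * r * x⁻¹ ∈ R i := by rw [← hxk]; exact conj_mem_cj hr
  have h2 : x * r * x⁻¹ ≠ 1 := by
    intro h2
    apply hr1
    have : r = x⁻¹ * (x * r * x⁻¹) * x := by group
    rw [this, h2]; group
  obtain ⟨n, hn, -, hnz⟩ := exists_move c' b hz hz1 h1 h2
  have h3 := hcj n z i i (cj_eq_self_iff.2 hn) h
  rw [hnz] at h3
  have h4 := hcj x⁻¹ _ i k (by rw [← hxk, cj_inv_cj]) h3
  have e : x⁻¹ * (x * r * x⁻¹) * x⁻¹⁻¹ = r := by group
  rwa [e] at h4

/-- `R k` is TI -/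
theorem tir (c : ∀ i j : ι, i ≠ j → ∃ (v : F → F → G) (w1 w2 : F → G), Coord V R i j v w1 w2) (b : BT V R)
    {z : G} (hz : z ∈ R i) (hz1 : z ≠ 1) (h : centralizer {z} ≤ normalizer (R i : Set G)) (k : ι) (g r : G)
    (hr : r ∈ R k) (hr1 : r ≠ 1) (hg : g * r * g⁻¹ ∈ R k) : g ∈ normalizer (R k : Set G) := by
  obtain ⟨l, hl, -⟩ := b.third k k
  obtain ⟨v, w1, w2, c'⟩ := c k l (Ne.symm hl)
  have h2 : g * r * g⁻¹ ≠ 1 := by
    intro h2
    apply hr1
    have : r = g⁻¹ * (g * r * g⁻¹) * g := by group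
    rw [this, h2]; group
  obtain ⟨n, hn, -, hnz⟩ := exists_move c' b hg h2 hr hr1
  have h3 : n * g ∈ centralizer {r} := by
    rw [mem_centralizer_iff]
    intro s hs
    rw [Set.mem_singleton_iff.1 hs]
    have e : n * (g * r * g⁻¹) * n⁻¹ = n * g * r * (n * g)⁻¹ := by group
    rw [e] at hnz
    exact (mul_inv_eq_iff_eq_mul.1 hnz).symm
  have h4 := cen_le c b hz hz1 h k r hr hr1 h3
  have h5 := mul_mem (inv_mem hn) h4
  rwa [inv_mul_cancel_left] at h5

end Cfsg.Agent.Omega.BTwo.Cz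

end

end

-- merged: Cfsg.Agent.Mrg.Omega.IIa4.Sit
section

section


/-!
# II.a, `q ≥ 4`: the situation of `FrameFF.LeafA4` in the language of `BTwo`

`Sit S P g M`: the hypotheses of `LeafA4` (without the class `K`); `V = zl S P`, points `pt M i`.
Derived: `Sit.btc`, `Sit.exists_coord`, `Sit.exists_torD`, `Sit.semi` (from `Perf`).
-/

set_option autoImplicit false
set_option linter.unusedSectionVars false

namespace Cfsg.Agent.Omega.IIa4

open Subgroup Cfsg Cfsg.Agent.ZN Cfsg.Agent.Lib.SL2Mat Cfsg.Agent.Omega.NatPair Cfsg.Agent.Omega.BTwo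
open Cfsg.Agent.Omega.Frame Cfsg.Agent.Omega.FrameLE Cfsg.Agent.Omega.FrameFF

universe u

/-- the hypotheses of `FrameFF.LeafA4` -/
structure Sit {G : Type u} [Group G] [Finite G] (S : Sylow 2 G) (P : Subgroup G) (g : G) {F : Type} [Field F]
    [Finite F] [CharP F 2] (M : NatMod F (zl (S : Subgroup G) P)) : Prop where
  ctx : Ctx G
  full : Full (S : Subgroup G)
  allIn : AllIn (S : Subgroup G)
  allFree : AllFree (S : Subgroup G)
  min : MinSame (S : Subgroup G) P g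
  four : 4 ≤ Nat.card F

/-- `[⟨A^{N(R i)}⟩, ⟨A^{N(R i)}⟩] Q i ≥ A`, `A = U j` : the normal closure of `A` in `N(R i) / Q i` is perfect -/
def Perf {G : Type*} [Group G] {ι : Type*} (V : Subgroup G) (R : ι → Subgroup G) (i j : ι) : Prop :=
  UU V R j ≤ ⁅(⨆ h : normalizer (R i : Set G), BTwo.cj (h : G) (UU V R j)),
    (⨆ h : normalizer (R i : Set G), BTwo.cj (h : G) (UU V R j))⁆ ⊔ QQ (R i)

/-- `O₂(N(R)) = W_R` is semi-extraspecial: `C(W k) = R k`, `Q k = W k` -/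
def SemiOut {G : Type*} [Group G] {ι : Type*} (V : Subgroup G) (R : ι → Subgroup G) : Prop :=
  ∀ k, centralizer (WW V (R k) : Set G) = R k ∧ QQ (R k) = WW V (R k)

namespace Sit

variable {G : Type u} [Group G] [Finite G] {S : Sylow 2 G} {P : Subgroup G} {g : G} {F : Type} [Field F]
  [Finite F] [CharP F 2] {M : NatMod F (zl (S : Subgroup G) P)} (h : Sit S P g M)
include h

theorem isParS : MinPar.IsParS (S : Subgroup G) P := h.min.pair.star₁

theorem pr : NatPair.Mutual (zl (S : Subgroup G) P) (NatPair.cj g (zl (S : Subgroup G) P)) where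
  le := h.min.pair.le₂
  le' := h.min.pair.le₁
  ne := by
    by_contra hcon
    push Not at hcon
    apply h.min.pair.ne
    rw [eq_bot_iff, commutator_le]
    intro v hv w hw
    rw [mem_bot, commutatorElement_eq_one_iff_mul_comm]
    exact hcon v hv w hw

theorem le_N : (S : Subgroup G) ≤ normalizer (zl (S : Subgroup G) P : Set G) :=
  h.isParS.le.trans (MinSimple.VModule.le_normalizer_zl _ _)

theorem P_le_N : P ≤ normalizer (zl (S : Subgroup G) P : Set G) := MinSimple.VModule.le_normalizer_zl _ _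

theorem zc_le : zc (S : Subgroup G) ≤ zl (S : Subgroup G) P := MinSimple.VModule.zc_le_zl _ _

theorem cen_mem : ∀ z ∈ (S : Subgroup G), z * z = 1 → (∀ s ∈ (S : Subgroup G), s * z = z * s) →
    z ∈ zl (S : Subgroup G) P := fun z hz hz2 hzc =>
  h.zc_le (MinSimple.VModule.mem_zc.2 ⟨hz, hzc, by rw [pow_two]; exact hz2⟩)

theorem btc_aux : zl (S : Subgroup G) P ≤ QQ (zl (S : Subgroup G) P ⊓ NatPair.cj g (zl (S : Subgroup G) P)) ∧
    BTC (zl (S : Subgroup G) P) (pt M) := IIa4.btc h.ctx.char2 M S h.le_N h.cen_mem h.pr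

/-- `b = 2` -/
theorem V_le_QQ : zl (S : Subgroup G) P ≤ QQ (zl (S : Subgroup G) P ⊓ NatPair.cj g (zl (S : Subgroup G) P)) :=
  h.btc_aux.1

theorem btc : BTC (zl (S : Subgroup G) P) (pt M) := h.btc_aux.2

theorem bt : BT (zl (S : Subgroup G) P) (pt M) := h.btc.toBT

theorem exists_ne : ∃ a : F, a ≠ 0 ∧ a ≠ 1 := by
  by_contra hcon
  push Not at hcon
  have h1 : Set.univ ⊆ ({0, 1} : Set F) := fun a _ => by
    by_cases ha : a = 0
    · exact Or.inl ha
    · exact Or.inr (hcon a ha)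
  have h2 := Set.ncard_le_ncard h1
  rw [Set.ncard_pair zero_ne_one, Set.ncard_univ] at h2
  have := h.four
  omega

/-- coordinates at two points -/
theorem exists_coord {i j : Pt M} (hij : i ≠ j) :
    ∃ (v : F → F → G) (w1 w2 : F → G), Coord (zl (S : Subgroup G) P) (pt M) i j v w1 w2 := by
  obtain ⟨w, u, -, -, -, w1, w2, c⟩ := BTwo.exists_coord M S h.le_N h.pr h.V_le_QQ hij
  exact ⟨_, w1, w2, c⟩

/-- the torus at two points -/
theorem exists_torD {i j : Pt M} {v : F → F → G} {w1 w2 : F → G}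
    (c : Coord (zl (S : Subgroup G) P) (pt M) i j v w1 w2) :
    ∃ t : F → G, Lie.TorD (zl (S : Subgroup G) P) (pt M) i j v t :=
  Lie.coord_exists_torD h.bt c (h.btc.cen_W_isPGroup i)

theorem semi {i j : Pt M} (hij : i ≠ j) (hp : Perf (zl (S : Subgroup G) P) (pt M) i j) :
    SemiOut (zl (S : Subgroup G) P) (pt M) := by
  obtain ⟨v, w1, w2, c⟩ := h.exists_coord hij
  exact fun k => c.semi h.btc h.exists_ne hp k

theorem exists_pair : ∃ i j : Pt M, i ≠ j := by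
  have h1 : (![1, 0] : Fin 2 → F) ≠ 0 := fun h0 => one_ne_zero (congrFun h0 0)
  obtain ⟨j, hj, -⟩ := h.bt.third ⟨M.line ![1, 0], _, h1, rfl⟩ ⟨M.line ![1, 0], _, h1, rfl⟩
  exact ⟨_, _, hj⟩

end Sit

end Cfsg.Agent.Omega.IIa4

end

section


/-!
# II.a, `q ≥ 4`: `⟨N(V), N(R)⟩ = G` from the TI property (`IIa4.AllP`)

`All.sup_eq_top` (helper221) and `All.mixed` (helper942) in the situation `Sit`.
-/

set_option autoImplicit false
set_option linter.unusedSectionVars false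

namespace Cfsg.Agent.Omega.IIa4

open Subgroup Cfsg Cfsg.Agent.ZN Cfsg.Agent.Omega.NatPair Cfsg.Agent.Omega.BTwo
open Cfsg.Agent.Omega.Frame Cfsg.Agent.Omega.FrameLE Cfsg.Agent.Omega.FrameFF

universe u

variable {G : Type u} [Group G] [Finite G]

/-- conjugating a mutual pair -/
theorem mutual_smul {V U : Subgroup G} {h : G} (H : NatPair.Mutual (NatPair.cj h V) U) :
    NatPair.Mutual V (NatPair.cj h⁻¹ U) where
  le := by
    intro x hx
    rw [NatPair.mem_cj, inv_inv] at hx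
    have h1 := H.le hx
    rw [mem_normalizer_iff] at h1 ⊢
    intro v
    have h2 := h1 (h * v * h⁻¹)
    rw [NatPair.mem_cj, NatPair.mem_cj] at h2
    have e1 : h⁻¹ * (h * v * h⁻¹) * h = v := by group
    have e2 : h⁻¹ * (h * x * h⁻¹ * (h * v * h⁻¹) * (h * x * h⁻¹)⁻¹) * h = x * v * x⁻¹ := by group
    rwa [e1, e2] at h2
  le' := by
    intro v hv
    have h1 := H.le' (show h * v * h⁻¹ ∈ NatPair.cj h V by
      rw [NatPair.mem_cj]
      have : h⁻¹ * (h * v * h⁻¹) * h = v := by group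
      rwa [this])
    rw [mem_normalizer_iff] at h1 ⊢
    intro x
    rw [NatPair.mem_cj, NatPair.mem_cj, inv_inv]
    have h2 := h1 (h * x * h⁻¹)
    have e2 : h * v * h⁻¹ * (h * x * h⁻¹) * (h * v * h⁻¹)⁻¹ = h * (v * x * v⁻¹) * h⁻¹ := by group
    rwa [e2] at h2
  ne := by
    obtain ⟨v, hv, w, hw, hne⟩ := H.ne
    rw [NatPair.mem_cj] at hv
    refine ⟨_, hv, h⁻¹ * w * h, ?_, ?_⟩
    · rw [NatPair.mem_cj, inv_inv]
      have : h * (h⁻¹ * w * h) * h⁻¹ = w := by group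
      rwa [this]
    · intro h1
      apply hne
      have h2 := congrArg (fun t => h * t * h⁻¹) h1
      have e1 : h * (h⁻¹ * v * h * (h⁻¹ * w * h)) * h⁻¹ = v * w := by group
      have e2 : h * (h⁻¹ * w * h * (h⁻¹ * v * h)) * h⁻¹ = w * v := by group
      simp only [e1, e2] at h2
      exact h2

/-- `All.Mix` for a member `P'` of a mutual pair with one natural factor and `C_{V'}(O²(P')) = 1` -/
theorem mix_of {F : Type*} [Field F] [Finite F] [CharP F 2] (S : Sylow 2 G) {A : Subgroup G} (M : NatMod F A)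
    {P' : Subgroup G} (hP : MinPar.IsParS (S : Subgroup G) P') (hs : Single (S : Subgroup G) P')
    (hf : Free (S : Subgroup G) P') (hU : zl (S : Subgroup G) P' ≤ (S : Subgroup G)) (hA : A ≤ (S : Subgroup G))
    (h : NatPair.Mutual A (zl (S : Subgroup G) P')) : All.Mix (S : Subgroup G) (zl (S : Subgroup G) P') M := by
  obtain ⟨F', hF1, hF2, hF3, ⟨N⟩⟩ := hs
  rw [hf] at N
  have hSP : (S : Subgroup G) ≤ P' := hP.le
  have hPU : P' ≤ normalizer (zl (S : Subgroup G) P' : Set G) := MinSimple.VModule.le_normalizer_zl _ _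
  obtain ⟨-, hcard, -, hlast⟩ := All.mixed_pair S M N hSP hPU (hU.trans hSP) (hA.trans hSP) h
  obtain ⟨-, w, w', hw, -, hl, -⟩ := All.mixed M (All.natOf N (hU.trans hSP) hPU) (hU.trans hSP) (hA.trans hSP) hPU h
  refine ⟨w, hw.ne, hl, ?_, hcard, hlast⟩
  intro r hr
  rw [hl] at hr
  obtain ⟨a, ha, v, hv, hav⟩ := hw.comm' r⁻¹ (inv_mem hr)
  refine ⟨v, hv, a, ha, ?_⟩
  have e : v * a * v⁻¹ * a⁻¹ = (a * v * a⁻¹ * v⁻¹)⁻¹ := by group
  rw [e, hav, inv_inv]

/-- the point normalised by `S` -/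
theorem exists_fixed {V : Subgroup G} {ι : Type*} {R : ι → Subgroup G} (b : BT V R) {S : Subgroup G}
    (hS : S ≤ normalizer (V : Set G)) {z : G} (hz : z ∈ V) (hz1 : z ≠ 1) (hc : ∀ s ∈ S, s * z = z * s) :
    ∃ i, z ∈ R i ∧ S ≤ normalizer (R i : Set G) := by
  obtain ⟨i, hi⟩ := b.R_cov z hz
  refine ⟨i, hi, fun s hs => ?_⟩
  obtain ⟨k, hk⟩ := b.perm s (hS hs) i
  have h1 : z ∈ R k := by
    rw [← hk, BTwo.mem_cj]
    have h2 : s⁻¹ * z * s = z := by rw [mul_assoc, ← hc s hs]; group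
    rwa [h2]
  by_cases hki : k = i
  · rw [hki] at hk
    exact cj_eq_self_iff.1 hk
  · exact absurd (b.eq_one hki h1 hi) hz1

variable {S : Sylow 2 G} {P : Subgroup G} {g : G} {F : Type} [Field F] [Finite F] [CharP F 2]
  {M : NatMod F (zl (S : Subgroup G) P)}

/-- `zc S ≤ R i` for the point `R i` normalised by `S` -/
theorem Sit.zc_le_pt (h : Sit S P g M) {i : Pt M} (hi : (S : Subgroup G) ≤ normalizer (pt M i : Set G)) :
    zc (S : Subgroup G) ≤ pt M i := by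
  obtain ⟨_, w, hw, rfl⟩ := i
  intro z hz
  have hz' := MinSimple.VModule.mem_zc.1 hz
  exact M.cent_le_of_sylow S h.le_N hw hi ⟨mem_centralizer_iff.2 fun s hs => hz'.2.1 s hs, h.zc_le hz⟩

/-- **the input of THEOREM ALL** -/
theorem Sit.inp (h : Sit S P g M) {i : Pt M} (hi : (S : Subgroup G) ≤ normalizer (pt M i : Set G))
    (hsemi : SemiOut (zl (S : Subgroup G) P) (pt M)) (hcen : ∀ x ∈ WW (zl (S : Subgroup G) P) (pt M i),
      (∀ s ∈ (S : Subgroup G), s ∈ centralizer (pt M i : Set G) → s * x * s⁻¹ * x⁻¹ ∈ pt M i) →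
        x ∈ zl (S : Subgroup G) P)
    (hti : ∀ g r : G, r ∈ pt M i → r ≠ 1 → g * r * g⁻¹ ∈ pt M i → g ∈ normalizer (pt M i : Set G)) :
    All.Inp (S : Subgroup G) (zl (S : Subgroup G) P) (pt M i) (WW (zl (S : Subgroup G) P) (pt M i)) where
  allIn := h.allIn
  VS := (h.allIn P h.isParS).trans (All.o2_CZ_le S)
  SV := h.le_N
  comm := h.bt.V_comm
  RV := h.bt.R_le i
  SR := hi
  ZR := h.zc_le_pt hi
  ti := hti
  W_eq := (hsemi i).2.symm
  W_cen := fun w hw => by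
    rw [mem_centralizer_iff]
    exact fun r hr => (h.bt.QR i w (h.bt.W_le_Q i hw) r hr).symm
  VW := fun x hx => BTwo.cj_le_WW hx
  W_gen := fun X hX => iSup_le fun x => hX x x.2
  WW := fun a ha b hb => h.bt.WW_comm i ha hb
  cenW := (hsemi i).1.le
  line := hcen

open Pointwise in
/-- **`⟨N(V), N(R)⟩ = G`** (`IIa4.AllP`) -/
theorem Sit.genVR (h : Sit S P g M) (hsemi : SemiOut (zl (S : Subgroup G) P) (pt M))
    (hcen : ∀ (i : Pt M) (S₁ : Sylow 2 G), (S₁ : Subgroup G) ≤ normalizer (zl (S : Subgroup G) P : Set G) →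
      (S₁ : Subgroup G) ≤ normalizer (pt M i : Set G) → ∀ x ∈ WW (zl (S : Subgroup G) P) (pt M i),
        (∀ s ∈ (S₁ : Subgroup G), s ∈ centralizer (pt M i : Set G) → s * x * s⁻¹ * x⁻¹ ∈ pt M i) →
          x ∈ zl (S : Subgroup G) P)
    (hti : ∀ (i : Pt M) (g r : G), r ∈ pt M i → r ≠ 1 → g * r * g⁻¹ ∈ pt M i →
      g ∈ normalizer (pt M i : Set G)) (i : Pt M) {Y : Subgroup G}
    (hV : normalizer (zl (S : Subgroup G) P : Set G) ≤ Y) (hR : normalizer (pt M i : Set G) ≤ Y) : Y = ⊤ := by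
  have hZ : zc (S : Subgroup G) ≠ ⊥ := by
    refine MinSimple.Basic.zc_ne_bot S.isPGroup' fun h0 => h.bt.R_ne i (eq_bot_iff.2 ?_)
    exact ((h.bt.R_le i).trans ((h.allIn P h.isParS).trans (All.o2_CZ_le S))).trans_eq h0
  obtain ⟨z, hz1⟩ := Subgroup.ne_bot_iff_exists_ne_one.1 hZ
  have hz := MinSimple.VModule.mem_zc.1 z.2
  obtain ⟨i₀, -, hi₀⟩ := exists_fixed h.bt h.le_N (h.zc_le z.2) (fun h0 => hz1 (Subtype.ext h0)) hz.2.1
  have I := h.inp hi₀ hsemi (hcen i₀ S h.le_N hi₀) (hti i₀)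
  -- the point `i₀` is conjugate to `i` under `N(V)`
  have hR₀ : normalizer (pt M i₀ : Set G) ≤ Y := by
    obtain ⟨x, hx, hxR⟩ := h.bt.trans_one i i₀
    rw [← hxR, BTwo.normalizer_cj, cj_le_iff]
    intro y hy
    exact mul_mem (mul_mem (hV hx) (hR hy)) (inv_mem (hV hx))
  obtain ⟨w₀, hw₀, hw₀'⟩ := i₀.2
  rw [eq_top_iff, ← All.sup_eq_top S I h.ctx.char2 M (w₀ := w₀) hw₀' hZ ?_ h.full]
  · exact sup_le hR₀ hV
  · intro P' hP' x hx hxS hmut
    have hS' : zl (S : Subgroup G) P' ≤ (S : Subgroup G) := (h.allIn P' hP').trans (All.o2_CZ_le S)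
    have hm' := mutual_smul hmut
    have hm : Mutual (S : Subgroup G) P P' x⁻¹ :=
      { star₁ := h.isParS
        star₂ := hP'
        le₁ := hm'.le'
        le₂ := hm'.le
        ne := by
          obtain ⟨v, hv, w, hw, hne⟩ := hm'.ne
          intro h0
          apply hne
          have h1 := commutator_mem_commutator hv (show w ∈ MulAut.conj x⁻¹ • zl (S : Subgroup G) P' from hw)
          rw [h0, mem_bot, commutatorElement_eq_one_iff_mul_comm] at h1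
          exact h1 }
    exact mix_of S (M.conj x) hP' (h.allFree.1 _ _ _ hm).2 (h.allFree.2 _ _ _ hm).2 hS' hxS hmut

end Cfsg.Agent.Omega.IIa4

end

section


/-!
# II.a, `q ≥ 4`: `R` is a TI-set and `C_G(r) ≤ N_G(R)` (THEOREM TIR / F6 in the situation `Sit`)

`Sit.cen_le`, `Sit.tir`: the literal content of `IIa4.TIRP` (`Omega/Node/LeafA4.lean`).
-/

set_option autoImplicit false
set_option linter.unusedSectionVars false

namespace Cfsg.Agent.Omega.IIa4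

open Subgroup Cfsg Cfsg.Agent.ZN Cfsg.Agent.Lib.SL2Mat Cfsg.Agent.Omega.NatPair Cfsg.Agent.Omega.BTwo
open Cfsg.Agent.Omega.Frame Cfsg.Agent.Omega.FrameLE Cfsg.Agent.Omega.FrameFF

universe u

namespace Sit

variable {G : Type u} [Group G] [Finite G] {S : Sylow 2 G} {P : Subgroup G} {g : G} {F : Type} [Field F]
  [Finite F] [CharP F 2] {M : NatMod F (zl (S : Subgroup G) P)} (h : Sit S P g M)
include h

/-- a point containing a central involution of `S`, with `C_G(z) ≤ N_G(R)` -/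
theorem exists_cen (hs : SemiOut (zl (S : Subgroup G) P) (pt M))
    (hC : ∀ (i : Pt M) (S₁ : Sylow 2 G), (S₁ : Subgroup G) ≤ normalizer (zl (S : Subgroup G) P : Set G) →
      (S₁ : Subgroup G) ≤ normalizer (pt M i : Set G) →
      ∀ x ∈ WW (zl (S : Subgroup G) P) (pt M i), (∀ s ∈ (S₁ : Subgroup G), s ∈ centralizer (pt M i : Set G) →
        s * x * s⁻¹ * x⁻¹ ∈ pt M i) → x ∈ zl (S : Subgroup G) P) :
    ∃ (i : Pt M) (z : G), z ∈ pt M i ∧ z ≠ 1 ∧ centralizer {z} ≤ normalizer (pt M i : Set G) := by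
  have b := h.btc
  have b' := h.bt
  have hS1 : (S : Subgroup G) ≠ ⊥ := h.ctx.sylow_ne_bot S
  obtain ⟨z, hz, hzS, hz2, hzc, hz1⟩ := exists_central S (T := (S : Subgroup G)) le_rfl le_normalizer hS1
  have hzV : z ∈ zl (S : Subgroup G) P := h.cen_mem z hzS hz2 hzc
  obtain ⟨i, hi⟩ := b'.R_cov z hzV
  have hSR : (S : Subgroup G) ≤ normalizer (pt M i : Set G) := by
    intro s hs
    obtain ⟨k, hk⟩ := b'.perm s (h.le_N hs) i
    have h1 : z ∈ pt M k := by
      rw [← hk, BTwo.mem_cj, mul_assoc, ← hzc s hs, inv_mul_cancel_left]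
      exact hi
    have h2 : k = i := by
      by_contra h3
      exact hz1 (b'.eq_one h3 h1 hi)
    rw [h2] at hk
    exact BTwo.cj_eq_self_iff.1 hk
  have hzK : (S : Subgroup G) ≤ centralizer {z} := by
    intro s hs
    rw [mem_centralizer_iff]
    intro t ht
    rw [Set.mem_singleton_iff.1 ht]
    exact (hzc s hs).symm
  obtain ⟨j, hj, -⟩ := b'.third i i
  obtain ⟨v, w1, w2, c⟩ := h.exists_coord (Ne.symm hj)
  have hne : ZN.o2 (centralizer {z}) ≠ ⊥ := by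
    intro h0
    apply hz1
    have h1 : zpowers z ≤ O2 (centralizer {z}) := by
      refine le_O2_of_normal ?_ ?_ ?_
      · rw [zpowers_le, mem_centralizer_iff]
        intro t ht
        rw [Set.mem_singleton_iff.1 ht]
      · exact S.isPGroup'.to_le (zpowers_le.2 hzS)
      · intro g hg a ha
        obtain ⟨n, rfl⟩ := mem_zpowers_iff.1 ha
        have h2 : g * z = z * g := (mem_centralizer_iff.1 hg z (Set.mem_singleton _)).symm
        have h3 : g * z ^ n = z ^ n * g := (show Commute g z from h2).zpow_right n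
        rw [h3, mul_inv_cancel_right]
        exact ha
    have h2 : z ∈ ZN.o2 (centralizer {z}) := h1 (mem_zpowers z)
    rw [h0, mem_bot] at h2
    exact h2
  have hch := MinSimple.Basic.char2_of_o2_ne_bot h.ctx.char2 S hzK hne
  refine ⟨i, z, hi, hz1, ?_⟩
  refine (Cz.main c b' (Cz.not_UU_le b S (Ne.symm hj) h.le_N hSR) S h.le_N hSR hi hzK
    (fun g hg hgc => hch (mem_inf.2 ⟨hg, hgc⟩)) fun m hm hmt => ?_).2.2
  rw [(hs i).2] at hm
  exact hC i S h.le_N hSR m hm hmt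

/-- `C_G(r) ≤ N_G(R)` for all points `R` and all `1 ≠ r ∈ R` -/
theorem cen_le (hs : SemiOut (zl (S : Subgroup G) P) (pt M))
    (hC : ∀ (i : Pt M) (S₁ : Sylow 2 G), (S₁ : Subgroup G) ≤ normalizer (zl (S : Subgroup G) P : Set G) →
      (S₁ : Subgroup G) ≤ normalizer (pt M i : Set G) →
      ∀ x ∈ WW (zl (S : Subgroup G) P) (pt M i), (∀ s ∈ (S₁ : Subgroup G), s ∈ centralizer (pt M i : Set G) →
        s * x * s⁻¹ * x⁻¹ ∈ pt M i) → x ∈ zl (S : Subgroup G) P) :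
    ∀ (i : Pt M), ∀ r ∈ pt M i, r ≠ 1 → centralizer {r} ≤ normalizer (pt M i : Set G) := by
  obtain ⟨i, z, hz, hz1, hzc⟩ := h.exists_cen hs hC
  exact Cz.cen_le (fun i j hij => h.exists_coord hij) h.bt hz hz1 hzc

/-- **THEOREM TIR** -/
theorem tir (hs : SemiOut (zl (S : Subgroup G) P) (pt M))
    (hC : ∀ (i : Pt M) (S₁ : Sylow 2 G), (S₁ : Subgroup G) ≤ normalizer (zl (S : Subgroup G) P : Set G) →
      (S₁ : Subgroup G) ≤ normalizer (pt M i : Set G) →
      ∀ x ∈ WW (zl (S : Subgroup G) P) (pt M i), (∀ s ∈ (S₁ : Subgroup G), s ∈ centralizer (pt M i : Set G) →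
        s * x * s⁻¹ * x⁻¹ ∈ pt M i) → x ∈ zl (S : Subgroup G) P) (i : Pt M) (g r : G) (hr : r ∈ pt M i)
    (hr1 : r ≠ 1) (hg : g * r * g⁻¹ ∈ pt M i) : g ∈ normalizer (pt M i : Set G) := by
  obtain ⟨i', z, hz, hz1, hzc⟩ := h.exists_cen hs hC
  exact Cz.tir (fun i j hij => h.exists_coord hij) h.bt hz hz1 hzc i g r hr hr1 hg

end Sit

end Cfsg.Agent.Omega.IIa4

end

section


/-!
# Sylow subgroups of `G` in `N(V) ∩ N(R i)` for every point `R i`
-/

set_option autoImplicit false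

universe u

namespace Cfsg.Agent.Omega.SQEnd

open Subgroup Cfsg Cfsg.Agent.ZN Cfsg.Agent.Omega.NatPair Cfsg.Agent.Omega.BTwo
open Cfsg.Agent.Omega.Frame Cfsg.Agent.Omega.FrameFF Cfsg.Agent.Omega.IIa4

variable {G : Type u} [Group G] [Finite G]

open Pointwise in
/-- every point is normalised by a Sylow subgroup of `G` in `N(V)` -/
theorem exists_sylow {V : Subgroup G} {ι : Type*} {R : ι → Subgroup G} (b : BT V R) (S : Sylow 2 G)
    (hS : (S : Subgroup G) ≤ normalizer (V : Set G)) {z : G} (hz : z ∈ V) (hz1 : z ≠ 1)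
    (hc : ∀ s ∈ (S : Subgroup G), s * z = z * s) (i : ι) :
    ∃ S₁ : Sylow 2 G, (S₁ : Subgroup G) ≤ normalizer (V : Set G) ∧ (S₁ : Subgroup G) ≤ normalizer (R i : Set G) := by
  obtain ⟨i₀, -, h₀⟩ := exists_fixed b hS hz hz1 hc
  obtain ⟨x, hx, hxR⟩ := b.trans_one i₀ i
  have hcj : ((x • S : Sylow 2 G) : Subgroup G) = BTwo.cj x (S : Subgroup G) := by
    ext y
    rw [Sylow.coe_subgroup_smul, mem_pointwise_smul_iff_inv_smul_mem, ← map_inv, MulAut.smul_def,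
      MulAut.conj_apply, inv_inv, BTwo.mem_cj]
  refine ⟨x • S, ?_, ?_⟩
  · rw [hcj]
    have := BTwo.cj_mono (g := x) hS
    rwa [← BTwo.normalizer_cj, cj_eq_self_iff.2 hx] at this
  · rw [hcj, ← hxR, BTwo.normalizer_cj]
    exact BTwo.cj_mono h₀

/-- `|N(R) : N(V) ∩ N(R)|` is odd -/
theorem odd_relIndex {A B : Subgroup G} (S : Sylow 2 G) (hA : (S : Subgroup G) ≤ A) (hB : (S : Subgroup G) ≤ B) :
    Odd ((A ⊓ B).relIndex B) := by
  have h1 : ¬ 2 ∣ (S : Subgroup G).index := S.not_dvd_index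
  have h2 : (A ⊓ B).relIndex B * B.index = (A ⊓ B).index := relIndex_mul_index inf_le_right
  have h3 : (S : Subgroup G).relIndex (A ⊓ B) * (A ⊓ B).index = (S : Subgroup G).index :=
    relIndex_mul_index (le_inf hA hB)
  rw [← Nat.not_even_iff_odd, even_iff_two_dvd]
  intro h
  apply h1
  rw [← h3, ← h2]
  exact Dvd.dvd.mul_left (Dvd.dvd.mul_right h _) _

variable {S : Sylow 2 G} {P : Subgroup G} {g : G} {F : Type} [Field F] [Finite F] [CharP F 2]
  {M : NatMod F (zl (S : Subgroup G) P)}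

theorem sit_exists_sylow (h : Sit S P g M) (i : Pt M) : ∃ S₁ : Sylow 2 G,
    (S₁ : Subgroup G) ≤ normalizer (zl (S : Subgroup G) P : Set G) ∧
      (S₁ : Subgroup G) ≤ normalizer (pt M i : Set G) := by
  have hZ : zc (S : Subgroup G) ≠ ⊥ := by
    refine MinSimple.Basic.zc_ne_bot S.isPGroup' fun h0 => h.bt.R_ne i (eq_bot_iff.2 ?_)
    exact ((h.bt.R_le i).trans ((h.allIn P h.isParS).trans (All.o2_CZ_le S))).trans_eq h0
  obtain ⟨z, hz1⟩ := Subgroup.ne_bot_iff_exists_ne_one.1 hZ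
  have hz := MinSimple.VModule.mem_zc.1 z.2
  exact SQEnd.exists_sylow h.bt S h.le_N (h.zc_le z.2) (fun h0 => hz1 (Subtype.ext h0)) hz.2.1 i

end Cfsg.Agent.Omega.SQEnd

end

end

-- merged: Cfsg.Agent.Mrg.Omega.IIa4.Lay
section

section


/-!
# II.a, `q ≥ 4`: the layer of `H = N(R i)/O₂(N(R i))` (interface; output of NODE LIE, LAYER)

`Lay V R i j T S` : `A = AA V R i j` centralises the odd part of `H⁰ = C(R i)/O₂`, and every component `K ≤ H⁰` with
`[K, A] ≠ 1` is of Lie type of characteristic 2, is normalised by `T`, and `A` acts on it as `A ⊓ K` (`CompB.Hyp`).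
-/

set_option autoImplicit false
set_option linter.unusedSectionVars false

namespace Cfsg.Agent.Omega.IIa4

open Subgroup Cfsg Cfsg.Agent.ZN Cfsg.Agent.Omega.NatPair Cfsg.Agent.Omega.BTwo
open Cfsg.Agent.Omega.Frame Cfsg.Agent.Omega.FrameFF Cfsg.Agent.Omega.Lie Cfsg.Agent.Omega.Lie.Quot

universe u

/-- the components `K ≤ H⁰` moved by `A` -/
def MComp {G : Type*} [Group G] {ι : Type*} (V : Subgroup G) (R : ι → Subgroup G) (i j : ι)
    (K : Subgroup (HQ (R i))) : Prop :=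
  IsComponent K ∧ K ≤ H0 R i ∧ ∃ a ∈ AA V R i j, ∃ k ∈ K, a * k ≠ k * a

/-- **LAYER.** -/
structure Lay {G : Type*} [Group G] {ι : Type*} (V : Subgroup G) (R : ι → Subgroup G) (i j : ι)
    (T S : Subgroup (HQ (R i))) : Prop where
  odd : Layer.OddC V R i j
  hyp : ∀ K : Subgroup (HQ (R i)), MComp V R i j K → CompB.Hyp S (AA V R i j) T K
  lie : ∀ K : Subgroup (HQ (R i)), MComp V R i j K → IsLieTypeChar 2 (K ⧸ center K)

/-- LAYER at every pair of points -/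
def LayAll {G : Type u} [Group G] {ι : Type*} (V : Subgroup G) (R : ι → Subgroup G) (F : Type) [Field F] : Prop :=
  ∀ (i j : ι), i ≠ j → ∀ (v : F → F → G) (w1 w2 : F → G) (t : F → G), Coord V R i j v w1 w2 →
    ∀ (τ : TorD V R i j v t) (S₁ : Sylow 2 G), (S₁ : Subgroup G) ≤ normalizer (V : Set G) →
      (S₁ : Subgroup G) ≤ normalizer (R i : Set G) → Lay V R i j (TT τ) (SS R i S₁)

/-- a component has centre of odd order if `O₂(H) = 1` -/
theorem center_eq_one {H : Type*} [Group H] [Finite H] (hO : pCore 2 H = ⊥) {K : Subgroup H}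
    (hK : IsComponent K) {x : H} (hx : x ∈ K) (hc : ∀ y ∈ K, x * y = y * x) (h2 : x * x = 1) : x = 1 := by
  have hfact : Fact (Nat.Prime 2) := ⟨Nat.prime_two⟩
  let Z : Subgroup K := zpowers ⟨x, hx⟩
  have h1 : (⟨x, hx⟩ : K) ∈ center K := by
    rw [mem_center_iff]
    intro y
    exact Subtype.ext (hc y y.2).symm
  have hZc : Z ≤ center K := zpowers_le.2 h1
  have hZn : Z.Normal := ⟨fun z hz y => by
    have h1 := mem_center_iff.1 (hZc hz) y
    have h2 : y * z * y⁻¹ = z := by rw [h1]; group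
    rwa [h2]⟩
  have hZp : IsPGroup 2 Z := by
    rw [IsPGroup.iff_card]
    have h2 : Nat.card Z ∣ 2 := by
      rw [Nat.card_zpowers]
      exact orderOf_dvd_of_pow_eq_one (by rw [pow_two]; exact Subtype.ext h2)
    rcases (Nat.dvd_prime Nat.prime_two).1 h2 with h3 | h3
    · exact ⟨0, by rw [h3, pow_zero]⟩
    · exact ⟨1, by rw [h3, pow_one]⟩
  have hZs : (Z.map K.subtype).IsSubnormal := (Normal.isSubnormal hZn).trans' hK.1
  have h2 := SignalizersComponents.CompBasic.subnormal_pGroup_le_pCore hZs (hZp.map K.subtype)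
  rw [hO] at h2
  exact h2 ⟨⟨x, hx⟩, mem_zpowers _, rfl⟩

namespace Lay

variable {G : Type u} [Group G] {ι : Type*} {V : Subgroup G} {R : ι → Subgroup G} {i j : ι}
  {T S : Subgroup (HQ (R i))} (h : Lay V R i j T S)
include h

theorem innC : Layer.InnC V R i j := by
  intro K hK hK0
  by_cases hne : ∃ a ∈ AA V R i j, ∃ k ∈ K, a * k ≠ k * a
  · exact Layer.InnA.of_hyp (h.hyp K ⟨hK, hK0, hne⟩)
  · push Not at hne
    exact Layer.InnA.of_comm hne

/-- the normal closure of `A` is perfect -/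
theorem perf [Finite G] (b : BT V R) (hij : i ≠ j) : Perf V R i j :=
  Layer.perf_of b hij h.odd h.innC

theorem A_le [Finite G] (b : BT V R) (hij : i ≠ j) :
    AA V R i j ≤ ⨆ K ∈ {K : Subgroup (HQ (R i)) | MComp V R i j K}, AA V R i j ⊓ K := by
  refine (Layer.A_le_iSup b hij h.odd h.innC).trans (iSup₂_le fun K hK => ?_)
  by_cases hne : ∃ a ∈ AA V R i j, ∃ k ∈ K, a * k ≠ k * a
  · exact le_iSup₂ (f := fun (K : Subgroup (HQ (R i))) (_ : K ∈ {K : Subgroup (HQ (R i)) | MComp V R i j K}) =>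
      AA V R i j ⊓ K) K ⟨hK.1, hK.2, hne⟩
  · have h1 : AA V R i j ⊓ K = ⊥ := by
      rw [eq_bot_iff]
      intro x hx
      push Not at hne
      exact center_eq_one (pCore_HQ (R i)) hK.1 hx.2 (fun y hy => hne x hx.1 y hy) (A_sq b hij hx.1)
    rw [h1]
    exact bot_le

end Lay

end Cfsg.Agent.Omega.IIa4

end

section


/-!
# The leaf II.a, `q ≥ 4` (`FrameFF.LeafA4 K`) from its parts (project OMEGA, assembler: helper978)

Situation: `IIa4.Sit S P g M`, i.e. `Ctx G`, `Full S`, `AllIn S`, `AllFree S`, `MinSame S P g`, `V = V_P = zl S P`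
natural for `SL₂(F)` (`M : NatMod F V`), `|F| ≥ 4`.  `R i = pt M i` the points of `V`, `W i = ⟨V^{N(R i)}⟩`,
`Q i = O₂(N(R i))`, `U i = C_{W i}(V)`, `A = U j Q i / Q i`.

Landed and plugged in: `b = 2` (`IIa4.Sit.V_le_QQ`), the structure `BTC` (`IIa4.Sit.btc`), coordinates, torus,
`Coord.semi` (#11043).

Parts (each a Prop):
* `LayP K` : the layer of `N(R)/O₂(N(R))` (`IIa4.Lay`; the component theorem);
* `SEP K` : `C_{W/R}(S₁ ∩ C(R)) = V/R`;
* `TIRP` : `R` is a TI-set (THEOREM TIR, K-free): proved by helper450, `IIa4.tirp` (`IIa4/Tirp.lean`);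
* `AllP` : `⟨N(V), N(R)⟩ = G` (THEOREM ALL, K-free): proved, `allP`;
* `LieBNP K` : a subgroup `G₀ ≠ 1` with a BN-pair, normalised by `N(V)` and `N(R)` (or `G` is known).

`leafA4_of` : `LeafA4 K` from S1143, S1144 and these; `Node/LeafA4Main.lean` has the version without `TIRP`.
-/

set_option autoImplicit false
set_option linter.unusedSectionVars false

namespace Cfsg.Agent.Omega.IIa4

open Subgroup Cfsg Cfsg.Agent.ZN Cfsg.Agent.Omega.NatPair Cfsg.Agent.Omega.BTwo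
open Cfsg.Agent.Omega.Frame Cfsg.Agent.Omega.FrameFF

universe u

/-! ### Predicates of the configuration -/

/-- `R i` is a TI-set: `1 ≠ r ∈ R i`, `r^g ∈ R i` imply `g ∈ N(R i)` -/
def TIR {G : Type*} [Group G] {ι : Type*} (R : ι → Subgroup G) : Prop :=
  ∀ (i : ι) (g r : G), r ∈ R i → r ≠ 1 → g * r * g⁻¹ ∈ R i → g ∈ normalizer (R i : Set G)

/-- `C_{W/R}(S₁ ∩ C(R)) = V/R` for the Sylow 2-subgroups `S₁` of `G` in `N(V) ∩ N(R)` -/
def CenSE {G : Type*} [Group G] {ι : Type*} (V : Subgroup G) (R : ι → Subgroup G) : Prop :=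
  ∀ (i : ι) (S₁ : Sylow 2 G), (S₁ : Subgroup G) ≤ normalizer (V : Set G) →
    (S₁ : Subgroup G) ≤ normalizer (R i : Set G) →
    ∀ x ∈ WW V (R i), (∀ s ∈ (S₁ : Subgroup G), s ∈ centralizer (R i : Set G) → s * x * s⁻¹ * x⁻¹ ∈ R i) → x ∈ V

/-- `N(V)` and `N(R i)` generate `G` -/
def GenVR {G : Type*} [Group G] {ι : Type*} (V : Subgroup G) (R : ι → Subgroup G) : Prop :=
  ∀ (i : ι) (Y : Subgroup G), normalizer (V : Set G) ≤ Y → normalizer (R i : Set G) ≤ Y → Y = ⊤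

/-- a BN-pair as needed in S1143 or S1144 -/
def HasBN (X : Type*) [Group X] : Prop :=
  (∃ B : BNPair X, 3 ≤ B.rank ∧ B.Irreducible) ∨ ∃ B : BNPair X, 1 ≤ B.rank ∧ B.IsSplit

/-- a subgroup `G₀ ≠ 1` with a BN-pair normalised by `N(V)` and `N(R i)` -/
def GZero {G : Type*} [Group G] {ι : Type*} (V : Subgroup G) (R : ι → Subgroup G) : Prop :=
  ∃ (i : ι) (G₀ : Subgroup G), G₀ ≠ ⊥ ∧ normalizer (V : Set G) ≤ normalizer (G₀ : Set G) ∧
    normalizer (R i : Set G) ≤ normalizer (G₀ : Set G) ∧ HasBN ↥G₀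

/-! ### The parts -/

section parts

variable (K : Cls.{u})

/-- **LAYER** (the component theorem).
Text: #11541 (2)-(5) with #12957, #13121 (`q ≥ 8`); #12098, #12707, #12397 (`q = 4`).  Assembly: helper287
(`Omega/Lie/Layer*.lean`), with helper452 (Quot), 484 (Exo), 843, 932 (odd part), 835, 898 (T2), 460 (LQ). -/
def LayP : Prop :=
  ∀ (G : Type u) [Group G] [Finite G], K G → ∀ (S : Sylow 2 G) (P : Subgroup G) (g : G) (F : Type) [Field F]
    [Finite F] [CharP F 2] (M : NatMod F (zl (S : Subgroup G) P)), Sit S P g M →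
      LayAll (zl (S : Subgroup G) P) (pt M) F

/-- **`C_M(S_E) = e`** : `C_{W/R}(S₁ ∩ C(R)) = V/R`.
Text: LEMMA CEN #14596 (helper95), THEOREM D #15015 (helper407).  Owner: helper95 (`Omega/Lie/SE.lean`), helper407
(`Omega/Lie/ThmD.lean`). -/
def SEP : Prop :=
  ∀ (G : Type u) [Group G] [Finite G], K G → ∀ (S : Sylow 2 G) (P : Subgroup G) (g : G) (F : Type) [Field F]
    [Finite F] [CharP F 2] (M : NatMod F (zl (S : Subgroup G) P)), Sit S P g M →
      LayAll (zl (S : Subgroup G) P) (pt M) F →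
      SemiOut (zl (S : Subgroup G) P) (pt M) → CenSE (zl (S : Subgroup G) P) (pt M)

/-- **THEOREM TIR** (K-free): `R` is a TI-set.  Text: #13229 (helper522), #13299 (helper450).
Owner: helper450 (`Omega/BTwo/Cz.lean`), helper522. -/
def TIRP : Prop :=
  ∀ (G : Type u) [Group G] [Finite G] (S : Sylow 2 G) (P : Subgroup G) (g : G) (F : Type) [Field F]
    [Finite F] [CharP F 2] (M : NatMod F (zl (S : Subgroup G) P)), Sit S P g M →
      SemiOut (zl (S : Subgroup G) P) (pt M) → CenSE (zl (S : Subgroup G) P) (pt M) → TIR (pt M)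

/-- **THEOREM ALL** (K-free): every `P' ∈ P(S)` lies in `N(R)` or in `N(V)`, so `⟨N(V), N(R)⟩ = G`.
Text: #13114 (helper47), #13498 (helper221).  Proved: `allP`. -/
def AllP : Prop :=
  ∀ (G : Type u) [Group G] [Finite G] (S : Sylow 2 G) (P : Subgroup G) (g : G) (F : Type) [Field F]
    [Finite F] [CharP F 2] (M : NatMod F (zl (S : Subgroup G) P)), Sit S P g M →
      SemiOut (zl (S : Subgroup G) P) (pt M) → CenSE (zl (S : Subgroup G) P) (pt M) → TIR (pt M) →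
      GenVR (zl (S : Subgroup G) P) (pt M)

/-- **The BN-pair of `G₀`**.  Text: NODE THEOREM #14331 (helper493), architecture #14551 (helper43): THEOREM PAR
(`ParSys/PSysMain.lean`); rank two end: `SQEnd` (helper326, 195; `|k| = 4`: `G` is known). -/
def LieBNP : Prop :=
  ∀ (G : Type u) [Group G] [Finite G], K G → ∀ (S : Sylow 2 G) (P : Subgroup G) (g : G) (F : Type) [Field F]
    [Finite F] [CharP F 2] (M : NatMod F (zl (S : Subgroup G) P)), Sit S P g M →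
      LayAll (zl (S : Subgroup G) P) (pt M) F →
      SemiOut (zl (S : Subgroup G) P) (pt M) → CenSE (zl (S : Subgroup G) P) (pt M) → TIR (pt M) →
      GZero (zl (S : Subgroup G) P) (pt M) ∨ IsKnownSimple' G

end parts

/-! ### The glue -/

namespace Sit

variable {G : Type u} [Group G] [Finite G] {S : Sylow 2 G} {P : Subgroup G} {g : G} {F : Type} [Field F]
  [Finite F] [CharP F 2] {M : NatMod F (zl (S : Subgroup G) P)} (h : Sit S P g M)
include h

/-- the point normalised by `S` -/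
theorem exists_pt : ∃ i : Pt M, (S : Subgroup G) ≤ normalizer (pt M i : Set G) := by
  obtain ⟨i, -, -⟩ := h.exists_pair
  have hZ : zc (S : Subgroup G) ≠ ⊥ := by
    refine MinSimple.Basic.zc_ne_bot S.isPGroup' fun h0 => h.bt.R_ne i (eq_bot_iff.2 ?_)
    exact ((h.bt.R_le i).trans ((h.allIn P h.isParS).trans (All.o2_CZ_le S))).trans_eq h0
  obtain ⟨z, hz1⟩ := Subgroup.ne_bot_iff_exists_ne_one.1 hZ
  have hz := MinSimple.VModule.mem_zc.1 z.2
  obtain ⟨i₀, -, hi₀⟩ := exists_fixed h.bt h.le_N (h.zc_le z.2) (fun h0 => hz1 (Subtype.ext h0)) hz.2.1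
  exact ⟨i₀, hi₀⟩

theorem exists_ne_pt (i : Pt M) : ∃ j : Pt M, i ≠ j := by
  obtain ⟨i', j', hij⟩ := h.exists_pair
  by_cases h1 : i = i'
  · exact ⟨j', h1 ▸ hij⟩
  · exact ⟨i', h1⟩

theorem perf_of_lay (hl : LayAll (zl (S : Subgroup G) P) (pt M) F) :
    ∃ i j : Pt M, i ≠ j ∧ Perf (zl (S : Subgroup G) P) (pt M) i j := by
  obtain ⟨i, hR⟩ := h.exists_pt
  obtain ⟨j, hij⟩ := h.exists_ne_pt i
  obtain ⟨v, w1, w2, c⟩ := h.exists_coord hij
  obtain ⟨t, τ⟩ := h.exists_torD c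
  exact ⟨i, j, hij, (hl i j hij v w1 w2 t c τ S h.le_N hR).perf h.bt hij⟩

theorem semi_of_lay (hl : LayAll (zl (S : Subgroup G) P) (pt M) F) :
    SemiOut (zl (S : Subgroup G) P) (pt M) := by
  obtain ⟨i, j, hij, hp⟩ := h.perf_of_lay hl
  exact h.semi hij hp

end Sit

/-- THEOREM ALL, from helper221's `All.sup_eq_top` and helper942's `All.mixed` -/
theorem allP : AllP.{u} := by
  intro G _ _ S P g F _ _ _ M h hsemi hcen hti i Y hV hR
  exact h.genVR hsemi hcen hti i hV hR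

/-- A simple group with a BN-pair is known. -/
theorem known_of_hasBN (h43 : Exits.St1143.{u}) (h44 : Exits.St1144.{u}) {X : Type u} [Group X] [Finite X]
    [IsSimpleGroup X] (h : HasBN X) : IsKnownSimple' X := by
  rcases h with ⟨B, h1, h2⟩ | ⟨B, h1, h2⟩
  · exact Exits.known_lie (h43 X B h1 h2)
  · exact Exits.known_lie (h44 X B h1 h2)

theorem known_of_gZero (h43 : Exits.St1143.{u}) (h44 : Exits.St1144.{u}) {G : Type u} [Group G] [Finite G]
    (hG : Ctx G) {ι : Type*} {V : Subgroup G} {R : ι → Subgroup G} (hgen : GenVR V R) (h : GZero V R) :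
    IsKnownSimple' G := by
  have hs := hG.simple
  obtain ⟨i, G₀, hne, h1, h2, hBN⟩ := h
  have h3 : G₀.Normal := normalizer_eq_top_iff.mp (hgen i _ h1 h2)
  have h4 : G₀ = ⊤ := h3.eq_bot_or_eq_top.resolve_left hne
  have e : ↥G₀ ≃* G := (MulEquiv.subgroupCongr h4).trans Subgroup.topEquiv
  have hs' : IsSimpleGroup ↥G₀ := OddHalf.Known.isSimple_congr e.symm hs
  exact OddHalf.Known.isKnownSimple'_congr e (Exits.not_comm_congr e.symm hG.nonComm)
    (known_of_hasBN h43 h44 hBN)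

/-- **The leaf II.a, `q ≥ 4`.** -/
theorem leafA4_of {K : Cls.{u}} (h43 : Exits.St1143.{u}) (h44 : Exits.St1144.{u}) (hlay : LayP K)
    (hse : SEP K) (htir : TIRP.{u}) (hbn : LieBNP K) : LeafA4 K := by
  intro G _ _ hG hK S hF hLE hAF P g hmin F _ _ _ M h4
  have h : Sit S P g M := ⟨hG, hF, hLE, hAF, hmin, h4⟩
  have hl := hlay G hK S P g F M h
  have hsemi := h.semi_of_lay hl
  have hcen := hse G hK S P g F M h hl hsemi
  have hti := htir G S P g F M h hsemi hcen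
  rcases hbn G hK S P g F M h hl hsemi hcen hti with h1 | h1
  · exact known_of_gZero h43 h44 hG (allP G S P g F M h hsemi hcen hti) h1
  · exact h1

end Cfsg.Agent.Omega.IIa4

end

section


/-!
# II.a, `q ≥ 4`: LEMMA CA (`C_M(A) = e`)

`P₀` a 2-group with `Y ≤ P₀ ≤ C(V)`; `M = W i / R i`, `e = V / R i`, `A` the image of `U j`.  If `C_M(P₀) = e`
then `C_M(A) = e`:  `x ∈ W i`, `[U j, x] ≤ R i` imply `x ∈ V`.
-/

set_option autoImplicit false
set_option linter.unusedSectionVars false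

namespace Cfsg.Agent.Omega.IIa4.CenA

open Subgroup Cfsg.Agent.Omega.BTwo Cfsg.Agent.Omega.Lie

universe u v w

section cop

variable {G : Type u} [Group G]

/-- an abelian group `T` of odd order stabilising a coset `p Y` of a 2-group `Y` centralises an element of it -/
theorem exists_cen_coset [Finite G] {T Y : Subgroup G} (hT : ∀ a ∈ T, ∀ b ∈ T, a * b = b * a)
    (hTY : T ≤ normalizer (Y : Set G)) (ho : ∀ a ∈ T, Odd (orderOf a)) (hY : IsPGroup 2 Y) (p : G)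
    (hp : ∀ a ∈ T, p⁻¹ * (a * p * a⁻¹) ∈ Y) : ∃ c, p⁻¹ * c ∈ Y ∧ ∀ a ∈ T, a * c = c * a := by
  classical
  let S : Set (Subgroup G) := {B | B ≤ T ∧ ∃ c, p⁻¹ * c ∈ Y ∧ ∀ a ∈ B, a * c = c * a}
  have hne : S.Nonempty := ⟨⊥, bot_le, p, by rw [inv_mul_cancel]; exact one_mem _, fun a ha => by
    rw [mem_bot.1 ha, one_mul, mul_one]⟩
  obtain ⟨B, hB⟩ := (Set.toFinite S).exists_maximal hne
  obtain ⟨⟨hBT, c, hc, hcB⟩, hmax⟩ := hB
  suffices h : ∀ a ∈ T, a ∈ B from ⟨c, hc, fun a ha => hcB a (h a ha)⟩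
  refine Lib.CoprimeCommutator.induction_prime_power T (· ∈ B) (one_mem _)
    (fun a _ b _ h1 h2 => mul_mem h1 h2) ?_
  intro r n hr a ha hpow
  have hfr : Fact r.Prime := ⟨hr⟩
  by_cases ha1 : a = 1
  · rw [ha1]; exact one_mem _
  have hr2 : r ≠ 2 := by
    rintro rfl
    obtain ⟨k, -, hk⟩ := (Nat.dvd_prime_pow Nat.prime_two).1 (orderOf_dvd_of_pow_eq_one hpow)
    have h1 := ho a ha
    rw [hk] at h1
    rcases Nat.eq_zero_or_pos k with h0 | h0
    · rw [h0, pow_zero, orderOf_eq_one_iff] at hk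
      exact ha1 hk
    · have h2 : Even (2 ^ k) := (Nat.even_pow.2 ⟨even_two, h0.ne'⟩)
      exact (Nat.not_odd_iff_even.2 h2) h1
  have hN : IsPGroup 2 (Y ⊓ centralizer (B : Set G) : Subgroup G) := hY.to_le inf_le_left
  have hPg : IsPGroup r (zpowers a) := by
    rintro ⟨x, hx⟩
    obtain ⟨k, rfl⟩ := mem_zpowers_iff.1 hx
    refine ⟨n, Subtype.ext ?_⟩
    change (a ^ k) ^ r ^ n = 1
    rw [← zpow_natCast, ← zpow_mul, mul_comm, zpow_mul, zpow_natCast, hpow, one_zpow]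
  have hTC : T ≤ normalizer (Y ⊓ centralizer (B : Set G) : Subgroup G) := by
    intro t ht
    rw [← cj_eq_self_iff, cj_inf, cj_eq_self_iff.2 (hTY ht)]
    congr 1
    rw [cj_of_mem]
    rw [mem_centralizer_iff]
    exact fun b hb => hT b (hBT hb) t ht
  have hcT : ∀ a ∈ T, c⁻¹ * (a * c * a⁻¹) ∈ Y := by
    intro a ha
    have h1 := hp a ha
    have h2 := conj_mem_of_normalizer (hTY ha) hc
    have e : c⁻¹ * (a * c * a⁻¹) = (p⁻¹ * c)⁻¹ * (p⁻¹ * (a * p * a⁻¹)) * (a * (p⁻¹ * c) * a⁻¹) := by group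
    rw [e]
    exact mul_mem (mul_mem (inv_mem hc) h1) h2
  obtain ⟨d, hd, hcd⟩ := Lib.CoprimeCommutator.exists_fixed_in_coset r (zpowers a)
    (Y ⊓ centralizer (B : Set G)) hPg ((zpowers_le.2 ha).trans hTC) (by
      obtain ⟨m, hm⟩ := IsPGroup.iff_card.1 hN
      rw [hm]
      exact fun h => hr2 ((Nat.prime_dvd_prime_iff_eq hr Nat.prime_two).1 (hr.dvd_of_dvd_pow h))) c (by
      intro x hx
      have hxT := (zpowers_le.2 ha) hx
      refine mem_inf.2 ⟨hcT x hxT, ?_⟩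
      have hcC : c ∈ centralizer (B : Set G) := mem_centralizer_iff.2 hcB
      have hxC : x ∈ centralizer (B : Set G) := mem_centralizer_iff.2 fun b hb => hT b (hBT hb) x hxT
      exact mul_mem (inv_mem hcC) (mul_mem (mul_mem hxC hcC) (inv_mem hxC)))
  have hcC : c ∈ centralizer (B : Set G) := mem_centralizer_iff.2 hcB
  have hdC : d ∈ centralizer (B : Set G) := by
    have h1 := mul_mem hcC (mem_inf.1 hcd).2
    rwa [mul_inv_cancel_left] at h1
  have hin : B ⊔ zpowers a ∈ S := by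
    refine ⟨sup_le hBT (zpowers_le.2 ha), d, ?_, ?_⟩
    · have h1 := mul_mem hc (mem_inf.1 hcd).1
      rwa [mul_assoc, mul_inv_cancel_left] at h1
    · have h1 : B ⊔ zpowers a ≤ centralizer {d} := by
        refine sup_le (fun b hb => ?_) (fun b hb => ?_)
        · rw [mem_centralizer_iff]
          rintro _ rfl
          exact (mem_centralizer_iff.1 hdC b hb).symm
        · rw [mem_centralizer_iff]
          rintro _ rfl
          exact (mem_centralizer_iff.1 hd b hb).symm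
      exact fun b hb => (mem_centralizer_iff.1 (h1 hb) d rfl).symm
  exact hmax hin le_sup_left (mem_sup_right (mem_zpowers a))

end cop

variable {G : Type u} [Group G] {ι : Type w} {F : Type v} [Field F] {V : Subgroup G} {R : ι → Subgroup G}
  {i j : ι} {v : F → F → G} {w1 w2 : F → G} {t : F → G}

/-- `[c, x]` -/
def kp (c x : G) : G := c * x * c⁻¹ * x⁻¹

theorem kp_mul {c x y : G} : kp c (x * y) = kp c x * (x * kp c y * x⁻¹) := by unfold kp; group

theorem kp_mul_left {c d x : G} : kp (c * d) x = c * kp d x * c⁻¹ * kp c x := by unfold kp; group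

theorem kp_conj {g c x : G} : kp c (g * x * g⁻¹) = g * kp (g⁻¹ * c * g) x * g⁻¹ := by unfold kp; group

theorem kp_conj' {g c x : G} : kp (g * c * g⁻¹) (g * x * g⁻¹) = g * kp c x * g⁻¹ := by unfold kp; group

/-- `{x ∈ Y : [P₀, x] ≤ V}` -/
def YP (b : BT V R) (P₀ : Subgroup G) : Subgroup G where
  carrier := {x | x ∈ YY V R ∧ ∀ c ∈ P₀, kp c x ∈ V}
  one_mem' := ⟨one_mem _, fun c _ => by
    have e : kp c 1 = 1 := by unfold kp; group
    rw [e]; exact one_mem _⟩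
  mul_mem' := by
    rintro x y ⟨hx, hx'⟩ ⟨hy, hy'⟩
    refine ⟨mul_mem hx hy, fun c hc => ?_⟩
    rw [kp_mul]
    exact mul_mem (hx' c hc) (conj_mem_of_normalizer (Y_le_NV hx) (hy' c hc))
  inv_mem' := by
    have _ := b
    rintro x ⟨hx, hx'⟩
    refine ⟨inv_mem hx, fun c hc => ?_⟩
    have e : kp c x⁻¹ = x⁻¹ * (kp c x)⁻¹ * x := by unfold kp; group
    rw [e]
    exact conj_inv_mem_of_normalizer (Y_le_NV hx) (inv_mem (hx' c hc))

/-- `{x ∈ U k : [Y, x] ≤ R k}` -/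
def CY (b : BT V R) (k : ι) : Subgroup G where
  carrier := {x | x ∈ UU V R k ∧ ∀ y ∈ YY V R, kp y x ∈ R k}
  one_mem' := ⟨one_mem _, fun c _ => by
    have e : kp c 1 = 1 := by unfold kp; group
    rw [e]; exact one_mem _⟩
  mul_mem' := by
    rintro x y ⟨hx, hx'⟩ ⟨hy, hy'⟩
    refine ⟨mul_mem hx hy, fun c hc => ?_⟩
    rw [kp_mul]
    exact mul_mem (hx' c hc) (conj_mem_of_normalizer (b.cen_le_N k (UU_le_cen k hx)) (hy' c hc))
  inv_mem' := by
    rintro x ⟨hx, hx'⟩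
    refine ⟨inv_mem hx, fun c hc => ?_⟩
    have e : kp c x⁻¹ = x⁻¹ * (kp c x)⁻¹ * x := by unfold kp; group
    rw [e]
    exact conj_inv_mem_of_normalizer (b.cen_le_N k (UU_le_cen k hx)) (inv_mem (hx' c hc))

section basic

variable (b : BT V R) {P₀ : Subgroup G}

theorem CY_conj {g : G} (hg : g ∈ normalizer (V : Set G)) {k l : ι} (h : cj g (R k) = R l) {x : G}
    (hx : x ∈ CY b k) : g * x * g⁻¹ ∈ CY b l := by
  refine ⟨?_, fun y hy => ?_⟩
  · rw [← b.cj_UU hg h]; exact conj_mem_cj hx.1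
  · rw [kp_conj, ← h]
    exact conj_mem_cj (hx.2 _ (conj_inv_mem_of_normalizer (b.NV_le_NY hg) hy))

theorem YP_conj (hP : P₀ ≤ centralizer (V : Set G)) (hY : YY V R ≤ P₀) {g : G} (hg : g ∈ XX V R) {x : G}
    (hx : x ∈ YP b P₀) : g * x * g⁻¹ ∈ YP b P₀ := by
  have hgV := b.X_le_NV hg
  refine ⟨conj_mem_of_normalizer (b.NV_le_NY hgV) hx.1, fun c hc => ?_⟩
  rw [kp_conj]
  exact conj_mem_of_normalizer hgV (hx.2 _ (conj_inv_mem_of_normalizer (X_le_N b hP hY hg) hc))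

theorem V_le_YP (hP : P₀ ≤ centralizer (V : Set G)) : V ≤ YP b P₀ := fun x hx => by
  refine ⟨b.D_le_Y (V_le_D V R hx), fun c hc => ?_⟩
  have e : kp c x = 1 := by
    unfold kp
    rw [← mem_centralizer_iff.1 (hP hc) x hx]; group
  rw [e]; exact one_mem _

theorem kp_V (hP : P₀ ≤ centralizer (V : Set G)) {c x : G} (hc : c ∈ P₀) (hx : x ∈ V) : kp c x = 1 := by
  unfold kp
  rw [← mem_centralizer_iff.1 (hP hc) x hx]; group

/-- `[c, x y] = [c, x] [c, y]` -/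
theorem kmul {c x y : G} (hc : c ∈ P₀) (hx : x ∈ YP b P₀) (hy : y ∈ YP b P₀) :
    kp c (x * y) = kp c x * kp c y := by
  rw [kp_mul, ← mem_centralizer_iff.1 (YY_le_cen hx.1) _ (hy.2 c hc), mul_inv_cancel_right]

theorem kmul_left (hP : P₀ ≤ centralizer (V : Set G)) {c d x : G} (hc : c ∈ P₀) (hd : d ∈ P₀)
    (hx : x ∈ YP b P₀) : kp (c * d) x = kp d x * kp c x := by
  rw [kp_mul_left, ← mem_centralizer_iff.1 (hP hc) _ (hx.2 d hd), mul_inv_cancel_right]

/-- relation (a) -/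
theorem rel_a (hP : P₀ ≤ centralizer (V : Set G)) (hY : YY V R ≤ P₀) {g c x : G} (hg : g ∈ XX V R)
    (hc : c ∈ P₀) {k : ι} (hx : x ∈ YP b P₀) (hxk : x ∈ CY b k) :
    kp c (g * x * g⁻¹) * (g * kp c x * g⁻¹)⁻¹ ∈ cj g (R k) := by
  have hgV := b.X_le_NV hg
  have h1 : c⁻¹ * (g⁻¹ * c * g) ∈ YY V R := by
    have h2 := cen_V_X b (inv_mem (hP hc)) (inv_mem hg)
    have e : c⁻¹ * (g⁻¹ * c * g) = c⁻¹ * g⁻¹ * c⁻¹⁻¹ * g⁻¹⁻¹ := by group
    rw [e]; exact h2
  have h3 : kp (g⁻¹ * c * g) x = kp (c⁻¹ * (g⁻¹ * c * g)) x * kp c x := by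
    rw [← kmul_left b hP hc (hY h1) hx, mul_inv_cancel_left]
  rw [kp_conj, h3]
  have e : g * (kp (c⁻¹ * (g⁻¹ * c * g)) x * kp c x) * g⁻¹ * (g * kp c x * g⁻¹)⁻¹ =
      g * kp (c⁻¹ * (g⁻¹ * c * g)) x * g⁻¹ := by group
  rw [e]
  exact conj_mem_cj (hxk.2 _ h1)

theorem z_mem_U {g x : G} (hg : g ∈ WW V (R j)) (hx : x ∈ CY b i) : kp g x ∈ UU V R j := b.WU' hg hx.1

theorem z_mem_YP (hP : P₀ ≤ centralizer (V : Set G)) (hY : YY V R ≤ P₀) {g x : G} (hg : g ∈ WW V (R j))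
    (hx : x ∈ YP b P₀) : kp g x ∈ YP b P₀ :=
  mul_mem (YP_conj b hP hY (W_le_X V R j hg) hx) (inv_mem hx)

/-- `g ↦ [g, x]` is additive modulo `R j` -/
theorem z_add (hP : P₀ ≤ centralizer (V : Set G)) (hY : YY V R ≤ P₀) {g g' c x : G} (hc : c ∈ P₀)
    (hg : g ∈ WW V (R j)) (hg' : g' ∈ WW V (R j)) (hx : x ∈ YP b P₀) (hxi : x ∈ CY b i) :
    kp c (kp (g * g') x) = kp c (kp g x) * kp c (kp g' x) := by
  have h1 := z_mem_U b hg' hxi
  have h2 := z_mem_YP b hP hY hg hx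
  have h3 := z_mem_YP b hP hY hg' hx
  have h4 : kp g (kp g' x) ∈ R j := b.WU hg h1
  have h5 := b.R_le j h4
  have e : kp (g * g') x = kp g (kp g' x) * kp g' x * kp g x := by
    rw [kp_mul_left]
    conv_lhs => rw [show g * kp g' x * g⁻¹ = kp g (kp g' x) * kp g' x by unfold kp; group]
  rw [e, kmul b hc (mul_mem (V_le_YP b hP h5) h3) h2, kmul b hc (V_le_YP b hP h5) h3, kp_V hP hc h5, one_mul]
  exact b.V_comm _ (h3.2 c hc) _ (h2.2 c hc)

/-- `x ↦ [g, x]` is additive modulo `V` -/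
theorem z_mul (hP : P₀ ≤ centralizer (V : Set G)) (hY : YY V R ≤ P₀) {g c x y : G} (hc : c ∈ P₀)
    (hg : g ∈ WW V (R j)) (hx : x ∈ YP b P₀) (hy : y ∈ YP b P₀) :
    kp c (kp g (x * y)) = kp c (kp g x) * kp c (kp g y) := by
  have h2 := z_mem_YP b hP hY hg hx
  have h3 := z_mem_YP b hP hY hg hy
  have h4 : kp x (kp g y) ∈ V := h3.2 x (hY hx.1)
  have e : kp g (x * y) = kp g x * (kp x (kp g y) * kp g y) := by
    rw [kp_mul]
    congr 1
    unfold kp; group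
  rw [e, kmul b hc h2 (mul_mem (V_le_YP b hP h4) h3), kmul b hc (V_le_YP b hP h4) h3, kp_V hP hc h4, one_mul]

include b in
theorem z_V (hP : P₀ ≤ centralizer (V : Set G)) {g c x : G} (hc : c ∈ P₀)
    (hg : g ∈ WW V (R j)) (hx : x ∈ V) : kp c (kp g x) = 1 :=
  kp_V hP hc (mul_mem (conj_mem_of_normalizer (b.W_le_NV j hg) hx) (inv_mem hx))

end basic

section main

variable {P₀ : Subgroup G}

/-- relation (b): `κ(c, [g, x]) = v ρ σ`, `κ(c, x) = v α β` imply `σ = s (α + ρ)` -/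
theorem rel_b (b : BT V R) (C : Crd V R i j v w1 w2) (hP : P₀ ≤ centralizer (V : Set G)) (hY : YY V R ≤ P₀)
    {g c x : G} (hg : g ∈ WW V (R j)) (hc : c ∈ P₀) (hx : x ∈ YP b P₀) (hxi : x ∈ CY b i)
    {s ρ σ α β : F} (hs : ∀ b' c', g * v b' c' * g⁻¹ = v b' (c' + s * b'))
    (h1 : kp c (kp g x) = v ρ σ) (h2 : kp c x = v α β) : σ = s * (α + ρ) := by
  have h3 := rel_a b hP hY (W_le_X V R j hg) hc hx hxi
  have e1 : g * x * g⁻¹ = kp g x * x := by unfold kp; group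
  rw [e1, kmul b hc (z_mem_YP b hP hY hg hx) hx, h1, h2, hs, ← C.v_add] at h3
  obtain ⟨r, hr, er⟩ := h3
  obtain ⟨ρ', rfl⟩ := (C.Ri _).1 hr
  change g * v ρ' 0 * g⁻¹ = _ at er
  rw [hs, eq_mul_inv_iff_mul_eq, ← C.v_add] at er
  obtain ⟨e2, e3⟩ := C.eq_of er
  have e4 : ρ' = ρ := by
    have : ρ' + α = ρ + α := e2
    exact add_right_cancel this
  rw [e4] at e3
  linear_combination -e3

/-- relation (P) -/
theorem rel_P (b : BT V R) (C : Crd V R i j v w1 w2) (hP : P₀ ≤ centralizer (V : Set G)) (hY : YY V R ≤ P₀)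
    {g g' c x : G} (hg : g ∈ WW V (R j)) (hg' : g' ∈ WW V (R j)) (hc : c ∈ P₀) (hx : x ∈ YP b P₀)
    (hxi : x ∈ CY b i) {s s' ρ ρ' σ σ' : F} (hs : ∀ b' c', g * v b' c' * g⁻¹ = v b' (c' + s * b'))
    (hs' : ∀ b' c', g' * v b' c' * g'⁻¹ = v b' (c' + s' * b'))
    (h1 : kp c (kp g x) = v ρ σ) (h1' : kp c (kp g' x) = v ρ' σ') : s * ρ' + s' * ρ = 0 := by
  obtain ⟨α, β, h2⟩ := (C.v_mem _).1 (hx.2 c hc)
  have h3 := rel_b b C hP hY hg hc hx hxi hs h1 h2.symm
  have h3' := rel_b b C hP hY hg' hc hx hxi hs' h1' h2.symm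
  have h4 : kp c (kp (g * g') x) = v (ρ + ρ') (σ + σ') := by
    rw [z_add b hP hY hc hg hg' hx hxi, h1, h1', C.v_add]
  have hs2 : ∀ b' c', (g * g') * v b' c' * (g * g')⁻¹ = v b' (c' + (s' + s) * b') := by
    intro b' c'
    have e : (g * g') * v b' c' * (g * g')⁻¹ = g * (g' * v b' c' * g'⁻¹) * g⁻¹ := by group
    rw [e, hs', hs]
    congr 1
    ring
  have h5 := rel_b b C hP hY (mul_mem hg hg') hc hx hxi hs2 h4 h2.symm
  linear_combination -h5 + h3 + h3'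

/-- `ρ` has weight 3 -/
theorem rel_c (b : BT V R) (C : Crd V R i j v w1 w2) (τ : TorD V R i j v t)
    (hP : P₀ ≤ centralizer (V : Set G)) (hY : YY V R ≤ P₀)
    {g c x : G} (hg : g ∈ WW V (R j)) (hc : c ∈ P₀) (hx : x ∈ YP b P₀)
    (hxi : x ∈ CY b i) {a s ρ σ ρ' σ' : F} (ha : a ≠ 0) (hs0 : s ≠ 0) (hta : t a * c = c * t a)
    (hs : ∀ b' c', g * v b' c' * g⁻¹ = v b' (c' + s * b'))
    (h1 : kp c (kp g x) = v ρ σ) (h2 : kp c (kp g (t a * x * (t a)⁻¹)) = v ρ' σ') : ρ' = a ^ 3 * ρ := by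
  have htX := τ.memX a ha
  have hx' : t a * x * (t a)⁻¹ ∈ YP b P₀ := YP_conj b hP hY htX hx
  have hxi' : t a * x * (t a)⁻¹ ∈ CY b i := CY_conj b (b.X_le_NV htX) (cj_eq_self_iff.2 (τ.normR ha)) hxi
  have hg' : t a * g * (t a)⁻¹ ∈ WW V (R j) :=
    conj_mem_of_normalizer (normalizer_le_WW V (R j) (τ.normR' ha)) hg
  have h3 : kp c (kp (t a * g * (t a)⁻¹) (t a * x * (t a)⁻¹)) = v (a * ρ) (a⁻¹ * σ) := by
    rw [kp_conj']
    have e : kp c (t a * kp g x * (t a)⁻¹) = t a * kp c (kp g x) * (t a)⁻¹ := by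
      rw [kp_conj]
      congr 3
      rw [mul_assoc, ← hta, inv_mul_cancel_left]
    rw [e, h1, τ.act a _ _ ha]
  have hs' : ∀ b' c', (t a * g * (t a)⁻¹) * v b' c' * (t a * g * (t a)⁻¹)⁻¹ =
      v b' (c' + (a⁻¹ * a⁻¹ * s) * b') := by
    intro b' c'
    have e : (t a * g * (t a)⁻¹) * v b' c' * (t a * g * (t a)⁻¹)⁻¹ =
        t a * (g * (t a⁻¹ * v b' c' * (t a⁻¹)⁻¹) * g⁻¹) * (t a)⁻¹ := by rw [τ.inv ha]; group
    rw [e, τ.act _ _ _ (inv_ne_zero ha), hs, τ.act _ _ _ ha, inv_inv]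
    congr 1
    · rw [← mul_assoc, mul_inv_cancel₀ ha, one_mul]
    · rw [mul_add, ← mul_assoc, inv_mul_cancel₀ ha, one_mul]; ring
  have h4 := rel_P b C hP hY hg hg' hc hx' hxi' hs hs' h2 h3
  -- `s (a ρ) + a⁻² s ρ' = 0`
  have h5 : s * (a * a * (a * ρ) + ρ') = 0 := by
    have e : s * (a * a * (a * ρ) + ρ') = a * a * (s * (a * ρ) + (a⁻¹ * a⁻¹ * s) * ρ') := by
      field_simp
    rw [e, h4, mul_zero]
  have h6 := (mul_eq_zero.1 h5).resolve_left hs0
  have h7 := TorD.two b τ (a * a * (a * ρ))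
  linear_combination h6 - h7

/-- (c): `κ(c, [g, x]) ∈ R j` if `c` centralises `t a`, `t (a + 1)` -/
theorem rel_d (b : BTC V R) (C : Crd V R i j v w1 w2) (τ : TorD V R i j v t)
    (hP : P₀ ≤ centralizer (V : Set G)) (hY : YY V R ≤ P₀)
    {g c x : G} (hg : g ∈ WW V (R j)) (hc : c ∈ P₀) (hx : x ∈ YP b.toBT P₀)
    (hxi : x ∈ CY b.toBT i) {a : F} (ha : a ≠ 0) (ha1 : a + 1 ≠ 0)
    (hta : t a * c = c * t a) (hta' : t (a + 1) * c = c * t (a + 1)) : kp c (kp g x) ∈ R j := by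
  obtain ⟨s, hs⟩ := C.f2 g hg
  by_cases hs0 : s = 0
  · -- `g ∈ U j`
    have h1 : kp g x ∈ V := b.R_le i (hxi.2 g (UU_le_YY j (mem_inf.2 ⟨hg, C.mem_cen fun b' c' => by
      rw [hs, hs0, zero_mul, add_zero]⟩)))
    rw [kp_V hP hc h1]
    exact one_mem _
  obtain ⟨ρ, σ, h1⟩ := (C.v_mem _).1 ((z_mem_YP b.toBT hP hY hg hx).2 c hc)
  have hX1 := YP_conj b.toBT hP hY (τ.memX a ha) hx
  have hX2 := YP_conj b.toBT hP hY (τ.memX _ ha1) hx
  have hC1 := CY_conj b.toBT (b.X_le_NV (τ.memX a ha)) (cj_eq_self_iff.2 (τ.normR ha)) hxi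
  have hC2 := CY_conj b.toBT (b.X_le_NV (τ.memX _ ha1)) (cj_eq_self_iff.2 (τ.normR ha1)) hxi
  obtain ⟨ρ₁, σ₁, h2⟩ := (C.v_mem _).1 ((z_mem_YP b.toBT hP hY hg hX1).2 c hc)
  obtain ⟨ρ₂, σ₂, h3⟩ := (C.v_mem _).1 ((z_mem_YP b.toBT hP hY hg hX2).2 c hc)
  have e1 := rel_c b.toBT C τ hP hY hg hc hx hxi ha hs0 hta hs h1.symm h2.symm
  have e2 := rel_c b.toBT C τ hP hY hg hc hx hxi ha1 hs0 hta' hs h1.symm h3.symm
  -- `t (a + 1) x = d (t a x) x`, `d ∈ V`
  set x₁ := t a * x * (t a)⁻¹ with hx₁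
  set x₂ := t (a + 1) * x * (t (a + 1))⁻¹ with hx₂
  have h4 := τ.wU a 1 ha one_ne_zero ha1 x hxi.1
  rw [τ.one, inv_one, one_mul, mul_one, ← hx₁, ← hx₂] at h4
  have h5 : x₂ * (x₁ * x)⁻¹ ∈ CY b.toBT i := mul_mem hC2 (inv_mem (mul_mem hC1 hxi))
  have h6 : x₂ * (x₁ * x)⁻¹ ∈ V := by
    refine b.cen_DU (i := j) h4 fun u hu => ?_
    have h7 := h5.2 u (UU_le_YY j hu)
    have h8 := b.DU h4 hu
    have h9 : kp u (x₂ * (x₁ * x)⁻¹) ∈ R j := by
      have e : kp u (x₂ * (x₁ * x)⁻¹) =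
          (x₂ * (x₁ * x)⁻¹ * u * (x₂ * (x₁ * x)⁻¹)⁻¹ * u⁻¹)⁻¹ := by unfold kp; group
      rw [e]; exact inv_mem h8
    have h10 := b.eq_one C.ne h7 h9
    unfold kp at h10
    rw [mul_inv_eq_one, mul_inv_eq_iff_eq_mul] at h10
    exact h10.symm
  have h7 : kp c (kp g x₂) = v (ρ₁ + ρ) (σ₁ + σ) := by
    have e : x₂ = x₂ * (x₁ * x)⁻¹ * (x₁ * x) := by group
    rw [e, z_mul b.toBT hP hY hc hg (V_le_YP b.toBT hP h6) (mul_mem hX1 hx), z_V b.toBT hP hc hg h6, one_mul,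
      z_mul b.toBT hP hY hc hg hX1 hx, ← h1, ← h2, ← C.v_add]
  have e3 := (C.eq_of (h3.trans h7)).1
  have h8 : a * (a + 1) * ρ = 0 := by
    have h9 := TorD.two b.toBT τ ((a * (a + 1)) * ρ)
    rw [e1, e2] at e3
    linear_combination e3 - h9
  have h9 : ρ = 0 := (mul_eq_zero.1 h8).resolve_left (mul_ne_zero ha ha1)
  rw [← h1, h9]
  exact (C.Rj _).2 ⟨_, rfl⟩

/-- (d): `c` centralises `t a` ⟹ `[c, d] = 1` for `d ∈ D`, `[c, d] ∈ V` -/
theorem rel_D (b : BT V R) (C : Crd V R i j v w1 w2) (τ : TorD V R i j v t)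
    (hP : P₀ ≤ centralizer (V : Set G)) {c d : G} (hc : c ∈ P₀) (hd : d ∈ DD V R) (hdc : kp c d ∈ V)
    {a : F} (ha : a ≠ 0) (ha1 : a ≠ 1) (hta : t a * c = c * t a) : kp c d = 1 := by
  obtain ⟨β, γ, h1⟩ := (C.v_mem _).1 (b.XD (τ.memX a ha) hd)
  have ha2 : a⁻¹ - 1 ≠ 0 := sub_ne_zero.2 fun h => ha1 (by rw [← inv_inv a, h, inv_one])
  have ha3 : a - 1 ≠ 0 := sub_ne_zero.2 ha1
  -- `w d` commutes with `t a`
  let w := v (-(a - 1)⁻¹ * β) (-(a⁻¹ - 1)⁻¹ * γ)
  have hw : w ∈ V := (C.v_mem _).2 ⟨_, _, rfl⟩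
  have h2 : t a * w * (t a)⁻¹ * v β γ = w := by
    change t a * v _ _ * (t a)⁻¹ * v β γ = v _ _
    rw [τ.act a _ _ ha, ← C.v_add]
    congr 1
    · field_simp; ring
    · field_simp; ring
  have h3 : t a * (w * d) * (t a)⁻¹ = w * d := by
    have e : t a * (w * d) * (t a)⁻¹ = t a * w * (t a)⁻¹ * (t a * d * (t a)⁻¹ * d⁻¹) * d := by group
    rw [e, ← h1, h2]
  have h4 : kp c (w * d) = kp c d := by
    rw [kp_mul, kp_V hP hc hw, one_mul, b.V_comm w hw _ hdc, mul_inv_cancel_right]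
  rw [← h4] at hdc ⊢
  refine τ.fpf_V ha ha1 hdc ?_
  have e : t a * kp c (w * d) * (t a)⁻¹ = kp (t a * c * (t a)⁻¹) (t a * (w * d) * (t a)⁻¹) := by
    rw [kp_conj']
  rw [e, h3, hta, mul_inv_cancel_right]

/-- `n x n⁻¹ ≡ [w2 1, x]` modulo `D` -/
theorem nn_inv (b : BT V R) (C : Crd V R i j v w1 w2) [CharP F 2] {x : G} (hx : x ∈ UU V R i) :
    nn w1 w2 1 * x * (nn w1 w2 1)⁻¹ * (kp (w2 (1 : F)⁻¹) x)⁻¹ ∈ DD V R := by
  have hnX : nn w1 w2 1 ∈ XX V R := C.to_coord.nn_mem_X b 1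
  have hxY := UU_le_YY i hx
  set z := kp (w2 (1 : F)⁻¹) x with hz
  have hzU : z ∈ UU V R j := b.WU' (C.W2 _) hx
  have h1 : nn w1 w2 1 * x * (nn w1 w2 1)⁻¹ ∈ UU V R j := by
    rw [← b.cj_UU (b.X_le_NV hnX) (C.to_coord.nn_R1 b one_ne_zero)]
    exact conj_mem_cj hx
  have hr : kp (w1 1) x ∈ R i := b.WU (C.W1 1) hx
  have hr2 : w1 1 * (w2 (1 : F)⁻¹ * kp (w1 1) x * (w2 (1 : F)⁻¹)⁻¹) * (w1 1)⁻¹ ∈ V :=
    conj_mem_of_normalizer (b.W_le_NV i (C.W1 1)) (conj_mem_of_normalizer (b.W_le_NV j (C.W2 _)) (b.R_le i hr))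
  have h2 : kp (w1 1) z ∈ UU V R i := b.WU' (C.W1 1) hzU
  have h3 : w1 1 * x * (w1 1)⁻¹ ∈ UU V R i := by
    have e : w1 1 * x * (w1 1)⁻¹ = kp (w1 1) x * x := by unfold kp; group
    rw [e]; exact mul_mem (b.R_le_U i hr) hx
  have h4 := b.Y_comm (UU_le_YY j hzU) (UU_le_YY i h3)
  have e : nn w1 w2 1 * x * (nn w1 w2 1)⁻¹ * z⁻¹ =
      (w1 1 * (w2 (1 : F)⁻¹ * kp (w1 1) x * (w2 (1 : F)⁻¹)⁻¹) * (w1 1)⁻¹) * kp (w1 1) z *
        (z * (w1 1 * x * (w1 1)⁻¹) * z⁻¹ * (w1 1 * x * (w1 1)⁻¹)⁻¹) * (w1 1 * x * (w1 1)⁻¹) := by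
    rw [hz]; unfold kp nn; group
  rw [← b.UU_inf C.ne]
  refine mem_inf.2 ⟨?_, mul_mem h1 (inv_mem hzU)⟩
  rw [e]
  exact mul_mem (mul_mem (mul_mem (b.D_le_U i (V_le_D V R hr2)) h2) (b.D_le_U i h4)) h3

/-- `[P₀, x] ≤ R i` -/
theorem kp_mem_R [Finite G] [CharP F 2] (b : BTC V R) (C : Crd V R i j v w1 w2) (τ : TorD V R i j v t)
    (hP : P₀ ≤ centralizer (V : Set G)) (hP2 : IsPGroup 2 P₀) (hY : YY V R ≤ P₀) {a : F} (ha : a ≠ 0)
    (ha1 : a ≠ 1) {c x : G} (hc : c ∈ P₀) (hx : x ∈ YP b.toBT P₀) (hxi : x ∈ CY b.toBT i) :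
    kp c x ∈ R i := by
  have haa : a + 1 ≠ 0 := by
    intro h
    apply ha1
    have h1 := TorD.two b.toBT τ (1 : F)
    exact add_right_cancel (h.trans h1.symm)
  have hnX : nn w1 w2 1 ∈ XX V R := C.to_coord.nn_mem_X b.toBT 1
  have hn : cj (nn w1 w2 1) (R i) = R j := C.to_coord.nn_R1 b.toBT one_ne_zero
  set n := nn w1 w2 1 with hndef
  have hx' : n * x * n⁻¹ ∈ YP b.toBT P₀ := YP_conj b.toBT hP hY hnX hx
  have hxj : n * x * n⁻¹ ∈ CY b.toBT j := CY_conj b.toBT (b.X_le_NV hnX) hn hxi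
  have hc' : n * c * n⁻¹ ∈ P₀ := conj_mem_of_normalizer (X_le_N b.toBT hP hY hnX) hc
  obtain ⟨c₀, hc₀, hcom⟩ := exists_cen_coset (T := τ.grp) (Y := YY V R)
    (by
      rintro _ ⟨a, ha, rfl⟩ _ ⟨a', ha', rfl⟩
      exact τ.comm ha ha')
    (by
      rintro _ ⟨a, ha, rfl⟩
      exact b.NV_le_NY (b.X_le_NV (τ.memX a ha)))
    (by
      rintro _ ⟨a, ha, rfl⟩
      exact τ.odd a ha) (hP2.to_le hY) (n * c * n⁻¹)
    (by
      rintro _ ⟨a, ha, rfl⟩
      have h1 := cen_V_X b.toBT (inv_mem (hP hc')) (τ.memX a ha)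
      rw [inv_inv] at h1
      have e : (n * c * n⁻¹)⁻¹ * (t a * (n * c * n⁻¹) * (t a)⁻¹) = (n * c * n⁻¹)⁻¹ * t a * (n * c * n⁻¹) * (t a)⁻¹ := by
        group
      rw [e]; exact h1)
  have hc₀P : c₀ ∈ P₀ := by
    have h1 := mul_mem hc' (hY hc₀)
    rwa [mul_inv_cancel_left] at h1
  -- `c' = c₀ y`
  have h1 : kp (n * c * n⁻¹) (n * x * n⁻¹) ∈ R j := by
    have e : n * c * n⁻¹ = c₀ * ((n * c * n⁻¹)⁻¹ * c₀)⁻¹ := by group
    rw [e, kmul_left b.toBT hP hc₀P (hY (inv_mem hc₀)) hx']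
    refine mul_mem (hxj.2 _ (inv_mem hc₀)) ?_
    have h2 := nn_inv b.toBT C hxi.1
    rw [← hndef] at h2
    have hz := z_mem_YP b.toBT hP hY (C.W2 (1 : F)⁻¹) hx
    have hd : n * x * n⁻¹ * (kp (w2 (1 : F)⁻¹) x)⁻¹ ∈ YP b.toBT P₀ := mul_mem hx' (inv_mem hz)
    have e2 : n * x * n⁻¹ = n * x * n⁻¹ * (kp (w2 (1 : F)⁻¹) x)⁻¹ * kp (w2 (1 : F)⁻¹) x := by group
    rw [e2, kmul b.toBT hc₀P hd hz,
      rel_D b.toBT C τ hP hc₀P h2 (hd.2 c₀ hc₀P) ha ha1 (hcom _ ⟨a, ha, rfl⟩), one_mul]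
    exact rel_d b C τ hP hY (C.W2 _) hc₀P hx hxi ha haa (hcom _ ⟨a, ha, rfl⟩) (hcom _ ⟨a + 1, haa, rfl⟩)
  rw [kp_conj', ← hn] at h1
  have h2 := mem_cj.1 h1
  rwa [show n⁻¹ * (n * kp c x * n⁻¹) * n = kp c x by group] at h2

/-- `CY i = V` -/
theorem CY_le_V [Finite G] [CharP F 2] (b : BTC V R) (C : Crd V R i j v w1 w2) (τ : TorD V R i j v t)
    {a : F} (ha : a ≠ 0) (ha1 : a ≠ 1) {P : Subgroup G} (hP2 : IsPGroup 2 P)
    (hPV : P ≤ normalizer (V : Set G)) (hPR : P ≤ centralizer (R i : Set G)) (hW : WW V (R i) ≤ P)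
    (hY : YY V R ≤ P)
    (hcen : ∀ x ∈ WW V (R i), (∀ s ∈ P, s * x * s⁻¹ * x⁻¹ ∈ R i) → x ∈ V) : CY b.toBT i ≤ V := by
  by_contra hne
  have hPN : P ≤ normalizer (R i : Set G) := hPR.trans (centralizer_le_normalizer _)
  have h1 : P ≤ normalizer (CY b.toBT i : Set G) := by
    refine le_normalizer_of fun g hg x hx => ?_
    exact CY_conj b.toBT (hPV hg) (cj_eq_self_iff.2 (hPN hg)) hx
  obtain ⟨x, hx, hxV, hxP⟩ := Cz.exists_fixed_mod hP2 (B := CY b.toBT i) (fun x hx => hW (UU_le_WW i hx.1)) h1 hPV hne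
  apply hxV
  have hP₀ : P ⊓ centralizer (V : Set G) ≤ centralizer (V : Set G) := inf_le_right
  have hY₀ : YY V R ≤ P ⊓ centralizer (V : Set G) := le_inf hY YY_le_cen
  have hxY : x ∈ YP b.toBT (P ⊓ centralizer (V : Set G)) := ⟨UU_le_YY i hx.1, fun c hc => hxP c hc.1⟩
  refine hcen x (UU_le_WW i hx.1) fun s hs => ?_
  obtain ⟨w, hw, hws⟩ := cen_fact b.toBT C hP2 hPV hPR hW hs
  have h2 : kp (w * s) x ∈ R i := kp_mem_R b C τ hP₀ (hP2.to_le inf_le_left) hY₀ ha ha1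
    (mem_inf.2 ⟨mul_mem (hW hw) hs, hws⟩) hxY hx
  have e : s * x * s⁻¹ * x⁻¹ = w⁻¹ * kp (w * s) x * w⁻¹⁻¹ * (w⁻¹ * x * w⁻¹⁻¹ * x⁻¹) := by unfold kp; group
  rw [e]
  exact mul_mem (conj_mem_of_normalizer (b.W_le_N i (inv_mem hw)) h2) (b.WU (inv_mem hw) hx.1)

/-- **LEMMA CA**: `C_M(A) = e` -/
theorem cen_A [Finite G] [CharP F 2] (b : BTC V R) (C : Crd V R i j v w1 w2) (τ : TorD V R i j v t)
    {a : F} (ha : a ≠ 0) (ha1 : a ≠ 1) (S : Sylow 2 G) (hSV : (S : Subgroup G) ≤ normalizer (V : Set G))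
    (hSR : (S : Subgroup G) ≤ normalizer (R i : Set G))
    (hcen : ∀ x ∈ WW V (R i), (∀ s ∈ (S : Subgroup G), s ∈ centralizer (R i : Set G) →
      s * x * s⁻¹ * x⁻¹ ∈ R i) → x ∈ V) {x : G} (hx : x ∈ WW V (R i))
    (h : ∀ u ∈ UU V R j, u * x * u⁻¹ * x⁻¹ ∈ R i) : x ∈ V := by
  have hle : ∀ N T : Subgroup G, IsPGroup 2 T → (S : Subgroup G) ≤ N → N ≤ normalizer (T : Set G) →
      T ≤ N → T ≤ (S : Subgroup G) := by
    intro N T hT hSN hN _
    have h3 : IsPGroup 2 ((S : Subgroup G) ⊔ T : Subgroup G) :=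
      S.isPGroup'.to_sup_of_normal_right' hT (hSN.trans hN)
    have h4 := S.is_maximal' h3 le_sup_left
    exact le_sup_right.trans_eq h4
  have hWS : WW V (R i) ≤ (S : Subgroup G) :=
    hle _ _ (b.W_isPGroup i) hSR (normalizer_le_WW V (R i)) (b.W_le_N i)
  have hY2 : IsPGroup 2 (YY V R) := by
    rw [b.Y_eq C.ne]
    exact (b.U_isPGroup i).to_sup_of_normal_right' (b.U_isPGroup j) ((UU_le_cen i).trans (b.cen_le_NU j))
  have hYS : YY V R ≤ (S : Subgroup G) := hle _ _ hY2 hSV b.NV_le_NY Y_le_NV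
  have hxU : x ∈ UU V R i := by
    by_contra hxU
    refine Cz.not_UU_le b S C.ne hSV hSR fun u hu => ?_
    refine b.inj C.ne.symm hx hxU hu ?_
    have e : x * u * x⁻¹ * u⁻¹ = (u * x * u⁻¹ * x⁻¹)⁻¹ := by group
    rw [e]
    exact inv_mem (V_le_D V R (b.R_le i (h u hu)))
  refine CY_le_V b C τ ha ha1 (P := (S : Subgroup G) ⊓ centralizer (R i : Set G)) (S.isPGroup'.to_le inf_le_left)
    (inf_le_left.trans hSV) inf_le_right (le_inf hWS fun w hw => ?_) (le_inf hYS fun y hy => ?_)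
    (fun x hx hs => hcen x hx fun s h1 h2 => hs s (mem_inf.2 ⟨h1, h2⟩)) ⟨hxU, fun y hy => ?_⟩
  · rw [mem_centralizer_iff]
    exact fun r hr => (b.QR i w (b.W_le_Q i hw) r hr).symm
  · exact centralizer_le (b.R_le i) (YY_le_cen hy)
  · let T : Subgroup G :=
      { carrier := {y | y ∈ centralizer (V : Set G) ∧ kp y x ∈ R i}
        one_mem' := ⟨one_mem _, by
          have e : kp 1 x = 1 := by unfold kp; group
          rw [e]; exact one_mem _⟩
        mul_mem' := by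
          rintro c d ⟨hc, hc'⟩ ⟨hd, hd'⟩
          refine ⟨mul_mem hc hd, ?_⟩
          rw [kp_mul_left]
          exact mul_mem (conj_mem_of_normalizer (b.cen_le_N i hc) hd') hc'
        inv_mem' := by
          rintro c ⟨hc, hc'⟩
          refine ⟨inv_mem hc, ?_⟩
          have e : kp c⁻¹ x = c⁻¹ * (kp c x)⁻¹ * c := by unfold kp; group
          rw [e]
          exact conj_inv_mem_of_normalizer (b.cen_le_N i hc) (inv_mem hc') }
    have hT : YY V R ≤ T := by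
      rw [b.Y_eq C.ne]
      refine sup_le (fun u hu => ⟨UU_le_cen i hu, ?_⟩) fun u hu => ⟨UU_le_cen j hu, h u hu⟩
      exact b.WU (UU_le_WW i hu) hxU
    exact (hT hy).2

end main

/-! ### consequences -/

section norm

/-- `g ∈ N(R i)` normalising a group `E ≥ U j` with `[E, V] ≤ R i` normalises `V` -/
theorem norm_of [Finite G] (b : BT V R)
    (hA : ∀ x ∈ WW V (R i), (∀ u ∈ UU V R j, u * x * u⁻¹ * x⁻¹ ∈ R i) → x ∈ V) {E : Subgroup G}
    (hUE : UU V R j ≤ E) (hE : ∀ y ∈ E, ∀ x ∈ V, y * x * y⁻¹ * x⁻¹ ∈ R i) {g : G}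
    (hg : g ∈ normalizer (R i : Set G)) (hgE : g ∈ normalizer (E : Set G)) : g ∈ normalizer (V : Set G) := by
  have _ := b
  refine mem_normalizer_of_conj fun x hx => ?_
  refine hA _ (conj_mem_of_normalizer (normalizer_le_WW V (R i) hg) (V_le_WW V (R i) hx)) fun u hu => ?_
  have h1 := hE _ (conj_inv_mem_of_normalizer hgE (hUE hu)) x hx
  have h2 := conj_mem_of_normalizer hg h1
  have e : g * (g⁻¹ * u * g * x * (g⁻¹ * u * g)⁻¹ * x⁻¹) * g⁻¹ = u * (g * x * g⁻¹) * u⁻¹ * (g * x * g⁻¹)⁻¹ := by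
    group
  rwa [e] at h2

/-- `N(R i) ∩ N(W i U j) ≤ N(V)` -/
theorem norm_of_normA [Finite G] (b : BT V R)
    (hA : ∀ x ∈ WW V (R i), (∀ u ∈ UU V R j, u * x * u⁻¹ * x⁻¹ ∈ R i) → x ∈ V) {g : G}
    (hg : g ∈ normalizer (R i : Set G)) (hgE : g ∈ normalizer ((WW V (R i) ⊔ UU V R j : Subgroup G) : Set G)) :
    g ∈ normalizer (V : Set G) := by
  refine norm_of b hA (E := WW V (R i) ⊔ UU V R j) le_sup_right ?_ hg hgE
  let T : Subgroup G :=
    { carrier := {y | y ∈ normalizer (R i : Set G) ∧ ∀ x ∈ V, kp y x ∈ R i}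
      one_mem' := ⟨one_mem _, fun x _ => by
        have e : kp 1 x = 1 := by unfold kp; group
        rw [e]; exact one_mem _⟩
      mul_mem' := by
        rintro c d ⟨hc, hc'⟩ ⟨hd, hd'⟩
        refine ⟨mul_mem hc hd, fun x hx => ?_⟩
        rw [kp_mul_left]
        exact mul_mem (conj_mem_of_normalizer hc (hd' x hx)) (hc' x hx)
      inv_mem' := by
        rintro c ⟨hc, hc'⟩
        refine ⟨inv_mem hc, fun x hx => ?_⟩
        have e : kp c⁻¹ x = c⁻¹ * (kp c x)⁻¹ * c := by unfold kp; group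
        rw [e]
        exact conj_inv_mem_of_normalizer hc (inv_mem (hc' x hx)) }
  have hT : WW V (R i) ⊔ UU V R j ≤ T := by
    refine sup_le (fun w hw => ⟨b.W_le_N i hw, fun x hx => b.WW_comm i hw (V_le_WW V (R i) hx)⟩)
      fun u hu => ⟨b.cen_le_N i (UU_le_cen j hu), fun x hx => ?_⟩
    have e : kp u x = 1 := by
      unfold kp
      rw [← mem_centralizer_iff.1 (UU_le_cen j hu) x hx]; group
    rw [e]; exact one_mem _
  exact fun y hy x hx => (hT hy).2 x hx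

end norm

end Cfsg.Agent.Omega.IIa4.CenA

end

section


/-!
# II.a, `q ≥ 4`: reduction of `GZero` to `HasBN (X ⊔ E)`

`Sit.cen_A`: LEMMA CA in the situation `Sit`;  `Sit.frattini`: `N(R i) = E (N(R i) ∩ N(V))` for every `E` normal
in `N(R i)` with `U j ≤ E ≤ C(R i)`;  `Sit.gZero_of`.
-/

set_option autoImplicit false
set_option linter.unusedSectionVars false

namespace Cfsg.Agent.Omega.IIa4

open Subgroup Cfsg Cfsg.Agent.ZN Cfsg.Agent.Omega.NatPair Cfsg.Agent.Omega.BTwo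
open Cfsg.Agent.Omega.Frame Cfsg.Agent.Omega.FrameFF

universe u

namespace Sit

variable {G : Type u} [Group G] [Finite G] {S : Sylow 2 G} {P : Subgroup G} {g : G} {F : Type} [Field F]
  [Finite F] [CharP F 2] {M : NatMod F (zl (S : Subgroup G) P)} (h : Sit S P g M)
include h

/-- a Sylow 2-subgroup in `N(V) ∩ N(R i)` -/
theorem exists_sylow (i : Pt M) : ∃ S₁ : Sylow 2 G, (S₁ : Subgroup G) ≤ normalizer (zl (S : Subgroup G) P : Set G) ∧
    (S₁ : Subgroup G) ≤ normalizer (pt M i : Set G) := by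
  obtain ⟨_, w, hw, rfl⟩ := i
  exact M.exists_sylow S h.le_N hw

theorem W_le (i : Pt M) (S₁ : Sylow 2 G) (hSR : (S₁ : Subgroup G) ≤ normalizer (pt M i : Set G)) :
    WW (zl (S : Subgroup G) P) (pt M i) ≤ (S₁ : Subgroup G) := by
  have h3 := S₁.isPGroup'.to_sup_of_normal_right' (h.bt.W_isPGroup i)
    (hSR.trans (normalizer_le_WW (zl (S : Subgroup G) P) (pt M i)))
  exact le_sup_right.trans_eq (S₁.is_maximal' h3 le_sup_left)

theorem Y_le (S₁ : Sylow 2 G) (hSV : (S₁ : Subgroup G) ≤ normalizer (zl (S : Subgroup G) P : Set G)) :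
    YY (zl (S : Subgroup G) P) (pt M) ≤ (S₁ : Subgroup G) := by
  obtain ⟨i, j, hij⟩ := h.bt.exists_pair
  have hY2 : IsPGroup 2 (YY (zl (S : Subgroup G) P) (pt M)) := by
    rw [h.bt.Y_eq hij]
    exact (h.bt.U_isPGroup i).to_sup_of_normal_right' (h.bt.U_isPGroup j)
      ((UU_le_cen i).trans (h.bt.cen_le_NU j))
  have h3 := S₁.isPGroup'.to_sup_of_normal_right' hY2 (hSV.trans h.bt.NV_le_NY)
  exact le_sup_right.trans_eq (S₁.is_maximal' h3 le_sup_left)

/-- **LEMMA CA**: `C_{W/R}(U j) = V/R` -/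
theorem cen_A (hcen : CenSE (zl (S : Subgroup G) P) (pt M)) {i j : Pt M} (hij : i ≠ j) :
    ∀ x ∈ WW (zl (S : Subgroup G) P) (pt M i), (∀ u ∈ UU (zl (S : Subgroup G) P) (pt M) j,
      u * x * u⁻¹ * x⁻¹ ∈ pt M i) → x ∈ zl (S : Subgroup G) P := by
  intro x hx hu
  obtain ⟨S₁, hSV, hSR⟩ := h.exists_sylow i
  obtain ⟨v, w1, w2, c⟩ := h.exists_coord hij
  obtain ⟨t, τ⟩ := h.exists_torD c
  obtain ⟨a, ha, ha1⟩ := h.exists_ne
  exact CenA.cen_A h.btc (Lie.Crd.of_coord c) τ ha ha1 S₁ hSV hSR (hcen i S₁ hSV hSR) hx hu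

/-- `N(R i) ∩ N(W i U j) ≤ N(V)` -/
theorem norm_of_normA (hcen : CenSE (zl (S : Subgroup G) P) (pt M)) {i j : Pt M} (hij : i ≠ j) {g : G}
    (hg : g ∈ normalizer (pt M i : Set G))
    (hgE : g ∈ normalizer ((WW (zl (S : Subgroup G) P) (pt M i) ⊔ UU (zl (S : Subgroup G) P) (pt M) j :
      Subgroup G) : Set G)) : g ∈ normalizer (zl (S : Subgroup G) P : Set G) :=
  CenA.norm_of_normA h.bt (h.cen_A hcen hij) hg hgE

/-- `[s, x] ∈ R i` for `x ∈ V` and `s` in a 2-subgroup of `C(R i) ∩ N(V)` -/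
theorem comm_V {i : Pt M} (S₁ : Sylow 2 G) (hSV : (S₁ : Subgroup G) ≤ normalizer (zl (S : Subgroup G) P : Set G))
    (hSR : (S₁ : Subgroup G) ≤ normalizer (pt M i : Set G)) {s x : G} (hs : s ∈ (S₁ : Subgroup G))
    (hsR : s ∈ centralizer (pt M i : Set G)) (hx : x ∈ zl (S : Subgroup G) P) : s * x * s⁻¹ * x⁻¹ ∈ pt M i := by
  obtain ⟨j, hj, -⟩ := h.bt.third i i
  obtain ⟨v, w1, w2, c⟩ := h.exists_coord (Ne.symm hj)
  obtain ⟨w, hw, hws⟩ := Lie.cen_fact h.bt (Lie.Crd.of_coord c)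
    (P := (S₁ : Subgroup G) ⊓ centralizer (pt M i : Set G)) (S₁.isPGroup'.to_le inf_le_left)
    (inf_le_left.trans hSV) inf_le_right (le_inf (h.W_le i S₁ hSR) fun w hw => by
      rw [mem_centralizer_iff]
      exact fun r hr => (h.bt.QR i w (h.bt.W_le_Q i hw) r hr).symm) (mem_inf.2 ⟨hs, hsR⟩)
  have e : s * x * s⁻¹ * x⁻¹ = w⁻¹ * ((w * s) * x * (w * s)⁻¹) * w⁻¹⁻¹ * x⁻¹ := by group
  rw [e, ← mem_centralizer_iff.1 hws x hx, mul_inv_cancel_right]
  exact h.bt.WW_comm i (inv_mem hw) (V_le_WW _ _ hx)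

/-- **Frattini**: `N(R i) = E (N(R i) ∩ N(V))` -/
theorem frattini (hcen : CenSE (zl (S : Subgroup G) P) (pt M)) {i j : Pt M} (hij : i ≠ j) {E : Subgroup G}
    (hE : normalizer (pt M i : Set G) ≤ normalizer (E : Set G)) (hUE : UU (zl (S : Subgroup G) P) (pt M) j ≤ E)
    (hER : E ≤ centralizer (pt M i : Set G)) {g : G} (hg : g ∈ normalizer (pt M i : Set G)) :
    ∃ e ∈ E, e * g ∈ normalizer (zl (S : Subgroup G) P : Set G) := by
  obtain ⟨S₁, hSV, hSR⟩ := h.exists_sylow i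
  have hEN : E ≤ normalizer (pt M i : Set G) := hER.trans (centralizer_le_normalizer _)
  have h1 := ((StdEven.Syl.isSyl_top_of_sylow S₁).mono hSR le_top).inf_normal hEN hE
  obtain ⟨n, hn, hng⟩ := h1.frattini (hE hg)
  refine ⟨n, hn, CenA.norm_of h.bt (h.cen_A hcen hij) (E := (S₁ : Subgroup G) ⊓ E)
    (le_inf ((UU_le_YY j).trans (h.Y_le S₁ hSV)) hUE) ?_ (mul_mem (hEN hn) hg) hng⟩
  exact fun y hy x hx => h.comm_V S₁ hSV hSR hy.1 (hER hy.2) hx

/-- **`GZero` from a BN-pair of `X E`** -/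
theorem gZero_of (hcen : CenSE (zl (S : Subgroup G) P) (pt M)) {i j : Pt M} (hij : i ≠ j) {E : Subgroup G}
    (hE : normalizer (pt M i : Set G) ≤ normalizer (E : Set G)) (hUE : UU (zl (S : Subgroup G) P) (pt M) j ≤ E)
    (hER : E ≤ centralizer (pt M i : Set G))
    (hBN : HasBN ↥(XX (zl (S : Subgroup G) P) (pt M) ⊔ E)) : GZero (zl (S : Subgroup G) P) (pt M) := by
  have key : ∀ g ∈ normalizer (pt M i : Set G), g ∈ normalizer (zl (S : Subgroup G) P : Set G) →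
      g ∈ normalizer ((XX (zl (S : Subgroup G) P) (pt M) ⊔ E : Subgroup G) : Set G) := by
    intro g h1 h2
    rw [← BTwo.cj_eq_self_iff, cj_sup, BTwo.cj_eq_self_iff.2 (h.bt.NV_le_NX h2), BTwo.cj_eq_self_iff.2 (hE h1)]
  refine ⟨i, _, ?_, ?_, ?_, hBN⟩
  · intro h0
    apply h.bt.R_ne i
    rw [eq_bot_iff, ← h0]
    exact (h.bt.R_le i).trans ((V_le_WW _ _).trans ((W_le_X _ (pt M) i).trans le_sup_left))
  · intro g hg
    obtain ⟨k, hk⟩ := h.bt.perm g hg i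
    obtain ⟨x, hx, ex⟩ := h.bt.trans_X_one k i
    have h1 : x * g ∈ normalizer (pt M i : Set G) := by
      rw [← BTwo.cj_eq_self_iff, BTwo.cj_mul, hk, ex]
    have h2 := key _ h1 (mul_mem (h.bt.X_le_NV hx) hg)
    have h3 : x ∈ normalizer ((XX (zl (S : Subgroup G) P) (pt M) ⊔ E : Subgroup G) : Set G) :=
      le_normalizer (mem_sup_left hx)
    have e : g = x⁻¹ * (x * g) := by group
    rw [e]
    exact mul_mem (inv_mem h3) h2
  · intro g hg
    obtain ⟨e, he, heg⟩ := h.frattini hcen hij hE hUE hER hg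
    have h2 := key _ (mul_mem (hER.trans (centralizer_le_normalizer _) he) hg) heg
    have h3 : e ∈ normalizer ((XX (zl (S : Subgroup G) P) (pt M) ⊔ E : Subgroup G) : Set G) :=
      le_normalizer (mem_sup_right he)
    have e1 : g = e⁻¹ * (e * g) := by group
    rw [e1]
    exact mul_mem (inv_mem h3) h2

end Sit

end Cfsg.Agent.Omega.IIa4

end

section


/-!
# II.a, `q ≥ 4`: the product of the moved components is `⟨A^H⟩` (piece (P4) of #15373)

`up R L` : the preimage in `G` of `L ≤ H = N(R)/O₂(N(R))`.  For `l : Lay V R i j T S` (LAYER at the pair `(i, j)`):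

* `Lay.dat` : the data of `End.AHat`;
* `Lay.mcomp_conj`, `Lay.nc_eq`, `Lay.sylow_eq`, `Lay.mcomp_of_le`, `Lay.nc_perfect` : if `(⨆ K ∈ MComp, K)` is normal in
  `H`, the moved components are permuted by `H`, `⟨A^H⟩ = ⨆ K`, `S ⊓ ⟨A^H⟩ = ⨆ (S ⊓ K)`, the components of `H`
  contained in `⟨A^H⟩` are the moved ones;
* `Sit.mcomp_normal` : in the situation `Sit` with `CenSE` the product of the moved components is normal.
-/

set_option autoImplicit false
set_option linter.unusedSectionVars false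

namespace Cfsg.Agent.Omega.IIa4

open Subgroup Cfsg Cfsg.Agent.ZN Cfsg.Agent.Omega.NatPair Cfsg.Agent.Omega.BTwo
open Cfsg.Agent.Omega.Frame Cfsg.Agent.Omega.FrameFF Cfsg.Agent.Omega.Lie Cfsg.Agent.Omega.Lie.Quot
open Cfsg.Agent.Omega.Lie.End

universe u

/-! ### Preimages in `G` -/

namespace Moved

section up

variable {G : Type u} [Group G] {R : Subgroup G} {L L' : Subgroup (HQ R)}

/-- the preimage in `G` of a subgroup of `N(R)/O₂(N(R))` -/
def up (R : Subgroup G) (L : Subgroup (HQ R)) : Subgroup G :=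
  (L.comap (pr R)).map (normalizer (R : Set G)).subtype

theorem mem_up {g : G} : g ∈ up R L ↔ ∃ hg : g ∈ normalizer (R : Set G), pr R ⟨g, hg⟩ ∈ L := by
  unfold up
  rw [mem_map]
  constructor
  · rintro ⟨x, hx, rfl⟩
    exact ⟨x.2, hx⟩
  · rintro ⟨hg, hL⟩
    exact ⟨⟨g, hg⟩, hL, rfl⟩

theorem up_mono (h : L ≤ L') : up R L ≤ up R L' := fun g hg => by
  obtain ⟨h1, h2⟩ := mem_up.1 hg
  exact mem_up.2 ⟨h1, h h2⟩

theorem QQ_le_up : QQ R ≤ up R L := fun g hg => by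
  have h1 : g ∈ normalizer (R : Set G) := by
    obtain ⟨x, -, rfl⟩ := hg
    exact x.2
  refine mem_up.2 ⟨h1, ?_⟩
  rw [(pr_eq_one h1).2 hg]
  exact one_mem _

theorem le_up {A : Subgroup G} (hA : A ≤ normalizer (R : Set G)) (h : im R A ≤ L) : A ≤ up R L := fun _ hg =>
  mem_up.2 ⟨hA hg, h (pr_mem_im (hA hg) hg)⟩

theorem up_im {A : Subgroup G} (hQ : QQ R ≤ A) (hA : A ≤ normalizer (R : Set G)) : up R (im R A) = A := by
  refine le_antisymm (fun g hg => ?_) (le_up hA le_rfl)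
  obtain ⟨h1, h2⟩ := mem_up.1 hg
  exact (pr_mem_im_iff hQ h1).1 h2

theorem up_conj (hL : L.Normal) {g x : G} (hg : g ∈ normalizer (R : Set G)) (hx : x ∈ up R L) :
    g * x * g⁻¹ ∈ up R L := by
  obtain ⟨h1, h2⟩ := mem_up.1 hx
  exact mem_up.2 ⟨mul_mem (mul_mem hg h1) (inv_mem hg), hL.conj_mem _ h2 (pr R ⟨g, hg⟩)⟩

/-- the preimage of a normal subgroup is normal in `N(R)` -/
theorem le_normalizer_up (hL : L.Normal) : normalizer (R : Set G) ≤ normalizer (up R L : Set G) := by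
  intro g hg
  rw [mem_normalizer_iff]
  intro x
  refine ⟨up_conj hL hg, fun h => ?_⟩
  have h1 := up_conj hL (inv_mem hg) h
  have e : g⁻¹ * (g * x * g⁻¹) * g⁻¹⁻¹ = x := by group
  rwa [e] at h1

end up

section BT

variable {G : Type u} [Group G] {ι : Type*} {V : Subgroup G} {R : ι → Subgroup G} {i j : ι}

/-- `C(R i)` is the preimage of `H⁰` -/
theorem up_H0 (b : BT V R) : up (R i) (H0 R i) = centralizer (R i : Set G) :=
  up_im (Q_le_C b i) (centralizer_le_normalizer _)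

/-- `A` is the image of `Y` -/
theorem im_YY (b : BT V R) (hij : i ≠ j) : im (R i) (YY V R) = AA V R i j := by
  have h1 : UU V R i ≤ QQ (R i) := (UU_le_WW i).trans (b.W_le_Q i)
  rw [b.Y_eq hij, im_sup (h1.trans (b.Q_le i)) (U_le_N b i j), im_eq_bot h1, bot_sup_eq]
  rfl

/-- elements of `N(R i) ⊓ N(V)` normalise `A` -/
theorem norm_A (b : BT V R) (hij : i ≠ j) {g : G} (hg : g ∈ normalizer (R i : Set G))
    (hV : g ∈ normalizer (V : Set G)) : ∀ a ∈ AA V R i j, pr (R i) ⟨g, hg⟩ * a * (pr (R i) ⟨g, hg⟩)⁻¹ ∈ AA V R i j := by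
  rw [← im_YY b hij]
  intro a ha
  obtain ⟨y, hy, hyY, rfl⟩ := mem_im.1 ha
  exact mem_im.2 ⟨_, _, conj_mem_of_normalizer (b.NV_le_NY hV) hyY, rfl⟩

/-- `⟨U_j^{N(R i)}⟩ O₂(N(R i))` -/
def EE (V : Subgroup G) (R : ι → Subgroup G) (i j : ι) : Subgroup G :=
  up (R i) (normalClosure (AA V R i j : Set (HQ (R i))))

theorem U_le_EE (b : BT V R) : UU V R j ≤ EE V R i j :=
  le_up (U_le_N b i j) fun _ hx => subset_normalClosure hx

theorem Y_le_EE (b : BT V R) (hij : i ≠ j) : YY V R ≤ EE V R i j := by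
  refine le_up ((YY_le_cen).trans (b.cen_le_N i)) ?_
  rw [im_YY b hij]
  exact fun _ hx => subset_normalClosure hx

theorem NR_le_NEE : normalizer (R i : Set G) ≤ normalizer (EE V R i j : Set G) :=
  le_normalizer_up inferInstance

theorem EE_le_cen (b : BT V R) : EE V R i j ≤ centralizer (R i : Set G) := by
  rw [← up_H0 b]
  have := Layer.H0_normal R i
  exact up_mono (normalClosure_le_normal (Layer.A_le_H0 b))

end BT

end Moved

open Moved AHat

/-! ### The moved components -/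

namespace Lay

variable {G : Type u} [Group G] {ι : Type*} {V : Subgroup G} {R : ι → Subgroup G} {i j : ι}
  {T S : Subgroup (HQ (R i))} (l : Lay V R i j T S) (b : BT V R) (hij : i ≠ j)
include l b hij

/-- the data of `End.AHat` -/
theorem dat : Dat (H0 R i) S (AA V R i j) T where
  O2 := pCore_HQ (R i)
  norm := Layer.H0_normal R i
  A_le := Layer.A_le_H0 b
  sq := fun _ ha => A_sq b hij ha
  odd := l.odd
  hyp := l.hyp

variable [Finite G]

/-- `A ⊓ K ≠ 1` for a moved component -/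
theorem inf_ne {K : Subgroup (HQ (R i))} (hK : MComp V R i j K) : AA V R i j ⊓ K ≠ ⊥ := (l.dat b hij).inf_ne hK

theorem comp_le_nc {K : Subgroup (HQ (R i))} (hK : MComp V R i j K) :
    K ≤ normalClosure (AA V R i j : Set (HQ (R i))) := (l.dat b hij).le_nc hK

section normal

variable (hn : (⨆ K ∈ {K : Subgroup (HQ (R i)) | MComp V R i j K}, K).Normal)
include hn

/-- **`⟨A^H⟩ = ∏ K`** -/
theorem nc_eq : normalClosure (AA V R i j : Set (HQ (R i))) = ⨆ K ∈ {K : Subgroup (HQ (R i)) | MComp V R i j K}, K :=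
  le_antisymm (normalClosure_le_normal (l.dat b hij).A_le_prod) (l.dat b hij).prod_le_nc

/-- a component in `⟨A^H⟩` is moved -/
theorem mcomp_of_le {L : Subgroup (HQ (R i))} (hL : IsComponent L)
    (hle : L ≤ normalClosure (AA V R i j : Set (HQ (R i)))) : MComp V R i j L := by
  by_contra hcon
  have h1 : normalClosure (AA V R i j : Set (HQ (R i))) ≤ centralizer (L : Set (HQ (R i))) := by
    rw [l.nc_eq b hij hn]
    refine iSup₂_le fun K hK => ?_
    exact SignalizersComponents.Components.component_le_centralizer_of_ne hK.1 hL (by rintro rfl; exact hcon hK)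
  apply SignalizersComponents.Components.quasisimple_not_isMulCommutative hL.2
  refine ⟨⟨fun x y => Subtype.ext ?_⟩⟩
  exact (mem_centralizer_iff.1 (h1 (hle x.2)) y y.2).symm

/-- the moved components are permuted by `H` -/
theorem mcomp_conj {K : Subgroup (HQ (R i))} (hK : MComp V R i j K) (h : HQ (R i)) : MComp V R i j (cg h K) := by
  refine l.mcomp_of_le b hij hn (SignalizersComponents.Components.isComponent_conj h hK.1) ?_
  rintro _ ⟨x, hx, rfl⟩
  exact (inferInstance : (normalClosure (AA V R i j : Set (HQ (R i)))).Normal).conj_mem _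
    (l.comp_le_nc b hij hK hx) h

/-- **`S ⊓ ⟨A^H⟩ = ∏ (S ⊓ K)`** -/
theorem sylow_eq (hS : IsPGroup 2 S) : S ⊓ normalClosure (AA V R i j : Set (HQ (R i))) =
    ⨆ K ∈ {K : Subgroup (HQ (R i)) | MComp V R i j K}, S ⊓ K :=
  (l.dat b hij).sylow_eq hS fun _ hK h => l.mcomp_conj b hij hn hK h

end normal

/-- the product of the moved components is normal if `H = ⟨A^H⟩ N_H(A)` -/
theorem normal_of_fac (hfac : ∀ h : HQ (R i), ∃ x ∈ normalClosure (AA V R i j : Set (HQ (R i))),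
    ∃ n, (∀ a ∈ AA V R i j, n * a * n⁻¹ ∈ AA V R i j) ∧ h = x * n) :
    (⨆ K ∈ {K : Subgroup (HQ (R i)) | MComp V R i j K}, K).Normal := by
  have h1 := (l.dat b hij).nc_eq fun _ hK h => (l.dat b hij).inv_of_fac hfac hK h
  change normalClosure (AA V R i j : Set (HQ (R i))) =
    ⨆ K ∈ {K : Subgroup (HQ (R i)) | MComp V R i j K}, K at h1
  rw [← h1]
  infer_instance

end Lay

namespace Sit

variable {G : Type u} [Group G] [Finite G] {S : Sylow 2 G} {P : Subgroup G} {g : G} {F : Type} [Field F]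
  [Finite F] [CharP F 2] {M : NatMod F (zl (S : Subgroup G) P)} (h : Sit S P g M)
include h

/-- `H = ⟨A^H⟩ N_H(A)` -/
theorem fac (hcen : CenSE (zl (S : Subgroup G) P) (pt M)) {i j : Pt M} (hij : i ≠ j) (x : HQ (pt M i)) :
    ∃ e ∈ normalClosure (AA (zl (S : Subgroup G) P) (pt M) i j : Set (HQ (pt M i))), ∃ n,
      (∀ a ∈ AA (zl (S : Subgroup G) P) (pt M) i j, n * a * n⁻¹ ∈ AA (zl (S : Subgroup G) P) (pt M) i j) ∧
      x = e * n := by
  obtain ⟨y, hy, rfl⟩ := exists_pr x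
  obtain ⟨e, he, hV⟩ := h.frattini hcen hij (E := EE (zl (S : Subgroup G) P) (pt M) i j) NR_le_NEE (U_le_EE h.bt)
    (EE_le_cen h.bt) hy
  obtain ⟨heN, heE⟩ := mem_up.1 he
  refine ⟨(Quot.pr (pt M i) ⟨e, heN⟩)⁻¹, inv_mem heE, Quot.pr (pt M i) ⟨e * y, mul_mem heN hy⟩, norm_A h.bt hij _ hV, ?_⟩
  rw [eq_inv_mul_iff_mul_eq, ← map_mul]
  rfl

end Sit

end Cfsg.Agent.Omega.IIa4

end

section


/-!
# `IIa4.TIRP` (part 3 of the leaf II.a, `q ≥ 4`)
-/

set_option autoImplicit false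

namespace Cfsg.Agent.Omega.IIa4

universe u

theorem tirp : TIRP.{u} := fun _ _ _ _ _ _ _ _ _ _ _ h hs hC => h.tir hs hC

end Cfsg.Agent.Omega.IIa4

end

end
end

-- part: Mrg/Omega/Lie/End/OfLay
section
set_option linter.all false
open scoped Cfsg.Agent.FastGrp

section


/-!
# From LAYER to the K-side: the action of the torus `T` on a component

`CompB.Hyp S A T K` and the scalar action of `T` on `A` give `End.TAct` for the Sylow 2-subgroup `S ⊓ K` of `K` and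
the image of `T` in `Aut(K)`.
-/

set_option autoImplicit false
set_option linter.unusedSectionVars false

namespace Cfsg.Agent.Omega.Lie.End.OfLay

open Subgroup Cfsg Cfsg.Agent.Omega.BTwo Cfsg.Agent.Omega.Lie Cfsg.Agent.Omega.Lie.Quot Cfsg.Agent.Omega.IIa4

universe u

section abstract

variable {H : Type*} [Group H] {S A T K : Subgroup H}

/-- a component has centre of odd order if `O₂(H) = 1` -/
theorem odd_center [Finite H] (hO : pCore 2 H = ⊥) (hK : IsComponent K) : Odd (Nat.card (center K)) := by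
  rw [← Nat.not_even_iff_odd, even_iff_two_dvd]
  intro h2
  have : Fact (Nat.Prime 2) := ⟨Nat.prime_two⟩
  obtain ⟨x, hx⟩ := exists_prime_orderOf_dvd_card' (G := center K) 2 h2
  have h3 : ((x : K) : H) = 1 := by
    refine center_eq_one hO hK (x : K).2 (fun y hy => ?_) ?_
    · exact (congrArg Subtype.val (mem_center_iff.1 x.2 ⟨y, hy⟩)).symm
    · have h4 := pow_orderOf_eq_one x
      rw [hx, pow_two] at h4
      exact congrArg (fun z : center K => ((z : K) : H)) h4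
  have h4 : x = 1 := Subtype.ext (Subtype.ext h3)
  rw [h4, orderOf_one] at hx
  exact absurd hx (by norm_num)

/-- the group of automorphisms of `K` induced by `T` -/
def Tact (T K : Subgroup H) : Subgroup (MulAut K) :=
  (T.subgroupOf (normalizer (K : Set H))).map K.normalizerMonoidHom

theorem mem_Tact {τ : MulAut K} : τ ∈ Tact T K ↔
    ∃ t ∈ T, t ∈ normalizer (K : Set H) ∧ ∀ x : K, ((τ x : K) : H) = t * x * t⁻¹ := by
  unfold Tact
  rw [mem_map]
  constructor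
  · rintro ⟨t, ht, rfl⟩
    exact ⟨t, mem_subgroupOf.1 ht, t.2, fun x => rfl⟩
  · rintro ⟨t, ht, hN, h⟩
    exact ⟨⟨t, hN⟩, mem_subgroupOf.2 ht, MulEquiv.ext fun x => Subtype.ext (h x).symm⟩

/-- uniform addition -/
def ScalU (A T : Subgroup H) : Prop :=
  ∀ s ∈ T, ∀ t ∈ T, s ≠ t → ∃ r ∈ T, ∀ a ∈ A, s * a * s⁻¹ * (t * a * t⁻¹) = r * a * r⁻¹

theorem T_le (h : CompB.Pre S A T K) : T ≤ normalizer (K : Set H) := by
  intro t ht
  rw [mem_normalizer_iff]
  exact fun x => (h.TK_iff ht).symm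

theorem AT_le (h : CompB.Pre S A T K) : AT (S.subgroupOf K) (Tact T K) ≤ (A ⊓ K).subgroupOf K := by
  unfold AT
  rw [closure_le]
  rintro a ⟨τ, hτ, u, hu, rfl⟩
  obtain ⟨t, ht, -, h1⟩ := mem_Tact.1 hτ
  refine mem_subgroupOf.2 ⟨?_, SetLike.coe_mem _⟩
  have e : ((u⁻¹ * τ u : K) : H) = (u : H)⁻¹ * (t * u * t⁻¹) := by rw [coe_mul, coe_inv, h1]
  rw [e]
  exact h.ST t ht u (mem_subgroupOf.1 hu)

/-- `[S ⊓ K, T] = A ⊓ K` -/
theorem AT_eq (h : CompB.Hyp S A T K) : AT (S.subgroupOf K) (Tact T K) = (A ⊓ K).subgroupOf K := by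
  refine le_antisymm (AT_le h.toPre) ?_
  intro x hx
  have h1 := mem_subgroupOf.1 hx
  rw [h.inf_eq] at h1
  have h2 : closure {g | ∃ s ∈ S ⊓ K, ∃ t ∈ T, s⁻¹ * (t * s * t⁻¹) = g} ≤
      (AT (S.subgroupOf K) (Tact T K)).map K.subtype := by
    rw [closure_le]
    rintro g ⟨s, hs, t, ht, rfl⟩
    refine ⟨(⟨s, hs.2⟩ : K)⁻¹ * K.normalizerMonoidHom ⟨t, T_le h.toPre ht⟩ ⟨s, hs.2⟩, ?_, rfl⟩
    exact subset_closure ⟨_, mem_Tact.2 ⟨t, ht, T_le h.toPre ht, fun x => rfl⟩, _, mem_subgroupOf.2 hs.1, rfl⟩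
  obtain ⟨y, hy, e⟩ := h2 h1
  have : y = x := Subtype.ext e
  rwa [this] at hy

/-- `S ⊓ K` is a Sylow 2-subgroup of `K` -/
theorem exists_sylow [Finite H] (h : CompB.Pre S A T K) : ∃ P : Sylow 2 K, (P : Subgroup K) = S.subgroupOf K := by
  have : Fact (Nat.Prime 2) := ⟨Nat.prime_two⟩
  have h2 : IsPGroup 2 (S.subgroupOf K) := h.S2.comap_of_injective K.subtype K.subtype_injective
  obtain ⟨P, hP⟩ := h2.exists_le_sylow
  refine ⟨P, le_antisymm ?_ hP⟩
  intro x hx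
  have h3 := h.syl ((P : Subgroup K).map K.subtype) (map_subtype_le _) (P.isPGroup'.map K.subtype) (by
    rintro y ⟨hyS, hyK⟩
    exact ⟨⟨y, hyK⟩, hP (mem_subgroupOf.2 hyS), rfl⟩)
  exact mem_subgroupOf.2 (h3 ⟨x, hx, rfl⟩)

theorem eq_one_of_act (h : CompB.Hyp S A T K) (hne : ∃ a ∈ A, ∃ x ∈ K, a * x ≠ x * a) (sc : CompT.Scal A T) {t : H}
    (ht : t ∈ T) (hc : ∀ x ∈ K, t * x * t⁻¹ = x) : t = 1 := by
  obtain ⟨b, hb1⟩ := ne_bot_iff_exists_ne_one.1 (h.inf_ne_bot hne)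
  exact sc.reg b b.2.1 (fun h0 => hb1 (Subtype.ext h0)) t ht (hc b b.2.2)

theorem card_Tact (h : CompB.Hyp S A T K) (hne : ∃ a ∈ A, ∃ x ∈ K, a * x ≠ x * a) (sc : CompT.Scal A T) :
    Nat.card (Tact T K) = Nat.card T := by
  have hT := T_le h.toPre
  have hinj : Function.Injective (K.normalizerMonoidHom.comp (T.subgroupOf (normalizer (K : Set H))).subtype) := by
    rw [injective_iff_map_eq_one]
    rintro ⟨t, ht⟩ h1
    have h2 : ((t : normalizer (K : Set H)) : H) = 1 := by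
      refine eq_one_of_act h hne sc (mem_subgroupOf.1 ht) fun x hx => ?_
      exact congrArg Subtype.val (DFunLike.congr_fun h1 ⟨x, hx⟩)
    exact Subtype.ext (Subtype.ext h2)
  have e : Tact T K = (K.normalizerMonoidHom.comp (T.subgroupOf (normalizer (K : Set H))).subtype).range := by
    unfold Tact
    rw [MonoidHom.range_comp, range_subtype]
  rw [e, ← Nat.card_congr (MonoidHom.ofInjective hinj).toEquiv]
  exact Nat.card_congr (subgroupOfEquivOfLe hT).toEquiv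

/-- **`TAct`** for `S ⊓ K` and the image of `T` in `Aut(K)` -/
theorem tact (h : CompB.Hyp S A T K) (hne : ∃ a ∈ A, ∃ x ∈ K, a * x ≠ x * a) (sc : CompT.Scal A T)
    (su : ScalU A T) (hodd : Odd (Nat.card T)) (h3 : 3 ≤ Nat.card T) : TAct (S.subgroupOf K) (Tact T K) where
  comm := by
    intro τ hτ τ' hτ'
    obtain ⟨t, ht, -, h1⟩ := mem_Tact.1 hτ
    obtain ⟨t', ht', -, h1'⟩ := mem_Tact.1 hτ'
    refine MulEquiv.ext fun x => Subtype.ext ?_
    rw [MulAut.mul_apply, MulAut.mul_apply, h1, h1', h1', h1]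
    have e := sc.comm t ht t' ht'
    calc t * (t' * x * t'⁻¹) * t⁻¹ = t * t' * x * (t * t')⁻¹ := by group
      _ = t' * t * x * (t' * t)⁻¹ := by rw [e]
      _ = t' * (t * x * t⁻¹) * t'⁻¹ := by group
  odd := by rw [card_Tact h hne sc]; exact hodd
  three := by rw [card_Tact h hne sc]; exact h3
  stab := by
    intro τ hτ u hu
    obtain ⟨t, ht, -, h1⟩ := mem_Tact.1 hτ
    rw [mem_subgroupOf, h1]
    exact h.TS t ht u (mem_subgroupOf.1 hu)
  ab := by
    intro a ha a' ha'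
    exact Subtype.ext (h.commA (mem_subgroupOf.1 (AT_le h.toPre ha)).1 (mem_subgroupOf.1 (AT_le h.toPre ha')).1)
  sq := fun a ha => Subtype.ext (h.A2 a (mem_subgroupOf.1 (AT_le h.toPre ha)).1)
  fpf := by
    intro τ hτ hτ1 a ha e
    obtain ⟨t, ht, hN, h1⟩ := mem_Tact.1 hτ
    by_contra ha1
    have h2 : t = 1 := by
      refine sc.reg a (mem_subgroupOf.1 (AT_le h.toPre ha)).1 (fun h0 => ha1 (Subtype.ext h0)) t ht ?_
      rw [← h1, e]
    refine hτ1 (MulEquiv.ext fun x => Subtype.ext ?_)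
    rw [h1, h2]
    simp
  scal := by
    intro τ hτ τ' hτ' hne'
    obtain ⟨t, ht, -, h1⟩ := mem_Tact.1 hτ
    obtain ⟨t', ht', -, h1'⟩ := mem_Tact.1 hτ'
    have htt : t ≠ t' := by
      rintro rfl
      exact hne' (MulEquiv.ext fun x => Subtype.ext ((h1 x).trans (h1' x).symm))
    obtain ⟨r, hr, h2⟩ := su t ht t' ht' htt
    refine ⟨K.normalizerMonoidHom ⟨r, T_le h.toPre hr⟩,
      mem_Tact.2 ⟨r, hr, T_le h.toPre hr, fun x => rfl⟩, fun a ha => Subtype.ext ?_⟩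
    rw [coe_mul, h1, h1']
    exact h2 a (mem_subgroupOf.1 (AT_le h.toPre ha)).1
  ne := by
    rw [AT_eq h]
    obtain ⟨b, hb1⟩ := ne_bot_iff_exists_ne_one.1 (h.inf_ne_bot hne)
    intro h0
    have h1 : (⟨b, b.2.2⟩ : K) ∈ (A ⊓ K).subgroupOf K := mem_subgroupOf.2 b.2
    rw [h0, mem_bot] at h1
    exact hb1 (Subtype.ext (congrArg (fun z : K => (z : H)) h1))

/-- the K-side with `Opp`, `OneL` for one component -/
theorem ksideX {H : Type u} [Group H] [Finite H] {S A T K : Subgroup H} (hks : KSideX.{u}) (hO : pCore 2 H = ⊥)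
    (h : CompB.Hyp S A T K) (hK : IsComponent K) (hne : ∃ a ∈ A, ∃ x ∈ K, a * x ≠ x * a) (sc : CompT.Scal A T)
    (su : ScalU A T) (hodd : Odd (Nat.card T)) (h3 : 3 ≤ Nat.card T) (hl : IsLieTypeChar 2 (K ⧸ center K)) :
    (∃ (J : Type) (_ : Finite J) (P : J → Subgroup K) (m : J → J → ℕ), KSys (S.subgroupOf K) (Tact T K) P m ∧
      Opp (normalizer (S.subgroupOf K : Set K)) (S.subgroupOf K) P ∧ OneL K J) ∨
      KExc K (S.subgroupOf K) (Tact T K) := by
  obtain ⟨P, hP⟩ := exists_sylow h.toPre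
  have h1 := hks K hK.2.1.commutator_eq_top hK.2.2 (odd_center hO hK) hl P (Tact T K)
    (hP ▸ tact h hne sc su hodd h3)
  rw [hP] at h1
  exact h1

end abstract

/-! ### The real situation -/

section real

variable {G : Type u} [Group G] {ι : Type*} {V : Subgroup G} {R : ι → Subgroup G} {F : Type*} [Field F] {i j : ι}
  {v : F → F → G} {t : F → G}

/-- `T ∪ {0}` is closed under addition in `End(A)` -/
theorem scalU (b : BT V R) (τ : TorD V R i j v t) : ScalU (AA V R i j) (TT τ) := by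
  intro s hs s' hs' hne
  obtain ⟨c, hc, rfl⟩ := (mem_TT τ).1 hs
  obtain ⟨c', hc', rfl⟩ := (mem_TT τ).1 hs'
  have h2 := τ.two b (1 : F)
  have h0 : c⁻¹ + c'⁻¹ ≠ 0 := by
    intro h0
    apply hne
    have h3 : c⁻¹ + c⁻¹ = 0 := by
      have e : c⁻¹ + c⁻¹ = (1 + 1) * c⁻¹ := by ring
      rw [e, h2, zero_mul]
    have h4 : c' = c := inv_injective (add_left_cancel (h0.trans h3.symm))
    subst h4
    rfl
  refine ⟨(pr (R i) ⟨t (c⁻¹ + c'⁻¹), τ.normR h0⟩)⁻¹, inv_mem ((mem_TT τ).2 ⟨_, h0, rfl⟩), fun a ha => ?_⟩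
  obtain ⟨u, hu, rfl⟩ := (mem_AA b).1 ha
  have h1 := τ.wU' c⁻¹ c'⁻¹ (inv_ne_zero hc) (inv_ne_zero hc') h0 u hu
  rw [τ.inv hc, τ.inv hc', inv_inv, inv_inv] at h1
  have hUN := U_le_N b i j hu
  have e1 : (pr (R i) ⟨t (c⁻¹ + c'⁻¹), τ.normR h0⟩)⁻¹ * pr (R i) ⟨u, hUN⟩ *
      (pr (R i) ⟨t (c⁻¹ + c'⁻¹), τ.normR h0⟩)⁻¹⁻¹ =
      pr (R i) ⟨(t (c⁻¹ + c'⁻¹))⁻¹ * u * t (c⁻¹ + c'⁻¹),
        mul_mem (mul_mem (inv_mem (τ.normR h0)) hUN) (τ.normR h0)⟩ := by
    rw [inv_inv]; rfl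
  have e2 : pr (R i) ⟨t c, τ.normR hc⟩ * pr (R i) ⟨u, hUN⟩ * (pr (R i) ⟨t c, τ.normR hc⟩)⁻¹ *
      (pr (R i) ⟨t c', τ.normR hc'⟩ * pr (R i) ⟨u, hUN⟩ * (pr (R i) ⟨t c', τ.normR hc'⟩)⁻¹) =
      pr (R i) ⟨t c * u * (t c)⁻¹ * (t c' * u * (t c')⁻¹),
        mul_mem (mul_mem (mul_mem (τ.normR hc) hUN) (inv_mem (τ.normR hc)))
          (mul_mem (mul_mem (τ.normR hc') hUN) (inv_mem (τ.normR hc')))⟩ := rfl
  rw [e1, e2, pr_eq_pr]
  set x := (t (c⁻¹ + c'⁻¹))⁻¹ * u * t (c⁻¹ + c'⁻¹) with hx'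
  set y := t c * u * (t c)⁻¹ * (t c' * u * (t c')⁻¹) with hy'
  have hyU : y ∈ UU V R j := mul_mem (t_norm_U b τ hc hu) (t_norm_U b τ hc' hu)
  have hN : y⁻¹ ∈ normalizer (DD V R : Set G) := b.NV_le_ND (cen_le_NV V (UU_le_cen j (inv_mem hyU)))
  have h3 := conj_mem_of_normalizer hN h1
  have e3 : y⁻¹ * (x * y⁻¹) * y⁻¹⁻¹ = y⁻¹ * x := by group
  rw [e3] at h3
  exact b.W_le_Q i (mem_DD.1 h3 i)

theorem odd_TT [Finite F] [CharP F 2] (b : BT V R) (τ : TorD V R i j v t) : Odd (Nat.card (TT τ)) := by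
  have h1 := card_T b τ
  have h2 : 2 ∣ Nat.card F := by
    have := Fintype.ofFinite F
    have h3 : (Fintype.card F : F) = 0 := Nat.cast_card_eq_zero F
    rw [Nat.card_eq_fintype_card]
    exact (CharP.cast_eq_zero_iff F 2 _).1 h3
  rw [← Nat.not_even_iff_odd, even_iff_two_dvd]
  intro h3
  have h4 : 2 ∣ Nat.card (TT τ) + 1 := h1 ▸ h2
  have h5 := (Nat.dvd_add_right h3).1 h4
  omega

theorem three_le_TT [Finite F] (b : BT V R) (τ : TorD V R i j v t) (h4 : 4 ≤ Nat.card F) : 3 ≤ Nat.card (TT τ) := by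
  have := card_T b τ
  omega

/-- **`TAct` for a moved component** -/
theorem tact_of_lay [Finite F] [CharP F 2] (b : BT V R) (τ : TorD V R i j v t) (hij : i ≠ j)
    (h4 : 4 ≤ Nat.card F) {S : Subgroup (HQ (R i))} (l : Lay V R i j (TT τ) S) {K : Subgroup (HQ (R i))}
    (hK : MComp V R i j K) : TAct (S.subgroupOf K) (Tact (TT τ) K) :=
  tact (l.hyp K hK) hK.2.2 (scal b τ hij) (scalU b τ) (odd_TT b τ) (three_le_TT b τ h4)

/-- **`KSys`, `Opp`, `OneL` for a moved component** -/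
theorem ksysX_of_lay [Finite G] [Finite F] [CharP F 2] (hks : KSideX.{u}) (b : BT V R) (τ : TorD V R i j v t)
    (hij : i ≠ j) (h4 : 4 ≤ Nat.card F) {S : Subgroup (HQ (R i))} (l : Lay V R i j (TT τ) S)
    {K : Subgroup (HQ (R i))} (hK : MComp V R i j K) :
    (∃ (J : Type) (_ : Finite J) (P : J → Subgroup K) (m : J → J → ℕ),
      KSys (S.subgroupOf K) (Tact (TT τ) K) P m ∧
        Opp (normalizer (S.subgroupOf K : Set K)) (S.subgroupOf K) P ∧ OneL K J) ∨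
      KExc K (S.subgroupOf K) (Tact (TT τ) K) :=
  ksideX hks (pCore_HQ (R i)) (l.hyp K hK) hK.1 hK.2.2 (scal b τ hij) (scalU b τ) (odd_TT b τ)
    (three_le_TT b τ h4) (l.lie K hK)

end real

end Cfsg.Agent.Omega.Lie.End.OfLay

end

section


/-!
# LEMMA NA: the Borel subgroups of the moved components lie in `N(V)`

* `norm_A` : `x ∈ K ∩ N(S ⊓ K)` normalises `A` (from `KSys.B_A` and `A = (A ⊓ K) C_A(K)`);
* `T_norm_A` : `T` normalises `A`;
* `mem_NV` : `g ∈ N(R i)` with `pr g ∈ N(A)` lies in `N(V)` (`q ≥ 4`, from `CenSE`; helper988's LEMMA CA).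
-/

set_option autoImplicit false
set_option linter.unusedSectionVars false

namespace Cfsg.Agent.Omega.Lie.End.NA

open Subgroup Cfsg Cfsg.Agent.ZN Cfsg.Agent.Omega.NatPair Cfsg.Agent.Omega.BTwo Cfsg.Agent.Omega.Frame
open Cfsg.Agent.Omega.Lie Cfsg.Agent.Omega.Lie.Quot Cfsg.Agent.Omega.IIa4 Cfsg.Agent.Omega.Lie.End.OfLay

universe u

section abstract

variable {H : Type*} [Group H] {S A T K : Subgroup H}

/-- membership in the normaliser from two inclusions -/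
theorem mem_norm {X : Subgroup H} {x : H} (h1 : ∀ a ∈ X, x * a * x⁻¹ ∈ X) (h2 : ∀ a ∈ X, x⁻¹ * a * x ∈ X) :
    x ∈ normalizer (X : Set H) := by
  rw [mem_normalizer_iff]
  refine fun a => ⟨h1 a, fun ha => ?_⟩
  have h3 := h2 _ ha
  have e : x⁻¹ * (x * a * x⁻¹) * x = a := by group
  rwa [e] at h3

theorem conj_A (h : CompB.Hyp S A T K)
    (hB : ∀ b ∈ normalizer (S.subgroupOf K : Set K), ∀ a ∈ AT (S.subgroupOf K) (Tact T K),
      b * a * b⁻¹ ∈ AT (S.subgroupOf K) (Tact T K)) {x : H} (hx : x ∈ K)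
    (hN : (⟨x, hx⟩ : K) ∈ normalizer (S.subgroupOf K : Set K)) : ∀ a ∈ A, x * a * x⁻¹ ∈ A := by
  intro a ha
  obtain ⟨b, hb, c, hc, hcK, rfl⟩ := h.decomp ha
  have h1 : (⟨b, hb.2⟩ : K) ∈ AT (S.subgroupOf K) (Tact T K) := by
    rw [AT_eq h]; exact mem_subgroupOf.2 hb
  have h2 := hB _ hN _ h1
  rw [AT_eq h] at h2
  have h3 : x * b * x⁻¹ ∈ A := (mem_subgroupOf.1 h2).1
  have e : x * (b * c) * x⁻¹ = x * b * x⁻¹ * c := by
    calc x * (b * c) * x⁻¹ = x * b * (c * x⁻¹) := by group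
      _ = x * b * (x⁻¹ * c) := by rw [hcK _ (inv_mem hx)]
      _ = x * b * x⁻¹ * c := by group
  rw [e]
  exact mul_mem h3 hc

/-- `K ∩ N(S ⊓ K)` normalises `A` -/
theorem norm_A (h : CompB.Hyp S A T K)
    (hB : ∀ b ∈ normalizer (S.subgroupOf K : Set K), ∀ a ∈ AT (S.subgroupOf K) (Tact T K),
      b * a * b⁻¹ ∈ AT (S.subgroupOf K) (Tact T K)) {x : H} (hx : x ∈ K)
    (hN : (⟨x, hx⟩ : K) ∈ normalizer (S.subgroupOf K : Set K)) : x ∈ normalizer (A : Set H) := by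
  refine mem_norm (conj_A h hB hx hN) fun a ha => ?_
  have h1 := conj_A h hB (inv_mem hx) (inv_mem hN) a ha
  rwa [inv_inv] at h1

theorem norm_A_of_ksys (h : CompB.Hyp S A T K) {J : Type} {P : J → Subgroup K} {m : J → J → ℕ}
    (k : KSys (S.subgroupOf K) (Tact T K) P m) {x : H} (hx : x ∈ K)
    (hN : (⟨x, hx⟩ : K) ∈ normalizer (S.subgroupOf K : Set K)) : x ∈ normalizer (A : Set H) :=
  norm_A h k.B_A hx hN

/-- `x ∈ K` normalises `S ⊓ K` iff it does so in `K` -/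
theorem mem_norm_subgroupOf {x : H} (hx : x ∈ K) :
    (⟨x, hx⟩ : K) ∈ normalizer (S.subgroupOf K : Set K) ↔ x ∈ normalizer ((S ⊓ K : Subgroup H) : Set H) := by
  constructor
  · intro h
    rw [mem_normalizer_iff] at h ⊢
    intro y
    constructor
    · rintro ⟨h1, h2⟩
      have h3 := (h ⟨y, h2⟩).1 (mem_subgroupOf.2 h1)
      exact ⟨mem_subgroupOf.1 h3, K.mul_mem (K.mul_mem hx h2) (K.inv_mem hx)⟩
    · rintro ⟨h1, h2⟩
      have hy : y ∈ K := by
        have h3 := mul_mem (mul_mem (inv_mem hx) h2) hx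
        have e : x⁻¹ * (x * y * x⁻¹) * x = y := by group
        rwa [e] at h3
      exact ⟨mem_subgroupOf.1 ((h ⟨y, hy⟩).2 (mem_subgroupOf.2 h1)), hy⟩
  · intro h
    rw [mem_normalizer_iff] at h ⊢
    intro y
    have h1 := h y
    constructor
    · intro hy
      exact mem_subgroupOf.2 (h1.1 ⟨mem_subgroupOf.1 hy, y.2⟩).1
    · intro hy
      exact mem_subgroupOf.2 (h1.2 ⟨mem_subgroupOf.1 hy, K.mul_mem (K.mul_mem hx y.2) (K.inv_mem hx)⟩).1

end abstract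

section real

variable {G : Type u} [Group G] {ι : Type*} {V : Subgroup G} {R : ι → Subgroup G} {i j : ι}

/-- the preimage of `A` -/
theorem pr_mem_AA (b : BT V R) (hQ : QQ (R i) = WW V (R i)) {g : G} (hg : g ∈ normalizer (R i : Set G)) :
    pr (R i) ⟨g, hg⟩ ∈ AA V R i j ↔ g ∈ WW V (R i) ⊔ UU V R j := by
  have h1 : AA V R i j = im (R i) (WW V (R i) ⊔ UU V R j) := by
    rw [im_sup ((b.W_le_Q i).trans ((Q_le_C b i).trans (centralizer_le_normalizer _))) (U_le_N b i j),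
      im_eq_bot (b.W_le_Q i), bot_sup_eq]
    rfl
  rw [h1, pr_mem_im_iff (hQ.le.trans le_sup_left)]

theorem mem_norm_of_pr (b : BT V R) (hQ : QQ (R i) = WW V (R i)) {g : G} (hg : g ∈ normalizer (R i : Set G))
    (h : pr (R i) ⟨g, hg⟩ ∈ normalizer (AA V R i j : Set (HQ (R i)))) :
    g ∈ normalizer ((WW V (R i) ⊔ UU V R j : Subgroup G) : Set G) := by
  have hE : WW V (R i) ⊔ UU V R j ≤ normalizer (R i : Set G) :=
    sup_le ((b.W_le_Q i).trans ((Q_le_C b i).trans (centralizer_le_normalizer _))) (U_le_N b i j)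
  rw [mem_normalizer_iff] at h
  refine mem_norm (fun a ha => ?_) fun a ha => ?_
  · rw [← pr_mem_AA b hQ (mul_mem (mul_mem hg (hE ha)) (inv_mem hg))]
    exact (h (pr (R i) ⟨a, hE ha⟩)).1 ((pr_mem_AA b hQ (hE ha)).2 ha)
  · have h1 := mul_mem (mul_mem (inv_mem hg) (hE ha)) hg
    rw [← pr_mem_AA b hQ h1]
    refine (h (pr (R i) ⟨_, h1⟩)).2 ?_
    have e : pr (R i) ⟨g, hg⟩ * pr (R i) ⟨g⁻¹ * a * g, h1⟩ * (pr (R i) ⟨g, hg⟩)⁻¹ = pr (R i) ⟨a, hE ha⟩ := by
      rw [← map_mul, ← map_inv, ← map_mul]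
      exact congrArg (pr (R i)) (Subtype.ext (by change g * (g⁻¹ * a * g) * g⁻¹ = a; group))
    rw [e]
    exact (pr_mem_AA b hQ (hE ha)).2 ha

end real

section sit

variable {G : Type u} [Group G] [Finite G] {S : Sylow 2 G} {P : Subgroup G} {g : G} {F : Type} [Field F]
  [Finite F] [CharP F 2] {M : NatMod F (zl (S : Subgroup G) P)} (h : Sit S P g M)
include h

/-- **`pr g ∈ N(A)` implies `g ∈ N(V)`** -/
theorem mem_NV (hsemi : SemiOut (zl (S : Subgroup G) P) (pt M)) (hcen : CenSE (zl (S : Subgroup G) P) (pt M))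
    {i j : Pt M} (hij : i ≠ j) {x : G} (hx : x ∈ normalizer (pt M i : Set G))
    (hN : pr (pt M i) ⟨x, hx⟩ ∈ normalizer (AA (zl (S : Subgroup G) P) (pt M) i j : Set (HQ (pt M i)))) :
    x ∈ normalizer (zl (S : Subgroup G) P : Set G) :=
  h.norm_of_normA hcen hij hx (mem_norm_of_pr h.bt (hsemi i).2 hx hN)

end sit

end Cfsg.Agent.Omega.Lie.End.NA

end
end

-- part: Mrg/Omega/Lie/End/KDOf
section
prune_inst 0x1000040004002000000050030000000100000000040000090200702020690000004084048201d021022000020000020020000000000000000000000000100208020400282080104260009803080000000000000000000000000000000041000000000000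
set_option linter.all false
open scoped Cfsg.Agent.FastGrp

section


/-!
# `KD` from a moved component of Lie rank one

* `AT_eq_self`: if the parabolic system of a quasisimple group `K` with odd centre has only one node, then `[S, T] = S`;
* `kd_of`: `K₀ ⊴ N(R i)/O₂`, `K₀ ≅ SL₂(k)`, `A` a Sylow 2-subgroup of `K₀` and `O₂(N(R i)) = W i` give `SQEnd.KD` for
  the preimage of `K₀`;
* `kd_of_lay`: the same from LAYER, if `K₀` is the only moved component and its parabolic system has only one node.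
-/

set_option autoImplicit false
set_option linter.unusedSectionVars false

namespace Cfsg.Agent.Omega.Lie.End.KDOf

open Subgroup Cfsg Cfsg.Agent.Omega.BTwo Cfsg.Agent.Omega.Lie Cfsg.Agent.Omega.Lie.Quot Cfsg.Agent.Omega.IIa4
open Cfsg.Agent.ParSys Cfsg.Agent.Omega.Lie.End.OfLay

universe u v w

/-! ### `[S, T] = S` in rank one -/

section rank

variable {K : Type*} [Group K] {S : Subgroup K} {T : Subgroup (MulAut K)} {J : Type} {P : J → Subgroup K}
  {m : J → J → ℕ}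

theorem Qk_normal (B : Subgroup K) : (Qk B ⊤).Normal :=
  ⟨fun _ hx g => Qk_conj' hx (mem_top g)⟩

/-- the kernel on the panel of a one-node system is central -/
theorem Qk_le_center (hK : IsQuasisimple K) (h : KSys S T P m) {i : J} (hP : P i = ⊤) :
    Qk (normalizer (S : Set K)) ⊤ ≤ center K := by
  rcases SignalizersComponents.Components.quasisimple_normal hK _ (Qk_normal (normalizer (S : Set K))) with h1 | h1
  · exfalso
    have h2 : normalizer (S : Set K) = ⊤ := by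
      rw [eq_top_iff, ← h1]
      exact Qk_le _ _
    have h3 := h.five i
    rw [hP, h2, relIndex_self] at h3
    omega
  · exact h1

/-- **`[S, T] = S`** if there is only one node -/
theorem AT_eq_self [Finite K] (hK : IsQuasisimple K) (hodd : Odd (Nat.card (center K))) (h : KSys S T P m)
    (ht : TAct S T) (hJ : ∀ i j : J, i = j) : AT S T = S := by
  refine le_antisymm ?_ ?_
  · unfold AT
    rw [closure_le]
    rintro a ⟨t, htT, u, hu, rfl⟩
    exact mul_mem (inv_mem hu) (ht.stab t htT u hu)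
  obtain ⟨i, hi⟩ := h.moved
  have hP : P i = ⊤ := by
    rw [eq_top_iff, ← h.gen, iSup_le_iff]
    intro j
    rw [hJ j i]
  -- `1 ≠ t ∈ T`
  obtain ⟨t, htT, ht1⟩ : ∃ t ∈ T, t ≠ 1 := by
    by_contra hcon
    push Not at hcon
    have h1 : T = ⊥ := (eq_bot_iff_forall _).2 hcon
    have h2 := ht.three
    rw [h1, card_bot] at h2
    omega
  have hQ : ∀ u ∈ S, u⁻¹ * t u ∈ Qk (normalizer (S : Set K)) (P i) → u = 1 := by
    intro u hu h1
    have h2 := hi t htT ht1 u hu h1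
    rw [hP] at h2
    have h3 := Qk_le_center hK h hP h2
    obtain ⟨n, hn⟩ := h.isP ⟨u, hu⟩
    have hn' : u ^ 2 ^ n = 1 := congrArg Subtype.val hn
    have h4 : orderOf u ∣ 2 ^ n := orderOf_dvd_of_pow_eq_one hn'
    have h5 : orderOf u ∣ Nat.card (center K) := by
      have := _root_.orderOf_dvd_natCard (⟨u, h3⟩ : center K)
      rwa [Subgroup.orderOf_mk] at this
    have h6 : Nat.Coprime (2 ^ n) (Nat.card (center K)) := (Nat.coprime_two_left.2 hodd).pow_left n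
    exact orderOf_eq_one_iff.1 (Nat.eq_one_of_dvd_coprimes h6 h4 h5)
  let β : S → S := fun x => ⟨(x : K)⁻¹ * t x, mul_mem (inv_mem x.2) (ht.stab t htT _ x.2)⟩
  have hinj : Function.Injective β := by
    intro x y hxy
    have h1 : (x : K)⁻¹ * t x = (y : K)⁻¹ * t y := congrArg Subtype.val hxy
    have h2 : t ((y : K) * (x : K)⁻¹) = (y : K) * (x : K)⁻¹ := by
      rw [map_mul, map_inv]
      have h3 : t x = x * ((y : K)⁻¹ * t y) := by rw [← h1]; group
      rw [h3]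
      group
    have h4 : (y : K) * (x : K)⁻¹ = 1 := by
      refine hQ _ (mul_mem y.2 (inv_mem x.2)) ?_
      rw [h2, inv_mul_cancel]
      exact one_mem _
    exact Subtype.ext (mul_inv_eq_one.1 h4).symm
  intro s hs
  obtain ⟨x, hx⟩ := (Finite.injective_iff_surjective.1 hinj) ⟨s, hs⟩
  exact subset_closure ⟨t, htT, x, x.2, (congrArg Subtype.val hx).symm⟩

end rank

/-! ### `KD` -/

section kd

variable {G : Type u} [Group G] {ι : Type v} {V : Subgroup G} {R : ι → Subgroup G} {i j : ι}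

/-- the preimage in `G` of a subgroup of `N(R)/O₂(N(R))` -/
def up {R : Subgroup G} (L : Subgroup (HQ R)) : Subgroup G :=
  (L.comap (pr R)).map (normalizer (R : Set G)).subtype

theorem mem_up {R : Subgroup G} {L : Subgroup (HQ R)} {g : G} :
    g ∈ up L ↔ ∃ hg : g ∈ normalizer (R : Set G), pr R ⟨g, hg⟩ ∈ L := by
  unfold up
  rw [mem_map]
  constructor
  · rintro ⟨x, hx, rfl⟩
    exact ⟨x.2, hx⟩
  · rintro ⟨hg, h⟩
    exact ⟨⟨g, hg⟩, h, rfl⟩

theorem up_le {R : Subgroup G} (L : Subgroup (HQ R)) : up L ≤ normalizer (R : Set G) := fun _ hg => (mem_up.1 hg).1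

/-- the projection `up L → L` -/
def prL {R : Subgroup G} (L : Subgroup (HQ R)) : up L →* L :=
  ((pr R).comp (inclusion (up_le L))).codRestrict L fun g => (mem_up.1 g.2).2

theorem prL_val {R : Subgroup G} (L : Subgroup (HQ R)) (g : up L) :
    (prL L g : HQ R) = pr R ⟨g, up_le L g.2⟩ := rfl

theorem prL_surjective {R : Subgroup G} (L : Subgroup (HQ R)) : Function.Surjective (prL L) := by
  rintro ⟨x, hx⟩
  obtain ⟨g, hg, rfl⟩ := exists_pr x
  exact ⟨⟨g, mem_up.2 ⟨hg, hx⟩⟩, rfl⟩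

theorem up_normal {R : Subgroup G} {L : Subgroup (HQ R)} (hL : L.Normal) :
    normalizer (R : Set G) ≤ normalizer (up L : Set G) := by
  intro n hn
  rw [mem_normalizer_iff]
  have key : ∀ n ∈ normalizer (R : Set G), ∀ x ∈ up L, n * x * n⁻¹ ∈ up L := by
    intro n hn x hx
    obtain ⟨h1, h2⟩ := mem_up.1 hx
    exact mem_up.2 ⟨mul_mem (mul_mem hn h1) (inv_mem hn), hL.conj_mem _ h2 (pr R ⟨n, hn⟩)⟩
  refine fun x => ⟨key n hn x, fun h => ?_⟩
  have := key _ (inv_mem hn) _ h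
  have e : n⁻¹ * (n * x * n⁻¹) * n⁻¹⁻¹ = x := by group
  rwa [e] at this

/-- **`KD`** for the preimage of a normal subgroup `K₀ ≅ SL₂(k)` of `N(R i)/O₂(N(R i))` with Sylow 2-subgroup `A`, if
`O₂(N(R i)) = W i` -/
theorem kd_of [Finite G] (b : BTC V R) (hij : i ≠ j) (hQ : QQ (R i) = WW V (R i)) {k : Type w} [Field k] [Finite k]
    [CharP k 2] {K₀ : Subgroup (HQ (R i))} (hH : K₀ ≤ H0 R i) (hn : K₀.Normal) (hA : AA V R i j ≤ K₀)
    (hodd : Odd ((AA V R i j).relIndex K₀)) (e : K₀ ≃* Matrix.SpecialLinearGroup (Fin 2) k) :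
    ∃ φ : up K₀ →* Matrix.SpecialLinearGroup (Fin 2) k, SQEnd.KD V R i j (up K₀) φ (k := k) := by
  have hWN : WW V (R i) ≤ normalizer (R i : Set G) :=
    (b.W_le_Q i).trans ((Q_le_C b.toBT i).trans (centralizer_le_normalizer _))
  refine SQEnd.exists_kd b hij (ψ := e.toMonoidHom.comp (prL K₀)) (e.surjective.comp (prL_surjective K₀)) ?_ ?_ ?_ ?_
    (up_normal hn) ?_
  · intro g
    have h1 : (e.toMonoidHom.comp (prL K₀)) g = e (prL K₀ g) := rfl
    rw [h1, MulEquiv.map_eq_one_iff, ← hQ, ← pr_eq_one (up_le K₀ g.2), ← prL_val]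
    exact ⟨fun h => by rw [h]; rfl, fun h => Subtype.ext h⟩
  · intro x hx
    rw [← hQ] at hx
    have hxN : x ∈ normalizer (R i : Set G) := by rw [hQ] at hx; exact hWN hx
    exact mem_up.2 ⟨hxN, by rw [(pr_eq_one hxN).2 hx]; exact one_mem _⟩
  · intro x hx
    exact mem_up.2 ⟨U_le_N b.toBT i j hx, hA ((mem_AA b.toBT).2 ⟨x, hx, rfl⟩)⟩
  · intro x hx
    obtain ⟨h1, h2⟩ := mem_up.1 hx
    exact (pr_mem_im_iff (Q_le_C b.toBT i) h1).1 (hH h2)
  · have h1 : (WW V (R i) ⊔ UU V R j).subgroupOf (up K₀) = ((AA V R i j).subgroupOf K₀).comap (prL K₀) := by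
      ext g
      rw [mem_subgroupOf, mem_comap, mem_subgroupOf, prL_val, mem_AA b.toBT]
      constructor
      · intro hg
        have hN : UU V R j ≤ normalizer (WW V (R i) : Set G) := (UU_le_cen j).trans (b.cen_le_NW i)
        obtain ⟨w, hw, u, hu, e⟩ := SQEnd.exists_mul hN le_rfl hg
        refine ⟨u, hu, ?_⟩
        rw [pr_eq_pr]
        have h2 : (u : G)⁻¹ * g = u⁻¹ * w * u := by rw [e]; group
        rw [h2, hQ]
        have h3 := BTwo.conj_mem_of_normalizer (inv_mem (hN hu)) hw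
        rwa [inv_inv] at h3
      · rintro ⟨u, hu, h2⟩
        rw [pr_eq_pr, hQ] at h2
        have e : (g : G) = u * (u⁻¹ * g) := by group
        rw [e]
        exact mul_mem ((le_sup_right : UU V R j ≤ _) hu) ((le_sup_left : WW V (R i) ≤ _) h2)
    change Odd ((WW V (R i) ⊔ UU V R j).subgroupOf (up K₀)).index
    rw [h1, index_comap_of_surjective _ (prL_surjective K₀)]
    exact hodd

end kd

/-! ### A node on which `A` acts regularly -/

section reg

variable {K : Type*} [Group K] {S : Subgroup K} {T : Subgroup (MulAut K)} {J : Type} {P : J → Subgroup K}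
  {m : J → J → ℕ}

/-- `T` stabilises `S` -/
theorem mem_S_iff (ht : TAct S T) {t : MulAut K} (htT : t ∈ T) {x : K} : t x ∈ S ↔ x ∈ S := by
  refine ⟨fun h => ?_, ht.stab t htT x⟩
  have h1 := ht.stab t⁻¹ (inv_mem htT) _ h
  rwa [MulAut.inv_apply_self] at h1

/-- `T` stabilises `N(S)` -/
theorem mem_B (ht : TAct S T) {t : MulAut K} (htT : t ∈ T) {x : K} (hx : x ∈ normalizer (S : Set K)) :
    t x ∈ normalizer (S : Set K) := by
  rw [mem_normalizer_iff] at hx ⊢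
  intro y
  have h1 := hx (t⁻¹ y)
  have e : t (x * t⁻¹ y * x⁻¹) = t x * y * (t x)⁻¹ := by
    rw [map_mul, map_mul, map_inv, MulAut.apply_inv_self]
  change y ∈ S ↔ t x * y * (t x)⁻¹ ∈ S
  rw [← e, mem_S_iff ht htT]
  change t⁻¹ y ∈ S ↔ _ at h1
  rw [← mem_S_iff ht (inv_mem htT) (x := y)]
  exact h1

/-- `T` stabilises the kernel on a panel -/
theorem mem_Q (h : KSys S T P m) (ht : TAct S T) {t : MulAut K} (htT : t ∈ T) {i : J} {x : K}
    (hx : x ∈ Qk (normalizer (S : Set K)) (P i)) : t x ∈ Qk (normalizer (S : Set K)) (P i) := by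
  intro g hg
  have h1 := mem_B ht htT (hx _ (h.T_P i t⁻¹ (inv_mem htT) g hg))
  have e : t ((t⁻¹ g)⁻¹ * x * t⁻¹ g) = g⁻¹ * t x * g := by
    rw [map_mul, map_mul, map_inv, MulAut.apply_inv_self]
  rwa [e] at h1

theorem exists_two [Finite K] {B P : Subgroup K} (h3 : 3 ≤ B.relIndex P) :
    ∃ x ∈ P, ∃ y ∈ P, x ∉ B ∧ y ∉ B ∧ x⁻¹ * y ∉ B := by
  classical
  by_contra hcon
  push Not at hcon
  have hinj : Function.Injective
      (fun q : P ⧸ B.subgroupOf P => (decide (q = ((1 : P) : P ⧸ B.subgroupOf P)) : Bool)) := by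
    intro q q' h
    obtain ⟨x, rfl⟩ := QuotientGroup.mk_surjective q
    obtain ⟨y, rfl⟩ := QuotientGroup.mk_surjective q'
    have hx : ∀ z : P, ((z : P) : P ⧸ B.subgroupOf P) = ((1 : P) : P ⧸ B.subgroupOf P) ↔ (z : K) ∈ B := by
      intro z
      rw [eq_comm, QuotientGroup.eq, inv_one, one_mul, mem_subgroupOf]
    simp only [decide_eq_decide, hx] at h
    rw [QuotientGroup.eq, mem_subgroupOf]
    by_cases h1 : (x : K) ∈ B
    · exact mul_mem (inv_mem h1) (h.1 h1)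
    · exact hcon x x.2 y y.2 h1 fun h2 => h1 (h.2 h2)
  have h1 := Nat.card_le_card_of_injective _ hinj
  rw [Nat.card_eq_fintype_card (α := Bool), Fintype.card_bool] at h1
  change 3 ≤ Nat.card (P ⧸ B.subgroupOf P) at h3
  omega

/-- a 2-element of `N(S)` lies in `S` -/
theorem mem_S_of_two (h : KSys S T P m) {x : K} (hx : x ∈ normalizer (S : Set K)) {n : ℕ} (hn : x ^ 2 ^ n = 1) :
    x ∈ S := by
  have hN : (S.subgroupOf (normalizer (S : Set K))).Normal := normal_in_normalizer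
  have h1 := pow_index_mem (S.subgroupOf (normalizer (S : Set K))) ⟨x, hx⟩
  have h2 : x ^ S.relIndex (normalizer (S : Set K)) ∈ S := h1
  have h3 : orderOf x ∣ 2 ^ n := orderOf_dvd_of_pow_eq_one hn
  have h4 : (S.relIndex (normalizer (S : Set K))).Coprime (orderOf x) :=
    (Nat.Coprime.coprime_dvd_left h3 ((Nat.coprime_two_left.2 h.odd).pow_left n)).symm
  obtain ⟨l, hl⟩ := exists_pow_eq_self_of_coprime h4
  rw [← hl]
  exact pow_mem h2 l

theorem exists_two_pow (h : KSys S T P m) {x : K} (hx : x ∈ S) : ∃ n : ℕ, x ^ 2 ^ n = 1 := by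
  obtain ⟨n, hn⟩ := h.isP ⟨x, hx⟩
  exact ⟨n, congrArg Subtype.val hn⟩

/-- odd powers -/
theorem mem_of_odd_pow (h : KSys S T P m) {x : K} (hx : x ∈ S) {n : ℕ} (hn : Odd n) {X : Subgroup K}
    (h1 : x ^ n ∈ X) : x ∈ X := by
  obtain ⟨k, hk⟩ := exists_two_pow h hx
  have h3 : orderOf x ∣ 2 ^ k := orderOf_dvd_of_pow_eq_one hk
  have h4 : n.Coprime (orderOf x) := (Nat.Coprime.coprime_dvd_left h3 ((Nat.coprime_two_left.2 hn).pow_left k)).symm
  obtain ⟨l, hl⟩ := exists_pow_eq_self_of_coprime h4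
  rw [← hl]
  exact pow_mem h1 l

theorem odd_orderOf [Finite K] (ht : TAct S T) {t : MulAut K} (htT : t ∈ T) : Odd (orderOf t) := by
  have h1 : orderOf t ∣ Nat.card T := by
    have := _root_.orderOf_dvd_natCard (⟨t, htT⟩ : T)
    rwa [Subgroup.orderOf_mk] at this
  exact Odd.of_dvd_nat ht.odd h1

/-- `T` fixes the chambers of an unmoved panel -/
theorem unmoved_fix [Finite K] (h : KSys S T P m) (ht : TAct S T) {k : J} (hk : Unmoved S T (P k)) {t : MulAut K}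
    (htT : t ∈ T) {g : K} (hg : g ∈ P k) : g⁻¹ * t g ∈ normalizer (S : Set K) := by
  by_cases hgB : g ∈ normalizer (S : Set K)
  · exact mul_mem (inv_mem hgB) (mem_B ht htT hgB)
  have htg : t g ∉ normalizer (S : Set K) := by
    intro h1
    have h2 := mem_B ht (inv_mem htT) h1
    rw [MulAut.inv_apply_self] at h2
    exact hgB h2
  obtain ⟨u, hu, c, hc, e⟩ := h.ptr k g hg hgB (t g) (h.T_P k t htT g hg) htg
  have hSP : S ≤ P k := le_normalizer.trans (h.le k)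
  have key : ∀ r : ℕ, ∃ q ∈ Qk (normalizer (S : Set K)) (P k), ∃ c ∈ normalizer (S : Set K),
      (t ^ r) g = q * u ^ r * g * c := by
    intro r
    induction r with
    | zero => exact ⟨1, one_mem _, 1, one_mem _, by simp⟩
    | succ r ih =>
      obtain ⟨q, hq, c₁, hc₁, e₁⟩ := ih
      have hur : u ^ r ∈ S := pow_mem hu r
      have h1 := hk t htT _ hur
      refine ⟨t q * (u ^ r * ((u ^ r)⁻¹ * t (u ^ r)) * (u ^ r)⁻¹),
        mul_mem (mem_Q h ht htT hq) (Qk_conj' h1 (hSP hur)), c * t c₁, mul_mem hc (mem_B ht htT hc₁), ?_⟩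
      rw [pow_succ', MulAut.mul_apply, e₁, map_mul, map_mul, map_mul, e, pow_succ]
      group
  obtain ⟨q, hq, c₁, hc₁, e₁⟩ := key (orderOf t)
  rw [pow_orderOf_eq_one, MulAut.one_apply] at e₁
  have h1 : g⁻¹ * u ^ orderOf t * g ∈ normalizer (S : Set K) := by
    have h2 := hq g hg
    have e2 : g⁻¹ * u ^ orderOf t * g = (g⁻¹ * q * g)⁻¹ * c₁⁻¹ := by
      have e3 : c₁ = (q * u ^ orderOf t * g)⁻¹ * g := eq_inv_mul_of_mul_eq e₁.symm
      rw [e3]
      group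
    rw [e2]
    exact mul_mem (inv_mem h2) (inv_mem hc₁)
  have h2 := h.reg k _ (pow_mem hu _) g hg hgB h1
  have h3 := mem_of_odd_pow h hu (odd_orderOf ht htT) h2
  rw [e]
  have e4 : g⁻¹ * (u * g * c) = g⁻¹ * u * g * c := by group
  rw [e4]
  exact mul_mem (h3 g hg) hc

theorem unmoved_Q [Finite K] (h : KSys S T P m) (ht : TAct S T) {k : J} (hk : Unmoved S T (P k)) {t : MulAut K}
    (htT : t ∈ T) {g : K} (hg : g ∈ P k) : g⁻¹ * t g ∈ Qk (normalizer (S : Set K)) (P k) := by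
  intro x hx
  have h1 := unmoved_fix h ht hk htT (mul_mem hg hx)
  have h2 := unmoved_fix h ht hk htT hx
  have h3 := mul_mem h1 (inv_mem h2)
  have e : (g * x)⁻¹ * t (g * x) * (x⁻¹ * t x)⁻¹ = x⁻¹ * (g⁻¹ * t g) * x := by
    rw [map_mul]
    group
  rwa [e] at h3

theorem sub_S (ht : TAct S T) : AT S T ≤ S := by
  unfold AT
  rw [closure_le]
  rintro a ⟨t, htT, u, hu, rfl⟩
  exact mul_mem (inv_mem hu) (ht.stab t htT u hu)

theorem exists_t (ht : TAct S T) : ∃ t ∈ T, t ≠ 1 := by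
  by_contra hcon
  push Not at hcon
  have h1 : T = ⊥ := (eq_bot_iff_forall _).2 hcon
  have h2 := ht.three
  rw [h1, card_bot] at h2
  omega

theorem T_AT (ht : TAct S T) {t : MulAut K} (htT : t ∈ T) {a : K} (ha : a ∈ AT S T) : t a ∈ AT S T := by
  have h1 : a⁻¹ * t a ∈ AT S T := subset_closure ⟨t, htT, a, sub_S ht ha, rfl⟩
  have h2 := mul_mem ha h1
  rwa [mul_inv_cancel_left] at h2

/-- `[A, t] = A` -/
theorem AT_surj [Finite K] (ht : TAct S T) {t : MulAut K} (htT : t ∈ T) (ht1 : t ≠ 1) {a : K} (ha : a ∈ AT S T) :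
    ∃ c ∈ AT S T, c⁻¹ * t c = a := by
  let β : AT S T → AT S T := fun x => ⟨(x : K)⁻¹ * t x, mul_mem (inv_mem x.2) (T_AT ht htT x.2)⟩
  have hinj : Function.Injective β := by
    intro x y hxy
    have h1 : (x : K)⁻¹ * t x = (y : K)⁻¹ * t y := congrArg Subtype.val hxy
    have h2 : t ((y : K) * (x : K)⁻¹) = (y : K) * (x : K)⁻¹ := by
      rw [map_mul, map_inv]
      have h3 : t x = x * ((y : K)⁻¹ * t y) := by rw [← h1]; group
      rw [h3]
      group
    have h4 := ht.fpf t htT ht1 _ (mul_mem y.2 (inv_mem x.2)) h2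
    exact Subtype.ext (mul_inv_eq_one.1 h4).symm
  obtain ⟨x, hx⟩ := (Finite.injective_iff_surjective.1 hinj) ⟨a, ha⟩
  exact ⟨x, x.2, congrArg Subtype.val hx⟩

/-- `S = A (S ∩ Q_j)` for a moved node `j` -/
theorem exists_decomp [Finite K] (h : KSys S T P m) (ht : TAct S T) {j : J} (hj : Moved S T (P j)) {s : K}
    (hs : s ∈ S) : ∃ a ∈ AT S T, ∃ d ∈ S, d ∈ Qk (normalizer (S : Set K)) (P j) ∧ s = a * d := by
  obtain ⟨t, htT, ht1⟩ := exists_t ht
  have hSP : S ≤ P j := le_normalizer.trans (h.le j)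
  let N : Subgroup S := (Qk (normalizer (S : Set K)) (P j)).subgroupOf S
  have hN : N.Normal := ⟨fun x hx y => mem_subgroupOf.2 (Qk_conj' (mem_subgroupOf.1 hx) (hSP y.2))⟩
  let τ : S →* S := (t.toMonoidHom.comp S.subtype).codRestrict S fun x => ht.stab t htT x x.2
  have hτ : ∀ x : S, ((τ x : S) : K) = t x := fun x => rfl
  have hNτ : N ≤ N.comap τ := by
    intro x hx
    change t (x : K) ∈ Qk (normalizer (S : Set K)) (P j)
    exact mem_Q h ht htT (mem_subgroupOf.1 hx)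
  let f : S ⧸ N →* S ⧸ N := QuotientGroup.map N N τ hNτ
  have hinj : Function.Injective (fun x : S ⧸ N => x⁻¹ * f x) := by
    intro x y hxy
    have hxy' : x⁻¹ * f x = y⁻¹ * f y := hxy
    have h2 : f (y * x⁻¹) = y * x⁻¹ := by
      rw [map_mul, map_inv]
      have h3 : f x = x * (y⁻¹ * f y) := by rw [← hxy']; group
      rw [h3]
      group
    obtain ⟨z, hz⟩ := QuotientGroup.mk_surjective (y * x⁻¹)
    rw [← hz] at h2
    have h4 : ((τ z : S) : S ⧸ N) = (z : S ⧸ N) := h2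
    rw [eq_comm, QuotientGroup.eq, mem_subgroupOf] at h4
    have h5 := hj t htT ht1 z z.2 h4
    have h6 : ((z : S) : S ⧸ N) = 1 := (QuotientGroup.eq_one_iff z).2 (mem_subgroupOf.2 h5)
    rw [h6] at hz
    exact (mul_inv_eq_one.1 hz.symm).symm
  obtain ⟨x, hx⟩ := (Finite.injective_iff_surjective.1 hinj) ((⟨s, hs⟩ : S) : S ⧸ N)
  obtain ⟨u, rfl⟩ := QuotientGroup.mk_surjective x
  have h1 : ((u⁻¹ * τ u : S) : S ⧸ N) = ((⟨s, hs⟩ : S) : S ⧸ N) := hx
  rw [QuotientGroup.eq, mem_subgroupOf] at h1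
  have h2 : ((u : K)⁻¹ * t u)⁻¹ * s ∈ Qk (normalizer (S : Set K)) (P j) := h1
  have h3 : (u : K)⁻¹ * t u ∈ AT S T := subset_closure ⟨t, htT, u, u.2, rfl⟩
  exact ⟨_, h3, _, mul_mem (inv_mem (sub_S ht h3)) hs, h2, by group⟩

section gamma

variable [Finite K] (h : KSys S T P m) (ht : TAct S T) {j : J} (hj : Moved S T (P j))
  (hreg : ∀ a ∈ AT S T, a ∈ Qk (normalizer (S : Set K)) (P j) → a = 1)
include h ht hj hreg

theorem comm_D {a d : K} (ha : a ∈ AT S T) (hd : d ∈ S) (hdQ : d ∈ Qk (normalizer (S : Set K)) (P j)) :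
    a * d = d * a := by
  have hSP : S ≤ P j := le_normalizer.trans (h.le j)
  have h1 := mul_mem ha (h.B_A d (le_normalizer hd) _ (inv_mem ha))
  have e : a * (d * a⁻¹ * d⁻¹) = a * d * a⁻¹ * d⁻¹ := by group
  rw [e] at h1
  have h2 := hreg _ h1 (mul_mem (Qk_conj' hdQ (hSP (sub_S ht ha))) (inv_mem hdQ))
  rw [mul_inv_eq_one, mul_inv_eq_iff_eq_mul] at h2
  exact h2

theorem T_D {t : MulAut K} (htT : t ∈ T) {d : K} (hd : d ∈ S) (hdQ : d ∈ Qk (normalizer (S : Set K)) (P j)) :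
    t d = d := by
  have h1 : d⁻¹ * t d ∈ AT S T := subset_closure ⟨t, htT, d, hd, rfl⟩
  have h2 := hreg _ h1 (mul_mem (inv_mem hdQ) (mem_Q h ht htT hdQ))
  exact (inv_mul_eq_one.1 h2).symm

theorem comm_S {a s : K} (ha : a ∈ AT S T) (hs : s ∈ S) : a * s = s * a := by
  obtain ⟨a', ha', d, hd, hdQ, rfl⟩ := exists_decomp h ht hj hs
  rw [← mul_assoc, ht.ab a ha a' ha', mul_assoc, comm_D h ht hj hreg ha hd hdQ, mul_assoc]

/-- `[S^g, T] ≤ A` for `g` in an unmoved parabolic subgroup -/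
theorem conj_S {k : J} (hk : Unmoved S T (P k)) {g : K} (hg : g ∈ P k) {u : K} (hu : g⁻¹ * u * g ∈ S)
    {t : MulAut K} (htT : t ∈ T) : u⁻¹ * t u ∈ AT S T := by
  have hSP : S ≤ P k := le_normalizer.trans (h.le k)
  have huP : u ∈ P k := by
    have := mul_mem (mul_mem hg (hSP hu)) (inv_mem hg)
    have e : g * (g⁻¹ * u * g) * g⁻¹ = u := by group
    rwa [e] at this
  have h1 := unmoved_Q h ht hk htT huP
  -- `u⁻¹ t u ∈ g S g⁻¹`
  have h2 := unmoved_Q h ht hk htT hg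
  have h3 : g⁻¹ * (u⁻¹ * t u) * g ∈ S := by
    have h4 := ht.stab t htT _ hu
    have h5 := (mem_normalizer_iff.1 (Qk_le _ _ h2) _).1 h4
    have e : g⁻¹ * (u⁻¹ * t u) * g = (g⁻¹ * u * g)⁻¹ * (g⁻¹ * t g * t (g⁻¹ * u * g) * (g⁻¹ * t g)⁻¹) := by
      rw [map_mul, map_mul, map_inv]
      group
    rw [e]
    exact mul_mem (inv_mem hu) h5
  have h4 : u⁻¹ * t u ∈ S := by
    obtain ⟨n, hn⟩ := exists_two_pow h h3
    refine mem_S_of_two h (Qk_le _ _ h1) (n := n) ?_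
    have e : u⁻¹ * t u = g * (g⁻¹ * (u⁻¹ * t u) * g) * g⁻¹ := by group
    rw [e, conj_pow, hn, mul_one, mul_inv_cancel]
  obtain ⟨a, ha, d, hd, hdQ, e⟩ := exists_decomp h ht hj h4
  have key : ∀ r : ℕ, ∃ a' ∈ AT S T, (t ^ r) u = u * a' * d ^ r := by
    intro r
    induction r with
    | zero => exact ⟨1, one_mem _, by simp⟩
    | succ r ih =>
      obtain ⟨a', ha', e'⟩ := ih
      refine ⟨a * t a', mul_mem ha (T_AT ht htT ha'), ?_⟩
      have h5 : t u = u * (a * d) := by rw [← e]; group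
      have h6 := comm_D h ht hj hreg (T_AT ht htT ha') hd hdQ
      rw [pow_succ', MulAut.mul_apply, e', map_mul, map_mul, map_pow, T_D h ht hj hreg htT hd hdQ, h5, pow_succ']
      calc u * (a * d) * t a' * d ^ r = u * a * (d * t a') * d ^ r := by group
        _ = u * a * (t a' * d) * d ^ r := by rw [h6]
        _ = u * (a * t a') * (d * d ^ r) := by group
  obtain ⟨a', ha', e'⟩ := key (orderOf t)
  rw [pow_orderOf_eq_one, MulAut.one_apply] at e'
  have h5 : d ^ orderOf t = a'⁻¹ := by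
    have h6 : a' * d ^ orderOf t = 1 := by
      have h7 : u * (a' * d ^ orderOf t) = u * 1 := by rw [← mul_assoc, ← e', mul_one]
      exact mul_left_cancel h7
    exact eq_inv_of_mul_eq_one_right h6
  have h6 : d ^ orderOf t = 1 := by
    refine hreg _ ?_ (pow_mem hdQ _)
    rw [h5]
    exact inv_mem ha'
  have h7 : d ∈ (⊥ : Subgroup K) := mem_of_odd_pow h hd (odd_orderOf ht htT) (mem_bot.2 h6)
  rw [mem_bot] at h7
  rw [e, h7, mul_one]
  exact ha

/-- `A ≤ S^g` for `g` in an unmoved parabolic subgroup -/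
theorem A_le_conj {k : J} (hk : Unmoved S T (P k)) {g : K} (hg : g ∈ P k) {a : K} (ha : a ∈ AT S T) :
    g⁻¹ * a * g ∈ S := by
  have h1 : a ∈ Qk (normalizer (S : Set K)) (P k) := by
    have h2 : AT S T ≤ Qk (normalizer (S : Set K)) (P k) := by
      unfold AT
      rw [closure_le]
      rintro a ⟨t, htT, u, hu, rfl⟩
      exact hk t htT u hu
    exact h2 ha
  obtain ⟨n, hn⟩ := exists_two_pow h (sub_S ht ha)
  refine mem_S_of_two h (h1 g hg) (n := n) ?_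
  have e : g⁻¹ * a * g = g⁻¹ * a * g⁻¹⁻¹ := by rw [inv_inv]
  rw [e, conj_pow, hn, mul_one, mul_inv_cancel]

/-- `S^g` normalises `A` -/
theorem conj_A {k : J} (hk : Unmoved S T (P k)) {g : K} (hg : g ∈ P k) {x : K} (hx : g⁻¹ * x * g ∈ S) {a : K}
    (ha : a ∈ AT S T) : x * a * x⁻¹ ∈ AT S T := by
  obtain ⟨t, htT, ht1⟩ := exists_t ht
  obtain ⟨c, hc, rfl⟩ := AT_surj ht htT ht1 ha
  have hxi : g⁻¹ * x⁻¹ * g ∈ S := by
    have := inv_mem hx
    have e : (g⁻¹ * x * g)⁻¹ = g⁻¹ * x⁻¹ * g := by group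
    rwa [e] at this
  have hw : g⁻¹ * (c * x⁻¹) * g ∈ S := by
    have h1 := mul_mem (A_le_conj h ht hj hreg hk hg hc) hxi
    have e : g⁻¹ * c * g * (g⁻¹ * x⁻¹ * g) = g⁻¹ * (c * x⁻¹) * g := by group
    rwa [e] at h1
  have h1 := conj_S h ht hj hreg hk hg hw htT
  have h2 := conj_S h ht hj hreg hk hg hxi htT
  have h3 := mul_mem h1 (inv_mem h2)
  have e : (c * x⁻¹)⁻¹ * t (c * x⁻¹) * (x⁻¹⁻¹ * t x⁻¹)⁻¹ = x * (c⁻¹ * t c) * x⁻¹ := by
    rw [map_mul]
    group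
  rwa [e] at h3

/-- the normal closure of `S` in an unmoved parabolic subgroup centralises `A` -/
theorem NCl_comm {k : J} (hk : Unmoved S T (P k)) {x : K} (hx : x ∈ NCl S (P k)) {a : K} (ha : a ∈ AT S T) :
    x * a = a * x := by
  have hSP : S ≤ P k := le_normalizer.trans (h.le k)
  have hN : NCl S (P k) ≤ normalizer (AT S T : Set K) := by
    unfold NCl
    rw [closure_le]
    rintro x ⟨g, hg, hx⟩
    change x ∈ normalizer (AT S T : Set K)
    rw [mem_normalizer_iff]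
    refine fun a => ⟨fun ha => conj_A h ht hj hreg hk hg hx ha, fun ha => ?_⟩
    have hxi : g⁻¹ * x⁻¹ * g ∈ S := by
      have := inv_mem hx
      have e : (g⁻¹ * x * g)⁻¹ = g⁻¹ * x⁻¹ * g := by group
      rwa [e] at this
    have h1 := conj_A h ht hj hreg hk hg hxi ha
    have e : x⁻¹ * (x * a * x⁻¹) * x⁻¹⁻¹ = a := by group
    rwa [e] at h1
  have hSN : S ≤ NCl S (P k) := fun s hs => subset_closure ⟨1, one_mem _, by rwa [inv_one, one_mul, mul_one]⟩
  have hconj : ∀ g ∈ P k, ∀ s ∈ S, g * s * g⁻¹ ∈ NCl S (P k) := fun g hg s hs =>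
    subset_closure ⟨g, hg, by
      have e : g⁻¹ * (g * s * g⁻¹) * g = s := by group
      rwa [e]⟩
  -- an element of `NCl` outside `N(S)`
  obtain ⟨g₀, hg₀, hg₀P, hg₀B⟩ : ∃ g₀ ∈ NCl S (P k), g₀ ∈ P k ∧ g₀ ∉ normalizer (S : Set K) := by
    by_contra hcon
    push Not at hcon
    have h5 := h.five k
    obtain ⟨x, hx, y, hy, h1, h2, h3⟩ := exists_two (B := normalizer (S : Set K)) (P := P k) (by omega)
    obtain ⟨u, hu, c, hc, e⟩ := h.ptr k x hx h1 y hy h2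
    apply h3
    have h4 : x⁻¹ * u * x ∈ normalizer (S : Set K) := by
      refine hcon _ ?_ (mul_mem (mul_mem (inv_mem hx) (hSP hu)) hx)
      have := hconj x⁻¹ (inv_mem hx) u hu
      rwa [inv_inv] at this
    have e2 : x⁻¹ * y = x⁻¹ * u * x * c := by rw [e]; group
    rw [e2]
    exact mul_mem h4 hc
  -- `P k = NCl N(S)`
  have hP : ∀ g ∈ P k, ∃ n ∈ NCl S (P k), ∃ c ∈ normalizer (S : Set K), g = n * c := by
    intro g hg
    by_cases hgB : g ∈ normalizer (S : Set K)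
    · exact ⟨1, one_mem _, g, hgB, (one_mul g).symm⟩
    · obtain ⟨u, hu, c, hc, e⟩ := h.ptr k g₀ hg₀P hg₀B g hg hgB
      exact ⟨u * g₀, mul_mem (hSN hu) hg₀, c, hc, e⟩
  have hC : NCl S (P k) ≤ centralizer (AT S T : Set K) := by
    have h0 : _root_.Subgroup.closure {x | ∃ g ∈ P k, g⁻¹ * x * g ∈ S} ≤ centralizer (AT S T : Set K) := by
      rw [closure_le]
      rintro x ⟨g, hg, hx⟩
      obtain ⟨n, hn, c, hc, rfl⟩ := hP g hg
      have h1 : n⁻¹ * x * n ∈ S := by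
        have h2 := (mem_normalizer_iff.1 hc _).1 hx
        have e : c * ((n * c)⁻¹ * x * (n * c)) * c⁻¹ = n⁻¹ * x * n := by group
        rwa [e] at h2
      change x ∈ centralizer (AT S T : Set K)
      rw [mem_centralizer_iff]
      intro a ha
      have h2 : n⁻¹ * a * n ∈ AT S T := by
        have := (mem_normalizer_iff.1 (inv_mem (hN hn)) a).1 ha
        rwa [inv_inv] at this
      have h3 := comm_S h ht hj hreg h2 h1
      calc a * x = n * (n⁻¹ * a * n * (n⁻¹ * x * n)) * n⁻¹ := by group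
        _ = n * (n⁻¹ * x * n * (n⁻¹ * a * n)) * n⁻¹ := by rw [h3]
        _ = x * a := by group
    exact h0
  exact (mem_centralizer_iff.1 (hC hx) a ha).symm

/-- **a node on which `A` acts regularly is the only node** -/
theorem one_node (i i' : J) : i = i' := by
  by_contra hne
  have h1 : ∃ k, k ≠ j := by
    by_cases hi : i = j
    · exact ⟨i', fun h2 => hne (hi.trans h2.symm)⟩
    · exact ⟨i, hi⟩
  obtain ⟨k, hk, b, -, hbN, -, hb⟩ := h.nbr j hj h1
  apply ht.ne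
  rw [eq_bot_iff_forall]
  intro a ha
  refine hreg a ha (hb a (sub_S ht ha) ?_)
  rw [NCl_comm h ht hj hreg hk hbN ha, mul_inv_cancel_right, mul_inv_cancel]
  exact one_mem _

end gamma

end reg

/-! ### The real situation -/

section real

variable {G : Type u} [Group G] {ι : Type v} {V : Subgroup G} {R : ι → Subgroup G} {i j : ι}
  {T S : Subgroup (HQ (R i))}

/-- **`KD` from LAYER**, if `K₀` is the only moved component and its parabolic system has only one node -/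
theorem kd_of_lay [Finite G] (b : BTC V R) (hij : i ≠ j) (hQ : QQ (R i) = WW V (R i)) (l : Lay V R i j T S)
    {K₀ : Subgroup (HQ (R i))} (hK : MComp V R i j K₀) (ht : TAct (S.subgroupOf K₀) (Tact T K₀))
    (hn : (⨆ K ∈ {K : Subgroup (HQ (R i)) | MComp V R i j K}, K).Normal)
    (huniq : ∀ K : Subgroup (HQ (R i)), MComp V R i j K → K = K₀) {J : Type} {P : J → Subgroup K₀} {m : J → J → ℕ}
    (h : KSys (S.subgroupOf K₀) (Tact T K₀) P m) (hJ : ∀ a c : J, a = c)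
    (hone : ∃ (F : Type) (_ : Field F) (_ : Fintype F), ringChar F = 2 ∧
      Nonempty (K₀ ≃* Matrix.ProjectiveSpecialLinearGroup (Fin 2) F)) :
    ∃ (k : Type) (_ : Field k) (_ : Finite k) (_ : CharP k 2)
      (φ : up K₀ →* Matrix.SpecialLinearGroup (Fin 2) k), SQEnd.KD V R i j (up K₀) φ (k := k) := by
  obtain ⟨k, _, _, hk2, ⟨e⟩⟩ := hone
  have hc : CharP k 2 := ringChar.of_eq hk2
  obtain ⟨e'⟩ := HexGlob.SLQuot.exists_equiv (F' := k) (K := k) Nat.card_eq_fintype_card.symm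
  have h1 : (⨆ K ∈ {K : Subgroup (HQ (R i)) | MComp V R i j K}, K) = K₀ :=
    le_antisymm (iSup₂_le fun K hK' => (huniq K hK').le)
      (le_iSup₂ (f := fun (K : Subgroup (HQ (R i))) (_ : K ∈ {K : Subgroup (HQ (R i)) | MComp V R i j K}) => K) K₀ hK)
  rw [h1] at hn
  have hA : AA V R i j ≤ K₀ :=
    (l.A_le b.toBT hij).trans (iSup₂_le fun K hK' => inf_le_right.trans (huniq K hK').le)
  have h2 : S.subgroupOf K₀ = (AA V R i j).subgroupOf K₀ := by
    rw [← AT_eq_self hK.1.2 (OfLay.odd_center (pCore_HQ (R i)) hK.1) h ht hJ, OfLay.AT_eq (l.hyp K₀ hK),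
      inf_subgroupOf_right]
  have hodd : Odd ((AA V R i j).relIndex K₀) := by
    have : Fact (Nat.Prime 2) := ⟨Nat.prime_two⟩
    obtain ⟨X, hX⟩ := OfLay.exists_sylow (l.hyp K₀ hK).toPre
    rw [relIndex, ← h2, ← hX, ← Nat.not_even_iff_odd, even_iff_two_dvd]
    exact X.not_dvd_index
  obtain ⟨φ, hφ⟩ := kd_of b hij hQ hK.2.1 hn hA hodd (e.trans e')
  exact ⟨k, inferInstance, inferInstance, hc, φ, hφ⟩

/-- **(gamma)**: if `A` acts regularly on the points `≠ e` of the orbit `e^{P j₀}`, then `K₀` is the only moved component,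
and its parabolic system has only one node.  `E₀` is the stabiliser of the point `e`. -/
theorem uniq_of_reg [Finite G] (l : Lay V R i j T S) {K₀ : Subgroup (HQ (R i))} (hK : MComp V R i j K₀)
    (ht : ∀ K, MComp V R i j K → TAct (S.subgroupOf K) (Tact T K))
    {J : Type} {P : J → Subgroup K₀} {m : J → J → ℕ} (h : KSys (S.subgroupOf K₀) (Tact T K₀) P m) {j₀ : J}
    (hj : Moved (S.subgroupOf K₀) (Tact T K₀) (P j₀)) (E₀ : Subgroup (HQ (R i))) (hAE : AA V R i j ≤ E₀)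
    (hBE : ∀ x : K₀, x ∈ normalizer (S.subgroupOf K₀ : Set K₀) → (x : HQ (R i)) ∈ E₀)
    (hmv : ∃ g ∈ P j₀, (g : HQ (R i)) ∉ E₀)
    (hreg : ∀ a ∈ AA V R i j, ∀ g ∈ P j₀, (g : HQ (R i)) ∉ E₀ → (g : HQ (R i))⁻¹ * a * g ∈ E₀ → a = 1) :
    (∀ K : Subgroup (HQ (R i)), MComp V R i j K → K = K₀) ∧ ∀ a c : J, a = c := by
  obtain ⟨g, hg, hgE⟩ := hmv
  constructor
  · intro K hK'
    by_contra hne
    have h1 := (ht K hK').ne
    apply h1
    rw [OfLay.AT_eq (l.hyp K hK'), eq_bot_iff_forall]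
    intro x hx
    have h2 := mem_subgroupOf.1 hx
    have h3 : ((x : K) : HQ (R i)) * g = g * x := Layer.comm_of_ne hK'.1 hK.1 hne x.2 g.2
    refine Subtype.ext (hreg _ h2.1 g hg hgE ?_)
    rw [mul_assoc, h3, inv_mul_cancel_left]
    exact hAE h2.1
  · refine one_node h (ht K₀ hK) hj fun a ha haQ => ?_
    rw [OfLay.AT_eq (l.hyp K₀ hK)] at ha
    exact Subtype.ext (hreg _ (mem_subgroupOf.1 ha).1 g hg hgE (hBE _ (haQ g hg)))

end real

end Cfsg.Agent.Omega.Lie.End.KDOf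

end

section


/-!
# Groups of odd automorphisms of a group with a root group datum: the commutator of two root elements

`R : RGD cs h p T n X`, `i` a node, `η = w α_m` a positive root with `w ∈ W_J`, `m ∈ J`, `i ∉ J` and
`⟨η, α_i^∨⟩ ≠ 0`; `δ = s_i η`.

* `comp` : for `a ∈ X_i#`, `v ∈ X_η#` the commutator `v⁻¹ a⁻¹ v a` is `x z`, `1 ≠ x ∈ X_δ`, `z` in the product `Z` of
  the root groups in the interval `(δ, η]`; `X_δ ∩ Z = 1`, `X_δ ≤ N(Z)`;
* `mem_of_fpf` : `A` abelian, `β` fixed-point-free on `A`, `b⁻¹ β b ∈ Z` implies `b ∈ Z`;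
* `no_fix` : `β` is not trivial on `X_δ` if the commutator is in `A` and `β` is fixed-point-free on `A`;
* `exists_rp_fix` : a frame automorphism fixing an element of `X_i#` fixes a representative of `s_i`.
-/

set_option autoImplicit false
set_option linter.unusedSectionVars false

namespace Cfsg.Agent.Omega.Lie.End.Mov

open CoxeterSystem Cfsg.Agent.ChevalleyStructure.CoxeterGeom Cfsg.Agent.Tits.Roots Cfsg.Agent.Tits.Core
  Cfsg.Agent.Tits.Exchange Cfsg.Agent.Tits.RootComb Cfsg.Agent.Nodes.Reps Cfsg.Agent.Nodes.BNOf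
  Cfsg.Agent.Nodes.StabComb Cfsg.Agent.Nodes.Bruhat Cfsg.Agent.Nodes.OppDec Cfsg.Agent.Nodes.LeviDec
  Cfsg.Agent.Nodes.NormalForm Cfsg.Agent.KFacts.RgdOpp Cfsg.Agent.KFacts.RgdAut Cfsg.Agent.KFacts.RgdDiag
  Cfsg.Agent.KFacts.RgdRigid Cfsg.Agent.KFacts.RgdPar
open scoped commutatorElement

/-- `β` fixed-point-free on the abelian group `A`, `b ∈ A` and `b⁻¹ β b ∈ Z` imply `b ∈ Z`. -/
theorem mem_of_fpf {Y : Type*} [Group Y] [Finite Y] {A Z : Subgroup Y} {β : MulAut Y}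
    (hβ : ∀ a ∈ A, β a ∈ A) (hf : ∀ a ∈ A, β a = a → a = 1)
    (hZ : ∀ z ∈ Z, β z ∈ Z) {b : Y} (hb : b ∈ A) (h : b⁻¹ * β b ∈ Z) : b ∈ Z := by
  have key : ∀ x ∈ A, ∀ y ∈ A, x⁻¹ * β x = y⁻¹ * β y → x = y := by
    intro x hx y hy e
    have h1 : β (x * y⁻¹) = x * y⁻¹ := by
      have h2 : β x = x * (y⁻¹ * β y) := by rw [← e]; group
      rw [map_mul, map_inv, h2]; group
    exact mul_inv_eq_one.1 (hf _ (mul_mem hx (inv_mem hy)) h1)
  let φ : ↥(A ⊓ Z) → ↥(A ⊓ Z) := fun z => ⟨(z : Y)⁻¹ * β z, Subgroup.mem_inf.2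
    ⟨A.mul_mem (A.inv_mem z.2.1) (hβ _ z.2.1), Z.mul_mem (Z.inv_mem z.2.2) (hZ _ z.2.2)⟩⟩
  have hinj : Function.Injective φ := fun x y e => Subtype.ext (key _ x.2.1 _ y.2.1 (congrArg Subtype.val e))
  obtain ⟨z, hz⟩ := (Finite.surjective_of_injective hinj)
    ⟨b⁻¹ * β b, Subgroup.mem_inf.2 ⟨A.mul_mem (A.inv_mem hb) (hβ _ hb), h⟩⟩
  rw [← key _ z.2.1 _ hb (congrArg Subtype.val hz)]
  exact z.2.2

variable {I W Y : Type*} [Fintype I] [DecidableEq I] [Group W] [Group Y] {M : CoxeterMatrix I}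
  {cs : CoxeterSystem M W} {A : I → I → ℤ} {h : IsCartan M A} {p : ℕ} {T : Subgroup Y} {n : I → Y}
  {X : (I → ℤ) → Subgroup Y}

/-! ### roots -/

/-- `m z = a y` for two roots and positive coefficients gives `z = y`. -/
theorem root_eq_of_smul {z y : I → ℤ} (hz : IsRoot cs h z) (hy : IsRoot cs h y) {m a : ℤ} (hm : 0 < m) (ha : 0 < a)
    (e : m • z = a • y) : z = y := by
  obtain ⟨w, i, rfl⟩ := hy
  have e1 : m • rep cs h w⁻¹ z = a • (sr i : I → ℤ) := by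
    rw [← map_smul, e, map_smul, rep_inv_apply]
  have h1 : ∀ k, k ≠ i → rep cs h w⁻¹ z k = 0 := by
    intro k hk
    have h2 := congrFun e1 k
    rw [Pi.smul_apply, Pi.smul_apply, sr_ne hk, smul_zero, smul_eq_mul] at h2
    exact (mul_eq_zero.1 h2).resolve_left hm.ne'
  have h0 : 0 < rep cs h w⁻¹ z i := by
    have h2 := congrFun e1 i
    rw [Pi.smul_apply, Pi.smul_apply, sr_self, smul_eq_mul, smul_eq_mul, mul_one] at h2
    by_contra hcon
    push Not at hcon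
    nlinarith only [hm, ha, h2, hcon]
  have h3 := (hz.act w⁻¹).eq_sr (nonneg_of_pos_apply (hz.act w⁻¹) h0) i h1
  rw [← h3, rep_apply_inv]

theorem sr_eq (i : I) : (sr i : I → ℤ) = Pi.single i 1 := rfl

theorem pairing_sr (i j : I) : pairing A i (sr j) = A i j := by
  rw [sr_eq, pairing_single, mul_one]

/-- a root with a positive coefficient off `i`, nonnegative except possibly at `i`, is not cancelled by `α_i` -/
theorem not_mixed {z : I → ℤ} (hz : IsRoot cs h z) {i k : I} (hi : z i < 0) (hk : 0 < z k) : False := by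
  rcases hz.pos_or_neg with h1 | h1
  · exact absurd (h1 i) (not_le.2 hi)
  · exact absurd (h1 k) (not_le.2 hk)

theorem exists_pos {η : I → ℤ} (hη : IsRoot cs h η) (h0 : 0 ≤ η) : ∃ k, 0 < η k := by
  by_contra hcon
  push Not at hcon
  exact hη.ne_zero (funext fun k => le_antisymm (hcon k) (h0 k))

/-- the pairing of a nonnegative vector with zero coefficient at `i` -/
theorem pairing_nonpos {η : I → ℤ} (h0 : 0 ≤ η) {i : I} (hi : η i = 0) (h : IsCartan M A) : pairing A i η ≤ 0 := by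
  unfold pairing
  refine Finset.sum_nonpos fun k _ => ?_
  by_cases hk : k = i
  · subst hk; rw [hi, mul_zero]
  · exact mul_nonpos_of_nonpos_of_nonneg (cartan_nonpos (M := M) h (Ne.symm hk)) (h0 k)

/-- the interval `(δ, η]` -/
def Zs (cs : CoxeterSystem M W) (h : IsCartan M A) (δ η : I → ℤ) : Set (I → ℤ) :=
  {z | z = η ∨ Btwn cs h δ η z}

/-- `η = w α_m ≥ 0` with `w ∈ W_J`, `m ∈ J`, `i ∉ J`, `⟨η, α_i^∨⟩ ≠ 0` -/
structure Nb (cs : CoxeterSystem M W) (h : IsCartan M A) (i : I) (J : Set I) (m : I) (w : W) : Prop where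
  iJ : i ∉ J
  mJ : m ∈ J
  wJ : w ∈ WJ cs J
  pos : 0 ≤ rep cs h w (sr m)
  ne : pairing A i (rep cs h w (sr m)) ≠ 0

namespace Nb

variable {i m : I} {J : Set I} {w : W} (N : Nb cs h i J m w)

include N

theorem root : IsRoot cs h (rep cs h w (sr m)) := ⟨w, m, rfl⟩

theorem apply_i : rep cs h w (sr m) i = 0 := by
  rw [rep_apply_of_mem cs h N.wJ _ N.iJ]
  exact sr_ne (fun e => N.iJ (e ▸ N.mJ))

theorem neg : pairing A i (rep cs h w (sr m)) < 0 :=
  lt_of_le_of_ne (pairing_nonpos N.pos N.apply_i h) N.ne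

theorem delta_eq : rep cs h (cs.simple i) (rep cs h w (sr m)) =
    rep cs h w (sr m) + (-pairing A i (rep cs h w (sr m))) • (sr i : I → ℤ) := by
  rw [rep_simple_eq, neg_smul, sub_eq_add_neg]

theorem delta_root : IsRoot cs h (rep cs h (cs.simple i) (rep cs h w (sr m))) := N.root.act _

theorem delta_pos : 0 ≤ rep cs h (cs.simple i) (rep cs h w (sr m)) :=
  N.root.simple_nonneg N.pos i (fun e => by
    have := N.apply_i
    rw [e, sr_self] at this
    exact one_ne_zero this)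

theorem exists_k : ∃ k, k ≠ i ∧ 0 < rep cs h w (sr m) k := by
  obtain ⟨k, hk⟩ := exists_pos N.root N.pos
  exact ⟨k, fun e => by rw [e, N.apply_i] at hk; exact lt_irrefl _ hk, hk⟩

/-- no root is a positive combination of `η` and `-α_i` -/
theorem not_btwn_neg {z : I → ℤ} (hz : Btwn cs h (rep cs h w (sr m)) (-sr i) z) : False := by
  obtain ⟨hz, a, b, c, ha, hb, hc, e⟩ := hz
  obtain ⟨k, hki, hk⟩ := N.exists_k
  have e1 := congrFun e i
  have e2 := congrFun e k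
  simp only [Pi.smul_apply, Pi.add_apply, Pi.neg_apply, smul_eq_mul, sr_self, sr_ne hki, N.apply_i] at e1 e2
  refine not_mixed hz (i := i) (k := k) ?_ ?_
  · by_contra hcon
    push Not at hcon
    nlinarith only [ha, hc, e1, hcon]
  · by_contra hcon
    push Not at hcon
    nlinarith only [h, ha, e2, hcon, mul_pos hb hk]

/-- the roots between `δ` and `-α_i` are in `(δ, η]` -/
theorem btwn_mem {z : I → ℤ} (hz : Btwn cs h (rep cs h (cs.simple i) (rep cs h w (sr m))) (-sr i) z) :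
    z ∈ Zs cs h (rep cs h (cs.simple i) (rep cs h w (sr m))) (rep cs h w (sr m)) := by
  have hz0 := hz
  obtain ⟨hz, a, b, c, ha, hb, hc, e⟩ := hz
  obtain ⟨d, hd⟩ : ∃ d, d = -pairing A i (rep cs h w (sr m)) := ⟨_, rfl⟩
  have hd0 : 0 < d := by have := N.neg; omega
  have e0 := N.delta_eq
  rw [← hd] at e0
  rcases lt_trichotomy (b * d - c) 0 with h1 | h1 | h1
  · exfalso
    refine N.not_btwn_neg ⟨hz, a, b, c - b * d, ha, hb, by linarith, ?_⟩
    rw [e, e0]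
    funext k
    simp only [Pi.smul_apply, Pi.add_apply, Pi.neg_apply, smul_eq_mul]
    ring
  · left
    refine root_eq_of_smul hz N.root ha hb ?_
    rw [e, e0]
    have hcd : c = b * d := by linarith
    rw [hcd]
    funext k
    simp only [Pi.smul_apply, Pi.add_apply, Pi.neg_apply, smul_eq_mul]
    ring
  · right
    refine ⟨hz, d * a, b * d - c, c, mul_pos hd0 ha, h1, hc, ?_⟩
    rw [mul_smul, e, e0]
    funext k
    simp only [Pi.smul_apply, Pi.add_apply, Pi.neg_apply, smul_eq_mul]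
    ring

theorem Zs_root {z : I → ℤ} (hz : z ∈ Zs cs h (rep cs h (cs.simple i) (rep cs h w (sr m))) (rep cs h w (sr m))) :
    IsRoot cs h z ∧ 0 ≤ z := by
  rcases hz with rfl | hz
  · exact ⟨N.root, N.pos⟩
  · exact ⟨hz.1, RGD.nonneg_of_btwn N.delta_pos N.pos hz⟩

/-- an element `u₀` of `W` with `u₀ δ = -α_m` and `u₀ (δ, η] > 0` -/
theorem exists_sep : ∃ u : W, rep cs h u (rep cs h (cs.simple i) (rep cs h w (sr m))) = -sr m ∧
    ∀ z ∈ Zs cs h (rep cs h (cs.simple i) (rep cs h w (sr m))) (rep cs h w (sr m)), 0 ≤ rep cs h u z := by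
  obtain ⟨d, hd⟩ : ∃ d, d = -pairing A i (rep cs h w (sr m)) := ⟨_, rfl⟩
  have hd0 : 0 < d := by have := N.neg; omega
  have e0 := N.delta_eq
  rw [← hd] at e0
  have hmi : m ≠ i := fun e => N.iJ (e ▸ N.mJ)
  have hw' : w⁻¹ ∈ WJ cs J := inv_mem N.wJ
  have hξi : rep cs h w⁻¹ (sr i) i = 1 := by rw [rep_apply_of_mem cs h hw' _ N.iJ, sr_self]
  have hξ : IsRoot cs h (rep cs h w⁻¹ (sr i)) := ⟨_, _, rfl⟩
  have hξ0 : 0 ≤ rep cs h w⁻¹ (sr i) := nonneg_of_pos_apply hξ (by rw [hξi]; exact one_pos)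
  -- `y = w⁻¹ δ = α_m + d w⁻¹ α_i`
  have ey : rep cs h w⁻¹ (rep cs h (cs.simple i) (rep cs h w (sr m))) = sr m + d • rep cs h w⁻¹ (sr i) := by
    rw [e0, map_add, map_smul, rep_inv_apply]
  have ess : rep cs h (cs.simple i) (rep cs h (cs.simple i) (rep cs h w (sr m))) = rep cs h w (sr m) := by
    rw [← rep_mul_apply, cs.simple_mul_simple_self, map_one, Module.End.one_apply]
  have hy0 : 0 ≤ rep cs h w⁻¹ (rep cs h (cs.simple i) (rep cs h w (sr m))) := by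
    rw [ey]
    exact add_nonneg (sr_nonneg m) (smul_nonneg hd0.le hξ0)
  have hyi : 0 < rep cs h w⁻¹ (rep cs h (cs.simple i) (rep cs h w (sr m))) i := by
    rw [ey, Pi.add_apply, Pi.smul_apply, hξi, sr_ne (Ne.symm hmi), smul_eq_mul]
    linarith
  refine ⟨cs.simple m * w⁻¹ * cs.simple i, ?_, ?_⟩
  · rw [rep_mul_apply, rep_mul_apply, ess, rep_inv_apply, rep_simple_sr]
  · have key : ∀ z, IsRoot cs h z → 0 ≤ rep cs h w⁻¹ (rep cs h (cs.simple i) z) →
        0 < rep cs h w⁻¹ (rep cs h (cs.simple i) z) i → 0 ≤ rep cs h (cs.simple m * w⁻¹ * cs.simple i) z := by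
      intro z hz h1 h2
      rw [rep_mul_apply, rep_mul_apply]
      refine ((hz.act _).act _).simple_nonneg h1 m fun e => ?_
      rw [e, sr_ne (Ne.symm hmi)] at h2
      exact lt_irrefl _ h2
    rintro z (rfl | hz)
    · exact key _ N.root hy0 hyi
    · have h1 := (hz.act (cs.simple i)).act w⁻¹
      rw [ess, rep_inv_apply] at h1
      refine key z hz.1 (RGD.nonneg_of_btwn (sr_nonneg m) hy0 h1) ?_
      obtain ⟨-, a, b, c, ha, hb, hc, e⟩ := h1
      have e1 := congrFun e i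
      rw [Pi.smul_apply, Pi.add_apply, Pi.smul_apply, Pi.smul_apply, sr_ne (Ne.symm hmi), smul_zero, zero_add,
        smul_eq_mul, smul_eq_mul] at e1
      by_contra hcon
      push Not at hcon
      nlinarith only [h, ha, e1, hcon, mul_pos hc hyi]

end Nb

section

variable (R : RGD cs h p T n X)

include R

/-- the rank one decomposition of `a ∈ X_i#` -/
theorem exists_dec [Finite W] {i : I} {a : Y} (ha : a ∈ X (sr i)) (ha1 : a ≠ 1) :
    ∃ b ∈ X (-sr i), ∃ k, Rp cs R.nsys (cs.simple i) k ∧ ∃ c ∈ X (-sr i), a = b * k * c := by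
  have ha' : a ∈ X (- -sr i) := by rw [neg_neg]; exact ha
  obtain ⟨b, hb, t, ht, c, hc, e⟩ := (opp R).rk1 i a ha' ha1
  refine ⟨b, hb, t * n i, ?_, c, hc, by rw [e]; group⟩
  have := (rp_of_mem (cs := cs) (hN := R.nsys) ht).mul (rp_simple cs R.nsys i)
  rwa [one_mul] at this

/-- **A frame automorphism fixing an element of `X_i#` fixes a representative of `s_i`.** -/
theorem exists_rp_fix [Finite W] {i : I} {a : Y} (ha : a ∈ X (sr i)) (ha1 : a ≠ 1) :
    ∃ k, Rp cs R.nsys (cs.simple i) k ∧ (∃ b ∈ X (-sr i), ∃ c ∈ X (-sr i), a = b * k * c) ∧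
      ∀ β : MulAut Y, _root_.Cfsg.Agent.KFacts.RgdDiag.Diag T X β 1 → β a = a → β k = k := by
  obtain ⟨b, hb, k, hk, c, hc, e⟩ := exists_dec R ha ha1
  refine ⟨k, hk, ⟨b, hb, c, hc, e⟩, fun β D hβ => ?_⟩
  have hneg : ∀ x ∈ X (-sr i), β x ∈ X (-sr i) := fun x hx => by
    have := (D.neg i x).2 hx
    rwa [Equiv.Perm.one_apply] at this
  have hM : ∀ a b, M ((1 : Equiv.Perm I) a) ((1 : Equiv.Perm I) b) = M a b := fun a b => rfl
  have hhat : ∀ j, hat cs (1 : Equiv.Perm I) hM (cs.simple j) = cs.simple j := fun j => hat_simple _ hM j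
  have hβk : Rp cs R.nsys (cs.simple i) (β k) := by
    have := D.rp' (R := R) hM hk
    rwa [hhat] at this
  have e2 : b * k * c = β b * β k * β c := by rw [← e, ← map_mul, ← map_mul, ← e, hβ]
  -- `t = β k * k⁻¹ ∈ T`
  obtain ⟨t, ht⟩ : ∃ t, t = β k * k⁻¹ := ⟨_, rfl⟩
  have htT : t ∈ T := by
    have h1 := hβk.inv.unique hk.inv
    rwa [inv_inv, ← ht] at h1
  obtain ⟨x, hx⟩ : ∃ x, x = k * (β c * c⁻¹) * k⁻¹ := ⟨_, rfl⟩
  have hxX : x ∈ X (sr i) := by
    have := R.conj_mem hk (isRoot_sr cs h i).neg (mul_mem (hneg c hc) (inv_mem hc))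
    rwa [map_neg, rep_simple_sr, neg_neg, ← hx] at this
  have e3 : (β b)⁻¹ * b = t * x := by
    have : (β b)⁻¹ * b = (β b)⁻¹ * (b * k * c) * c⁻¹ * k⁻¹ := by group
    rw [this, e2, ht, hx]; group
  have h1 : (β b)⁻¹ * b ∈ X (-sr i) := mul_mem (inv_mem (hneg b hb)) hb
  have h2 : (β b)⁻¹ * b = 1 := by
    refine eq_one_of_mem_UN_of_mem_B R (X_le_UN (isRoot_sr cs h i).neg (neg_nonpos.2 (sr_nonneg i)) h1) ?_
    rw [e3]
    exact mul_mem (RGD.T_le_B htT) (RGD.X_le_B (isRoot_sr cs h i) (sr_nonneg i) hxX)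
  have h3 : t = x⁻¹ := eq_inv_of_mul_eq_one_left (by rw [← e3, h2])
  have h4 : t = 1 := by
    have h5 := X_inf_T R (isRoot_sr cs h i)
    rw [Subgroup.eq_bot_iff_forall] at h5
    exact h5 t (Subgroup.mem_inf.2 ⟨by rw [h3]; exact (X (sr i)).inv_mem hxX, htT⟩)
  rw [h4] at ht
  exact (mul_inv_eq_one.1 ht.symm)

/-- a frame automorphism with trivial permutation fixes all root groups -/
theorem Diag.mem_iff [Finite W] {β : MulAut Y} (D : _root_.Cfsg.Agent.KFacts.RgdDiag.Diag T X β 1) {r : I → ℤ} (hr : IsRoot cs h r) (x : Y) :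
    β x ∈ X r ↔ x ∈ X r := by
  have := D.root_comp R (fun _ _ => rfl) hr x
  exact this

theorem Diag.fix_Sup [Finite W] {β : MulAut Y} (D : _root_.Cfsg.Agent.KFacts.RgdDiag.Diag T X β 1) {S : Set (I → ℤ)} (hS : ∀ z ∈ S, IsRoot cs h z)
    {x : Y} (hx : x ∈ RGD.Sup X S) : β x ∈ RGD.Sup X S := by
  have h1 : RGD.Sup X S ≤ (RGD.Sup X S).comap β.toMonoidHom :=
    RGD.Sup_le fun z hz y hy => Subgroup.mem_comap.2 (RGD.le_Sup hz ((Diag.mem_iff R D (hS z hz) y).2 hy))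
  exact h1 hx

variable {i m : I} {J : Set I} {w : W} (N : Nb cs h i J m w)

include N

/-- `X_η` and `X_{-i}` commute -/
theorem Nb.commute {v b : Y} (hv : v ∈ X (rep cs h w (sr m))) (hb : b ∈ X (-sr i)) : v * b = b * v := by
  obtain ⟨k, hki, hk⟩ := N.exists_k
  have h1 : rep cs h w (sr m) ≠ -sr i := fun e => by
    rw [e, Pi.neg_apply, sr_ne hki, neg_zero] at hk
    exact lt_irrefl _ hk
  have h2 : rep cs h w (sr m) ≠ - -sr i := fun e => by
    rw [neg_neg] at e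
    rw [e, sr_ne hki] at hk
    exact lt_irrefl _ hk
  have h3 := R.comm _ _ N.root (isRoot_sr cs h i).neg h1 h2 v hv b hb
  have h4 : _root_.Cfsg.Agent.Nodes.Reps.btw cs h X (rep cs h w (sr m)) (-sr i) = ⊥ := by
    unfold Cfsg.Agent.Nodes.Reps.btw
    rw [eq_bot_iff]
    refine iSup_le ?_
    rintro ⟨z, hz⟩
    exact (N.not_btwn_neg hz).elim
  rw [h4, Subgroup.mem_bot, commutatorElement_eq_one_iff_mul_comm] at h3
  exact h3

/-- `X_δ` normalises `Z` -/
theorem Nb.le_norm : X (rep cs h (cs.simple i) (rep cs h w (sr m))) ≤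
    Subgroup.normalizer (RGD.Sup X (Zs cs h (rep cs h (cs.simple i) (rep cs h w (sr m))) (rep cs h w (sr m))) : Set Y) := by
  refine R.le_normalizer N.delta_root ?_
  intro y hy
  refine ⟨(N.Zs_root hy).1, Or.inr ⟨?_, ?_⟩⟩
  · intro e
    have h1 := N.delta_pos
    rw [e] at h1
    exact (N.Zs_root hy).1.neg.not_pos_neg h1 (neg_nonpos.2 (N.Zs_root hy).2)
  · rcases hy with rfl | hy
    · exact fun z hz => Or.inr hz
    · rintro z ⟨hz, a, b, c, ha, hb, hc, e⟩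
      obtain ⟨-, a', b', c', ha', hb', hc', e'⟩ := hy
      refine Or.inr ⟨hz, a' * a, a' * b + c * b', c * c', mul_pos ha' ha,
        add_pos (mul_pos ha' hb) (mul_pos hc hb'), mul_pos hc hc', ?_⟩
      rw [mul_smul, e, smul_add, ← mul_smul, ← mul_smul, mul_comm a' c, mul_smul c a' y, e', smul_add, ← mul_smul,
        ← mul_smul, add_smul]
      abel

/-- `X_δ ∩ Z = 1` -/
theorem Nb.inf_eq [Finite W] {x : Y} (hx : x ∈ X (rep cs h (cs.simple i) (rep cs h w (sr m))))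
    (hZ : x ∈ RGD.Sup X (Zs cs h (rep cs h (cs.simple i) (rep cs h w (sr m))) (rep cs h w (sr m)))) : x = 1 := by
  obtain ⟨u, hu1, hu2⟩ := N.exists_sep
  obtain ⟨g, hg⟩ := exists_rp cs R.nsys u
  have h1 : g * x * g⁻¹ ∈ UN cs h X := by
    have := R.conj_mem hg N.delta_root hx
    rw [hu1] at this
    exact X_le_UN (isRoot_sr cs h m).neg (neg_nonpos.2 (sr_nonneg m)) this
  have h2 : g * x * g⁻¹ ∈ RGD.Sup X (RGD.Pos cs h) := by
    have h3 : g * x * g⁻¹ ∈ cj g (RGD.Sup X (Zs cs h (rep cs h (cs.simple i) (rep cs h w (sr m))) (rep cs h w (sr m)))) :=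
      conj_mem_cj.2 hZ
    rw [cj_Sup_eq R hg (fun z hz => (N.Zs_root hz).1)] at h3
    refine RGD.Sup_mono ?_ h3
    intro z hz
    have hz' : rep cs h u⁻¹ z ∈ Zs cs h (rep cs h (cs.simple i) (rep cs h w (sr m))) (rep cs h w (sr m)) := hz
    have h4 := (N.Zs_root hz').1.act u
    have h5 := hu2 _ hz'
    rw [rep_apply_inv] at h4 h5
    exact ⟨h4, h5⟩
  have h3 := U_inf_UN R
  rw [Subgroup.eq_bot_iff_forall] at h3
  have h4 := h3 _ ⟨h2, h1⟩
  have h5 : x = g⁻¹ * (g * x * g⁻¹) * g := by group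
  rw [h5, h4]; group

/-- **The commutator of two root elements.** -/
theorem Nb.comp [Finite W] {a v : Y} (ha : a ∈ X (sr i)) (ha1 : a ≠ 1) (hv : v ∈ X (rep cs h w (sr m))) (hv1 : v ≠ 1) :
    ∃ x ∈ X (rep cs h (cs.simple i) (rep cs h w (sr m))), x ≠ 1 ∧
      ∃ z ∈ RGD.Sup X (Zs cs h (rep cs h (cs.simple i) (rep cs h w (sr m))) (rep cs h w (sr m))),
        v⁻¹ * a⁻¹ * v * a = x * z := by
  obtain ⟨b, hb, k, hk, c, hc, e⟩ := exists_dec R ha ha1
  obtain ⟨x, hx⟩ : ∃ x, x = k⁻¹ * v * k := ⟨_, rfl⟩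
  have hxX : x ∈ X (rep cs h (cs.simple i) (rep cs h w (sr m))) := by
    have := R.conj_mem' hk N.root hv
    rwa [cs.inv_simple, ← hx] at this
  have hx1 : x ≠ 1 := fun e1 => hv1 (by
    have h1 : v = k * x * k⁻¹ := by rw [hx]; group
    rw [h1, e1]; group)
  obtain ⟨q, hqi, hq⟩ := N.exists_k
  have hδq : 0 < rep cs h (cs.simple i) (rep cs h w (sr m)) q := by
    rw [rep_simple_apply cs h i _ q hqi]; exact hq
  have hne1 : rep cs h (cs.simple i) (rep cs h w (sr m)) ≠ -sr i := fun e => by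
    rw [e, Pi.neg_apply, sr_ne hqi, neg_zero] at hδq
    exact lt_irrefl _ hδq
  have hne2 : rep cs h (cs.simple i) (rep cs h w (sr m)) ≠ - -sr i := fun e => by
    rw [neg_neg] at e
    rw [e, sr_ne hqi] at hδq
    exact lt_irrefl _ hδq
  have h1 := R.comm _ _ N.delta_root (isRoot_sr cs h i).neg hne1 hne2 x⁻¹ (inv_mem hxX) c⁻¹ (inv_mem hc)
  have h2 : x⁻¹ * c⁻¹ * x * c ∈ RGD.Sup X (Zs cs h (rep cs h (cs.simple i) (rep cs h w (sr m))) (rep cs h w (sr m))) := by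
    have h3 := R.btw_le_Sup (fun z hz => N.btwn_mem hz) h1
    rw [commutatorElement_def, inv_inv, inv_inv] at h3
    exact h3
  have e1 : v⁻¹ * a⁻¹ * v * a = x * ((x⁻¹ * v⁻¹ * x) * (x⁻¹ * c⁻¹ * x * c)) := by
    have h3 : b⁻¹ * v * b = v := by
      have := Nb.commute R N hv hb
      rw [mul_assoc, this]; group
    have h4 : v⁻¹ * a⁻¹ * v * a = v⁻¹ * c⁻¹ * (k⁻¹ * (b⁻¹ * v * b) * k) * c := by rw [e]; group
    rw [h4, h3, ← hx]; group
  refine ⟨x, hxX, hx1, _, mul_mem ?_ h2, e1⟩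
  have h3 := Nb.le_norm R N (inv_mem hxX)
  rw [Subgroup.mem_normalizer_iff] at h3
  have h4 := (h3 v⁻¹).1 (inv_mem (RGD.le_Sup (Or.inl rfl) hv))
  rwa [inv_inv] at h4

/-- `X_i#` and `X_η#` do not commute. -/
theorem Nb.not_comm [Finite W] {a v : Y} (ha : a ∈ X (sr i)) (ha1 : a ≠ 1) (hv : v ∈ X (rep cs h w (sr m)))
    (hv1 : v ≠ 1) : v * a ≠ a * v := by
  intro e
  obtain ⟨x, hx, hx1, z, hz, e1⟩ := Nb.comp R N ha ha1 hv hv1
  have h1 : x * z = 1 := by
    rw [← e1]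
    have : v⁻¹ * a⁻¹ * v * a = v⁻¹ * a⁻¹ * (v * a) := by group
    rw [this, e]; group
  apply hx1
  refine Nb.inf_eq R N hx ?_
  rw [eq_inv_of_mul_eq_one_left h1]
  exact inv_mem hz

/-- **`β` is not trivial on `X_δ`** if `β` is fixed-point-free on a subgroup containing the commutator. -/
theorem Nb.no_fix [Finite W] [Finite Y] {A' : Subgroup Y} {β : MulAut Y} (D : _root_.Cfsg.Agent.KFacts.RgdDiag.Diag T X β 1)
    (hβ : ∀ a ∈ A', β a ∈ A') (hf : ∀ a ∈ A', β a = a → a = 1) {a v : Y} (ha : a ∈ X (sr i)) (ha1 : a ≠ 1)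
    (hv : v ∈ X (rep cs h w (sr m))) (hv1 : v ≠ 1) (hA : v⁻¹ * a⁻¹ * v * a ∈ A') :
    ∃ x ∈ X (rep cs h (cs.simple i) (rep cs h w (sr m))), β x ≠ x := by
  by_contra hcon
  push Not at hcon
  obtain ⟨x, hx, hx1, z, hz, e1⟩ := Nb.comp R N ha ha1 hv hv1
  have hZ : ∀ z ∈ RGD.Sup X (Zs cs h (rep cs h (cs.simple i) (rep cs h w (sr m))) (rep cs h w (sr m))),
      β z ∈ RGD.Sup X (Zs cs h (rep cs h (cs.simple i) (rep cs h w (sr m))) (rep cs h w (sr m))) :=
    fun z hz => Diag.fix_Sup R D (fun y hy => (N.Zs_root hy).1) hz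
  have h1 : (v⁻¹ * a⁻¹ * v * a)⁻¹ * β (v⁻¹ * a⁻¹ * v * a) ∈
      RGD.Sup X (Zs cs h (rep cs h (cs.simple i) (rep cs h w (sr m))) (rep cs h w (sr m))) := by
    rw [e1, map_mul, hcon x hx]
    have : (x * z)⁻¹ * (x * β z) = z⁻¹ * β z := by group
    rw [this]
    exact mul_mem (inv_mem hz) (hZ z hz)
  have h2 := mem_of_fpf hβ hf hZ hA h1
  apply hx1
  refine Nb.inf_eq R N hx ?_
  rw [e1] at h2
  have h3 : x = x * z * z⁻¹ := by group
  rw [h3]
  exact mul_mem h2 (inv_mem hz)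

end

end Cfsg.Agent.Omega.Lie.End.Mov

end

section


/-!
# Groups of odd automorphisms of a group with a root group datum

`Γ` a group of frame automorphisms of odd order, `AA = ⟨s⁻¹ γ s : s ∈ U, γ ∈ Γ⟩` abelian, every `1 ≠ γ ∈ Γ`
fixed-point-free on `AA ≠ 1`; the diagram is connected, of rank at least two (`Act`).  Then

* `diag_one` : every `γ` fixes all nodes;
* `nadj` : two moved nodes are not adjacent;
* `fpf_node` : every `1 ≠ γ ∈ Γ` is fixed-point-free on `X_i`, `i` moved; `le_AA` : `X_i ≤ AA`;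
* `fixL` : `Γ` centralises `⟨X_i, X_{-i}⟩`, `i` not moved;
* `four` : `4 ≤ |X_i|` for all `i`;
* `conj_le` : `X_{w i} ≤ AA`, `i` moved, `w ∈ W_J`, `J` the nodes which are not moved.
-/

set_option autoImplicit false
set_option linter.unusedSectionVars false

namespace Cfsg.Agent.Omega.Lie.End.Mov

open CoxeterSystem Cfsg.Agent.ChevalleyStructure.CoxeterGeom Cfsg.Agent.Tits.Roots Cfsg.Agent.Tits.Core
  Cfsg.Agent.Tits.Exchange Cfsg.Agent.Tits.RootComb Cfsg.Agent.Nodes.Reps Cfsg.Agent.Nodes.BNOf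
  Cfsg.Agent.Nodes.StabComb Cfsg.Agent.Nodes.Bruhat Cfsg.Agent.Nodes.OppDec Cfsg.Agent.Nodes.LeviDec
  Cfsg.Agent.Nodes.NormalForm Cfsg.Agent.KFacts.RgdOpp Cfsg.Agent.KFacts.RgdAut Cfsg.Agent.KFacts.RgdDiag
  Cfsg.Agent.KFacts.RgdRigid Cfsg.Agent.KFacts.RgdPar Cfsg.Agent.KFacts.RgdCharP
open scoped commutatorElement

/-- The group generated by the elements `s⁻¹ γ s`. -/
def AA {Y : Type*} [Group Y] (U : Subgroup Y) (Γ : Subgroup (MulAut Y)) : Subgroup Y :=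
  Subgroup.closure {x | ∃ s ∈ U, ∃ γ ∈ Γ, x = s⁻¹ * γ s}

section

variable {Y : Type*} [Group Y] {U : Subgroup Y} {Γ : Subgroup (MulAut Y)}

theorem mem_AA {s : Y} (hs : s ∈ U) {γ : MulAut Y} (hγ : γ ∈ Γ) : s⁻¹ * γ s ∈ AA U Γ :=
  Subgroup.subset_closure ⟨s, hs, γ, hγ, rfl⟩

/-- `U` normalises `AA`. -/
theorem conj_AA {u x : Y} (hu : u ∈ U) (hx : x ∈ AA U Γ) : u⁻¹ * x * u ∈ AA U Γ := by
  have h1 : AA U Γ ≤ (AA U Γ).comap (MulAut.conj u⁻¹).toMonoidHom := by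
    conv_lhs => unfold AA
    rw [Subgroup.closure_le]
    rintro x ⟨s, hs, γ, hγ, rfl⟩
    show u⁻¹ * (s⁻¹ * γ s) * u⁻¹⁻¹ ∈ AA U Γ
    have e : u⁻¹ * (s⁻¹ * γ s) * u⁻¹⁻¹ = ((s * u)⁻¹ * γ (s * u)) * (u⁻¹ * γ u)⁻¹ := by
      rw [map_mul]; group
    rw [e]
    exact mul_mem (mem_AA (mul_mem hs hu) hγ) (inv_mem (mem_AA hu hγ))
  have h2 : u⁻¹ * x * u⁻¹⁻¹ ∈ AA U Γ := h1 hx
  rwa [inv_inv] at h2

/-- `Γ` acts on `AA`. -/
theorem map_AA (hU : ∀ γ ∈ Γ, _root_.Cfsg.Agent.KFacts.RgdAut.Fix γ U) {γ : MulAut Y} (hγ : γ ∈ Γ) {x : Y} (hx : x ∈ AA U Γ) : γ x ∈ AA U Γ := by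
  have h1 : AA U Γ ≤ (AA U Γ).comap γ.toMonoidHom := by
    conv_lhs => unfold AA
    rw [Subgroup.closure_le]
    rintro x ⟨s, hs, γ', hγ', rfl⟩
    show γ (s⁻¹ * γ' s) ∈ AA U Γ
    have e : γ (s⁻¹ * γ' s) = (γ s)⁻¹ * (γ * γ' * γ⁻¹) (γ s) := by
      rw [map_mul, map_inv, MulAut.mul_apply, MulAut.mul_apply, MulAut.inv_apply_self]
    rw [e]
    exact mem_AA ((hU γ hγ s).2 hs) (mul_mem (mul_mem hγ hγ') (inv_mem hγ))
  exact h1 hx

universe u in
theorem exists_quot {Y : Type u} [Group Y] {V N : Subgroup Y} (hN : N ≤ Subgroup.normalizer (V : Set Y)) :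
    ∃ (Q : Type u) (_ : Group Q) (q : ↥N →* Q), ∀ x : ↥N, q x = 1 ↔ (x : Y) ∈ V := by
  have : (V.subgroupOf N).Normal := by
    constructor
    intro x hx g
    rw [Subgroup.mem_subgroupOf] at hx ⊢
    exact (Subgroup.mem_normalizer_iff.1 (hN g.2) x).1 hx
  refine ⟨↥N ⧸ V.subgroupOf N, inferInstance, QuotientGroup.mk' _, fun x => ?_⟩
  rw [← MonoidHom.mem_ker, QuotientGroup.ker_mk', Subgroup.mem_subgroupOf]

end

variable {I W Y : Type*} [Fintype I] [DecidableEq I] [Group W] [Group Y] {M : CoxeterMatrix I}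
  {cs : CoxeterSystem M W} {A : I → I → ℤ} {h : IsCartan M A} {p : ℕ} {T : Subgroup Y} {n : I → Y}
  {X : (I → ℤ) → Subgroup Y}

/-! ### the link of an orbit -/

theorem nb_simple {i j : I} (hij : i ≠ j) (hM : M i j ≠ 2) : Nb cs h i {j} j 1 where
  iJ := hij
  mJ := rfl
  wJ := one_mem _
  pos := by rw [map_one, Module.End.one_apply]; exact sr_nonneg j
  ne := by rw [map_one, Module.End.one_apply, pairing_sr]; exact (cartan_neg h hij hM).ne

theorem exists_link (hc : Conn M) {O : Set I} {i₀ : I} (hi₀ : i₀ ∈ O) (hO : ∃ i ∈ O, i ≠ i₀) :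
    ∃ i₂ ∈ O, i₂ ≠ i₀ ∧ (M i₀ i₂ ≠ 2 ∨ ∃ m w, Nb cs h i₀ Oᶜ m w ∧ Nb cs h i₂ Oᶜ m w) := by
  obtain ⟨S, hS⟩ : ∃ S : Set I, S = {p | p = i₀ ∨ (p ∉ O ∧ ∃ m w, Nb cs h i₀ Oᶜ m w ∧ 0 < rep cs h w (sr m) p)} :=
    ⟨_, rfl⟩
  have hmem : ∀ p, p ∈ S ↔ (p = i₀ ∨ (p ∉ O ∧ ∃ m w, Nb cs h i₀ Oᶜ m w ∧ 0 < rep cs h w (sr m) p)) := by
    intro p; rw [hS]; rfl
  have hSn : S.Nonempty := ⟨i₀, (hmem _).2 (Or.inl rfl)⟩
  have hSu : S ≠ Set.univ := by
    obtain ⟨i, hi, hne⟩ := hO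
    intro e
    have h1 : i ∈ S := by rw [e]; exact Set.mem_univ i
    rcases (hmem _).1 h1 with h2 | h2
    · exact hne h2
    · exact h2.1 hi
  obtain ⟨a, ha, b, hb, hab⟩ := hc S hSn hSu
  have hbi : b ≠ i₀ := fun e => hb ((hmem _).2 (Or.inl e))
  have hba : b ≠ a := fun e => hb (e ▸ ha)
  rcases (hmem _).1 ha with rfl | ⟨haO, m, w, N, hpos⟩
  · by_cases hbO : b ∈ O
    · exact ⟨b, hbO, hbi, Or.inl hab⟩
    · exfalso
      refine hb ((hmem _).2 (Or.inr ⟨hbO, b, 1, ⟨fun h1 => h1 hi₀, hbO, one_mem _, ?_, ?_⟩, ?_⟩))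
      · rw [map_one, Module.End.one_apply]; exact sr_nonneg b
      · rw [map_one, Module.End.one_apply, pairing_sr]; exact (cartan_neg h (Ne.symm hbi) hab).ne
      · rw [map_one, Module.End.one_apply, sr_self]; exact one_pos
  · have hMab : M b a ≠ 2 := by rw [M.symmetric]; exact hab
    have hbO' : b ∉ Oᶜ → b ∈ O := fun h1 => by by_contra h2; exact h1 h2
    by_cases hbO : b ∈ O
    · have h0 : rep cs h w (sr m) b = 0 := by
        rw [rep_apply_of_mem cs h N.wJ _ (fun h1 => h1 hbO)]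
        exact sr_ne (fun e => N.mJ (e ▸ hbO))
      refine ⟨b, hbO, hbi, Or.inr ⟨m, w, N, ⟨fun h1 => h1 hbO, N.mJ, N.wJ, N.pos, ?_⟩⟩⟩
      exact (pairing_neg h N.pos h0 hpos hMab).ne
    · exfalso
      rcases (N.pos b).lt_or_eq with h1 | h1
      · exact hb ((hmem _).2 (Or.inr ⟨hbO, m, w, N, h1⟩))
      · have h0 : rep cs h w (sr m) b = 0 := h1.symm
        have h2 := pairing_neg h N.pos h0 hpos hMab
        have h3 : rep cs h (cs.simple b * w) (sr m) b = - pairing A b (rep cs h w (sr m)) := by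
          rw [rep_mul_apply, rep_simple_apply_self, h0, zero_sub]
        have h4 : 0 ≤ rep cs h (cs.simple b * w) (sr m) := by
          rw [rep_mul_apply]
          refine N.root.simple_nonneg N.pos b fun e => ?_
          rw [e, sr_self] at h0
          exact one_ne_zero h0
        refine hb ((hmem _).2 (Or.inr ⟨hbO, m, cs.simple b * w, ⟨N.iJ, N.mJ,
          mul_mem (simple_mem_WJ cs hbO) N.wJ, h4, ?_⟩, ?_⟩))
        · rw [rep_mul_apply, rep_simple_eq, sub_eq_add_neg, ← neg_smul, pairing_add, pairing_smul, pairing_sr]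
          have h5 := N.neg
          have h6 : A i₀ b ≤ 0 := cartan_nonpos h (Ne.symm hbi)
          have h7 : -pairing A b (rep cs h w (sr m)) * A i₀ b ≤ 0 :=
            mul_nonpos_of_nonneg_of_nonpos (by linarith) h6
          linarith
        · rw [h3]; linarith

section

variable (R : RGD cs h p T n X)

include R

/-- two elements of an abelian normal subgroup of `U` whose images modulo `V_{I - i₁}` are in `X_{i₀}#`, `X_{i₂}#` -/
theorem pair_false [Finite W] {A' : Subgroup Y} (hab : ∀ a ∈ A', ∀ b ∈ A', a * b = b * a)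
    (hn : ∀ u ∈ RGD.Sup X (RGD.Pos cs h), ∀ a ∈ A', u⁻¹ * a * u ∈ A') {i₀ i₁ i₂ : I} (h01 : i₀ ≠ i₁) (h02 : i₀ ≠ i₂)
    (h21 : i₂ ≠ i₁) {u₀ u₂ y₀ y₂ : Y} (hu₀ : u₀ ∈ X (sr i₁)) (hu₂ : u₂ ∈ X (sr i₁)) (hy₀ : y₀ ∈ X (sr i₀))
    (hy₂ : y₂ ∈ X (sr i₂)) (hy₀1 : y₀ ≠ 1) (hy₂1 : y₂ ≠ 1) (ha₀ : u₀⁻¹ * y₀ ∈ A') (ha₂ : u₂⁻¹ * y₂ ∈ A')
    {O : Set I} (hO₁ : i₁ ∈ O)
    (hl : M i₀ i₂ ≠ 2 ∨ ∃ m w, Nb cs h i₀ Oᶜ m w ∧ Nb cs h i₂ Oᶜ m w) : False := by
  have hVN : RGD.Sup X (RGD.Pos cs h) ≤ Subgroup.normalizer (VJ cs h X {i₁}ᶜ : Set Y) :=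
    le_trans (le_trans RGD.U_le_B B_le_PJ) (PJ_le_normalizer_VJ R {i₁}ᶜ)
  obtain ⟨Q, _, q, hq⟩ := exists_quot hVN
  have hXU : ∀ i, X (sr i) ≤ RGD.Sup X (RGD.Pos cs h) := fun i =>
    RGD.le_Sup (S := RGD.Pos cs h) ⟨isRoot_sr cs h i, sr_nonneg i⟩
  have hXV : X (sr i₁) ≤ VJ cs h X {i₁}ᶜ :=
    RGD.le_Sup (S := NotJ cs h {i₁}ᶜ) (sr_mem_NotJ (fun h1 => h1 rfl))
  have hXL : ∀ i, i ≠ i₁ → X (sr i) ≤ UJ cs h X {i₁}ᶜ := fun i hi =>
    RGD.le_Sup (S := PosJ cs h {i₁}ᶜ) (sr_mem_PosJ hi)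
  have hinf := UJ_inf_VJ R {i₁}ᶜ
  rw [Subgroup.eq_bot_iff_forall] at hinf
  have hUL : UJ cs h X {i₁}ᶜ ≤ RGD.Sup X (RGD.Pos cs h) := RGD.Sup_mono fun z hz => ⟨hz.1, hz.2.1⟩
  -- the elements of `U`
  obtain ⟨Y₀, hY₀⟩ : ∃ Y₀ : ↥(RGD.Sup X (RGD.Pos cs h)), (Y₀ : Y) = y₀ := ⟨⟨_, hXU i₀ hy₀⟩, rfl⟩
  obtain ⟨Y₂, hY₂⟩ : ∃ Y₂ : ↥(RGD.Sup X (RGD.Pos cs h)), (Y₂ : Y) = y₂ := ⟨⟨_, hXU i₂ hy₂⟩, rfl⟩
  obtain ⟨U₀, hU₀⟩ : ∃ U₀ : ↥(RGD.Sup X (RGD.Pos cs h)), (U₀ : Y) = u₀ := ⟨⟨_, hXU i₁ hu₀⟩, rfl⟩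
  obtain ⟨U₂, hU₂⟩ : ∃ U₂ : ↥(RGD.Sup X (RGD.Pos cs h)), (U₂ : Y) = u₂ := ⟨⟨_, hXU i₁ hu₂⟩, rfl⟩
  have hq₀ : q (U₀⁻¹ * Y₀) = q Y₀ := by
    rw [map_mul, map_inv, (hq U₀).2 (by rw [hU₀]; exact hXV hu₀), inv_one, one_mul]
  have hq₂ : q (U₂⁻¹ * Y₂) = q Y₂ := by
    rw [map_mul, map_inv, (hq U₂).2 (by rw [hU₂]; exact hXV hu₂), inv_one, one_mul]
  have hA₀ : ((U₀⁻¹ * Y₀ : ↥(RGD.Sup X (RGD.Pos cs h))) : Y) ∈ A' := by
    rw [Subgroup.coe_mul, Subgroup.coe_inv, hU₀, hY₀]; exact ha₀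
  have hA₂ : ((U₂⁻¹ * Y₂ : ↥(RGD.Sup X (RGD.Pos cs h))) : Y) ∈ A' := by
    rw [Subgroup.coe_mul, Subgroup.coe_inv, hU₂, hY₂]; exact ha₂
  -- commuting elements modulo `V`
  have hcomm : ∀ a b c d : ↥(RGD.Sup X (RGD.Pos cs h)), (a : Y) ∈ A' → (b : Y) ∈ A' → q a = q c → q b = q d →
      (c : Y) ∈ UJ cs h X {i₁}ᶜ → (d : Y) ∈ UJ cs h X {i₁}ᶜ → (c : Y) * d = d * c := by
    intro a b c d ha hb hac hbd hc hd
    have h1 : a * b = b * a := Subtype.ext (hab _ ha _ hb)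
    have h2 : q (c * d * (d * c)⁻¹) = 1 := by
      rw [map_mul, map_inv, map_mul, map_mul, ← hac, ← hbd, ← map_mul, ← map_mul, h1, mul_inv_cancel]
    have h3 := (hq _).1 h2
    have h4 : ((c * d * (d * c)⁻¹ : ↥(RGD.Sup X (RGD.Pos cs h))) : Y) ∈ UJ cs h X {i₁}ᶜ := by
      simp only [Subgroup.coe_mul, Subgroup.coe_inv]
      exact mul_mem (mul_mem hc hd) (inv_mem (mul_mem hd hc))
    have h5 := hinf _ (Subgroup.mem_inf.2 ⟨h4, h3⟩)
    simp only [Subgroup.coe_mul, Subgroup.coe_inv] at h5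
    exact mul_inv_eq_one.1 h5
  have hy₀L : (Y₀ : Y) ∈ UJ cs h X {i₁}ᶜ := by rw [hY₀]; exact hXL i₀ h01 hy₀
  have hy₂L : (Y₂ : Y) ∈ UJ cs h X {i₁}ᶜ := by rw [hY₂]; exact hXL i₂ h21 hy₂
  rcases hl with hl | ⟨m, w, N₀, N₂⟩
  · have h1 := hcomm _ _ _ _ hA₀ hA₂ hq₀ hq₂ hy₀L hy₂L
    rw [hY₀, hY₂] at h1
    exact Nb.not_comm R (nb_simple h02 hl) hy₀ hy₀1
      (by rw [map_one, Module.End.one_apply]; exact hy₂) hy₂1 h1.symm
  · obtain ⟨v, hv, hv1⟩ : ∃ v ∈ X (rep cs h w (sr m)), v ≠ 1 := by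
      obtain ⟨⟨y, hy⟩, hy1⟩ := Subgroup.ne_bot_iff_exists_ne_one.1 (X_ne_bot R N₀.root)
      exact ⟨y, hy, fun e => hy1 (Subtype.ext e)⟩
    have hηU : rep cs h w (sr m) ∈ RGD.Pos cs h := ⟨N₀.root, N₀.pos⟩
    have hηJ : rep cs h w (sr m) ∈ PosJ cs h {i₁}ᶜ := by
      refine ⟨N₀.root, N₀.pos, fun k hk => ?_⟩
      have hk1 : k = i₁ := by by_contra h1; exact hk h1
      subst hk1
      rw [rep_apply_of_mem cs h N₀.wJ _ (fun h1 => h1 hO₁)]
      exact sr_ne (fun e => N₀.mJ (e ▸ hO₁))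
    obtain ⟨V', hV'⟩ : ∃ V' : ↥(RGD.Sup X (RGD.Pos cs h)), (V' : Y) = v := ⟨⟨_, RGD.le_Sup hηU hv⟩, rfl⟩
    obtain ⟨e, he⟩ : ∃ e, e = v⁻¹ * y₀⁻¹ * v * y₀ := ⟨_, rfl⟩
    have he1 : e ≠ 1 := by
      intro h1
      refine Nb.not_comm R N₀ hy₀ hy₀1 hv hv1 ?_
      rw [he] at h1
      have h2 : v * y₀ = y₀ * v * (v⁻¹ * y₀⁻¹ * v * y₀) := by group
      rw [h2, h1, mul_one]
    have hvL : v ∈ UJ cs h X {i₁}ᶜ := RGD.le_Sup (S := PosJ cs h {i₁}ᶜ) hηJ hv
    have hcom : e * y₂ = y₂ * e := by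
      have h1 := hcomm (V'⁻¹ * (U₀⁻¹ * Y₀)⁻¹ * V' * (U₀⁻¹ * Y₀)) (U₂⁻¹ * Y₂) (V'⁻¹ * Y₀⁻¹ * V' * Y₀) Y₂ ?_ hA₂ ?_ hq₂ ?_ hy₂L
      · simp only [Subgroup.coe_mul, Subgroup.coe_inv, hV', hY₀, hY₂, ← he] at h1
        exact h1
      · have h2 := hn v (RGD.le_Sup hηU hv) _ (inv_mem hA₀)
        have h3 := mul_mem h2 hA₀
        simp only [Subgroup.coe_mul, Subgroup.coe_inv, hV'] at h3 ⊢
        exact h3
      · simp only [map_mul, map_inv] at hq₀ ⊢
        rw [hq₀]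
      · simp only [Subgroup.coe_mul, Subgroup.coe_inv, hV']
        exact mul_mem (mul_mem (mul_mem (inv_mem hvL) (inv_mem hy₀L)) hvL) hy₀L
    obtain ⟨b, hb, k, hk, c, hc, ek⟩ := exists_dec R hy₂ hy₂1
    have hcX : ∀ b ∈ X (-sr i₂), e * b = b * e := by
      intro b hb
      have h1 : v * b = b * v := Nb.commute R N₂ hv hb
      have h2 : y₀ * b = b * y₀ := commute_pos_neg R h02 hy₀ hb
      have h3 : Commute v b := h1
      have h4 : Commute y₀ b := h2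
      have h5 : Commute (v⁻¹ * y₀⁻¹ * v * y₀) b := ((h3.inv_left.mul_left h4.inv_left).mul_left h3).mul_left h4
      rw [he]
      exact h5
    have hek : k * e * k⁻¹ = e := by
      have h1 : Commute e b := hcX b hb
      have h2 : Commute e c := hcX c hc
      have h3 : Commute e y₂ := hcom
      have h4 : k = b⁻¹ * y₂ * c⁻¹ := by rw [ek]; group
      have h5 : Commute e k := by
        rw [h4]
        exact (h1.inv_right.mul_right h3).mul_right h2.inv_right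
      rw [← h5.eq, mul_inv_cancel_right]
    -- `e ∈ U_{I - i₂}` and `k e k⁻¹ ∈ V_{I - i₂}`
    have hne : ∀ z : I → ℤ, z = sr i₀ → z i₂ = 0 := fun z hz => by rw [hz]; exact sr_ne (Ne.symm h02)
    have hE : e ∈ _root_.Cfsg.Agent.Nodes.Reps.btw cs h X (rep cs h w (sr m)) (sr i₀) := by
      have h1 : rep cs h w (sr m) ≠ sr i₀ := fun e1 => by
        have := N₀.apply_i
        rw [e1, sr_self] at this
        exact one_ne_zero this
      have h2 : rep cs h w (sr m) ≠ -sr i₀ := fun e1 => by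
        have := N₀.apply_i
        rw [e1, Pi.neg_apply, sr_self] at this
        exact absurd this (by decide)
      have h3 := R.comm _ _ N₀.root (isRoot_sr cs h i₀) h1 h2 v⁻¹ (inv_mem hv) y₀⁻¹ (inv_mem hy₀)
      rw [commutatorElement_def, inv_inv, inv_inv] at h3
      rw [he]
      exact h3
    have hz : ∀ z, Btwn cs h (rep cs h w (sr m)) (sr i₀) z → IsRoot cs h z ∧ 0 ≤ z ∧ z i₂ = 0 ∧
        pairing A i₂ z < 0 := by
      intro z hz
      refine ⟨hz.1, RGD.nonneg_of_btwn N₀.pos (sr_nonneg i₀) hz, ?_, ?_⟩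
      · obtain ⟨-, a, b, c, ha, hb, hc, e1⟩ := hz
        have e2 := congrFun e1 i₂
        rw [Pi.smul_apply, Pi.add_apply, Pi.smul_apply, Pi.smul_apply, N₂.apply_i, sr_ne (Ne.symm h02), smul_zero,
          smul_zero, add_zero, smul_eq_mul] at e2
        exact (mul_eq_zero.1 e2).resolve_left ha.ne'
      · obtain ⟨-, a, b, c, ha, hb, hc, e1⟩ := hz
        have e2 := congrArg (pairing A i₂) e1
        rw [pairing_add, pairing_smul, pairing_smul, pairing_smul, pairing_sr] at e2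
        have h1 := N₂.neg
        have h2 : A i₂ i₀ ≤ 0 := cartan_nonpos h (Ne.symm h02)
        have h3 : c * A i₂ i₀ ≤ 0 := mul_nonpos_of_nonneg_of_nonpos hc.le h2
        have h4 : b * pairing A i₂ (rep cs h w (sr m)) < 0 := mul_neg_of_pos_of_neg hb h1
        by_contra hcon
        push Not at hcon
        have h5 : 0 ≤ a * pairing A i₂ z := mul_nonneg ha.le hcon
        linarith
    have hEU : e ∈ UJ cs h X {i₂}ᶜ := by
      refine R.btw_le_Sup (fun z hz' => ?_) hE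
      obtain ⟨h1, h2, h3, -⟩ := hz z hz'
      refine ⟨h1, h2, fun k hk => ?_⟩
      have hk1 : k = i₂ := by by_contra h4; exact hk h4
      rw [hk1]; exact h3
    have hEV : k * e * k⁻¹ ∈ VJ cs h X {i₂}ᶜ := by
      have h1 : _root_.Cfsg.Agent.Nodes.Reps.btw cs h X (rep cs h w (sr m)) (sr i₀) ≤ (VJ cs h X {i₂}ᶜ).comap (MulAut.conj k).toMonoidHom := by
        unfold Cfsg.Agent.Nodes.Reps.btw
        refine iSup_le ?_
        rintro ⟨z, hz'⟩ y hy
        obtain ⟨h1, h2, h3, h4⟩ := hz z hz'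
        show k * y * k⁻¹ ∈ VJ cs h X {i₂}ᶜ
        have h5 := R.conj_mem hk h1 hy
        have h6 : 0 < rep cs h (cs.simple i₂) z i₂ := by
          rw [rep_simple_apply_self, h3, zero_sub]; linarith
        exact RGD.le_Sup (S := NotJ cs h {i₂}ᶜ)
          ⟨h1.act _, nonneg_of_pos_apply (h1.act _) h6, i₂, fun h7 => h7 rfl, h6⟩ h5
      exact h1 hE
    have hinf2 := UJ_inf_VJ R {i₂}ᶜ
    rw [Subgroup.eq_bot_iff_forall] at hinf2
    rw [hek] at hEV
    exact he1 (hinf2 _ (Subgroup.mem_inf.2 ⟨hEU, hEV⟩))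

end

end Cfsg.Agent.Omega.Lie.End.Mov

end

section


/-!
# Groups of odd automorphisms of a group with a root group datum: moved nodes

See `MovB` for the statements.
-/

set_option autoImplicit false
set_option linter.unusedSectionVars false

namespace Cfsg.Agent.Omega.Lie.End.Mov

open CoxeterSystem Cfsg.Agent.ChevalleyStructure.CoxeterGeom Cfsg.Agent.Tits.Roots Cfsg.Agent.Tits.Core
  Cfsg.Agent.Tits.Exchange Cfsg.Agent.Tits.RootComb Cfsg.Agent.Nodes.Reps Cfsg.Agent.Nodes.BNOf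
  Cfsg.Agent.Nodes.StabComb Cfsg.Agent.Nodes.Bruhat Cfsg.Agent.Nodes.OppDec Cfsg.Agent.Nodes.LeviDec
  Cfsg.Agent.Nodes.NormalForm Cfsg.Agent.KFacts.RgdOpp Cfsg.Agent.KFacts.RgdAut Cfsg.Agent.KFacts.RgdDiag
  Cfsg.Agent.KFacts.RgdRigid Cfsg.Agent.KFacts.RgdPar Cfsg.Agent.KFacts.RgdCharP
open scoped commutatorElement

variable {I W Y : Type*} [Fintype I] [DecidableEq I] [Group W] [Group Y] {M : CoxeterMatrix I}
  {cs : CoxeterSystem M W} {A : I → I → ℤ} {h : IsCartan M A} {p : ℕ} {T : Subgroup Y} {n : I → Y}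
  {X : (I → ℤ) → Subgroup Y}

/-- A group of frame automorphisms of odd order, `AA` abelian, fixed-point-free on `AA ≠ 1`. -/
structure Act (cs : CoxeterSystem M W) (h : IsCartan M A) (X : (I → ℤ) → Subgroup Y) (Γ : Subgroup (MulAut Y)) :
    Prop where
  frame : ∀ γ ∈ Γ, γ ∈ Frame cs h X
  odd : ∀ γ ∈ Γ, Odd (orderOf γ)
  ab : ∀ a ∈ AA (RGD.Sup X (RGD.Pos cs h)) Γ, ∀ b ∈ AA (RGD.Sup X (RGD.Pos cs h)) Γ, a * b = b * a
  fpf : ∀ γ ∈ Γ, γ ≠ 1 → ∀ a ∈ AA (RGD.Sup X (RGD.Pos cs h)) Γ, γ a = a → a = 1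
  ne : AA (RGD.Sup X (RGD.Pos cs h)) Γ ≠ ⊥

/-- the node `i` is moved -/
def Mv (X : (I → ℤ) → Subgroup Y) (Γ : Subgroup (MulAut Y)) (i : I) : Prop :=
  ∃ γ ∈ Γ, ∃ u ∈ X (sr i), γ u ≠ u

theorem Diag.perm_eq (R : RGD cs h p T n X) [Finite W] {β : MulAut Y} {σ : Equiv.Perm I} (D : _root_.Cfsg.Agent.KFacts.RgdDiag.Diag T X β σ)
    (hβ : β = 1) (i : I) : σ i = i := by
  obtain ⟨u, hu, hu1⟩ := exists_ne_one R i
  exact Diag.apply_eq R D hu hu1 (by rw [hβ]; rfl)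

theorem odd_fix {σ : Equiv.Perm I} {k : ℕ} (hk : Odd k) {i : I} (h1 : (σ ^ k) i = i) (h2 : σ (σ i) = i) : σ i = i := by
  obtain ⟨m, rfl⟩ := hk
  have h3 : ∀ m : ℕ, (σ ^ (2 * m)) i = i := by
    intro m
    induction m with
    | zero => rfl
    | succ m ih =>
      have e : σ ^ (2 * (m + 1)) = σ * σ * σ ^ (2 * m) := by
        rw [mul_add, mul_one, add_comm, pow_add, pow_two]
      rw [e, Equiv.Perm.mul_apply, Equiv.Perm.mul_apply, ih, h2]
  have h4 : (σ ^ (2 * m + 1)) i = σ ((σ ^ (2 * m)) i) := by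
    rw [pow_succ', Equiv.Perm.mul_apply]
  rw [h4, h3] at h1
  exact h1

section

variable (R : RGD cs h p T n X) [Finite W] (hG1 : RGD.Sup X {x | IsRoot cs h x} = ⊤) {Γ : Subgroup (MulAut Y)}
  (H : Act cs h X Γ)

include R hG1 H

theorem Act.exists_diag {γ : MulAut Y} (hγ : γ ∈ Γ) : ∃ σ : Equiv.Perm I, _root_.Cfsg.Agent.KFacts.RgdDiag.Diag T X γ σ :=
  Cfsg.Agent.KFacts.RgdDiag.exists_diag R (GG_eq_top hG1) (H.frame γ hγ).1 (H.frame γ hγ).2

/-- **Type preservation.** -/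
theorem Act.diag_one (hc : Conn M) {γ : MulAut Y} (hγ : γ ∈ Γ) : _root_.Cfsg.Agent.KFacts.RgdDiag.Diag T X γ 1 := by
  obtain ⟨σ, D⟩ := H.exists_diag R hG1 hγ
  have hσ : σ = 1 := by
    by_contra hne
    obtain ⟨i, hi⟩ : ∃ i, σ i ≠ i := by
      by_contra hcon
      push Not at hcon
      exact hne (Equiv.ext hcon)
    have hodd := H.odd γ hγ
    have hpow : (σ ^ orderOf γ) i = i := Diag.perm_eq R (D.pow (orderOf γ)) (pow_orderOf_eq_one γ) i
    have h2 : σ (σ i) ≠ i := fun e => hi (odd_fix hodd hpow e)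
    have h3 : σ (σ i) ≠ σ i := fun e => hi (σ.injective e)
    -- the orbit
    obtain ⟨O, hO⟩ : ∃ O : Set I, O = {j | ∃ τ ∈ Subgroup.zpowers σ, τ i = j} := ⟨_, rfl⟩
    have hmem : ∀ j, j ∈ O ↔ ∃ τ ∈ Subgroup.zpowers σ, τ i = j := by intro j; rw [hO]; rfl
    have hσz : σ ∈ Subgroup.zpowers σ := Subgroup.mem_zpowers σ
    have hiO : i ∈ O := (hmem _).2 ⟨1, one_mem _, rfl⟩
    have h1O : σ i ∈ O := (hmem _).2 ⟨σ, hσz, rfl⟩
    have h2O : σ (σ i) ∈ O := (hmem _).2 ⟨σ * σ, mul_mem hσz hσz, rfl⟩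
    -- the diagram action of the powers
    have hP : ∀ τ ∈ Subgroup.zpowers σ, ∃ γ' ∈ Γ, _root_.Cfsg.Agent.KFacts.RgdDiag.Diag T X γ' τ := by
      rintro τ ⟨k, rfl⟩
      rcases k with k | k
      · exact ⟨γ ^ k, pow_mem hγ k, by simpa using D.pow k⟩
      · exact ⟨(γ ^ (k + 1))⁻¹, inv_mem (pow_mem hγ _), by simpa using (D.pow (k + 1)).inv⟩
    obtain ⟨i₂, hi₂, hne2, hl⟩ := exists_link (cs := cs) (h := h) hc hiO ⟨_, h1O, hi⟩
    obtain ⟨i₁, hi₁, h10, h12⟩ : ∃ i₁ ∈ O, i ≠ i₁ ∧ i₂ ≠ i₁ := by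
      by_cases h4 : i₂ = σ i
      · exact ⟨σ (σ i), h2O, Ne.symm h2, by rw [h4]; exact Ne.symm h3⟩
      · exact ⟨σ i, h1O, Ne.symm hi, h4⟩
    obtain ⟨u, hu, hu1⟩ := exists_ne_one R i₁
    have hmove : ∀ j ∈ O, j ≠ i₁ → ∃ y ∈ X (sr j), y ≠ 1 ∧ u⁻¹ * y ∈ AA (RGD.Sup X (RGD.Pos cs h)) Γ := by
      intro j hj hji
      obtain ⟨τ₁, hτ₁, e1⟩ := (hmem _).1 hi₁
      obtain ⟨τ₂, hτ₂, e2⟩ := (hmem _).1 hj
      obtain ⟨γ', hγ', D'⟩ := hP (τ₂ * τ₁⁻¹) (mul_mem hτ₂ (inv_mem hτ₁))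
      have e3 : (τ₂ * τ₁⁻¹) i₁ = j := by
        rw [Equiv.Perm.mul_apply, ← e1, ← e2]
        congr 1
        exact τ₁.symm_apply_apply i
      have h4 := (D'.pos i₁ u).2 hu
      rw [e3] at h4
      exact ⟨γ' u, h4, fun h5 => hu1 (γ'.injective (by rw [h5, map_one])),
        mem_AA (RGD.le_Sup (S := RGD.Pos cs h) ⟨isRoot_sr cs h i₁, sr_nonneg i₁⟩ hu) hγ'⟩
    obtain ⟨y₀, hy₀, hy₀1, ha₀⟩ := hmove i hiO h10
    obtain ⟨y₂, hy₂, hy₂1, ha₂⟩ := hmove i₂ hi₂ h12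
    exact pair_false R H.ab (fun u hu a ha => conj_AA hu ha) h10 (Ne.symm hne2) h12 hu hu hy₀ hy₂ hy₀1 hy₂1 ha₀ ha₂
      hi₁ hl
  rw [← hσ]
  exact D

variable (hc : Conn M)

include hc

omit hG1 hc in
theorem Act.X_le_U (i : I) : X (sr i) ≤ RGD.Sup X (RGD.Pos cs h) :=
  RGD.le_Sup (S := RGD.Pos cs h) ⟨isRoot_sr cs h i, sr_nonneg i⟩

theorem Act.map_X {γ : MulAut Y} (hγ : γ ∈ Γ) {r : I → ℤ} (hr : IsRoot cs h r) {x : Y} (hx : x ∈ X r) : γ x ∈ X r :=
  (Diag.mem_iff R (H.diag_one R hG1 hc hγ) hr x).2 hx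

omit hc hG1 R in
theorem Act.fixU {γ : MulAut Y} (hγ : γ ∈ Γ) : _root_.Cfsg.Agent.KFacts.RgdAut.Fix γ (RGD.Sup X (RGD.Pos cs h)) := (H.frame γ hγ).1

theorem Act.mv_mem {i : I} (hi : Mv X Γ i) : ∃ a ∈ X (sr i), a ≠ 1 ∧ a ∈ AA (RGD.Sup X (RGD.Pos cs h)) Γ := by
  obtain ⟨γ, hγ, u, hu, hne⟩ := hi
  exact ⟨u⁻¹ * γ u, mul_mem (inv_mem hu) (H.map_X R hG1 hc hγ (isRoot_sr cs h i) hu),
    fun e => hne (inv_mul_eq_one.1 e).symm, mem_AA (H.X_le_U R i hu) hγ⟩

/-- **Adjacent nodes are not both moved.** -/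
theorem Act.nadj {i j : I} (hij : i ≠ j) (hi : Mv X Γ i) (hj : Mv X Γ j) : M i j = 2 := by
  by_contra hM
  obtain ⟨a, ha, ha1, haA⟩ := H.mv_mem R hG1 hc hi
  obtain ⟨b, hb, hb1, hbA⟩ := H.mv_mem R hG1 hc hj
  exact Nb.not_comm R (nb_simple hij hM) ha ha1 (by rw [map_one, Module.End.one_apply]; exact hb) hb1
    (H.ab b hbA a haA)

/-- `Γ` centralises `⟨X_i, X_{-i}⟩` if `i` is not moved. -/
theorem Act.fixL {i : I} (hi : ¬ Mv X Γ i) {γ : MulAut Y} (hγ : γ ∈ Γ) {x : Y} (hx : x ∈ X (sr i) ⊔ X (-sr i)) :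
    γ x = x := by
  have hpos : ∀ u ∈ X (sr i), γ u = u := by
    intro u hu
    by_contra h1
    exact hi ⟨γ, hγ, u, hu, h1⟩
  have h1 : X (sr i) ⊔ X (-sr i) ≤ γ.toMonoidHom.eqLocus (MonoidHom.id Y) :=
    sup_le (fun u hu => hpos u hu) fun u hu => Diag.apply_neg R (H.diag_one R hG1 hc hγ) hpos hu
  exact h1 hx

/-- **Every `1 ≠ γ ∈ Γ` is fixed-point-free on `X_i`, `i` moved.** -/
theorem Act.fpf_node [Finite Y] (h2 : ∀ i : I, ∃ j, j ≠ i) {i : I} (hi : Mv X Γ i) {γ : MulAut Y} (hγ : γ ∈ Γ)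
    (hγ1 : γ ≠ 1) {c : Y} (hcX : c ∈ X (sr i)) (hfix : γ c = c) : c = 1 := by
  by_contra hc1
  have D := H.diag_one R hG1 hc hγ
  -- a neighbour
  obtain ⟨k, hki, hM⟩ : ∃ k, k ≠ i ∧ M i k ≠ 2 := by
    obtain ⟨j, hj⟩ := h2 i
    obtain ⟨a, ha, b, hb, hab⟩ := hc {i} ⟨i, rfl⟩ (fun e => hj (by
      have : j ∈ ({i} : Set I) := by rw [e]; exact Set.mem_univ j
      exact this))
    have ha' : a = i := ha
    rw [ha'] at hab
    exact ⟨b, fun e => hb e, hab⟩
  have hk : ¬ Mv X Γ k := fun hk => hM (H.nadj R hG1 hc (Ne.symm hki) hi hk)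
  obtain ⟨a, ha, ha1, haA⟩ := H.mv_mem R hG1 hc hi
  obtain ⟨v, hv, hv1⟩ := exists_ne_one R k
  have N := nb_simple (cs := cs) (h := h) (Ne.symm hki) hM
  have e1 : rep cs h 1 (sr k) = sr k := by rw [map_one, Module.End.one_apply]
  have hbA : v⁻¹ * a⁻¹ * v * a ∈ AA (RGD.Sup X (RGD.Pos cs h)) Γ :=
    mul_mem (conj_AA (H.X_le_U R k hv) (inv_mem haA)) haA
  obtain ⟨x, hx, hne⟩ := Nb.no_fix R N D (fun a ha => map_AA (fun γ hγ => H.fixU hγ) hγ ha) (H.fpf γ hγ hγ1) ha ha1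
    (by rw [e1]; exact hv) hv1 hbA
  obtain ⟨g, hg, -, hgf⟩ := exists_rp_fix R hcX hc1
  have hgγ := hgf γ D hfix
  rw [e1] at hx
  have h3 := R.conj_mem' hg ((isRoot_sr cs h k).act (cs.simple i)) hx
  rw [cs.inv_simple, ← rep_mul_apply, cs.simple_mul_simple_self, map_one, Module.End.one_apply] at h3
  have h4 := H.fixL R hG1 hc hk hγ (Subgroup.mem_sup_left h3)
  apply hne
  rw [map_mul, map_mul, map_inv, hgγ] at h4
  have h5 : γ x = g * (g⁻¹ * γ x * g) * g⁻¹ := by group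
  rw [h5, h4]; group

/-- `X_i ≤ AA` for a root group on which some `γ ≠ 1` is fixed-point-free -/
theorem Act.le_of_fpf [Finite Y] {r : I → ℤ} (hr : IsRoot cs h r) (h0 : 0 ≤ r) {γ : MulAut Y} (hγ : γ ∈ Γ)
    (hf : ∀ c ∈ X r, γ c = c → c = 1) : X r ≤ AA (RGD.Sup X (RGD.Pos cs h)) Γ := by
  let φ : ↥(X r) → ↥(X r) := fun u => ⟨(u : Y)⁻¹ * γ u, (X r).mul_mem ((X r).inv_mem u.2) (H.map_X R hG1 hc hγ hr u.2)⟩
  have hinj : Function.Injective φ := by
    intro u v e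
    have e1 : (u : Y)⁻¹ * γ u = (v : Y)⁻¹ * γ v := congrArg Subtype.val e
    have h1 : γ ((u : Y) * (v : Y)⁻¹) = (u : Y) * (v : Y)⁻¹ := by
      have h3 : γ (u : Y) = u * ((v : Y)⁻¹ * γ v) := by rw [← e1]; group
      rw [map_mul, map_inv, h3]; group
    exact Subtype.ext (mul_inv_eq_one.1 (hf _ ((X r).mul_mem u.2 ((X r).inv_mem v.2)) h1))
  intro x hx
  obtain ⟨u, hu⟩ := (Finite.surjective_of_injective hinj) ⟨x, hx⟩
  have h1 : (u : Y)⁻¹ * γ u = x := congrArg Subtype.val hu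
  rw [← h1]
  exact mem_AA (RGD.le_Sup (S := RGD.Pos cs h) ⟨hr, h0⟩ u.2) hγ

/-- some node is moved -/
theorem Act.exists_mv : ∃ i, Mv X Γ i := by
  by_contra hcon
  push Not at hcon
  apply H.ne
  unfold AA
  rw [Subgroup.closure_eq_bot_iff]
  rintro x ⟨s, -, γ, hγ, rfl⟩
  have h1 : γ = 1 := Diag.eq_one R hG1 (H.diag_one R hG1 hc hγ)
    (fun i u hu => H.fixL R hG1 hc (hcon i) hγ (Subgroup.mem_sup_left hu))
  rw [h1, MulAut.one_apply, inv_mul_cancel]
  rfl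

theorem Act.exists_ne : ∃ γ ∈ Γ, γ ≠ 1 := by
  obtain ⟨i, γ, hγ, u, -, hne⟩ := H.exists_mv R hG1 hc
  exact ⟨γ, hγ, fun e => hne (by rw [e]; rfl)⟩

/-- `X_i ≤ AA`, `i` moved -/
theorem Act.le_AA [Finite Y] (h2 : ∀ i : I, ∃ j, j ≠ i) {i : I} (hi : Mv X Γ i) :
    X (sr i) ≤ AA (RGD.Sup X (RGD.Pos cs h)) Γ := by
  obtain ⟨γ, hγ, hγ1⟩ := H.exists_ne R hG1 hc
  exact H.le_of_fpf R hG1 hc (isRoot_sr cs h i) (sr_nonneg i) hγ (fun c hcX => H.fpf_node R hG1 hc h2 hi hγ hγ1 hcX)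

end

end Cfsg.Agent.Omega.Lie.End.Mov

end

section


/-!
# Groups of odd automorphisms of a group with a root group datum: the nodes which are not moved

`J = Un X Γ` : the nodes which are not moved.  `H : Act cs h X Γ`, `M` connected, at least two nodes:

* `exists_nb` : for `m ∈ J` there are `i ∉ J`, `w ∈ W_J` with `⟨w α_m, α_i^∨⟩ < 0`;
* `fix_rep` : every `w ∈ W_J` has a representative which is fixed by `Γ`; `fix_UJ`, `fix_X` : `Γ` centralises the root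
  groups of `Φ_J`;
* `three`, `four` : `|X_m| ≥ 3` (`≥ 4` for `p = 2`) for all nodes `m`;
* `el` : all root groups have exponent 2 if `AA` has;
* `AA_VJ`, `conj_rep`, `conj_le` : `AA = [V_J, Γ]` is normalised by the elements of `P_J` fixed by `Γ`;
  `X_r ≤ AA` implies `X_{w r} ≤ AA`, `w ∈ W_J`;
* `one` : only one node is moved; `six_false` : the groups with a bond of order 6;
* `map_PJ`, `dich_un`, `dich_mv` : the action of `Γ` on the parabolic subgroups and on the panels.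
-/

set_option autoImplicit false
set_option linter.unusedSectionVars false

namespace Cfsg.Agent.Omega.Lie.End.Mov

open CoxeterSystem Cfsg.Agent.ChevalleyStructure.CoxeterGeom Cfsg.Agent.Tits.Roots Cfsg.Agent.Tits.Core
  Cfsg.Agent.Tits.Exchange Cfsg.Agent.Tits.RootComb Cfsg.Agent.Nodes.Reps Cfsg.Agent.Nodes.BNOf
  Cfsg.Agent.Nodes.StabComb Cfsg.Agent.Nodes.Bruhat Cfsg.Agent.Nodes.OppDec Cfsg.Agent.Nodes.LeviDec
  Cfsg.Agent.Nodes.NormalForm Cfsg.Agent.KFacts.RgdOpp Cfsg.Agent.KFacts.RgdAut Cfsg.Agent.KFacts.RgdDiag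
  Cfsg.Agent.KFacts.RgdRigid Cfsg.Agent.KFacts.RgdPar Cfsg.Agent.KFacts.RgdCharP
open scoped commutatorElement

variable {I W Y : Type*} [Fintype I] [DecidableEq I] [Group W] [Group Y] {M : CoxeterMatrix I}
  {cs : CoxeterSystem M W} {A : I → I → ℤ} {h : IsCartan M A} {p : ℕ} {T : Subgroup Y} {n : I → Y}
  {X : (I → ℤ) → Subgroup Y}

/-- the nodes which are not moved -/
def Un (X : (I → ℤ) → Subgroup Y) (Γ : Subgroup (MulAut Y)) : Set I := {k | ¬ Mv X Γ k}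

/-- Every node of `J ≠ I` is joined to a node outside `J` by `W_J`. -/
theorem exists_nb (hc : Conn M) {J : Set I} (hJ : ∃ i, i ∉ J) {m : I} (hm : m ∈ J) :
    ∃ i, i ∉ J ∧ ∃ w, Nb cs h i J m w := by
  obtain ⟨S, hS⟩ : ∃ S : Set I, S = {k | k ∈ J ∧ ∃ w ∈ WJ cs J, 0 < rep cs h w (sr m) k} := ⟨_, rfl⟩
  have hmem : ∀ k, k ∈ S ↔ k ∈ J ∧ ∃ w ∈ WJ cs J, 0 < rep cs h w (sr m) k := by intro k; rw [hS]; rfl
  obtain ⟨i₀, hi₀⟩ := hJ
  obtain ⟨a, ha, b, hb, hab⟩ := hc S ⟨m, (hmem m).2 ⟨hm, 1, one_mem _, by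
    rw [map_one, Module.End.one_apply, sr_self]; exact one_pos⟩⟩
    (fun e => hi₀ ((hmem i₀).1 (by rw [e]; exact Set.mem_univ i₀)).1)
  obtain ⟨haJ, w, hw, hpos⟩ := (hmem a).1 ha
  have hroot : IsRoot cs h (rep cs h w (sr m)) := ⟨w, m, rfl⟩
  have h0 := nonneg_of_pos_apply hroot hpos
  have hMba : M b a ≠ 2 := by rw [M.symmetric]; exact hab
  by_cases hbJ : b ∈ J
  · exfalso
    have hb0 : rep cs h w (sr m) b = 0 := by
      refine le_antisymm ?_ (h0 b)
      by_contra hcon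
      push Not at hcon
      exact hb ((hmem b).2 ⟨hbJ, w, hw, hcon⟩)
    have h2 := pairing_neg h h0 hb0 hpos hMba
    refine hb ((hmem b).2 ⟨hbJ, cs.simple b * w, mul_mem (simple_mem_WJ cs hbJ) hw, ?_⟩)
    rw [rep_mul_apply, rep_simple_apply_self, hb0]
    linarith
  · have hb0 : rep cs h w (sr m) b = 0 := by
      rw [rep_apply_of_mem cs h hw _ hbJ]
      exact sr_ne (fun e => hbJ (e ▸ hm))
    exact ⟨b, hbJ, w, hbJ, hm, hw, h0, (pairing_neg h h0 hb0 hpos hMba).ne⟩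

/-- Two nodes outside `J`: a conjugate of one of them under `W_J` is not orthogonal to another node outside `J`. -/
theorem exists_nb_out (hc : Conn M) {J : Set I} {i j : I} (hj : j ∉ J) (hij : i ≠ j) :
    ∃ b, b ∉ J ∧ b ≠ i ∧ ∃ w ∈ WJ cs J, Nb cs h b (J ∪ {i}) i w := by
  obtain ⟨S, hS⟩ : ∃ S : Set I, S = {k | ∃ w ∈ WJ cs J, 0 < rep cs h w (sr i) k} := ⟨_, rfl⟩
  have hmem : ∀ k, k ∈ S ↔ ∃ w ∈ WJ cs J, 0 < rep cs h w (sr i) k := by intro k; rw [hS]; rfl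
  have hiS : i ∈ S := (hmem i).2 ⟨1, one_mem _, by rw [map_one, Module.End.one_apply, sr_self]; exact one_pos⟩
  obtain ⟨a, ha, b, hb, hab⟩ := hc S ⟨i, hiS⟩ (fun e => by
    have h1 : j ∈ S := by rw [e]; exact Set.mem_univ j
    obtain ⟨w, hw, h2⟩ := (hmem j).1 h1
    rw [rep_apply_of_mem cs h hw _ hj, sr_ne (Ne.symm hij)] at h2
    exact lt_irrefl _ h2)
  obtain ⟨w, hw, hpos⟩ := (hmem a).1 ha
  have hroot : IsRoot cs h (rep cs h w (sr i)) := ⟨w, i, rfl⟩
  have h0 := nonneg_of_pos_apply hroot hpos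
  have hMba : M b a ≠ 2 := by rw [M.symmetric]; exact hab
  have hbi : b ≠ i := fun e => hb (e ▸ hiS)
  have hb0 : rep cs h w (sr i) b = 0 := by
    refine le_antisymm ?_ (h0 b)
    by_contra hcon
    push Not at hcon
    exact hb ((hmem b).2 ⟨w, hw, hcon⟩)
  have h2 := pairing_neg h h0 hb0 hpos hMba
  by_cases hbJ : b ∈ J
  · exfalso
    refine hb ((hmem b).2 ⟨cs.simple b * w, mul_mem (simple_mem_WJ cs hbJ) hw, ?_⟩)
    rw [rep_mul_apply, rep_simple_apply_self, hb0]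
    linarith
  · refine ⟨b, hbJ, hbi, w, hw, ?_, Or.inr rfl, ?_, h0, h2.ne⟩
    · rintro (h3 | h3)
      · exact hbJ h3
      · exact hbi h3
    · exact WJ_mono cs Set.subset_union_left hw

section

variable (R : RGD cs h p T n X)

include R

/-- the commutator of two root elements, for a fixed element of `X_i#` -/
theorem Nb.comp' [Finite W] {i m : I} {J : Set I} {w : W} (N : Nb cs h i J m w) {a : Y} (ha : a ∈ X (sr i))
    (ha1 : a ≠ 1) :
    ∃ k, Rp cs R.nsys (cs.simple i) k ∧ ∀ v ∈ X (rep cs h w (sr m)),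
      ∃ z ∈ RGD.Sup X (Zs cs h (rep cs h (cs.simple i) (rep cs h w (sr m))) (rep cs h w (sr m))),
        v⁻¹ * a⁻¹ * v * a = (k⁻¹ * v * k) * z := by
  obtain ⟨b, hb, k, hk, c, hc, e⟩ := exists_dec R ha ha1
  refine ⟨k, hk, fun v hv => ?_⟩
  obtain ⟨x, hx⟩ : ∃ x, x = k⁻¹ * v * k := ⟨_, rfl⟩
  have hxX : x ∈ X (rep cs h (cs.simple i) (rep cs h w (sr m))) := by
    have := R.conj_mem' hk N.root hv
    rwa [cs.inv_simple, ← hx] at this
  obtain ⟨q, hqi, hq⟩ := N.exists_k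
  have hδq : 0 < rep cs h (cs.simple i) (rep cs h w (sr m)) q := by
    rw [rep_simple_apply cs h i _ q hqi]; exact hq
  have hne1 : rep cs h (cs.simple i) (rep cs h w (sr m)) ≠ -sr i := fun e => by
    rw [e, Pi.neg_apply, sr_ne hqi, neg_zero] at hδq
    exact lt_irrefl _ hδq
  have hne2 : rep cs h (cs.simple i) (rep cs h w (sr m)) ≠ - -sr i := fun e => by
    rw [neg_neg] at e
    rw [e, sr_ne hqi] at hδq
    exact lt_irrefl _ hδq
  have h1 := R.comm _ _ N.delta_root (isRoot_sr cs h i).neg hne1 hne2 x⁻¹ (inv_mem hxX) c⁻¹ (inv_mem hc)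
  have h2 : x⁻¹ * c⁻¹ * x * c ∈ RGD.Sup X (Zs cs h (rep cs h (cs.simple i) (rep cs h w (sr m))) (rep cs h w (sr m))) := by
    have h3 := R.btw_le_Sup (fun z hz => N.btwn_mem hz) h1
    rw [commutatorElement_def, inv_inv, inv_inv] at h3
    exact h3
  have e1 : v⁻¹ * a⁻¹ * v * a = x * ((x⁻¹ * v⁻¹ * x) * (x⁻¹ * c⁻¹ * x * c)) := by
    have h3 : b⁻¹ * v * b = v := by
      have := Nb.commute R N hv hb
      rw [mul_assoc, this]; group
    have h4 : v⁻¹ * a⁻¹ * v * a = v⁻¹ * c⁻¹ * (k⁻¹ * (b⁻¹ * v * b) * k) * c := by rw [e]; group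
    rw [h4, h3, ← hx]; group
  refine ⟨(x⁻¹ * v⁻¹ * x) * (x⁻¹ * c⁻¹ * x * c), mul_mem ?_ h2, by rw [e1, hx]⟩
  have h3 := Nb.le_norm R N (inv_mem hxX)
  rw [Subgroup.mem_normalizer_iff] at h3
  have h4 := (h3 v⁻¹).1 (inv_mem (RGD.le_Sup (Or.inl rfl) hv))
  rwa [inv_inv] at h4

end

section

variable (R : RGD cs h p T n X) [Finite W] (hG1 : RGD.Sup X {x | IsRoot cs h x} = ⊤) {Γ : Subgroup (MulAut Y)}
  (H : Act cs h X Γ) (hc : Conn M)

include R hG1 H hc

/-- the elements of `W_J` have representatives fixed by `Γ`, `J` the nodes which are not moved -/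
theorem Act.fix_rep {w : W} (hw : w ∈ WJ cs (Un X Γ)) :
    ∃ g, Rp cs R.nsys w g ∧ (∀ γ ∈ Γ, γ g = g) ∧ g ∈ PJ cs h T X (Un X Γ) := by
  unfold WJ at hw
  induction hw using Subgroup.closure_induction with
  | mem w hw =>
    obtain ⟨k, hk, rfl⟩ := hw
    obtain ⟨a, ha, ha1⟩ := exists_ne_one R k
    obtain ⟨g, hg, ⟨b, hb, c, hc', e⟩, hgf⟩ := exists_rp_fix R ha ha1
    refine ⟨g, hg, fun γ hγ => hgf γ (H.diag_one R hG1 hc hγ) (H.fixL R hG1 hc hk hγ (Subgroup.mem_sup_left ha)), ?_⟩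
    have h1 : sr k ∈ RootsJ cs h (Un X Γ) := PosJ_subset _ (sr_mem_PosJ hk)
    have h2 : X (sr k) ≤ PJ cs h T X (Un X Γ) := le_trans (X_le_LJ h1) LJ_le_PJ
    have h3 : X (-sr k) ≤ PJ cs h T X (Un X Γ) := le_trans (X_le_LJ (RootsJ.neg h1)) LJ_le_PJ
    have h4 : g = b⁻¹ * a * c⁻¹ := by rw [e]; group
    rw [h4]
    exact mul_mem (mul_mem (inv_mem (h3 hb)) (h2 ha)) (inv_mem (h3 hc'))
  | one => exact ⟨1, rp_one, fun γ _ => map_one γ, one_mem _⟩
  | mul u v _ _ hu hv =>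
    obtain ⟨g, hg, hgf, hgP⟩ := hu
    obtain ⟨g', hg', hgf', hgP'⟩ := hv
    exact ⟨g * g', hg.mul hg', fun γ hγ => by rw [map_mul, hgf γ hγ, hgf' γ hγ], mul_mem hgP hgP'⟩
  | inv u _ hu =>
    obtain ⟨g, hg, hgf, hgP⟩ := hu
    exact ⟨g⁻¹, hg.inv, fun γ hγ => by rw [map_inv, hgf γ hγ], inv_mem hgP⟩

/-- `Γ` centralises the root groups of `Φ_J`. -/
theorem Act.fix_X {η : I → ℤ} (hη : η ∈ RootsJ cs h (Un X Γ)) {γ : MulAut Y} (hγ : γ ∈ Γ) {x : Y} (hx : x ∈ X η) :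
    γ x = x := by
  obtain ⟨w, hw, m, hm, rfl⟩ := exists_of_mem_RootsJ hη
  obtain ⟨g, hg, hgf, -⟩ := H.fix_rep R hG1 hc hw
  have h1 := R.conj_mem' hg hη.1 hx
  rw [rep_inv_apply] at h1
  have h2 := H.fixL R hG1 hc hm hγ (Subgroup.mem_sup_left h1)
  rw [map_mul, map_mul, map_inv, hgf γ hγ] at h2
  have h3 : γ x = g * (g⁻¹ * γ x * g) * g⁻¹ := by group
  rw [h3, h2]; group

/-- `Γ` centralises `U_J`. -/
theorem Act.fix_UJ {γ : MulAut Y} (hγ : γ ∈ Γ) {x : Y} (hx : x ∈ UJ cs h X (Un X Γ)) : γ x = x := by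
  have h1 : UJ cs h X (Un X Γ) ≤ γ.toMonoidHom.eqLocus (MonoidHom.id Y) :=
    RGD.Sup_le fun η hη u hu => H.fix_X R hG1 hc (PosJ_subset _ hη) hγ hu
  exact h1 hx

theorem Act.map_VJ {γ : MulAut Y} (hγ : γ ∈ Γ) {K : Set I} {x : Y} (hx : x ∈ VJ cs h X K) : γ x ∈ VJ cs h X K :=
  Diag.fix_Sup R (H.diag_one R hG1 hc hγ) (fun _ hz => hz.1) hx

/-- `AA = [V_J, Γ]` -/
theorem Act.AA_VJ : AA (RGD.Sup X (RGD.Pos cs h)) Γ = AA (VJ cs h X (Un X Γ)) Γ := by
  apply le_antisymm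
  · conv_lhs => unfold AA
    rw [Subgroup.closure_le]
    rintro x ⟨s, hs, γ, hγ, rfl⟩
    obtain ⟨u, hu, v, hv, rfl⟩ := (mem_U_iff R (J := Un X Γ)).1 hs
    have e : (u * v)⁻¹ * γ (u * v) = v⁻¹ * γ v := by
      rw [map_mul, H.fix_UJ R hG1 hc hγ hu]; group
    rw [e]
    exact mem_AA hv hγ
  · conv_lhs => unfold AA
    rw [Subgroup.closure_le]
    rintro x ⟨s, hs, γ, hγ, rfl⟩
    exact mem_AA (VJ_le_U _ hs) hγ

/-- `AA ≤ V_J` -/
theorem Act.AA_le_VJ : AA (RGD.Sup X (RGD.Pos cs h)) Γ ≤ VJ cs h X (Un X Γ) := by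
  rw [H.AA_VJ R hG1 hc]
  unfold AA
  rw [Subgroup.closure_le]
  rintro x ⟨s, hs, γ, hγ, rfl⟩
  exact mul_mem (inv_mem hs) (H.map_VJ R hG1 hc hγ hs)

/-- The elements of `P_J` fixed by `Γ` normalise `AA`. -/
theorem Act.conj_fix {g : Y} (hg : g ∈ PJ cs h T X (Un X Γ)) (hgf : ∀ γ ∈ Γ, γ g = g) {a : Y}
    (ha : a ∈ AA (RGD.Sup X (RGD.Pos cs h)) Γ) : g * a * g⁻¹ ∈ AA (RGD.Sup X (RGD.Pos cs h)) Γ := by
  rw [H.AA_VJ R hG1 hc] at ha ⊢
  have h1 : AA (VJ cs h X (Un X Γ)) Γ ≤ (AA (VJ cs h X (Un X Γ)) Γ).comap (MulAut.conj g).toMonoidHom := by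
    conv_lhs => unfold AA
    rw [Subgroup.closure_le]
    rintro x ⟨s, hs, γ, hγ, rfl⟩
    show g * (s⁻¹ * γ s) * g⁻¹ ∈ AA (VJ cs h X (Un X Γ)) Γ
    have e : g * (s⁻¹ * γ s) * g⁻¹ = (g * s * g⁻¹)⁻¹ * γ (g * s * g⁻¹) := by
      rw [map_mul, map_mul, map_inv, hgf γ hγ]; group
    rw [e]
    exact mem_AA ((Subgroup.mem_normalizer_iff.1 (PJ_le_normalizer_VJ R _ hg) s).1 hs) hγ
  exact h1 ha

/-- `X_r ≤ AA` implies `X_{w r} ≤ AA` for `w ∈ W_J`. -/
theorem Act.conj_rep {r : I → ℤ} (hr : IsRoot cs h r) (hle : X r ≤ AA (RGD.Sup X (RGD.Pos cs h)) Γ) {w : W}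
    (hw : w ∈ WJ cs (Un X Γ)) : X (rep cs h w r) ≤ AA (RGD.Sup X (RGD.Pos cs h)) Γ := by
  obtain ⟨g, hg, hgf, hgP⟩ := H.fix_rep R hG1 hc hw
  intro x hx
  have h1 := R.conj_mem' hg (hr.act w) hx
  rw [rep_inv_apply] at h1
  have h2 := H.conj_fix R hG1 hc hgP hgf (hle h1)
  have h3 : g * (g⁻¹ * x * g) * g⁻¹ = x := by group
  rwa [h3] at h2

variable [Finite Y] (h2 : ∀ i : I, ∃ j, j ≠ i)

include h2

/-- `X_{w i} ≤ AA` for `i` moved and `w ∈ W_J`. -/
theorem Act.conj_le {i : I} (hi : Mv X Γ i) {w : W} (hw : w ∈ WJ cs (Un X Γ)) :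
    X (rep cs h w (sr i)) ≤ AA (RGD.Sup X (RGD.Pos cs h)) Γ :=
  H.conj_rep R hG1 hc (isRoot_sr cs h i) (H.le_AA R hG1 hc h2 hi) hw

/-- **Only one node is moved.** -/
theorem Act.one {i j : I} (hi : Mv X Γ i) (hj : Mv X Γ j) : i = j := by
  by_contra hij
  obtain ⟨b, hb, hbi, w, hw, N⟩ := exists_nb_out (cs := cs) (h := h) (J := Un X Γ) hc (fun h1 => h1 hj) hij
  have hbm : Mv X Γ b := by by_contra h1; exact hb h1
  obtain ⟨a, ha, ha1⟩ := exists_ne_one R b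
  obtain ⟨⟨v, hv⟩, hv1⟩ := Subgroup.ne_bot_iff_exists_ne_one.1 (X_ne_bot R N.root)
  exact Nb.not_comm R N ha ha1 hv (fun e => hv1 (Subtype.ext e))
    (H.ab _ (H.conj_le R hG1 hc h2 hi hw hv) _ (H.le_AA R hG1 hc h2 hbm ha))

/-- `X_i` and `X_{s_j i}` commute if `i` is moved and `j` is not. -/
theorem Act.comm_simple {i j : I} (hi : Mv X Γ i) (hj : ¬ Mv X Γ j) {x y : Y} (hx : x ∈ X (sr i))
    (hy : y ∈ X (rep cs h (cs.simple j) (sr i))) : x * y = y * x :=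
  H.ab _ (H.le_AA R hG1 hc h2 hi hx) _ (H.conj_le R hG1 hc h2 hi (simple_mem_WJ cs hj) hy)

/-- **The groups of rank two with a bond of order 6 have no such group of automorphisms.** -/
theorem Act.six_false {i j : I} (hM : M i j = 6) (hij : ∀ k, k = i ∨ k = j)
    (hi : ∃ x ∈ X (sr i), ∃ y ∈ X (rep cs h (cs.simple j) (sr i)), x * y ≠ y * x)
    (hj : ∃ x ∈ X (sr j), ∃ y ∈ X (rep cs h (cs.simple i) (sr j)), x * y ≠ y * x) : False := by
  have hne : i ≠ j := by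
    rintro rfl
    have := M.diagonal i
    omega
  obtain ⟨k, hk⟩ := H.exists_mv R hG1 hc
  rcases hij k with rfl | rfl
  · have hj' : ¬ Mv X Γ j := fun h1 => hne (H.one R hG1 hc h2 hk h1)
    obtain ⟨x, hx, y, hy, hxy⟩ := hi
    exact hxy (H.comm_simple R hG1 hc h2 hk hj' hx hy)
  · have hi' : ¬ Mv X Γ i := fun h1 => hne (H.one R hG1 hc h2 h1 hk)
    obtain ⟨x, hx, y, hy, hxy⟩ := hj
    exact hxy (H.comm_simple R hG1 hc h2 hk hi' hx hy)

end

section

variable (R : RGD cs h p T n X) [Finite W] (hG1 : RGD.Sup X {x | IsRoot cs h x} = ⊤) {Γ : Subgroup (MulAut Y)}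
  (H : Act cs h X Γ) (hc : Conn M)

theorem card_le_two {Q : Type*} [Group Q] [Finite Q] (h1 : Nat.card Q ≤ 2) {x y : Q} (hx : x ≠ 1) (hy : y ≠ 1) :
    x = y := by
  by_contra hne
  have h3 : 3 ≤ Nat.card Q := by
    have := Fintype.ofFinite Q
    classical
    rw [Nat.card_eq_fintype_card]
    have h4 : ({1, x, y} : Finset Q).card = 3 := by
      rw [Finset.card_eq_three]
      exact ⟨1, x, y, Ne.symm hx, Ne.symm hy, hne, rfl⟩
    rw [← h4]
    exact Finset.card_le_univ _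
  omega

include R hG1 H hc

/-- **`|X_m| ≥ 3` for all nodes `m`.** -/
theorem Act.three [Finite Y] (h2 : ∀ i : I, ∃ j, j ≠ i) (m : I) : 3 ≤ Nat.card (X (sr m)) := by
  by_contra hcon
  obtain ⟨γ, hγ, hγ1⟩ := H.exists_ne R hG1 hc
  have key : ∀ r : I → ℤ, IsRoot cs h r → Nat.card (X r) ≤ 2 → ∀ x ∈ X r, γ x = x := by
    intro r hr hcard x hx
    by_cases hx1 : x = 1
    · rw [hx1, map_one]
    have h1 := card_le_two hcard (x := ⟨γ x, H.map_X R hG1 hc hγ hr hx⟩) (y := ⟨x, hx⟩)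
      (fun e => hx1 (γ.injective (by rw [map_one]; exact congrArg Subtype.val e)))
      (fun e => hx1 (congrArg Subtype.val e))
    exact congrArg Subtype.val h1
  by_cases hm : Mv X Γ m
  · obtain ⟨a, ha, ha1⟩ := exists_ne_one R m
    exact ha1 (H.fpf_node R hG1 hc h2 hm hγ hγ1 ha (key _ (isRoot_sr cs h m) (by omega) a ha))
  · obtain ⟨i₀, hi₀⟩ := H.exists_mv R hG1 hc
    obtain ⟨i, hi, w, N⟩ := exists_nb (cs := cs) (h := h) (J := Un X Γ) hc ⟨i₀, fun h1 => h1 hi₀⟩ hm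
    have hi' : Mv X Γ i := by by_contra h1; exact hi h1
    obtain ⟨a, ha, ha1⟩ := exists_ne_one R i
    obtain ⟨⟨v, hv⟩, hv1⟩ := Subgroup.ne_bot_iff_exists_ne_one.1 (X_ne_bot R N.root)
    have haA := H.le_AA R hG1 hc h2 hi' ha
    have hvU : v ∈ RGD.Sup X (RGD.Pos cs h) := RGD.le_Sup (S := RGD.Pos cs h) ⟨N.root, N.pos⟩ hv
    obtain ⟨x, hx, hne⟩ := Nb.no_fix R N (H.diag_one R hG1 hc hγ) (fun a ha => map_AA (fun γ hγ => H.fixU hγ) hγ ha)
      (H.fpf γ hγ hγ1) ha ha1 hv (fun e => hv1 (Subtype.ext e)) (mul_mem (conj_AA hvU (inv_mem haA)) haA)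
    obtain ⟨g, hg⟩ := exists_rp cs R.nsys (cs.simple i * w)
    have hcard : Nat.card (X (rep cs h (cs.simple i) (rep cs h w (sr m)))) = Nat.card (X (sr m)) := by
      rw [← rep_mul_apply, ← R.conj_rp hg (isRoot_sr cs h m)]
      exact (Nat.card_congr ((X (sr m)).equivMapOfInjective _ (MulAut.conj g).injective).toEquiv).symm
    exact hne (key _ N.delta_root (by rw [hcard]; omega) x hx)

/-- **All root groups have exponent 2** if `AA` has. -/
theorem Act.el [Finite Y] (h2 : ∀ i : I, ∃ j, j ≠ i) (hsq : ∀ a ∈ AA (RGD.Sup X (RGD.Pos cs h)) Γ, a * a = 1)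
    {m : I} {x : Y} (hx : x ∈ X (sr m)) : x * x = 1 := by
  by_cases hm : Mv X Γ m
  · exact hsq x (H.le_AA R hG1 hc h2 hm hx)
  · obtain ⟨i₀, hi₀⟩ := H.exists_mv R hG1 hc
    obtain ⟨i, hi, w, N⟩ := exists_nb (cs := cs) (h := h) (J := Un X Γ) hc ⟨i₀, fun h1 => h1 hi₀⟩ hm
    have hi' : Mv X Γ i := by by_contra h1; exact hi h1
    obtain ⟨a, ha, ha1⟩ := exists_ne_one R i
    have haA := H.le_AA R hG1 hc h2 hi' ha
    obtain ⟨k, hk, hcomp⟩ := Nb.comp' R N ha ha1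
    obtain ⟨g, hg⟩ := exists_rp cs R.nsys w
    have hv : g * x * g⁻¹ ∈ X (rep cs h w (sr m)) := R.conj_mem hg (isRoot_sr cs h m) hx
    obtain ⟨v, hv'⟩ : ∃ v, v = g * x * g⁻¹ := ⟨_, rfl⟩
    rw [← hv'] at hv
    have hvU : v ∈ RGD.Sup X (RGD.Pos cs h) := RGD.le_Sup (S := RGD.Pos cs h) ⟨N.root, N.pos⟩ hv
    obtain ⟨z, hz, e⟩ := hcomp v hv
    obtain ⟨y, hy⟩ : ∃ y, y = k⁻¹ * v * k := ⟨_, rfl⟩
    have hyX : y ∈ X (rep cs h (cs.simple i) (rep cs h w (sr m))) := by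
      have := R.conj_mem' hk N.root hv
      rwa [cs.inv_simple, ← hy] at this
    have h3 : y * z * (y * z) = 1 := by
      rw [hy, ← e]
      exact hsq _ (mul_mem (conj_AA hvU (inv_mem haA)) haA)
    have h4 : y * y = (y * z⁻¹ * y⁻¹) * z⁻¹ := by
      have h5 : y * z = z⁻¹ * y⁻¹ := by
        rw [← mul_inv_rev]
        exact eq_inv_of_mul_eq_one_left h3
      have h6 : y * y = y * (y * z) * z⁻¹ := by group
      rw [h6, h5]; group
    have h5 : y * y = 1 := by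
      refine Nb.inf_eq R N (mul_mem hyX hyX) ?_
      rw [h4]
      exact mul_mem ((Subgroup.mem_normalizer_iff.1 (Nb.le_norm R N hyX) z⁻¹).1 (inv_mem hz)) (inv_mem hz)
    have h6 : x = g⁻¹ * (k * y * k⁻¹) * g := by rw [hy, hv']; group
    have h7 : x * x = g⁻¹ * (k * (y * y) * k⁻¹) * g := by
      conv_lhs => rw [h6]
      group
    rw [h7, h5]; group

end

end Cfsg.Agent.Omega.Lie.End.Mov

end

section


/-!
# Groups of odd automorphisms of a group with a root group datum: `AA = V_J`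

* `no_between` : without bonds of order 6 there is no root between two roots at an acute angle;
* `X_le` : `X_δ ≤ AA` for every positive root `δ` outside `Φ_J`, `J` the nodes which are not moved;
* `AA_eq` : `AA = V_J`; so `P_J` normalises `AA`, in particular `B` and `T`.
-/

set_option autoImplicit false
set_option linter.unusedSectionVars false

namespace Cfsg.Agent.Omega.Lie.End.Mov

open CoxeterSystem Cfsg.Agent.ChevalleyStructure.CoxeterGeom Cfsg.Agent.Tits.Roots Cfsg.Agent.Tits.Core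
  Cfsg.Agent.Tits.Exchange Cfsg.Agent.Tits.RootComb Cfsg.Agent.Nodes.Reps Cfsg.Agent.Nodes.BNOf
  Cfsg.Agent.Nodes.StabComb Cfsg.Agent.Nodes.Bruhat Cfsg.Agent.Nodes.OppDec Cfsg.Agent.Nodes.LeviDec
  Cfsg.Agent.Nodes.NormalForm Cfsg.Agent.KFacts.RgdOpp Cfsg.Agent.KFacts.RgdAut Cfsg.Agent.KFacts.RgdDiag
  Cfsg.Agent.KFacts.RgdRigid Cfsg.Agent.KFacts.RgdPar Cfsg.Agent.KFacts.RgdCharP
open scoped commutatorElement

variable {I W Y : Type*} [Fintype I] [DecidableEq I] [Group W] [Group Y] {M : CoxeterMatrix I}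
  {cs : CoxeterSystem M W} {A : I → I → ℤ} {h : IsCartan M A} {p : ℕ} {T : Subgroup Y} {n : I → Y}
  {X : (I → ℤ) → Subgroup Y}

/-! ### no root between two roots at an acute angle -/

section len

theorem ml {x y : ℤ} (e : x = y) (t : ℤ) : t * x = t * y := by rw [e]

theorem pow_two_ne_three (a b : ℕ) : (2 : ℤ) ^ a ≠ 3 * 2 ^ b := by
  intro e
  have h1 : (3 : ℤ) ∣ 2 ^ a := ⟨_, e⟩
  have h2 : (3 : ℤ) ∣ 2 := Int.Prime.dvd_pow' (by norm_num) h1
  omega

variable [Fintype W]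

theorem two_form' {y : I → ℤ} (hy : IsRoot cs h y) (x : I → ℤ) :
    ∃ N : ℤ, 2 * form cs h x y = N * form cs h y y := by
  obtain ⟨w, j, rfl⟩ := hy
  refine ⟨pairing A j (rep cs h w⁻¹ x), ?_⟩
  rw [form_rep, ← two_form, ← form_rep cs h w (rep cs h w⁻¹ x) (sr j), rep_apply_inv]

/-- the squares of the lengths differ by powers of 2 -/
theorem len_rel (hc : Conn M) (h6 : ∀ i j, M i j ≠ 6) {x y : I → ℤ} (hx : IsRoot cs h x) (hy : IsRoot cs h y) :
    ∃ a b : ℕ, 2 ^ a * form cs h x x = 2 ^ b * form cs h y y := by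
  obtain ⟨u, i, rfl⟩ := hx
  obtain ⟨w, j, rfl⟩ := hy
  rw [form_rep, form_rep]
  obtain ⟨S, hS⟩ : ∃ S : Set I, S = {k | ∃ a b : ℕ, 2 ^ a * form cs h (sr i) (sr i) =
    2 ^ b * form cs h (sr k) (sr k)} := ⟨_, rfl⟩
  have hmem : ∀ k, k ∈ S ↔ ∃ a b : ℕ, 2 ^ a * form cs h (sr i) (sr i) = 2 ^ b * form cs h (sr k) (sr k) := by
    intro k; rw [hS]; rfl
  rw [← hmem]
  by_contra hj
  obtain ⟨a, ha, b, hb, hab⟩ := hc S ⟨i, (hmem i).2 ⟨0, 0, rfl⟩⟩ (fun e => hj (by rw [e]; exact Set.mem_univ j))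
  have hne : a ≠ b := fun e => hb (e ▸ ha)
  have e1 := two_form cs h a (sr b)
  have e2 := two_form cs h b (sr a)
  rw [pairing_sr] at e1 e2
  rw [form_comm] at e1
  obtain ⟨c, d, e3⟩ := (hmem a).1 ha
  refine hb ((hmem b).2 ?_)
  rcases h.rel a b hne with ⟨h0, -⟩ | ⟨-, h1, h2⟩ | ⟨-, ⟨h1, h2⟩ | ⟨h1, h2⟩⟩ | ⟨h0, -⟩
  · exact absurd h0 hab
  · refine ⟨c, d, ?_⟩
    rw [e3]
    rw [h1] at e1; rw [h2] at e2
    have : form cs h (sr a) (sr a) = form cs h (sr b) (sr b) := by linarith only [h, e1, e2]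
    rw [this]
  · rw [h1] at e1; rw [h2] at e2
    have e4 : form cs h (sr a) (sr a) = 2 * form cs h (sr b) (sr b) := by linarith
    refine ⟨c, d + 1, ?_⟩
    rw [e3, e4, pow_succ]; ring
  · rw [h1] at e1; rw [h2] at e2
    have e4 : 2 * form cs h (sr a) (sr a) = form cs h (sr b) (sr b) := by linarith
    refine ⟨c + 1, d, ?_⟩
    rw [pow_succ, ← e4]
    linarith
  · exact absurd h0 (h6 a b)

/-- two roots at an acute angle -/
theorem cart (hc : Conn M) (h6 : ∀ i j, M i j ≠ 6) {x y : I → ℤ} (hx : IsRoot cs h x) (hy : IsRoot cs h y)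
    (hne : x ≠ y) (hpos : 0 < form cs h x y) :
    (2 * form cs h x y = form cs h x x ∧ 2 * form cs h x y = form cs h y y) ∨
      (2 * form cs h x y = form cs h y y ∧ form cs h x y = form cs h x x) ∨
        (2 * form cs h x y = form cs h x x ∧ form cs h x y = form cs h y y) := by
  obtain ⟨N₁, e1⟩ := two_form' (cs := cs) (h := h) hy x
  obtain ⟨N₂, e2⟩ := two_form' (cs := cs) (h := h) hx y
  rw [form_comm cs h y x] at e2
  have hX := form_pos cs h hx.ne_zero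
  have hY := form_pos cs h hy.ne_zero
  obtain ⟨a, b, e3⟩ := len_rel hc h6 hx hy
  -- strict Cauchy-Schwarz
  have hcs : form cs h x y * form cs h x y < form cs h x x * form cs h y y := by
    have hv : form cs h y y • x - form cs h x y • y ≠ 0 := by
      intro e
      exact hne (root_eq_of_smul hx hy hY hpos (sub_eq_zero.1 e))
    have h1 := form_pos cs h hv
    rw [form_sub_left, form_sub_right, form_sub_right, form_smul_left, form_smul_left, form_smul_right,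
      form_smul_right, form_smul_left, form_smul_left, form_smul_right, form_smul_right, form_comm cs h y x] at h1
    by_contra hcon
    push Not at hcon
    linarith only [h, h1, mul_nonneg hY.le (sub_nonneg.2 hcon)]
  obtain ⟨P, hP⟩ : ∃ P, P = form cs h x y := ⟨_, rfl⟩
  obtain ⟨Q, hQ⟩ : ∃ Q, Q = form cs h x x := ⟨_, rfl⟩
  obtain ⟨S, hS⟩ : ∃ S, S = form cs h y y := ⟨_, rfl⟩
  rw [← hP] at hpos e1 e2 hcs ⊢
  rw [← hQ] at hX e2 e3 hcs ⊢
  rw [← hS] at hY e1 e3 hcs ⊢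
  have hN₁ : 0 < N₁ := by
    by_contra hcon
    push Not at hcon
    nlinarith only [hpos, hX, hcs, e1, hcon]
  have hN₂ : 0 < N₂ := by
    by_contra hcon
    push Not at hcon
    nlinarith only [hpos, e2, hX, hcon]
  have h4 : N₁ * N₂ < 4 := by
    by_contra hcon
    push Not at hcon
    have h5 : 4 * (P * P) = N₁ * N₂ * (Q * S) := by
      have : (2 * P) * (2 * P) = (N₁ * S) * (N₂ * Q) := by rw [← e1, ← e2]
      linarith
    nlinarith only [hcs, hcon, h5]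
  have h1 : N₁ < 4 := by nlinarith only [hN₂, h4]
  have h2 : N₂ < 4 := by nlinarith only [hN₁, h4]
  interval_cases N₁ <;> interval_cases N₂
  · left; exact ⟨by linarith only [e2], by linarith⟩
  · right; left; exact ⟨by linarith, by linarith⟩
  · exfalso
    have e4 : S = 3 * Q := by linarith
    rw [e4] at e3
    refine pow_two_ne_three a b ?_
    have e5 : (2 ^ a - 3 * 2 ^ b) * Q = 0 := by linarith
    rcases mul_eq_zero.1 e5 with h5 | h5
    · linarith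
    · exact absurd h5 hX.ne'
  · right; right; exact ⟨by linarith, by linarith⟩
  · omega
  · omega
  · exfalso
    have e4 : Q = 3 * S := by linarith only [e1, e2]
    rw [e4] at e3
    refine pow_two_ne_three b a ?_
    have e5 : (2 ^ b - 3 * 2 ^ a) * S = 0 := by linarith
    rcases mul_eq_zero.1 e5 with h5 | h5
    · linarith
    · exact absurd h5 hY.ne'
  · omega
  · omega

theorem arith {X Y Z P F G a b c : ℤ} (ha : 0 < a) (hb : 0 < b) (hc : 0 < c) (hP : 0 < P)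
    (e1 : a * F = b * X + c * P) (e2 : a * G = b * P + c * Y) (e3 : a * Z = b * F + c * G)
    (h1 : (2 * P = X ∧ 2 * P = Y) ∨ (2 * P = Y ∧ P = X) ∨ (2 * P = X ∧ P = Y))
    (h2 : (2 * F = Z ∧ 2 * F = X) ∨ (2 * F = X ∧ F = Z) ∨ (2 * F = Z ∧ F = X))
    (h3 : (2 * G = Z ∧ 2 * G = Y) ∨ (2 * G = Y ∧ G = Z) ∨ (2 * G = Z ∧ G = Y)) : False := by
  have pa := mul_pos ha hP
  have pb := mul_pos hb hP
  have pc := mul_pos hc hP
  rcases h1 with ⟨d1, d2⟩ | ⟨d1, d2⟩ | ⟨d1, d2⟩ <;> rcases h2 with ⟨d3, d4⟩ | ⟨d3, d4⟩ | ⟨d3, d4⟩ <;>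
    rcases h3 with ⟨d5, d6⟩ | ⟨d5, d6⟩ | ⟨d5, d6⟩ <;>
    linarith only [e1, e3, pb, pc, hP, d1, d2, d3, d4, d5, d6, e2, ml d1 a, ml d1 b, ml d1 c, ml d2 a, ml d2 b, ml d2 c, ml d3 a, ml d3 b, ml d3 c, ml d4 a, ml d4 b, ml d4 c, ml d5 a, ml d5 c]

/-- **No root between two roots at an acute angle.** -/
theorem no_between (hc : Conn M) (h6 : ∀ i j, M i j ≠ 6) {x y z : I → ℤ} (hx : IsRoot cs h x) (hy : IsRoot cs h y)
    (hne : x ≠ y) (hpos : 0 < form cs h x y) (hz : Btwn cs h x y z) : False := by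
  obtain ⟨hz, a, b, c, ha, hb, hc', e⟩ := hz
  have hX := form_pos cs h hx.ne_zero
  have hY := form_pos cs h hy.ne_zero
  have e1 : a * form cs h z x = b * form cs h x x + c * form cs h x y := by
    rw [← form_smul_left, e, form_add_left, form_smul_left, form_smul_left, form_comm cs h y x]
  have e2 : a * form cs h z y = b * form cs h x y + c * form cs h y y := by
    rw [← form_smul_left, e, form_add_left, form_smul_left, form_smul_left]
  have e3 : a * form cs h z z = b * form cs h z x + c * form cs h z y := by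
    rw [← form_smul_right, e, form_add_right, form_smul_right, form_smul_right]
  have hF : 0 < form cs h z x := by
    by_contra hcon
    push Not at hcon
    nlinarith only [ha, e1, hcon, mul_pos hb hX, mul_pos hc' hpos]
  have hG : 0 < form cs h z y := by
    by_contra hcon
    push Not at hcon
    nlinarith only [ha, e2, hcon, mul_pos hb hpos, mul_pos hc' hY]
  have hzx : z ≠ x := by
    rintro rfl
    have h1 : (a - b) • z = c • y := by rw [sub_smul, e]; abel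
    have h2 : 0 < a - b := by
      by_contra hcon
      push Not at hcon
      nlinarith only [h, hc', hY, hG, e2, hcon]
    exact hne (root_eq_of_smul hz hy h2 hc' h1)
  have hzy : z ≠ y := by
    rintro rfl
    have h1 : (a - c) • z = b • x := by rw [sub_smul, e]; abel
    have h2 : 0 < a - c := by
      by_contra hcon
      push Not at hcon
      nlinarith only [h, hb, hF, hY, e3, hcon]
    exact hne (root_eq_of_smul hz hx h2 hb h1).symm
  exact arith ha hb hc' hpos e1 e2 e3 (cart hc h6 hx hy hne hpos) (cart hc h6 hz hx hzx hF)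
    (cart hc h6 hz hy hzy hG)

end len

section

variable (R : RGD cs h p T n X) [Finite W] (hG1 : RGD.Sup X {x | IsRoot cs h x} = ⊤) {Γ : Subgroup (MulAut Y)}
  (H : Act cs h X Γ) (hc : Conn M)

include R hG1 H hc

variable [Finite Y] (h2 : ∀ i : I, ∃ j, j ≠ i) (h6 : ∀ i j, M i j ≠ 6)

include h2 h6

theorem Act.X_le (N : ℕ) : ∀ δ ∈ NotJ cs h (Un X Γ), ht δ ≤ N → X δ ≤ AA (RGD.Sup X (RGD.Pos cs h)) Γ := by
  have := Fintype.ofFinite W
  induction N with
  | zero =>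
    rintro δ ⟨hδ, h0, -⟩ hN
    have := sum_pos h0 hδ.ne_zero
    omega
  | succ N ih =>
    rintro δ ⟨hδ, h0, q, hq, hq0⟩ hN
    obtain ⟨k, hk0, hk⟩ := exists_pairing_pos cs h h0 hδ.ne_zero
    by_cases hδk : δ = sr k
    · have hkq : k = q := by
        by_contra hne
        rw [hδk, sr_ne (fun e => hne e.symm)] at hq0
        exact lt_irrefl _ hq0
      have hk' : Mv X Γ k := by
        by_contra h3
        exact hq (hkq ▸ h3)
      rw [hδk]
      exact H.le_AA R hG1 hc h2 hk'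
    have hη : IsRoot cs h (rep cs h (cs.simple k) δ) := hδ.act _
    have hη0 : 0 ≤ rep cs h (cs.simple k) δ := hδ.simple_nonneg h0 k hδk
    have hss : rep cs h (cs.simple k) (rep cs h (cs.simple k) δ) = δ := by
      rw [← rep_mul_apply, cs.simple_mul_simple_self, map_one, Module.End.one_apply]
    have hht : ht (rep cs h (cs.simple k) δ) ≤ N := by
      rw [ht_simple]; push_cast at hN; omega
    by_cases hkJ : k ∈ Un X Γ
    · -- `k` is not moved
      have hηJ : rep cs h (cs.simple k) δ ∈ NotJ cs h (Un X Γ) :=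
        NotJ.act (simple_mem_WJ cs hkJ) ⟨hδ, h0, q, hq, hq0⟩
      have h3 := H.conj_rep R hG1 hc hη (ih _ hηJ hht) (simple_mem_WJ cs hkJ)
      rwa [hss] at h3
    · -- `k` is moved
      have hk' : Mv X Γ k := by by_contra h3; exact hkJ h3
      have hneg : pairing A k (rep cs h (cs.simple k) δ) < 0 := by
        rw [rep_simple_eq, sub_eq_add_neg, ← neg_smul, pairing_add, pairing_smul, pairing_sr, h.diag]
        linarith
      rcases mem_PosJ_or_NotJ (Un X Γ) hη hη0 with hηJ | hηJ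
      · -- the component lemma
        obtain ⟨w, hw, m, hm, e⟩ := exists_of_mem_PosJ _ _ hηJ hht
        have Nb' : Nb cs h k (Un X Γ) m w :=
          { iJ := hkJ, mJ := hm, wJ := hw, pos := by rw [← e]; exact hη0, ne := by rw [← e]; exact hneg.ne }
        obtain ⟨γ, hγ, hγ1⟩ := H.exists_ne R hG1 hc
        obtain ⟨a, ha, ha1⟩ := exists_ne_one R k
        have haA := H.le_AA R hG1 hc h2 hk' ha
        obtain ⟨g, hg, hcomp⟩ := Nb.comp' R Nb' ha ha1
        have hD := H.diag_one R hG1 hc hγ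
        refine H.le_of_fpf R hG1 hc hδ h0 hγ (fun x hx hfx => ?_)
        rw [← hss, e] at hx
        have hv : g * x * g⁻¹ ∈ X (rep cs h w (sr m)) := by
          have h3 := R.conj_mem hg Nb'.delta_root hx
          rwa [← rep_mul_apply, cs.simple_mul_simple_self, map_one, Module.End.one_apply] at h3
        obtain ⟨z, hz, ez⟩ := hcomp _ hv
        have hvU : g * x * g⁻¹ ∈ RGD.Sup X (RGD.Pos cs h) :=
          RGD.le_Sup (S := RGD.Pos cs h) ⟨Nb'.root, Nb'.pos⟩ hv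
        have hbA := mul_mem (conj_AA hvU (inv_mem haA)) haA
        have ex : g⁻¹ * (g * x * g⁻¹) * g = x := by group
        rw [ez, ex] at hbA
        have hZ : ∀ z ∈ RGD.Sup X (Zs cs h (rep cs h (cs.simple k) (rep cs h w (sr m))) (rep cs h w (sr m))),
            γ z ∈ RGD.Sup X (Zs cs h (rep cs h (cs.simple k) (rep cs h w (sr m))) (rep cs h w (sr m))) :=
          fun z hz => Diag.fix_Sup R hD (fun y hy => (Nb'.Zs_root hy).1) hz
        have h4 : (x * z)⁻¹ * γ (x * z) ∈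
            RGD.Sup X (Zs cs h (rep cs h (cs.simple k) (rep cs h w (sr m))) (rep cs h w (sr m))) := by
          rw [map_mul, hfx]
          have : (x * z)⁻¹ * (x * γ z) = z⁻¹ * γ z := by group
          rw [this]
          exact mul_mem (inv_mem hz) (hZ z hz)
        have h5 := mem_of_fpf (fun a ha => map_AA (fun γ hγ => H.fixU hγ) hγ ha) (H.fpf γ hγ hγ1) hZ hbA h4
        refine Nb.inf_eq R Nb' hx ?_
        have h6' : x = x * z * z⁻¹ := by group
        rw [h6']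
        exact mul_mem h5 (inv_mem hz)
      · -- `X_η`, `X_k ≤ AA`: impossible
        exfalso
        have hle := ih _ hηJ hht
        obtain ⟨⟨v, hv⟩, hv1⟩ := Subgroup.ne_bot_iff_exists_ne_one.1 (X_ne_bot R hη)
        have hv1' : v ≠ 1 := fun e => hv1 (Subtype.ext e)
        obtain ⟨a, ha, ha1⟩ := exists_ne_one R k
        have hva : v * a = a * v := H.ab _ (hle hv) _ (H.le_AA R hG1 hc h2 hk' ha)
        -- `v` commutes with `X_{-k}`
        have hform : 0 < form cs h (rep cs h (cs.simple k) δ) (-sr k) := by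
          rw [form_neg_right, neg_pos]
          by_contra hcon
          push Not at hcon
          exact absurd ((form_sr_nonneg_iff cs h k _).1 hcon) (not_le.2 hneg)
        have hne1 : rep cs h (cs.simple k) δ ≠ -sr k := fun e => by
          have h3 := hη0 k
          rw [e, Pi.neg_apply, sr_self] at h3
          have h4 : (0 : ℤ) ≤ -1 := h3
          omega
        have hne2 : rep cs h (cs.simple k) δ ≠ - -sr k := fun e => by
          rw [neg_neg] at e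
          rw [e, pairing_sr, h.diag] at hneg
          exact absurd hneg (by decide)
        have hcm : ∀ b ∈ X (-sr k), v * b = b * v := by
          intro b hb
          have h3 := R.comm _ _ hη (isRoot_sr cs h k).neg hne1 hne2 v hv b hb
          have h4 : _root_.Cfsg.Agent.Nodes.Reps.btw cs h X (rep cs h (cs.simple k) δ) (-sr k) = ⊥ := by
            unfold Cfsg.Agent.Nodes.Reps.btw
            rw [eq_bot_iff]
            refine iSup_le ?_
            rintro ⟨z, hz⟩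
            exact (no_between hc h6 hη (isRoot_sr cs h k).neg hne1 hform hz).elim
          rw [h4, Subgroup.mem_bot, commutatorElement_eq_one_iff_mul_comm] at h3
          exact h3
        obtain ⟨b, hb, g, hg, c, hc', e⟩ := exists_dec R ha ha1
        have hvg : g * v * g⁻¹ = v := by
          have h3 : Commute v b := hcm b hb
          have h4 : Commute v c := hcm c hc'
          have h5 : Commute v a := hva
          have h7 : g = b⁻¹ * a * c⁻¹ := by rw [e]; group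
          have h8 : Commute v g := by
            rw [h7]
            exact (h3.inv_right.mul_right h5).mul_right h4.inv_right
          rw [← h8.eq, mul_inv_cancel_right]
        have hvδ : v ∈ X δ := by
          have h3 := R.conj_mem hg hη hv
          rwa [hss, hvg] at h3
        have hne : rep cs h (cs.simple k) δ ≠ δ := fun e1 => by
          have h3 := congrFun e1 k
          rw [rep_simple_apply_self] at h3
          linarith only [hk, h3]
        have h3 := X_inf_X R hη hδ hne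
        rw [Subgroup.eq_bot_iff_forall] at h3
        exact hv1' (h3 v (Subgroup.mem_inf.2 ⟨hv, hvδ⟩))

/-- **`AA = V_J`**, `J` the nodes which are not moved. -/
theorem Act.AA_eq : AA (RGD.Sup X (RGD.Pos cs h)) Γ = VJ cs h X (Un X Γ) := by
  refine le_antisymm (H.AA_le_VJ R hG1 hc) (RGD.Sup_le fun δ hδ => ?_)
  exact H.X_le R hG1 hc h2 h6 (ht δ).toNat δ hδ (by
    have := sum_pos hδ.2.1 hδ.1.ne_zero
    omega)

/-- **`P_J` normalises `AA`.** -/
theorem Act.PJ_AA {b a : Y} (hb : b ∈ PJ cs h T X (Un X Γ)) (ha : a ∈ AA (RGD.Sup X (RGD.Pos cs h)) Γ) :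
    b * a * b⁻¹ ∈ AA (RGD.Sup X (RGD.Pos cs h)) Γ := by
  rw [H.AA_eq R hG1 hc h2 h6] at ha ⊢
  exact (Subgroup.mem_normalizer_iff.1 (PJ_le_normalizer_VJ R _ hb) a).1 ha

/-- **`B` normalises `AA`.** -/
theorem Act.B_AA {b a : Y} (hb : b ∈ RGD.B cs h T X) (ha : a ∈ AA (RGD.Sup X (RGD.Pos cs h)) Γ) :
    b * a * b⁻¹ ∈ AA (RGD.Sup X (RGD.Pos cs h)) Γ :=
  H.PJ_AA R hG1 hc h2 h6 (B_le_PJ hb) ha

end

end Cfsg.Agent.Omega.Lie.End.Mov

end

section


/-!
# Groups of odd automorphisms of a group with a root group datum: the form needed for `KSys`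

* `AT_eq` : `AT S Γ = AA S Γ`; `Act.of_tact` : `TAct` gives `Act`;
* `four` : `|X_m| ≥ 4` for `p = 2`;
* `dich_un`, `dich_mv` : the action of `Γ` on `U` modulo `V_{i}`.
-/

set_option autoImplicit false
set_option linter.unusedSectionVars false

namespace Cfsg.Agent.Omega.Lie.End.Mov

open CoxeterSystem Cfsg.Agent.ChevalleyStructure.CoxeterGeom Cfsg.Agent.Tits.Roots Cfsg.Agent.Tits.Core
  Cfsg.Agent.Tits.Exchange Cfsg.Agent.Tits.RootComb Cfsg.Agent.Nodes.Reps Cfsg.Agent.Nodes.BNOf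
  Cfsg.Agent.Nodes.StabComb Cfsg.Agent.Nodes.Bruhat Cfsg.Agent.Nodes.OppDec Cfsg.Agent.Nodes.LeviDec
  Cfsg.Agent.Nodes.NormalForm Cfsg.Agent.KFacts.RgdOpp Cfsg.Agent.KFacts.RgdAut Cfsg.Agent.KFacts.RgdDiag
  Cfsg.Agent.KFacts.RgdRigid Cfsg.Agent.KFacts.RgdPar Cfsg.Agent.KFacts.RgdCharP

variable {I W Y : Type*} [Fintype I] [DecidableEq I] [Group W] [Group Y] {M : CoxeterMatrix I}
  {cs : CoxeterSystem M W} {A : I → I → ℤ} {h : IsCartan M A} {p : ℕ} {T : Subgroup Y} {n : I → Y}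
  {X : (I → ℤ) → Subgroup Y}

theorem AT_eq (S : Subgroup Y) (Γ : Subgroup (MulAut Y)) : AT S Γ = AA S Γ := by
  unfold AT AA
  congr 1
  ext x
  constructor
  · rintro ⟨γ, hγ, u, hu, e⟩; exact ⟨u, hu, γ, hγ, e⟩
  · rintro ⟨u, hu, γ, hγ, e⟩; exact ⟨γ, hγ, u, hu, e⟩

theorem Act.of_tact [Finite Y] {Γ : Subgroup (MulAut Y)} (hfr : ∀ γ ∈ Γ, γ ∈ Frame cs h X)
    (hT : TAct (RGD.Sup X (RGD.Pos cs h)) Γ) : Act cs h X Γ where
  frame := hfr
  odd γ hγ := by
    have : Finite (MulAut Y) := Finite.of_injective (fun e : MulAut Y => (e : Y → Y))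
      fun a b hab => MulEquiv.ext (congrFun hab)
    have h1 : orderOf (⟨γ, hγ⟩ : Γ) ∣ Nat.card Γ := orderOf_dvd_natCard _
    rw [Subgroup.orderOf_mk] at h1
    exact Odd.of_dvd_nat hT.odd h1
  ab := by rw [← AT_eq]; exact hT.ab
  fpf := by rw [← AT_eq]; exact hT.fpf
  ne := by rw [← AT_eq]; exact hT.ne

section

variable (R : RGD cs h p T n X) [Finite W] (hG1 : RGD.Sup X {x | IsRoot cs h x} = ⊤) {Γ : Subgroup (MulAut Y)}
  (H : Act cs h X Γ) (hc : Conn M)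

include R hG1 H hc

/-- `|X_m| ≥ 4` -/
theorem Act.four [Finite Y] (hp : p = 2) (h2 : ∀ i : I, ∃ j, j ≠ i) (m : I) : 4 ≤ Nat.card (X (sr m)) := by
  subst hp
  have : Fact (Nat.Prime 2) := ⟨Nat.prime_two⟩
  have h1 := H.three R hG1 hc h2 m
  obtain ⟨k, hk⟩ := (IsPGroup.iff_card (p := 2)).1 (R.pgrp m)
  rw [hk] at h1 ⊢
  rcases k with _ | _ | k
  · norm_num at h1
  · norm_num at h1
  · have : 1 ≤ 2 ^ k := Nat.one_le_two_pow
    rw [pow_succ, pow_succ]
    omega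

end

end Cfsg.Agent.Omega.Lie.End.Mov

end

private theorem dce_4a89dcda8350 : _root_.True := by
  try have : _root_.True := by simp only [_root_.Cfsg.Agent.Omega.Lie.End.Mov.Mv.congr_simp]
  try have : _root_.True := by simp only [_root_.Cfsg.Agent.KFacts.RgdDiag.Diag.congr_simp]
  try have : _root_.True := by simp only [_root_.Cfsg.Agent.Nodes.Bruhat.UJ.congr_simp]
  exact _root_.True.intro
end

-- part: Mrg/Omega/Lie/End/KSideMain
section
prune_inst 0x70001e0280000002004800008000080004800c0000000020000001100000000000300000000000000000000000000000000100000000000010000000000000000000400000000000000000000000000000000000000000000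
set_option linter.all false
open scoped Cfsg.Agent.FastGrp

-- part: Mrg/Omega/Lie/End/KMain
section
section


/-!
# The K-side: `KSys` from the pieces (helper650)

* `MFacts` : the facts on the moved nodes (helper469);
* `ksys_of` : `KSys` from `PFacts`, `KTor`, `MFacts`.
-/

set_option autoImplicit false
set_option linter.unusedSectionVars false

namespace Cfsg.Agent.Omega.Lie.End

open Subgroup CoxeterSystem Cfsg.Agent.ChevalleyStructure.CoxeterGeom Cfsg.Agent.Tits.Roots Cfsg.Agent.Tits.Core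
  Cfsg.Agent.Tits.RootComb Cfsg.Agent.Nodes.Comb Cfsg.Agent.Nodes.Reps Cfsg.Agent.Nodes.BNOf
  Cfsg.Agent.Nodes.Bruhat Cfsg.Agent.Nodes.StabComb Cfsg.Agent.Nodes.LeviDec Cfsg.Agent.KFacts.RgdAut Cfsg.Agent.KFacts.RgdDiag Cfsg.Agent.KFacts.RgdRigid
  Cfsg.Agent.KFacts.RgdCharP Cfsg.Agent.ParSys
  Cfsg.Agent.Omega.Lie.End.Mov

variable {I : Type} {W Y : Type*} [Fintype I] [DecidableEq I] [Group W] [Group Y] {M : CoxeterMatrix I}
  {cs : CoxeterSystem M W} {A : I → I → ℤ} {h : IsCartan M A} {T : Subgroup Y} {n : I → Y}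
  {X : (I → ℤ) → Subgroup Y} {Γ : Subgroup (MulAut Y)}

/-- The facts on the moved nodes. -/
structure MFacts (cs : CoxeterSystem M W) (h : IsCartan M A) (T : Subgroup Y) (X : (I → ℤ) → Subgroup Y)
    (Γ : Subgroup (MulAut Y)) : Prop where
  fixU : ∀ γ ∈ Γ, _root_.Cfsg.Agent.KFacts.RgdAut.Fix γ (RGD.Sup X (RGD.Pos cs h))
  diag : ∀ γ ∈ Γ, _root_.Cfsg.Agent.KFacts.RgdDiag.Diag T X γ 1
  fpf : ∀ i, Mv X Γ i → ∀ γ ∈ Γ, γ ≠ 1 → ∀ x ∈ X (sr i), γ x = x → x = 1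
  mv : ∃ i, Mv X Γ i
  one : ∀ i j, Mv X Γ i → Mv X Γ j → i = j
  four : ∀ i, 4 ≤ Nat.card (X (sr i))
  BA : ∀ b ∈ RGD.B cs h T X, ∀ a ∈ AT (RGD.Sup X (RGD.Pos cs h)) Γ,
    b * a * b⁻¹ ∈ AT (RGD.Sup X (RGD.Pos cs h)) Γ

section par

variable {B P U : Subgroup Y}

/-- An automorphism of `B`, `P` fixes the kernel on the panel. -/
theorem map_Qk {γ : MulAut Y} (hB : _root_.Cfsg.Agent.KFacts.RgdAut.Fix γ B) (hP : _root_.Cfsg.Agent.KFacts.RgdAut.Fix γ P) {x : Y} (hx : x ∈ Qk B P) : γ x ∈ Qk B P := by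
  intro g hg
  have h1 : γ⁻¹ g ∈ P := (hP.inv g).2 hg
  have h2 := (hB _).2 (hx _ h1)
  rwa [map_mul, map_mul, map_inv, MulAut.apply_inv_self] at h2

theorem comm_mem_of_cent {i : I} (hU : U ≤ P) (hdec : ∀ u ∈ U, ∃ x ∈ X (sr i), ∃ v ∈ U, v ∈ Qk B P ∧ u = x * v)
    (hBP : B ≤ P) {t : Y} (ht : t ∈ B) (hX : X (sr i) ≤ P) (hc : ∀ x ∈ X (sr i), t * x * t⁻¹ = x) :
    ∀ u ∈ U, t * u * t⁻¹ * u⁻¹ ∈ Qk B P := by
  intro u hu
  obtain ⟨x, hx, v, hv, hvQ, rfl⟩ := hdec u hu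
  have e : t * (x * v) * t⁻¹ * (x * v)⁻¹ = (t * x * t⁻¹) * ((t * v * t⁻¹) * v⁻¹) * x⁻¹ := by group
  rw [e, hc x hx]
  exact Qk_conj' (mul_mem (Qk_conj' hvQ (hBP ht)) (inv_mem hvQ)) (hX hx)

theorem fpf_of_fpf {i : I} (hdec : ∀ u ∈ U, ∃ x ∈ X (sr i), ∃ v ∈ U, v ∈ Qk B P ∧ u = x * v)
    (hinf : ∀ x ∈ X (sr i), x ∈ Qk B P → x = 1)
    (hBP : B ≤ P) {t : Y} (ht : t ∈ B) (hX : X (sr i) ≤ P) (htX : ∀ x ∈ X (sr i), t * x * t⁻¹ ∈ X (sr i))
    (hf : ∀ x ∈ X (sr i), t * x * t⁻¹ = x → x = 1) :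
    ∀ u ∈ U, t * u * t⁻¹ * u⁻¹ ∈ Qk B P → u ∈ Qk B P := by
  intro u hu h1
  obtain ⟨x, hx, v, hv, hvQ, rfl⟩ := hdec u hu
  have e : t * (x * v) * t⁻¹ * (x * v)⁻¹ = (t * x * t⁻¹ * x⁻¹) * (x * ((t * v * t⁻¹) * v⁻¹) * x⁻¹) := by group
  rw [e] at h1
  have h2 : x * ((t * v * t⁻¹) * v⁻¹) * x⁻¹ ∈ Qk B P :=
    Qk_conj' (mul_mem (Qk_conj' hvQ (hBP ht)) (inv_mem hvQ)) (hX hx)
  have h3 : t * x * t⁻¹ * x⁻¹ ∈ Qk B P := by
    have := mul_mem h1 (inv_mem h2)
    rwa [mul_inv_cancel_right] at this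
  have h4 := hinf _ (mul_mem (htX x hx) (inv_mem hx)) h3
  have h5 := hf x hx (mul_inv_eq_one.1 h4)
  rw [h5, one_mul]
  exact hvQ

theorem act_mem_of_triv {i : I} (hdec : ∀ u ∈ U, ∃ x ∈ X (sr i), ∃ v ∈ U, v ∈ Qk B P ∧ u = x * v)
    {γ : MulAut Y} (hB : _root_.Cfsg.Agent.KFacts.RgdAut.Fix γ B) (hP : _root_.Cfsg.Agent.KFacts.RgdAut.Fix γ P) (hc : ∀ x ∈ X (sr i), γ x = x) :
    ∀ u ∈ U, u⁻¹ * γ u ∈ Qk B P := by
  intro u hu
  obtain ⟨x, hx, v, hv, hvQ, rfl⟩ := hdec u hu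
  rw [map_mul, hc x hx]
  have e : (x * v)⁻¹ * (x * γ v) = v⁻¹ * γ v := by group
  rw [e]
  exact mul_mem (inv_mem hvQ) (map_Qk hB hP hvQ)

theorem act_fpf_of_fpf {i : I} (hdec : ∀ u ∈ U, ∃ x ∈ X (sr i), ∃ v ∈ U, v ∈ Qk B P ∧ u = x * v)
    (hinf : ∀ x ∈ X (sr i), x ∈ Qk B P → x = 1) {γ : MulAut Y} (hB : _root_.Cfsg.Agent.KFacts.RgdAut.Fix γ B) (hP : _root_.Cfsg.Agent.KFacts.RgdAut.Fix γ P)
    (hX : X (sr i) ≤ P) (hγX : ∀ x ∈ X (sr i), γ x ∈ X (sr i)) (hf : ∀ x ∈ X (sr i), γ x = x → x = 1) :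
    ∀ u ∈ U, u⁻¹ * γ u ∈ Qk B P → u ∈ Qk B P := by
  intro u hu h1
  obtain ⟨x, hx, v, hv, hvQ, rfl⟩ := hdec u hu
  rw [map_mul] at h1
  have hγv := map_Qk hB hP hvQ
  have h2 : x⁻¹ * γ x ∈ Qk B P := by
    have h3 := mul_mem (mul_mem hvQ h1) (inv_mem hγv)
    have e : v * ((x * v)⁻¹ * (γ x * γ v)) * (γ v)⁻¹ = x⁻¹ * γ x := by group
    rwa [e] at h3
  have h4 := hinf _ (mul_mem (inv_mem hx) (hγX x hx)) h2
  have h5 := hf x hx (inv_mul_eq_one.1 h4).symm
  rw [h5, one_mul]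
  exact hvQ

end par

section main

variable [Finite W] [Finite Y] (R : RGD cs h 2 T n X) (hG1 : RGD.Sup X {x | IsRoot cs h x} = ⊤)

include R in
theorem X_le_PJ (i : I) : X (sr i) ≤ PJ cs h T X {i} :=
  le_trans (RGD.X_le_B (isRoot_sr cs h i) (sr_nonneg i)) B_le_PJ

include R in
/-- `γ` fixes the minimal parabolic subgroups. -/
theorem map_PJ {γ : MulAut Y} (hB : _root_.Cfsg.Agent.KFacts.RgdAut.Fix γ (RGD.B cs h T X)) (D : _root_.Cfsg.Agent.KFacts.RgdDiag.Diag T X γ 1) {i : I} {x : Y}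
    (hx : x ∈ PJ cs h T X {i}) : γ x ∈ PJ cs h T X {i} := by
  have h1 : PJ cs h T X {i} ≤ (PJ cs h T X {i}).comap γ.toMonoidHom := by
    have hBc : RGD.B cs h T X ≤ (PJ cs h T X {i}).comap γ.toMonoidHom := fun b hb =>
      show γ b ∈ PJ cs h T X {i} from B_le_PJ ((hB b).2 hb)
    refine PJ_le_of_mem R hBc ?_
    obtain ⟨t, ht, a, ha, v, hv, b, hb, e⟩ := exists_n_eq R i
    have hXP := X_le_PJ R i
    have hnP : n i ∈ PJ cs h T X {i} := LJ_le_PJ (n_mem_LJ R (Set.mem_singleton i))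
    have hvP : ∀ y ∈ X (-sr i), y ∈ PJ cs h T X {i} := by
      intro y hy
      have h2 : (n i)⁻¹ * y * n i ∈ X (sr i) := by
        have := R.conj_mem' (rp_simple cs R.nsys i) (isRoot_sr cs h i).neg hy
        rwa [inv_simple, map_neg, rep_simple_sr, neg_neg] at this
      have h3 := mul_mem (mul_mem hnP (hXP h2)) (inv_mem hnP)
      have e : n i * ((n i)⁻¹ * y * n i) * (n i)⁻¹ = y := by group
      rwa [e] at h3
    have hγT : γ t ∈ PJ cs h T X {i} := B_le_PJ (RGD.T_le_B ((D.tor t).2 ht))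
    have hγa : γ a ∈ PJ cs h T X {i} := hXP ((D.pos i a).2 ha)
    have hγb : γ b ∈ PJ cs h T X {i} := hXP ((D.pos i b).2 hb)
    have hγv : γ v ∈ PJ cs h T X {i} := hvP _ ((D.neg i v).2 hv)
    show γ (n i) ∈ PJ cs h T X {i}
    rw [e, map_mul, map_mul, map_mul]
    exact mul_mem (mul_mem (mul_mem hγT hγa) hγv) hγb
  exact h1 hx

include R in
theorem fix_PJ {γ : MulAut Y} (hB : _root_.Cfsg.Agent.KFacts.RgdAut.Fix γ (RGD.B cs h T X)) (D : _root_.Cfsg.Agent.KFacts.RgdDiag.Diag T X γ 1) (i : I) :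
    _root_.Cfsg.Agent.KFacts.RgdAut.Fix γ (PJ cs h T X {i}) := by
  intro x
  refine ⟨fun h1 => ?_, map_PJ R hB D⟩
  have h2 := map_PJ R (γ := γ⁻¹) hB.inv (by
    have := D.inv
    rwa [inv_one] at this) h1
  rwa [MulAut.inv_apply_self] at h2

include R hG1 in
/-- **`KSys`.** -/
theorem ksys_of (hc : Conn M) (h6 : ∀ i j, M i j ≠ 6) (PF : PFacts cs h T X) (KT : KTor M T X)
    (MF : MFacts cs h T X Γ) (hidx : Odd (RGD.Sup X (RGD.Pos cs h)).index)
    (h3 : 3 ≤ Nat.card Γ) (h2 : ∀ i : I, ∃ j, j ≠ i) :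
    KSys (RGD.Sup X (RGD.Pos cs h)) Γ (fun i => PJ cs h T X {i}) (fun i j => M i j) := by
  have : Fact (Nat.Prime 2) := ⟨Nat.prime_two⟩
  have : Finite (MulAut Y) :=
    Finite.of_injective (fun e : MulAut Y => (e : Y → Y)) fun a b hab => MulEquiv.ext (congrFun hab)
  set U := RGD.Sup X (RGD.Pos cs h) with hU
  set B := RGD.B cs h T X with hB
  have hN : normalizer (U : Set Y) = B := PF.norm
  have hUB : U ≤ B := RGD.U_le_B
  have hBP : ∀ i, B ≤ PJ cs h T X {i} := fun i => B_le_PJ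
  have hfixB : ∀ γ ∈ Γ, _root_.Cfsg.Agent.KFacts.RgdAut.Fix γ B := fun γ hγ => fix_B R (GG_eq_top hG1) (MF.fixU γ hγ)
  have hfixP : ∀ γ ∈ Γ, ∀ i, _root_.Cfsg.Agent.KFacts.RgdAut.Fix γ (PJ cs h T X {i}) := fun γ hγ i => fix_PJ R (hfixB γ hγ) (MF.diag γ hγ) i
  have hXP : ∀ i, X (sr i) ≤ PJ cs h T X {i} := fun i => X_le_PJ R i
  have hTX : ∀ t ∈ T, ∀ i, ∀ x ∈ X (sr i), t * x * t⁻¹ ∈ X (sr i) := by
    intro t ht i x hx
    have h5 : t * x * t⁻¹ ∈ cj t (X (sr i)) := conj_mem_cj.2 hx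
    rwa [R.tor _ (isRoot_sr cs h i) t ht] at h5
  have hTodd : ∀ t ∈ T, t ^ Nat.card T = 1 := by
    intro t ht
    have h4 : (⟨t, ht⟩ : T) ^ Nat.card T = 1 := pow_card_eq_one'
    exact congrArg Subtype.val h4
  have hTc : Odd (Nat.card T) := Nat.coprime_two_right.1 R.tcop
  -- unmoved and moved nodes
  have hunm : ∀ i, ¬ Mv X Γ i → Unmoved U Γ (PJ cs h T X {i}) := by
    intro i hi γ hγ u hu
    rw [hN]
    refine act_mem_of_triv (PF.dec i) (hfixB γ hγ) (hfixP γ hγ i) (fun x hx => ?_) u hu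
    by_contra hne
    exact hi ⟨γ, hγ, x, hx, hne⟩
  have hmov : ∀ i, Mv X Γ i → Moved U Γ (PJ cs h T X {i}) := by
    intro i hi γ hγ hγ1 u hu
    rw [hN]
    exact act_fpf_of_fpf (PF.dec i) (PF.inf i) (hfixB γ hγ) (hfixP γ hγ i) (hXP i)
      (fun x hx => ((MF.diag γ hγ).pos i x).2 hx) (MF.fpf i hi γ hγ hγ1) u hu
  obtain ⟨γ₀, hγ₀, hγ₀1⟩ : ∃ γ ∈ Γ, γ ≠ 1 := by
    by_contra hcon
    push Not at hcon
    have h5 : Γ = ⊥ := (Subgroup.eq_bot_iff_forall _).2 hcon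
    rw [h5, Subgroup.card_bot] at h3
    omega
  have hne : ∀ i, ∃ x ∈ X (sr i), x ≠ 1 := fun i => exists_ne_one R i
  -- a node is not both
  have hmv_of : ∀ i, Moved U Γ (PJ cs h T X {i}) → Mv X Γ i := by
    intro i hi
    by_contra hmv
    obtain ⟨x, hx, hx1⟩ := hne i
    have h5 : x ∈ Qk (normalizer (U : Set Y)) (PJ cs h T X {i}) := by
      refine hi γ₀ hγ₀ hγ₀1 x (RGD.le_Sup (S := RGD.Pos cs h) ⟨isRoot_sr cs h i, sr_nonneg i⟩ hx) ?_
      have h6 : γ₀ x = x := by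
        by_contra hne'
        exact hmv ⟨γ₀, hγ₀, x, hx, hne'⟩
      rw [h6, inv_mul_cancel]
      exact one_mem _
    rw [hN] at h5
    exact hx1 (PF.inf i x hx h5)
  have hunm_of : ∀ i, Unmoved U Γ (PJ cs h T X {i}) → ¬ Mv X Γ i := by
    intro i hi hmv
    obtain ⟨x, hx, hx1⟩ := hne i
    have h5 := hi γ₀ hγ₀ x (RGD.le_Sup (S := RGD.Pos cs h) ⟨isRoot_sr cs h i, sr_nonneg i⟩ hx)
    have h6 := hmov i hmv γ₀ hγ₀ hγ₀1 x (RGD.le_Sup (S := RGD.Pos cs h) ⟨isRoot_sr cs h i, sr_nonneg i⟩ hx) h5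
    rw [hN] at h6
    exact hx1 (PF.inf i x hx h6)
  -- torus elements
  have hfpG : ∀ i, ∀ t ∈ T, (∀ x ∈ X (sr i), t * x * t⁻¹ = x → x = 1) →
      ∀ u ∈ U, t * u * t⁻¹ * u⁻¹ ∈ Qk (normalizer (U : Set Y)) (PJ cs h T X {i}) →
        u ∈ Qk (normalizer (U : Set Y)) (PJ cs h T X {i}) := by
    intro i t ht hf
    rw [hN]
    exact fpf_of_fpf (PF.dec i) (PF.inf i) (hBP i) (RGD.T_le_B ht) (hXP i) (hTX t ht i) hf
  have hcenG : ∀ i, ∀ t ∈ T, (∀ x ∈ X (sr i), t * x * t⁻¹ = x) →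
      ∀ u ∈ U, t * u * t⁻¹ * u⁻¹ ∈ Qk (normalizer (U : Set Y)) (PJ cs h T X {i}) := by
    intro i t ht hf
    rw [hN]
    exact comm_mem_of_cent (hUB.trans (hBP i)) (PF.dec i) (hBP i) (RGD.T_le_B ht) (hXP i) hf
  have hsepG : ∀ i j, SpOn T (X (sr i)) (X (sr j)) →
      SepG 2 (normalizer (U : Set Y)) U (PJ cs h T X {i}) (PJ cs h T X {j}) := by
    rintro i j ⟨t, ht, h5, h6⟩
    refine ⟨t, by rw [hN]; exact RGD.T_le_B ht, ⟨Nat.card T, Nat.coprime_two_left.2 hTc, hTodd t ht⟩,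
      hcenG i t ht h5, hfpG j t ht h6⟩
  have hlab : ∀ i j, i ≠ j → M i j = 2 ∨ M i j = 3 ∨ M i j = 4 := by
    intro i j hij
    rcases h.rel i j hij with h5 | h5 | h5 | h5
    · exact Or.inl h5.1
    · exact Or.inr (Or.inl h5.1)
    · exact Or.inr (Or.inr h5.1)
    · exact absurd h5.1 (h6 i j)
  refine
    { isP := R.isPGroup_Upos
      odd := ?_
      le := fun i => by rw [hN]; exact hBP i
      gen := PF.gen
      T_P := fun i γ hγ x hx => (hfixP γ hγ i x).2 hx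
      B_A := by rw [hN]; exact MF.BA
      dich := fun i => ?_
      moved := ?_
      five := fun i => ?_
      ptr := fun i => by rw [hN]; exact PF.ptr i
      reg := fun i => by rw [hN]; exact PF.reg i
      m_two := fun i j hij => ?_
      m_symm := fun i j => M.symmetric i j
      conn := ?_
      poly := fun i j hij => by rw [hN]; exact PF.poly i j hij
      frat := fun i j hij => ?_
      fpf := fun i => ?_
      sep := fun i j hij hh => ?_
      nbr := fun i hi hj => ?_ }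
  · -- odd
    have h5 : U.relIndex (normalizer (U : Set Y)) ∣ U.index := Subgroup.relIndex_dvd_index_of_le le_normalizer
    exact Odd.of_dvd_nat hidx h5
  · by_cases hi : Mv X Γ i
    · exact Or.inr (hmov i hi)
    · exact Or.inl (hunm i hi)
  · obtain ⟨i, hi⟩ := MF.mv
    exact ⟨i, hmov i hi⟩
  · rw [hN, PF.rel i]
    have := MF.four i
    omega
  · rcases hlab i j hij with h5 | h5 | h5 <;> omega
  · intro J hJ hJc
    obtain ⟨a, ha, b, hb, hab⟩ := hc J hJ (fun e => by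
      rw [e, Set.compl_univ] at hJc
      exact Set.not_nonempty_empty hJc)
    refine ⟨a, ha, b, hb, ?_⟩
    have hne' : a ≠ b := fun e => hb (e ▸ ha)
    rcases hlab a b hne' with h5 | h5 | h5 <;> omega
  · rw [hN]
    exact Cfsg.Agent.OmegaEnd.Frat.frat_row R hij (h6 i j) (fun h5 => KT.sep i j hij (Or.inl h5))
  · obtain ⟨t, ht, hf⟩ := KT.own i
    exact ⟨t, by rw [hN]; exact RGD.T_le_B ht.1, ⟨Nat.card T, Nat.coprime_two_left.2 hTc, hTodd t ht.1⟩,
      hfpG i t ht.1 hf⟩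
  · rcases hh with ⟨hi, hj⟩ | ⟨hi, hj⟩
    · obtain ⟨k, hk⟩ := MF.mv
      have hki : k ≠ i := fun e => hunm_of i hi (e ▸ hk)
      have hkj : k ≠ j := fun e => hunm_of j hj (e ▸ hk)
      exact (KT.sep i j hij (Or.inr ⟨k, hki, hkj⟩)).imp (hsepG i j) (hsepG j i)
    · exact absurd (MF.one i j (hmv_of i hi) (hmv_of j hj)) hij
  · have hmi := hmv_of i hi
    obtain ⟨a, ha, k, hk, hM⟩ := hc {i} ⟨i, rfl⟩ (fun e => by
      obtain ⟨j, hj⟩ := h2 i
      have : j ∈ ({i} : Set I) := by rw [e]; trivial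
      exact hj this)
    obtain rfl : a = i := ha
    have hka : a ≠ k := fun e => hk e.symm
    have hkm : ¬ Mv X Γ k := fun h5 => hka (MF.one _ _ hmi h5)
    obtain ⟨t, ht, hf⟩ := KT.fp a k hka hM
    exact ⟨k, hunm k hkm, t, by rw [hN]; exact RGD.T_le_B ht.1, PF.ncl k ht.2, ⟨Nat.card T, hTc, hTodd t ht.1⟩,
      hfpG a t ht.1 hf⟩

end main

end Cfsg.Agent.Omega.Lie.End

end

section


/-!
# The K-side: conjugation by elements of `S` (helper650)

`cG v Γ` : the conjugate of the group `Γ` of automorphisms by the inner automorphism of `v`; for `v ∈ S` it preserves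
`TAct`, `KSys` and `KExc`.
-/

set_option autoImplicit false

namespace Cfsg.Agent.Omega.Lie.End

open Subgroup Cfsg.Agent.ParSys

variable {K : Type*} [Group K]

/-- the conjugate of `Γ` by the inner automorphism of `v` -/
def cG (v : K) (Γ : Subgroup (MulAut K)) : Subgroup (MulAut K) := Γ.map (MulAut.conj (MulAut.conj v)).toMonoidHom

theorem cG_inv (v : K) (Γ : Subgroup (MulAut K)) : cG v⁻¹ (cG v Γ) = Γ := by
  ext δ
  constructor
  · rintro ⟨_, ⟨γ, hγ, rfl⟩, rfl⟩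
    have e : (MulAut.conj (MulAut.conj v⁻¹)).toMonoidHom ((MulAut.conj (MulAut.conj v)).toMonoidHom γ) = γ := by
      show MulAut.conj v⁻¹ * (MulAut.conj v * γ * (MulAut.conj v)⁻¹) * (MulAut.conj v⁻¹)⁻¹ = γ
      rw [map_inv]; group
    rw [e]
    exact hγ
  · intro hδ
    refine ⟨MulAut.conj v * δ * (MulAut.conj v)⁻¹, ⟨δ, hδ, rfl⟩, ?_⟩
    show MulAut.conj v⁻¹ * (MulAut.conj v * δ * (MulAut.conj v)⁻¹) * (MulAut.conj v⁻¹)⁻¹ = δ
    rw [map_inv]; group

theorem cG_apply (v : K) (γ : MulAut K) (x : K) :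
    (MulAut.conj v * γ * (MulAut.conj v)⁻¹) x = v * γ (v⁻¹ * x * v) * v⁻¹ := by
  simp only [MulAut.mul_apply, MulAut.conj_apply, ← map_inv, inv_inv]

theorem cG_comm (v : K) (γ : MulAut K) (x : K) :
    x⁻¹ * (MulAut.conj v * γ * (MulAut.conj v)⁻¹) x = v * ((v⁻¹ * x * v)⁻¹ * γ (v⁻¹ * x * v)) * v⁻¹ := by
  rw [cG_apply]; group

theorem card_cG (v : K) (Γ : Subgroup (MulAut K)) : Nat.card (cG v Γ) = Nat.card Γ :=
  (Nat.card_congr (Γ.equivMapOfInjective _ (MulAut.conj (MulAut.conj v)).injective).toEquiv).symm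

theorem AT_cG {S : Subgroup K} {v : K} (hv : v ∈ S) {Γ : Subgroup (MulAut K)} {a : K} (ha : a ∈ AT S (cG v Γ)) :
    v⁻¹ * a * v ∈ AT S Γ := by
  unfold AT at ha
  induction ha using Subgroup.closure_induction with
  | mem a ha =>
    obtain ⟨_, ⟨γ, hγ, rfl⟩, u, hu, rfl⟩ := ha
    refine subset_closure ⟨γ, hγ, v⁻¹ * u * v, mul_mem (mul_mem (inv_mem hv) hu) hv, ?_⟩
    show v⁻¹ * (u⁻¹ * (MulAut.conj v * γ * (MulAut.conj v)⁻¹) u) * v = _
    rw [cG_comm]; group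
  | one => simp
  | mul a b _ _ ha hb =>
    have e : v⁻¹ * (a * b) * v = v⁻¹ * a * v * (v⁻¹ * b * v) := by group
    rw [e]; exact mul_mem ha hb
  | inv a _ ha =>
    have e : v⁻¹ * a⁻¹ * v = (v⁻¹ * a * v)⁻¹ := by group
    rw [e]; exact inv_mem ha

theorem AT_cG_iff {S : Subgroup K} {v : K} (hv : v ∈ S) {Γ : Subgroup (MulAut K)} {a : K} :
    a ∈ AT S (cG v Γ) ↔ v⁻¹ * a * v ∈ AT S Γ := by
  refine ⟨AT_cG hv, fun h1 => ?_⟩
  rw [← cG_inv v Γ] at h1
  have h2 := AT_cG (inv_mem hv) h1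
  have e : v⁻¹⁻¹ * (v⁻¹ * a * v) * v⁻¹ = a := by group
  rwa [e] at h2

theorem TAct.cG {S : Subgroup K} {v : K} (hv : v ∈ S) {Γ : Subgroup (MulAut K)} (hT : TAct S Γ) :
    TAct S (cG v Γ) where
  comm := by
    rintro _ ⟨s, hs, rfl⟩ _ ⟨t, ht, rfl⟩
    rw [← map_mul, ← map_mul, hT.comm s hs t ht]
  odd := by rw [card_cG]; exact hT.odd
  three := by rw [card_cG]; exact hT.three
  stab := by
    rintro _ ⟨t, ht, rfl⟩ u hu
    show (MulAut.conj v * t * (MulAut.conj v)⁻¹) u ∈ S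
    rw [cG_apply]
    exact mul_mem (mul_mem hv (hT.stab t ht _ (mul_mem (mul_mem (inv_mem hv) hu) hv))) (inv_mem hv)
  ab a ha b hb := by
    rw [AT_cG_iff hv] at ha hb
    have h1 := hT.ab _ ha _ hb
    have h2 := congrArg (fun x => v * x * v⁻¹) h1
    have e1 : v * (v⁻¹ * a * v * (v⁻¹ * b * v)) * v⁻¹ = a * b := by group
    have e2 : v * (v⁻¹ * b * v * (v⁻¹ * a * v)) * v⁻¹ = b * a := by group
    rwa [e1, e2] at h2
  sq a ha := by
    rw [AT_cG_iff hv] at ha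
    have h2 := congrArg (fun x => v * x * v⁻¹) (hT.sq _ ha)
    have e1 : v * (v⁻¹ * a * v * (v⁻¹ * a * v)) * v⁻¹ = a * a := by group
    rwa [e1, mul_one, mul_inv_cancel] at h2
  fpf := by
    rintro _ ⟨t, ht, rfl⟩ ht1 a ha hta
    rw [AT_cG_iff hv] at ha
    have ht' : t ≠ 1 := fun h => ht1 (by rw [h, map_one])
    have h1 : (MulAut.conj v * t * (MulAut.conj v)⁻¹) a = a := hta
    rw [cG_apply] at h1
    have h2 : t (v⁻¹ * a * v) = v⁻¹ * a * v := by
      have h3 := congrArg (fun x => v⁻¹ * x * v) h1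
      have e : v⁻¹ * (v * t (v⁻¹ * a * v) * v⁻¹) * v = t (v⁻¹ * a * v) := by group
      rwa [e] at h3
    have h3 := hT.fpf t ht ht' _ ha h2
    have h4 := congrArg (fun x => v * x * v⁻¹) h3
    have e1 : v * (v⁻¹ * a * v) * v⁻¹ = a := by group
    rwa [e1, mul_one, mul_inv_cancel] at h4
  scal := by
    rintro _ ⟨t, ht, rfl⟩ _ ⟨t', ht', rfl⟩ hne
    obtain ⟨t'', ht'', h1⟩ := hT.scal t ht t' ht' (fun h => hne (by rw [h]))
    refine ⟨_, ⟨t'', ht'', rfl⟩, fun a ha => ?_⟩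
    rw [AT_cG_iff hv] at ha
    show (MulAut.conj v * t * (MulAut.conj v)⁻¹) a * (MulAut.conj v * t' * (MulAut.conj v)⁻¹) a =
      (MulAut.conj v * t'' * (MulAut.conj v)⁻¹) a
    rw [cG_apply, cG_apply, cG_apply, ← h1 _ ha]; group
  ne h := by
    apply hT.ne
    rw [eq_bot_iff]
    intro a ha
    have h1 : v * a * v⁻¹ ∈ AT S (Cfsg.Agent.Omega.Lie.End.cG v Γ) := by
      rw [AT_cG_iff hv]
      have e : v⁻¹ * (v * a * v⁻¹) * v = a := by group
      rwa [e]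
    rw [h, mem_bot] at h1
    rw [mem_bot]
    have h4 := congrArg (fun x => v⁻¹ * x * v) h1
    have e1 : v⁻¹ * (v * a * v⁻¹) * v = a := by group
    rwa [e1, mul_one, inv_mul_cancel] at h4

theorem Unmoved.cG {S P : Subgroup K} {v : K} (hv : v ∈ S) (hP : normalizer (S : Set K) ≤ P)
    {Γ : Subgroup (MulAut K)} (hT : Unmoved S Γ P) : Unmoved S (cG v Γ) P := by
  rintro _ ⟨t, ht, rfl⟩ u hu
  show u⁻¹ * (MulAut.conj v * t * (MulAut.conj v)⁻¹) u ∈ _
  rw [cG_comm]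
  exact Qk_conj' (hT t ht _ (mul_mem (mul_mem (inv_mem hv) hu) hv)) (hP (le_normalizer hv))

theorem Moved.cG {S P : Subgroup K} {v : K} (hv : v ∈ S) (hP : normalizer (S : Set K) ≤ P)
    {Γ : Subgroup (MulAut K)} (hT : Moved S Γ P) : Moved S (cG v Γ) P := by
  rintro _ ⟨t, ht, rfl⟩ ht1 u hu h1
  have hvP := hP (le_normalizer hv)
  have ht' : t ≠ 1 := fun h => ht1 (by rw [h, map_one])
  have h2 : u⁻¹ * (MulAut.conj v * t * (MulAut.conj v)⁻¹) u ∈ Qk (normalizer (S : Set K)) P := h1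
  rw [cG_comm] at h2
  have h3 := Qk_conj h2 hvP
  have e : v⁻¹ * (v * ((v⁻¹ * u * v)⁻¹ * t (v⁻¹ * u * v)) * v⁻¹) * v = (v⁻¹ * u * v)⁻¹ * t (v⁻¹ * u * v) := by group
  rw [e] at h3
  have h4 := Qk_conj' (hT t ht ht' _ (mul_mem (mul_mem (inv_mem hv) hu) hv) h3) hvP
  have e1 : v * (v⁻¹ * u * v) * v⁻¹ = u := by group
  rwa [e1] at h4

theorem Unmoved.of_cG {S P : Subgroup K} {v : K} (hv : v ∈ S) (hP : normalizer (S : Set K) ≤ P)
    {Γ : Subgroup (MulAut K)} (hT : Unmoved S (Cfsg.Agent.Omega.Lie.End.cG v Γ) P) : Unmoved S Γ P := by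
  have h1 := hT.cG (inv_mem hv) hP
  rwa [cG_inv] at h1

theorem Moved.of_cG {S P : Subgroup K} {v : K} (hv : v ∈ S) (hP : normalizer (S : Set K) ≤ P)
    {Γ : Subgroup (MulAut K)} (hT : Moved S (Cfsg.Agent.Omega.Lie.End.cG v Γ) P) : Moved S Γ P := by
  have h1 := hT.cG (inv_mem hv) hP
  rwa [cG_inv] at h1

/-- `KSys` does not change under conjugation of the group of automorphisms by an element of `S`. -/
theorem KSys.of_cG {S : Subgroup K} {v : K} (hv : v ∈ S) {Γ : Subgroup (MulAut K)} {J : Type} {P : J → Subgroup K}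
    {m : J → J → ℕ} (h : KSys S (Cfsg.Agent.Omega.Lie.End.cG v Γ) P m) : KSys S Γ P m where
  isP := h.isP
  odd := h.odd
  le := h.le
  gen := h.gen
  T_P i t ht x hx := by
    have hvP := h.le i (le_normalizer hv)
    have h1 : v * x * v⁻¹ ∈ P i := mul_mem (mul_mem hvP hx) (inv_mem hvP)
    have h2 : (MulAut.conj v * t * (MulAut.conj v)⁻¹) (v * x * v⁻¹) ∈ P i := h.T_P i _ ⟨t, ht, rfl⟩ _ h1
    rw [cG_apply] at h2
    have e : v⁻¹ * (v * x * v⁻¹) * v = x := by group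
    rw [e] at h2
    have h3 := mul_mem (mul_mem (inv_mem hvP) h2) hvP
    have e1 : v⁻¹ * (v * t x * v⁻¹) * v = t x := by group
    rwa [e1] at h3
  B_A b hb a ha := by
    have hvN := le_normalizer hv
    have h1 : v * b * v⁻¹ ∈ normalizer (S : Set K) := mul_mem (mul_mem hvN hb) (inv_mem hvN)
    have h2 : v * a * v⁻¹ ∈ AT S (Cfsg.Agent.Omega.Lie.End.cG v Γ) := by
      rw [AT_cG_iff hv]
      have e : v⁻¹ * (v * a * v⁻¹) * v = a := by group
      rwa [e]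
    have h3 := h.B_A _ h1 _ h2
    rw [AT_cG_iff hv] at h3
    have e : v⁻¹ * (v * b * v⁻¹ * (v * a * v⁻¹) * (v * b * v⁻¹)⁻¹) * v = b * a * b⁻¹ := by group
    rwa [e] at h3
  dich i := (h.dich i).imp (fun h1 => h1.of_cG hv (h.le i)) (fun h1 => h1.of_cG hv (h.le i))
  moved := by
    obtain ⟨i, hi⟩ := h.moved
    exact ⟨i, hi.of_cG hv (h.le i)⟩
  five := h.five
  ptr := h.ptr
  reg := h.reg
  m_two := h.m_two
  m_symm := h.m_symm
  conn := h.conn
  poly := h.poly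
  frat := h.frat
  fpf := h.fpf
  sep i j hij h1 := h.sep i j hij (h1.imp (fun h2 => ⟨h2.1.cG hv (h.le i), h2.2.cG hv (h.le j)⟩)
    (fun h2 => ⟨h2.1.cG hv (h.le i), h2.2.cG hv (h.le j)⟩))
  nbr i hi hj := by
    obtain ⟨k, hk, b, hb⟩ := h.nbr i (hi.cG hv (h.le i)) hj
    exact ⟨k, hk.of_cG hv (h.le k), b, hb⟩

end Cfsg.Agent.Omega.Lie.End

end

section


/-!
# The K-side: conjugation into the frame group (helper650)

`exists_conj_frame` : an abelian group of odd order of automorphisms fixing `U` is conjugate under `U` to a subgroup of the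
frame group (automorphisms fixing `U` and `U⁻`).
-/

set_option autoImplicit false

namespace Cfsg.Agent.Omega.Lie.End

open Subgroup CoxeterSystem Cfsg.Agent.ChevalleyStructure.CoxeterGeom Cfsg.Agent.Tits.Roots Cfsg.Agent.Tits.Core
  Cfsg.Agent.Tits.RootComb Cfsg.Agent.Nodes.Comb Cfsg.Agent.Nodes.Reps Cfsg.Agent.Nodes.BNOf
  Cfsg.Agent.Nodes.Bruhat Cfsg.Agent.Nodes.OppDec
  Cfsg.Agent.KFacts.RgdOpp Cfsg.Agent.KFacts.RgdAut Cfsg.Agent.KFacts.RgdRigid Cfsg.Agent.KFacts.RgdTau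
open scoped Pointwise

variable {I W Y : Type*} [Fintype I] [DecidableEq I] [Group W] [Group Y] {M : CoxeterMatrix I}
  {cs : CoxeterSystem M W} {A : I → I → ℤ} {h : IsCartan M A} {T : Subgroup Y} {n : I → Y}
  {X : (I → ℤ) → Subgroup Y}

theorem exists_conj_frame [Finite W] [Finite Y] (R : RGD cs h 2 T n X) (hG : GG cs h T X = ⊤)
    {Γ : Subgroup (MulAut Y)} (hodd : Odd (Nat.card Γ)) (hcomm : ∀ s ∈ Γ, ∀ t ∈ Γ, s * t = t * s)
    (hfix : ∀ γ ∈ Γ, _root_.Cfsg.Agent.KFacts.RgdAut.Fix γ (RGD.Sup X (RGD.Pos cs h))) :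
    ∃ v ∈ RGD.Sup X (RGD.Pos cs h), ∀ γ ∈ Γ, MulAut.conj v * γ * (MulAut.conj v)⁻¹ ∈ Frame cs h X := by
  have : Fact (Nat.Prime 2) := ⟨Nat.prime_two⟩
  have : Finite (MulAut Y) := by
    exact Finite.of_injective (fun e : MulAut Y => (e : Y → Y)) fun a b hab => MulEquiv.ext (congrFun hab)
  set U := RGD.Sup X (RGD.Pos cs h) with hU
  have hUp : IsPGroup 2 U := R.isPGroup_Upos
  obtain ⟨f, hf⟩ := exists_toFrame R hG Γ hfix
  set V : Subgroup (MulAut Y) := U.map MulAut.conj with hV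
  have hVp : IsPGroup 2 V := hUp.map _
  have hΓN : Γ ≤ normalizer (V : Set (MulAut Y)) := by
    intro γ hγ
    rw [Subgroup.mem_normalizer_iff]
    have key : ∀ γ ∈ Γ, ∀ δ ∈ V, γ * δ * γ⁻¹ ∈ V := by
      rintro γ hγ _ ⟨u, hu, rfl⟩
      refine ⟨γ u, (hfix γ hγ u).2 hu, ?_⟩
      ext y
      simp only [MulAut.mul_apply, MulAut.conj_apply, map_mul, map_inv, MulAut.apply_inv_self]
    intro δ
    refine ⟨key γ hγ δ, fun h1 => ?_⟩
    have h2 := key γ⁻¹ (inv_mem hγ) _ h1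
    have e : γ⁻¹ * (γ * δ * γ⁻¹) * γ⁻¹⁻¹ = δ := by group
    rwa [e] at h2
  have hcop : (Nat.card Γ).Coprime (Nat.card V) := by
    obtain ⟨k, hk⟩ := (IsPGroup.iff_card (p := 2)).1 hVp
    rw [hk]
    exact (Nat.Coprime.pow_right k (Nat.coprime_two_right.2 hodd))
  have hinj : Function.Injective f := by
    rw [injective_iff_map_eq_one]
    intro γ hγ
    obtain ⟨u, hu, e⟩ := (hf γ).2.2.2.1.1 hγ
    have h1 : (γ : MulAut Y) ∈ V := ⟨u, hu, e.symm⟩
    have h2 : Disjoint Γ V := Subgroup.disjoint_of_coprime_natCard hcop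
    have h3 : (γ : MulAut Y) ∈ Γ ⊓ V := ⟨γ.2, h1⟩
    rw [disjoint_iff.1 h2, Subgroup.mem_bot] at h3
    exact Subtype.ext h3
  have hcard : Nat.card f.range = Nat.card Γ := (Nat.card_congr (MonoidHom.ofInjective hinj).toEquiv).symm
  have hle : f.range ≤ Γ ⊔ V := by
    rintro _ ⟨γ, rfl⟩
    obtain ⟨u, hu, e⟩ := (hf γ).2.1
    rw [e]
    exact mul_mem (Subgroup.mem_sup_right ⟨u, hu, rfl⟩) (Subgroup.mem_sup_left γ.2)
  have hsol : Group.IsSolvable Γ := Group.isSolvable_of_comm fun a b => Subtype.ext (hcomm a a.2 b b.2)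
  obtain ⟨k, hk, hkΓ⟩ := Solvable.Glauberman.exists_conj_of_le_sup Γ V hΓN hcop (Or.inl hsol) f.range hle hcard
  obtain ⟨v, hv, rfl⟩ := hk
  refine ⟨v, hv, fun γ hγ => ?_⟩
  have h1 : MulAut.conj v * γ * (MulAut.conj v)⁻¹ ∈ MulAut.conj (MulAut.conj v) • Γ := by
    rw [Subgroup.mem_smul_pointwise_iff_exists]
    exact ⟨γ, hγ, rfl⟩
  rw [hkΓ] at h1
  obtain ⟨δ, hδ⟩ := h1
  rw [← hδ]
  exact (hf δ).1

end Cfsg.Agent.Omega.Lie.End

end

section


/-!
# The K-side: the rows of rank `≥ 2` (helper650)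

* `MRest`, `MovAll` : helper469's results on the moved nodes;
* `ksys_row` : `KSys` for a group `K` with a root group datum;
* `row_side` : `KSys` for a perfect central extension of odd degree of a row.
-/

set_option autoImplicit false
set_option linter.unusedSectionVars false

namespace Cfsg.Agent.Omega.Lie.End

open Subgroup CoxeterSystem Cfsg.Agent.ChevalleyStructure.CoxeterGeom Cfsg.Agent.Tits.Roots Cfsg.Agent.Tits.Core
  Cfsg.Agent.Tits.RootComb Cfsg.Agent.Nodes.Comb Cfsg.Agent.Nodes.Reps Cfsg.Agent.Nodes.BNOf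
  Cfsg.Agent.Nodes.Bruhat Cfsg.Agent.Nodes.StabComb Cfsg.Agent.Nodes.LeviDec Cfsg.Agent.Nodes.RGDLift
  Cfsg.Agent.KFacts.RgdAut Cfsg.Agent.KFacts.RgdDiag Cfsg.Agent.KFacts.RgdRigid Cfsg.Agent.KFacts.RgdCharP
  Cfsg.Agent.ParSys Cfsg.Agent.Omega.Lie.End.Mov
open scoped commutatorElement

theorem AA_eq_AT {Y : Type*} [Group Y] (U : Subgroup Y) (Γ : Subgroup (MulAut Y)) : AA U Γ = AT U Γ := by
  unfold AA AT
  congr 1
  ext x
  constructor
  · rintro ⟨s, hs, γ, hγ, e⟩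
    exact ⟨γ, hγ, s, hs, e⟩
  · rintro ⟨γ, hγ, s, hs, e⟩
    exact ⟨s, hs, γ, hγ, e⟩

section

variable {I : Type} {W Y : Type*} [Fintype I] [DecidableEq I] [Group W] [Group Y] {M : CoxeterMatrix I}
  {cs : CoxeterSystem M W} {A : I → I → ℤ} {h : IsCartan M A} {T : Subgroup Y} {n : I → Y}
  {X : (I → ℤ) → Subgroup Y} {Γ : Subgroup (MulAut Y)}

theorem act_of_tact [Finite Y] (hT : TAct (RGD.Sup X (RGD.Pos cs h)) Γ) (hF : ∀ γ ∈ Γ, γ ∈ Frame cs h X) :
    Act cs h X Γ where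
  frame := hF
  odd γ hγ := Odd.of_dvd_nat hT.odd (Subgroup.orderOf_dvd_natCard Γ hγ)
  ab := by rw [AA_eq_AT]; exact hT.ab
  fpf := by rw [AA_eq_AT]; exact hT.fpf
  ne := by rw [AA_eq_AT]; exact hT.ne

/-- The rest of the facts on the moved nodes. -/
structure MRest (cs : CoxeterSystem M W) (h : IsCartan M A) (T : Subgroup Y) (X : (I → ℤ) → Subgroup Y)
    (Γ : Subgroup (MulAut Y)) : Prop where
  four : ∀ i, 4 ≤ Nat.card (X (sr i))
  sq : ∀ i, ∀ x ∈ X (sr i), x * x = 1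
  one : ∀ i j, Mv X Γ i → Mv X Γ j → i = j
  conj : ∀ i j, Mv X Γ i → ¬ Mv X Γ j → X (rep cs h (cs.simple j) (sr i)) ≤ AA (RGD.Sup X (RGD.Pos cs h)) Γ
  BA : (∀ i j, M i j ≠ 6) → ∀ b ∈ RGD.B cs h T X, ∀ a ∈ AA (RGD.Sup X (RGD.Pos cs h)) Γ,
    b * a * b⁻¹ ∈ AA (RGD.Sup X (RGD.Pos cs h)) Γ

/-- **`KSys` for a group with a root group datum**, the group of automorphisms in the frame group. -/
theorem ksys_frame [Finite W] [Finite Y] (R : RGD cs h 2 T n X) (hG1 : RGD.Sup X {x | IsRoot cs h x} = ⊤)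
    (hc : Conn M) (h2 : ∀ i : I, ∃ j, j ≠ i) (hidx : Odd (RGD.Sup X (RGD.Pos cs h)).index)
    (hT : TAct (RGD.Sup X (RGD.Pos cs h)) Γ) (hF : ∀ γ ∈ Γ, γ ∈ Frame cs h X) (MR : MRest cs h T X Γ)
    (KT : (∀ i j, M i j ≠ 6) → (∀ i, 4 ≤ Nat.card (X (sr i))) → (∀ i, ∀ x ∈ X (sr i), x * x = 1) → KTor M T X)
    (h6 : ∀ i j, M i j = 6 → (∀ k, k = i ∨ k = j) ∧ NComm (X (sr i)) (X (rep cs h (cs.simple j) (sr i)))) :
    KSys (RGD.Sup X (RGD.Pos cs h)) Γ (fun i => PJ cs h T X {i}) (fun i j => M i j) := by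
  have hA := act_of_tact hT hF
  have hmv := hA.exists_mv R hG1 hc
  have : Nonempty I := ⟨hmv.choose⟩
  -- no `M i j = 6`
  have key : ∀ i j, i ≠ j → Mv X Γ i → M i j = 6 → False := by
    intro i j hij hi hM
    obtain ⟨-, x, hx, y, hy, hxy⟩ := h6 i j hM
    have hj : ¬ Mv X Γ j := fun hj => hij (MR.one i j hi hj)
    exact hxy (hA.ab x (hA.le_AA R hG1 hc h2 hi hx) y (MR.conj i j hi hj hy))
  have h6' : ∀ i j, M i j ≠ 6 := by
    intro i j hM
    have hij : i ≠ j := by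
      rintro rfl
      rw [M.diagonal] at hM
      omega
    obtain ⟨hall, -⟩ := h6 i j hM
    obtain ⟨k, hk⟩ := hmv
    rcases hall k with rfl | rfl
    · exact key _ _ hij hk hM
    · exact key _ _ hij.symm hk (by rw [M.symmetric]; exact hM)
  refine ksys_of R hG1 hc h6' (pfacts R hG1) (KT h6' MR.four MR.sq) ?_ hidx hT.three h2
  exact
    { fixU := fun γ hγ => (hF γ hγ).1
      diag := fun γ hγ => hA.diag_one R hG1 hc hγ
      fpf := fun i hi γ hγ hγ1 x hx e => hA.fpf_node R hG1 hc h2 hi hγ hγ1 hx e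
      mv := hmv
      one := MR.one
      four := MR.four
      BA := by rw [← AA_eq_AT]; exact MR.BA h6' }

theorem eq_top_of_map {K : Type*} [Group K] {f : K →* Y} (hf : f.ker ≤ center K) (hperf : commutator K = ⊤)
    {H : Subgroup K} (hH : H.map f = ⊤) : H = ⊤ := by
  have h1 : ∀ x : K, ∃ a ∈ H, ∃ z ∈ center K, x = a * z := by
    intro x
    have h2 : f x ∈ H.map f := by rw [hH]; exact mem_top _
    obtain ⟨a, ha, e⟩ := h2
    refine ⟨a, ha, a⁻¹ * x, hf ?_, by group⟩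
    rw [MonoidHom.mem_ker, map_mul, map_inv, e, inv_mul_cancel]
  rw [eq_top_iff, ← hperf, commutator_def, Subgroup.commutator_le]
  intro x _ y _
  obtain ⟨a, ha, z, hz, rfl⟩ := h1 x
  obtain ⟨b, hb, w, hw, rfl⟩ := h1 y
  rw [Subgroup.mem_center_iff] at hz hw
  have e : ⁅a * z, b * w⁆ = ⁅a, b⁆ := by
    rw [commutatorElement_def, commutatorElement_def]
    have hw' : ∀ g : K, g * w⁻¹ = w⁻¹ * g := fun g => by
      have := hw g
      calc g * w⁻¹ = w⁻¹ * (w * g) * w⁻¹ := by group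
        _ = w⁻¹ * (g * w) * w⁻¹ := by rw [this]
        _ = w⁻¹ * g := by group
    have hz' : ∀ g : K, g * z⁻¹ = z⁻¹ * g := fun g => by
      have := hz g
      calc g * z⁻¹ = z⁻¹ * (z * g) * z⁻¹ := by group
        _ = z⁻¹ * (g * z) * z⁻¹ := by rw [this]
        _ = z⁻¹ * g := by group
    calc a * z * (b * w) * (a * z)⁻¹ * (b * w)⁻¹ = a * (z * b) * w * z⁻¹ * a⁻¹ * w⁻¹ * b⁻¹ := by group
      _ = a * (b * z) * w * z⁻¹ * a⁻¹ * w⁻¹ * b⁻¹ := by rw [hz b]
      _ = a * b * (z * w) * z⁻¹ * a⁻¹ * w⁻¹ * b⁻¹ := by group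
      _ = a * b * (w * z) * z⁻¹ * a⁻¹ * w⁻¹ * b⁻¹ := by rw [hz w]
      _ = a * b * w * (a⁻¹ * w⁻¹) * b⁻¹ := by group
      _ = a * b * w * (w⁻¹ * a⁻¹) * b⁻¹ := by rw [hw' a⁻¹]
      _ = a * b * a⁻¹ * b⁻¹ := by group
  rw [e, commutatorElement_def]
  exact mul_mem (mul_mem (mul_mem ha hb) (inv_mem ha)) (inv_mem hb)

end

universe u

/-- helper469's theorem. -/
def MovAll : Prop :=
  ∀ (K : Type u) [Group K] [Finite K] (l : ℕ) (M : CoxeterMatrix (Fin l)) (A : Fin l → Fin l → ℤ) (h : IsCartan M A)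
    (T : Subgroup K) (n : Fin l → K) (X : (Fin l → ℤ) → Subgroup K) (Γ : Subgroup (MulAut K)), Finite M.Group →
    RGD M.toCoxeterSystem h 2 T n X → RGD.Sup X {x | IsRoot M.toCoxeterSystem h x} = ⊤ → Conn M →
    (∀ i : Fin l, ∃ j, j ≠ i) → Act M.toCoxeterSystem h X Γ →
    (∀ a ∈ AA (RGD.Sup X (RGD.Pos M.toCoxeterSystem h)) Γ, a * a = 1) → MRest M.toCoxeterSystem h T X Γ

/-- **The rows of rank `≥ 2`.** -/
theorem row_sideX (hmov : MovAll.{u}) {K : Type u} [Group K] [Finite K] {Y : Type u} [Group Y] [Finite Y] (f : K →* Y)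
    (hf : f.ker ≤ center K) (hp : Odd (Nat.card f.ker)) (hs : Function.Surjective f) (hperf : commutator K = ⊤)
    (hr : HasRow Y) (S : Sylow 2 K) {Γ : Subgroup (MulAut K)} (hT : TAct (S : Subgroup K) Γ) :
    ∃ (J : Type) (_ : Finite J) (P : J → Subgroup K) (m : J → J → ℕ), KSys (S : Subgroup K) Γ P m ∧
      Opp (normalizer ((S : Subgroup K) : Set K)) (S : Subgroup K) P ∧ OneL K J := by
  have : Fact (Nat.Prime 2) := ⟨Nat.prime_two⟩
  obtain ⟨l, M, A, h, T, n, X, hW, R, hG1, hr⟩ := hr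
  have : Finite M.Group := hW
  set cs := M.toCoxeterSystem with hcs
  -- `U` is a Sylow subgroup of `Y`
  let Q : Sylow 2 Y :=
    { toSubgroup := RGD.Sup X (RGD.Pos cs h)
      isPGroup' := R.isPGroup_Upos
      is_maximal' := fun {P} hP hUP => by
        have hG : GG cs h T X = ⊤ := Cfsg.Agent.KFacts.RgdRigid.GG_eq_top hG1
        exact Cfsg.Agent.KFacts.RgdEx.eq_U R hUP (by rw [hG]; exact le_top) hP }
  obtain ⟨g, hg⟩ := MulAction.exists_smul_eq Y (S.mapSurjective hs) Q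
  -- adjust `f`
  obtain ⟨f', hf'⟩ : ∃ f' : K →* Y, ∀ x, f' x = g * f x * g⁻¹ :=
    ⟨(MulAut.conj g).toMonoidHom.comp f, fun x => rfl⟩
  have hker : f'.ker = f.ker := by
    ext x
    rw [MonoidHom.mem_ker, MonoidHom.mem_ker, hf']
    constructor
    · intro e
      have e1 : g⁻¹ * (g * f x * g⁻¹) * g = f x := by group
      rw [← e1, e]; group
    · intro e
      rw [e]; group
  have hf1 : f'.ker ≤ center K := by rw [hker]; exact hf
  have hp1 : (Nat.card f'.ker).Coprime 2 := by rw [hker]; exact Nat.coprime_two_right.2 hp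
  have hs1 : Function.Surjective f' := by
    intro y
    obtain ⟨x, hx⟩ := hs (g⁻¹ * y * g)
    exact ⟨x, by rw [hf', hx]; group⟩
  have hSmap : (S : Subgroup K).map f' = RGD.Sup X (RGD.Pos cs h) := by
    have h1 : ((g • S.mapSurjective hs : Sylow 2 Y) : Subgroup Y) = RGD.Sup X (RGD.Pos cs h) := by
      rw [hg]
    rw [← h1]
    ext y
    constructor
    · rintro ⟨x, hx, rfl⟩
      rw [hf']
      exact ⟨f x, ⟨x, hx, rfl⟩, rfl⟩
    · rintro ⟨_, ⟨x, hx, rfl⟩, rfl⟩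
      exact ⟨x, hx, hf' x⟩
  -- the lifted root group datum
  choose n' hn' using fun i => hs1 (n i)
  have R' := rgd_lift hf1 hp1 hs1 R hn'
  set T' := T.comap f' with hT'
  set X' : (Fin l → ℤ) → Subgroup K := fun x => lft 2 f' (X x) with hX'
  have hU : RGD.Sup X' (RGD.Pos cs h) = (S : Subgroup K) := by
    have h1 : lft 2 f' (RGD.Sup X (RGD.Pos cs h)) = RGD.Sup X' (RGD.Pos cs h) :=
      lft_iSup hf1 hp1 hs1 _ R.isPGroup_Upos
    rw [← h1]
    exact (eq_lft hf1 hp1 R.isPGroup_Upos S.2 hSmap).symm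
  have hG1' : RGD.Sup X' {x | IsRoot cs h x} = ⊤ := by
    refine eq_top_of_map hf1 hperf ?_
    rw [eq_top_iff, ← hG1]
    refine RGD.Sup_le fun x hx => ?_
    rw [← map_lft hf1 hp1 hs1 (R.pgrp' hx)]
    exact Subgroup.map_mono (RGD.le_Sup (X := X') (S := {x | IsRoot cs h x}) hx)
  have h2 : ∀ i : Fin l, ∃ j, j ≠ i := by
    intro i
    obtain ⟨a, b, hab⟩ := hr.two
    by_cases h3 : a = i
    · exact ⟨b, fun e => hab (h3.trans e.symm)⟩
    · exact ⟨a, h3⟩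
  -- the action
  rw [← hU] at hT ⊢
  have hidx : Odd (RGD.Sup X' (RGD.Pos cs h)).index := by
    rw [hU]
    have := S.not_dvd_index
    rwa [← even_iff_two_dvd, Nat.not_even_iff_odd] at this
  have hGG : GG cs h T' X' = ⊤ := Cfsg.Agent.KFacts.RgdRigid.GG_eq_top hG1'
  obtain ⟨v, hv, hvF⟩ := exists_conj_frame R' hGG hT.odd hT.comm (fun γ hγ x => by
    refine ⟨fun h3 => ?_, hT.stab γ hγ x⟩
    have h4 := hT.stab γ⁻¹ (inv_mem hγ) _ h3
    rwa [MulAut.inv_apply_self] at h4)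
  have hT1 := hT.cG hv
  have hF : ∀ γ ∈ cG v Γ, γ ∈ Frame cs h X' := by
    rintro _ ⟨γ, hγ, rfl⟩
    exact hvF γ hγ
  have MR := hmov K l M A h T' n' X' (cG v Γ) hW R' hG1' hr.conn h2 (act_of_tact hT1 hF)
    (by rw [AA_eq_AT]; exact hT1.sq)
  have hks : KSys (RGD.Sup X' (RGD.Pos cs h)) (cG v Γ) (fun i => PJ cs h T' X' {i}) (fun i j => M i j) := by
    refine ksys_frame R' hG1' hr.conn h2 hidx hT1 hF MR (fun h6 big ex => ?_) (fun i j hM => ?_)
    · refine KTor.lift hf1 hp1 hs1 R (hr.kTor R h6 (fun k => ?_) (fun k => ?_))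
      · rw [← card_lft hf1 hp1 hs1 (R.pgrp k)]
        exact big k
      · exact sq_of_lft hf1 hp1 hs1 (R.pgrp k) (ex k)
    · obtain ⟨h7, h8⟩ := hr.six i j hM
      exact ⟨h7, h8.lift hf1 hp1 hs1 (R.pgrp i) (R.pgrp' ((isRoot_sr cs h i).act _))⟩
  refine ⟨Fin l, inferInstance, _, _, KSys.of_cG hv hks, ?_, fun hone => ?_⟩
  · rw [normalizer_U' R' hGG]
    exact Opp.of_rgd R' hGG
  · obtain ⟨a, b, hab⟩ := hr.two
    exact absurd (hone a b) hab

end Cfsg.Agent.Omega.Lie.End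

end

section


/-!
# The facts on the moved nodes in the form `MRest` of `KFin`
-/

set_option autoImplicit false
set_option linter.unusedSectionVars false

namespace Cfsg.Agent.Omega.Lie.End

open CoxeterSystem Cfsg.Agent.ChevalleyStructure.CoxeterGeom Cfsg.Agent.Tits.Roots Cfsg.Agent.Tits.Core
  Cfsg.Agent.Tits.RootComb Cfsg.Agent.Tits.Exchange Cfsg.Agent.Nodes.Comb Cfsg.Agent.Nodes.Reps Cfsg.Agent.Nodes.BNOf
  Cfsg.Agent.Nodes.StabComb Cfsg.Agent.KFacts.RgdCharP Cfsg.Agent.Omega.Lie.End.Mov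

variable {I : Type} {W Y : Type*} [Fintype I] [DecidableEq I] [Group W] [Group Y] {M : CoxeterMatrix I}
  {cs : CoxeterSystem M W} {A : I → I → ℤ} {h : IsCartan M A} {T : Subgroup Y} {n : I → Y}
  {X : (I → ℤ) → Subgroup Y} {Γ : Subgroup (MulAut Y)}

/-- **The facts on the moved nodes.** -/
theorem mrest [Finite W] [Finite Y] (R : RGD cs h 2 T n X) (hG1 : RGD.Sup X {x | IsRoot cs h x} = ⊤)
    (hc : Conn M) (h2 : ∀ i : I, ∃ j, j ≠ i) (H : Act cs h X Γ)
    (hsq : ∀ a ∈ AA (RGD.Sup X (RGD.Pos cs h)) Γ, a * a = 1) : MRest cs h T X Γ where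
  four i := H.four R hG1 hc rfl h2 i
  sq _ _ hx := H.el R hG1 hc h2 hsq hx
  one _ _ hi hj := H.one R hG1 hc h2 hi hj
  conj i j hi hj := H.conj_le R hG1 hc h2 hi (w := cs.simple j) (simple_mem_WJ cs (show j ∈ Un X Γ from hj))
  BA h6 _ hb _ ha := H.B_AA R hG1 hc h2 h6 hb ha

universe u

/-- **helper650's `MovAll`.** -/
theorem movAll : MovAll.{u} := by
  intro K _ _ l M A h T n X Γ hW R hG1 hc h2 H hsq
  have : Finite M.Group := hW
  exact mrest R hG1 hc h2 H hsq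

end Cfsg.Agent.Omega.Lie.End

end

section


/-!
# Transport of rows along isomorphisms
-/

set_option autoImplicit false
set_option linter.unusedSectionVars false

namespace Cfsg.Agent.Omega.Lie.End

open Subgroup CoxeterSystem Cfsg.Agent.ChevalleyStructure.CoxeterGeom Cfsg.Agent.Tits.Roots Cfsg.Agent.Tits.Core
  Cfsg.Agent.Tits.RootComb Cfsg.Agent.Nodes.Comb Cfsg.Agent.Nodes.Reps Cfsg.Agent.Nodes.BNOf
  Cfsg.Agent.KFacts.RgdCharP

variable {I W Y Z : Type*} [Fintype I] [DecidableEq I] [Group W] [Group Y] [Group Z] {M : CoxeterMatrix I}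
  {A : I → I → ℤ}

section map

variable {T : Subgroup Y} {n : I → Y} {X : (I → ℤ) → Subgroup Y} {f : Y →* Z}

theorem TrNode.map (hf : Function.Injective f) {i : I} (H : KTorus.TrNode T n X i) :
    KTorus.TrNode (T.map f) (fun i => f (n i)) (fun x => (X x).map f) i where
  two := by
    obtain ⟨x, hx, y, hy, h1, h2, h3⟩ := H.two
    exact ⟨f x, mem_map_of_mem f hx, f y, mem_map_of_mem f hy, fun e => h1 (hf (by rw [e, map_one])),
      fun e => h2 (hf (by rw [e, map_one])), fun e => h3 (hf e)⟩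
  sq := by
    rintro _ ⟨x, hx, rfl⟩
    rw [← map_mul, H.sq x hx, map_one]
  tr := by
    rintro _ ⟨x, hx, rfl⟩ _ ⟨y, hy, rfl⟩ h1 h2
    obtain ⟨t, ⟨ht1, ht2, ht3⟩, e⟩ := H.tr x hx y hy (fun e => h1 (by rw [e, map_one])) (fun e => h2 (by rw [e, map_one]))
    refine ⟨f t, ⟨mem_map_of_mem f ht1, ?_, ?_⟩, ?_⟩
    · show f t ∈ (X (sr i)).map f ⊔ (X (-sr i)).map f
      rw [← Subgroup.map_sup]
      exact mem_map_of_mem f ht2
    · rw [← map_mul, ← map_inv, ← map_inv, ← map_mul, ht3]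
    · rw [← map_mul, ← map_inv, ← map_mul, e]

theorem SpOn.map (hf : Function.Injective f) {H P Q : Subgroup Y} (h : SpOn H P Q) : SpOn (H.map f) (P.map f) (Q.map f) := by
  obtain ⟨t, ht, h1, h2⟩ := h
  refine ⟨f t, mem_map_of_mem f ht, ?_, ?_⟩
  · rintro _ ⟨x, hx, rfl⟩
    rw [← map_mul, ← map_inv, ← map_mul, h1 x hx]
  · rintro _ ⟨x, hx, rfl⟩ e
    rw [← map_mul, ← map_inv, ← map_mul] at e
    rw [h2 x hx (hf e), map_one]

theorem NComm.map (hf : Function.Injective f) {P Q : Subgroup Y} (h : NComm P Q) : NComm (P.map f) (Q.map f) := by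
  obtain ⟨x, hx, y, hy, h1⟩ := h
  exact ⟨f x, mem_map_of_mem f hx, f y, mem_map_of_mem f hy, fun e => h1 (hf (by rw [map_mul, map_mul]; exact e))⟩

theorem KRow.map (hf : Function.Injective f) {cs : CoxeterSystem M W} {h : IsCartan M A} (H : KRow cs h T n X) :
    KRow cs h (T.map f) (fun i => f (n i)) (fun x => (X x).map f) := by
  have hc : ∀ P : Subgroup Y, Nat.card (P.map f) = Nat.card P := fun P =>
    Nat.card_congr (P.equivMapOfInjective f hf).toEquiv.symm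
  have h1 : (∀ k, 4 ≤ Nat.card ((X (sr k)).map f)) → ∀ k, 4 ≤ Nat.card (X (sr k)) := fun h k => by
    rw [← hc]; exact h k
  have h2 : (∀ k, ∀ x ∈ (X (sr k)).map f, x * x = 1) → ∀ k, ∀ x ∈ X (sr k), x * x = 1 := fun h k x hx =>
    hf (by rw [map_mul, map_one]; exact h k _ (mem_map_of_mem f hx))
  refine ⟨H.two, H.conn, ?_, fun e1 e2 i => TrNode.map hf (H.tr (h1 e1) (h2 e2) i),
    fun e1 e2 i j e3 e4 => (H.sp2 (h1 e1) (h2 e2) i j e3 e4).imp (SpOn.map hf) (SpOn.map hf), fun i j e =>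
      ⟨(H.six i j e).1, NComm.map hf (H.six i j e).2⟩⟩
  rintro _ ⟨s, hs, rfl⟩ _ ⟨t, ht, rfl⟩
  rw [← map_mul, H.ab s hs t ht, map_mul]

end map

/-- **Rows along isomorphisms.** -/
theorem HasRow.of_equiv (e : Y ≃* Z) (hY : HasRow Y) : HasRow Z := by
  obtain ⟨l, M, A, h, T, n, X, hW, R, hX, H⟩ := hY
  refine ⟨l, M, A, h, T.map e.toMonoidHom, fun i => e.toMonoidHom (n i), fun x => (X x).map e.toMonoidHom, hW,
    Cfsg.Agent.Nodes.RGDLib.rgd_map_of_injective R e.toMonoidHom e.injective, ?_, H.map e.injective⟩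
  have h1 : (RGD.Sup X {x | IsRoot M.toCoxeterSystem h x}).map e.toMonoidHom =
      RGD.Sup (fun x => (X x).map e.toMonoidHom) {x | IsRoot M.toCoxeterSystem h x} := by
    unfold RGD.Sup
    rw [Subgroup.map_iSup]
  rw [← h1, hX, Subgroup.map_top_of_surjective _ e.surjective]

/-- Connectedness of an explicit diagram. -/
theorem conn_of_bool {l : ℕ} {M : CoxeterMatrix (Fin l)}
    (h : ∀ f : Fin l → Bool, (∃ a, f a = true) → (∃ a, f a = false) →
      ∃ a, f a = true ∧ ∃ b, f b = false ∧ M a b ≠ 2) : Conn M := by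
  classical
  intro J h1 h2
  obtain ⟨b, hb⟩ := (Set.ne_univ_iff_exists_notMem J).1 h2
  obtain ⟨a, ha, b, hb, hab⟩ := h (fun k => decide (k ∈ J)) ⟨h1.choose, decide_eq_true h1.choose_spec⟩
    ⟨b, decide_eq_false hb⟩
  exact ⟨a, of_decide_eq_true ha, b, of_decide_eq_false hb, hab⟩

end Cfsg.Agent.Omega.Lie.End

end

section


/-!
# `TrNode` from a field parametrisation of the root group

`TrNode.of_field` : `x : F → Y` additive onto `X_i`, injective, `n x(a) n ∈ x(κ / a) n B`.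
-/

set_option autoImplicit false
set_option linter.unusedSectionVars false

namespace Cfsg.Agent.Omega.Lie.End.KNode

open CoxeterSystem Cfsg.Agent.ChevalleyStructure.CoxeterGeom Cfsg.Agent.Tits.Roots Cfsg.Agent.Tits.Core
  Cfsg.Agent.Tits.RootComb Cfsg.Agent.Nodes.Comb Cfsg.Agent.Nodes.Reps Cfsg.Agent.Nodes.BNOf Cfsg.Agent.Nodes.BNOf.RGD
  Cfsg.Agent.Nodes.FreeTorus Cfsg.Agent.Omega.Lie.End.KTorus

variable {I W Y : Type*} [Fintype I] [DecidableEq I] [Group W] [Group Y] {M : CoxeterMatrix I}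
  {cs : CoxeterSystem M W} {A : I → I → ℤ} {h : IsCartan M A} {T : Subgroup Y} {n : I → Y}
  {X : (I → ℤ) → Subgroup Y} [Finite W]

section

variable (R : RGD cs h 2 T n X) (i : I) {F : Type*} [Field F] (x : F → Y) (κ : F)
  (add : ∀ a b, x (a + b) = x a * x b) (range : ∀ y, y ∈ X (sr i) ↔ ∃ a, x a = y)
  (inj : ∀ a, x a = 1 → a = 0) (hκ : κ ≠ 0)
  (hinv : ∀ a, a ≠ 0 → (x (κ * a⁻¹) * n i)⁻¹ * (n i * x a * n i) ∈ RGD.B cs h T X)

/-- `g` maps the base point of the panel to the point `a`. -/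
def Pt (B : Subgroup Y) (n0 : Y) (x : F → Y) (g : Y) (a : F) : Prop := (x a * n0)⁻¹ * g ∈ B

omit [Finite W] [Group W] [Fintype I] [DecidableEq I] in
include add in
theorem x_zero : x 0 = 1 := by
  have h1 := add 0 0
  rw [add_zero] at h1
  exact (left_eq_mul.1 h1)

include R add range inj in
theorem two_eq : (2 : F) = 0 := by
  obtain ⟨k, hk⟩ := R.pgrp i ⟨x 1, (range _).2 ⟨1, rfl⟩⟩
  have h1 : x 1 ^ 2 ^ k = 1 := congrArg Subtype.val hk
  have h2 : ∀ m : ℕ, x (m : F) = x 1 ^ m := by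
    intro m
    induction m with
    | zero => rw [Nat.cast_zero, pow_zero, x_zero x add]
    | succ m ih => rw [Nat.cast_succ, pow_succ, add, ih]
  have h3 := inj _ ((h2 (2 ^ k)).trans h1)
  rw [Nat.cast_pow] at h3
  have hk0 : k ≠ 0 := by
    rintro rfl
    rw [pow_zero] at h3
    exact one_ne_zero h3
  exact_mod_cast (pow_eq_zero_iff hk0).1 h3

include R add range inj in
theorem add_self (a : F) : a + a = 0 := by
  rw [← two_mul, two_eq R i x add range inj, zero_mul]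

include R range in
theorem x_mem_B (a : F) : x a ∈ RGD.B cs h T X := X_le_B (isRoot_sr cs h i) (sr_nonneg i) ((range _).2 ⟨a, rfl⟩)

include R in
theorem n_not_mem : n i ∉ RGD.B cs h T X := ParSys.Fam.not_mem_B_of_mul R i ⟨1, one_mem _, (one_mul _).symm⟩

include R in
theorem nn_mem : n i * n i ∈ T := R.sq_mem_T i

include R add range inj in
theorem pt_unique {g : Y} {a b : F} (ha : Pt (RGD.B cs h T X) (n i) x g a) (hb : Pt (RGD.B cs h T X) (n i) x g b) :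
    a = b := by
  have h1 : (n i)⁻¹ * ((x a)⁻¹ * x b) * n i ∈ RGD.B cs h T X := by
    have h2 := mul_mem ha (inv_mem hb)
    have e : (x a * n i)⁻¹ * g * ((x b * n i)⁻¹ * g)⁻¹ = (n i)⁻¹ * ((x a)⁻¹ * x b) * n i := by group
    rwa [e] at h2
  have h3 : (x a)⁻¹ * x b = x (b - a) := by
    rw [inv_mul_eq_iff_eq_mul, ← add]
    congr 1; ring
  rw [h3] at h1
  have h4 : (n i)⁻¹ * x (b - a) * n i ∈ X (-sr i) := by
    have := R.conj_mem' (rp_simple cs R.nsys i) (isRoot_sr cs h i) ((range _).2 ⟨b - a, rfl⟩)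
    rwa [inv_simple, rep_simple_sr] at this
  have h5 := ParSys.Fam.neg_inf_B R i _ h4 h1
  have h6 : x (b - a) = 1 := by
    have e : x (b - a) = n i * ((n i)⁻¹ * x (b - a) * n i) * (n i)⁻¹ := by group
    rw [e, h5]; group
  exact (sub_eq_zero.1 (inj _ h6)).symm

include add in
theorem pt_x {B : Subgroup Y} {n0 g : Y} {a : F} (c : F) (ha : Pt B n0 x g a) : Pt B n0 x (x c * g) (c + a) := by
  unfold Pt at *
  have e : (x (c + a) * n0)⁻¹ * (x c * g) = (x a * n0)⁻¹ * g := by rw [add]; group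
  rwa [e]

include hinv in
theorem pt_n {g : Y} {a : F} (ha0 : a ≠ 0) (ha : Pt (RGD.B cs h T X) (n i) x g a) :
    Pt (RGD.B cs h T X) (n i) x (n i * g) (κ * a⁻¹) := by
  unfold Pt at *
  have h1 := mul_mem (hinv a ha0) ha
  have e : (x (κ * a⁻¹) * n i)⁻¹ * (n i * x a * n i) * ((x a * n i)⁻¹ * g) = (x (κ * a⁻¹) * n i)⁻¹ * (n i * g) := by
    group
  rwa [e] at h1

include R add in
theorem pt_n_zero {g : Y} (ha : Pt (RGD.B cs h T X) (n i) x g 0) : n i * g ∈ RGD.B cs h T X := by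
  unfold Pt at ha
  rw [x_zero x add, one_mul] at ha
  have e : n i * g = n i * n i * ((n i)⁻¹ * g) := by group
  rw [e]
  exact mul_mem (T_le_B (nn_mem R i)) ha

include add in
theorem pt_n_inf {g : Y} (hg : g ∈ RGD.B cs h T X) : Pt (RGD.B cs h T X) (n i) x (n i * g) 0 := by
  unfold Pt
  have e : (x 0 * n i)⁻¹ * (n i * g) = g := by rw [x_zero x add]; group
  rwa [e]

/-- The Weyl element of `a`. -/
def wa (n0 : Y) (x : F → Y) (κ a : F) : Y := x a * n0 * x (κ * a⁻¹) * n0 * x a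

include R add range inj hκ hinv in
/-- **(S1)** -/
theorem wa_eq {a : F} (ha : a ≠ 0) : ∃ s ∈ T, wa (n i) x κ a = s * n i := by
  have h2 := add_self R i x add range inj
  have ha' : κ * a⁻¹ ≠ 0 := mul_ne_zero hκ (inv_ne_zero ha)
  have hka : κ * (κ * a⁻¹)⁻¹ = a := by field_simp
  have hu : (n i)⁻¹ * x (κ * a⁻¹) * n i ∈ X (-sr i) := by
    have := R.conj_mem' (rp_simple cs R.nsys i) (isRoot_sr cs h i) ((range _).2 ⟨κ * a⁻¹, rfl⟩)
    rwa [inv_simple, rep_simple_sr] at this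
  have hu1 : (n i)⁻¹ * x (κ * a⁻¹) * n i ≠ 1 := by
    intro h0
    apply ha'
    apply inj
    have e : x (κ * a⁻¹) = n i * ((n i)⁻¹ * x (κ * a⁻¹) * n i) * (n i)⁻¹ := by group
    rw [e, h0]; group
  obtain ⟨y, hy, t, ht, z, hz, e⟩ := R.rk1 i _ hu hu1
  obtain ⟨d, rfl⟩ := (range z).1 hz
  have hnn := nn_mem R i
  have hy' : n i * n i * y * (n i * n i)⁻¹ ∈ X (sr i) := by
    have h1 := R.tor _ (isRoot_sr cs h i) _ hnn
    rw [← h1]
    exact conj_mem_cj.2 hy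
  obtain ⟨c, hc⟩ := (range _).1 hy'
  have e1 : n i * x (κ * a⁻¹) * n i = x c * (n i * n i * t) * n i * x d := by
    rw [hc]
    have : n i * x (κ * a⁻¹) * n i = n i * n i * ((n i)⁻¹ * x (κ * a⁻¹) * n i) := by group
    rw [this, e]; group
  have hsT : n i * n i * t ∈ T := mul_mem hnn ht
  have hcB : Pt (RGD.B cs h T X) (n i) x (n i * x (κ * a⁻¹) * n i) c := by
    unfold Pt
    rw [e1]
    have e2 : (x c * n i)⁻¹ * (x c * (n i * n i * t) * n i * x d) = ((n i)⁻¹ * (n i * n i * t) * n i) * x d := by group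
    rw [e2]
    refine mul_mem (T_le_B ?_) (x_mem_B R i x range d)
    have h3 := R.nsys.norm i
    rw [Subgroup.mem_normalizer_iff''] at h3
    exact (h3 _).1 hsT
  have hca : c = a := by
    have h3 : Pt (RGD.B cs h T X) (n i) x (n i * x (κ * a⁻¹) * n i) (κ * (κ * a⁻¹)⁻¹) := hinv _ ha'
    rw [hka] at h3
    exact pt_unique R i x add range inj hcB h3
  subst hca
  have e3 : wa (n i) x κ c = (n i * n i * t) * n i * x (d + c) := by
    have e4 : wa (n i) x κ c = x c * (n i * x (κ * c⁻¹) * n i) * x c := by unfold wa; group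
    have e5 : x c * x c = 1 := by rw [← add, h2, x_zero x add]
    rw [e4, e1, add]
    calc x c * (x c * (n i * n i * t) * n i * x d) * x c = (x c * x c) * (n i * n i * t) * n i * (x d * x c) := by group
      _ = (n i * n i * t) * n i * (x d * x c) := by rw [e5, one_mul]
  -- `w n ∈ B`
  have h6 : wa (n i) x κ c * n i ∈ RGD.B cs h T X := by
    have p1 : Pt (RGD.B cs h T X) (n i) x (n i * (x c * n i)) (κ * c⁻¹) := by
      unfold Pt
      have := hinv c ha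
      rwa [mul_assoc (n i)] at this
    have p2 := pt_x x add (κ * c⁻¹) p1
    rw [h2] at p2
    have p3 := mul_mem (x_mem_B R i x range c) (pt_n_zero R i x add p2)
    have e6 : wa (n i) x κ c * n i = x c * (n i * (x (κ * c⁻¹) * (n i * (x c * n i)))) := by unfold wa; group
    rw [e6]
    exact p3
  have h7 : d + c = 0 := by
    by_contra hne
    rw [e3] at h6
    have h8 : n i * x (d + c) * n i ∈ RGD.B cs h T X := by
      have := mul_mem (inv_mem (T_le_B hsT)) h6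
      have e7 : (n i * n i * t)⁻¹ * (n i * n i * t * n i * x (d + c) * n i) = n i * x (d + c) * n i := by group
      rwa [e7] at this
    have h9 := mul_mem (hinv _ hne) (inv_mem h8)
    have e8 : (x (κ * (d + c)⁻¹) * n i)⁻¹ * (n i * x (d + c) * n i) * (n i * x (d + c) * n i)⁻¹ =
        (n i)⁻¹ * (x (κ * (d + c)⁻¹))⁻¹ := by group
    rw [e8] at h9
    have h10 := mul_mem h9 (x_mem_B R i x range (κ * (d + c)⁻¹))
    rw [inv_mul_cancel_right] at h10
    exact n_not_mem R i ((inv_mem_iff).1 h10)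
  exact ⟨n i * n i * t, hsT, by rw [e3, h7, x_zero x add, mul_one]⟩

include R add range inj hκ hinv in
/-- **(S2)** the action on the panel. -/
theorem wa_pt {a e : F} (ha : a ≠ 0) (he : e ≠ 0) :
    Pt (RGD.B cs h T X) (n i) x (wa (n i) x κ a * (x e * n i)) (a * a * e⁻¹) := by
  have h2 := add_self R i x add range inj
  have p0 : Pt (RGD.B cs h T X) (n i) x (x e * n i) e := by
    unfold Pt
    rw [inv_mul_cancel]
    exact one_mem _
  have e0 : wa (n i) x κ a * (x e * n i) = x a * (n i * (x (κ * a⁻¹) * (n i * (x a * (x e * n i))))) := by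
    unfold wa; group
  rw [e0]
  have p1 := pt_x x add a p0
  by_cases hae : a + e = 0
  · have hea : e = a := by
      have h3 := h2 a
      rw [← hae] at h3
      exact (add_left_cancel h3).symm
    subst hea
    rw [h2] at p1
    have p2 := pt_n_zero R i x add p1
    have p3 := mul_mem (x_mem_B R i x range (κ * e⁻¹)) p2
    have p4 := pt_x x add e (pt_n_inf (cs := cs) (h := h) (T := T) (X := X) (n := n) i x add p3)
    rw [add_zero] at p4
    rwa [mul_assoc, mul_inv_cancel₀ ha, mul_one]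
  · have p2 := pt_n i x κ hinv hae p1
    have p3 := pt_x x add (κ * a⁻¹) p2
    have e1 : κ * a⁻¹ + κ * (a + e)⁻¹ = κ * e * (a⁻¹ * (a + e)⁻¹) := by
      have e3 : κ * a⁻¹ + κ * (a + e)⁻¹ = κ * (a + e + a) * (a⁻¹ * (a + e)⁻¹) := by field_simp
      have e4 : a + e + a = e := by linear_combination h2 a
      rw [e3, e4]
    rw [e1] at p3
    have hne : κ * e * (a⁻¹ * (a + e)⁻¹) ≠ 0 :=
      mul_ne_zero (mul_ne_zero hκ he) (mul_ne_zero (inv_ne_zero ha) (inv_ne_zero hae))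
    have p4 := pt_x x add a (pt_n i x κ hinv hne p3)
    have e2 : a + κ * (κ * e * (a⁻¹ * (a + e)⁻¹))⁻¹ = a * a * e⁻¹ := by
      have e3 : a + κ * (κ * e * (a⁻¹ * (a + e)⁻¹))⁻¹ = (a * e + a * (a + e)) * e⁻¹ := by field_simp
      have e4 : a * e + a * (a + e) = a * a := by linear_combination e * h2 a
      rw [e3, e4]
    rwa [e2] at p4

include R add range inj hκ hinv in
/-- **(S3)** -/
theorem s_conj {a f : F} (ha : a ≠ 0) {s : Y} (hs : s ∈ T) (hw : wa (n i) x κ a = s * n i) :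
    s * x f * s⁻¹ = x (a * a * κ⁻¹ * f) := by
  by_cases hf : f = 0
  · rw [hf, mul_zero, x_zero x add]; group
  have he : κ * f⁻¹ ≠ 0 := mul_ne_zero hκ (inv_ne_zero hf)
  have h1 := wa_pt R i x κ add range inj hκ hinv ha he
  have hm : s * x f * s⁻¹ ∈ X (sr i) := by
    have h1 := R.tor _ (isRoot_sr cs h i) s hs
    rw [← h1]
    exact conj_mem_cj.2 ((range _).2 ⟨f, rfl⟩)
  obtain ⟨f', hf'⟩ := (range _).1 hm
  rw [← hf']
  congr 1
  have h3 : Pt (RGD.B cs h T X) (n i) x (wa (n i) x κ a * (x (κ * f⁻¹) * n i)) f' := by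
    have h4 : Pt (RGD.B cs h T X) (n i) x (n i * (x (κ * f⁻¹) * n i)) (κ * (κ * f⁻¹)⁻¹) := by
      unfold Pt
      have := hinv _ he
      rwa [mul_assoc (n i)] at this
    have e1 : κ * (κ * f⁻¹)⁻¹ = f := by field_simp
    rw [e1] at h4
    unfold Pt at h4 ⊢
    have h5 : (n i)⁻¹ * s * n i ∈ RGD.B cs h T X := by
      have h3 := R.nsys.norm i
      rw [Subgroup.mem_normalizer_iff''] at h3
      exact T_le_B ((h3 _).1 hs)
    have h6 := mul_mem h5 h4
    have e2 : (n i)⁻¹ * s * n i * ((x f * n i)⁻¹ * (n i * (x (κ * f⁻¹) * n i))) =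
        (x f' * n i)⁻¹ * (wa (n i) x κ a * (x (κ * f⁻¹) * n i)) := by
      rw [hf', hw]; group
    rwa [e2] at h6
  have h7 := pt_unique R i x add range inj h3 h1
  rw [h7]
  field_simp

include R add range inj hκ hinv in
/-- **(S4)** `n²` centralises `X_i`. -/
theorem nn_conj (f : F) : n i * n i * x f * (n i * n i)⁻¹ = x f := by
  have hnn := nn_mem R i
  by_cases hf : f = 0
  · rw [hf, x_zero x add]; group
  have hm : n i * n i * x f * (n i * n i)⁻¹ ∈ X (sr i) := by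
    have h1 := R.tor _ (isRoot_sr cs h i) _ hnn
    rw [← h1]
    exact conj_mem_cj.2 ((range _).2 ⟨f, rfl⟩)
  obtain ⟨f', hf'⟩ := (range _).1 hm
  rw [← hf']
  congr 1
  have he : κ * f⁻¹ ≠ 0 := mul_ne_zero hκ (inv_ne_zero hf)
  have p0 : Pt (RGD.B cs h T X) (n i) x (x f * n i) f := by
    unfold Pt
    rw [inv_mul_cancel]
    exact one_mem _
  have p1 := pt_n i x κ hinv he (pt_n i x κ hinv hf p0)
  have e1 : κ * (κ * f⁻¹)⁻¹ = f := by field_simp
  rw [e1] at p1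
  have p2 : Pt (RGD.B cs h T X) (n i) x (n i * (n i * (x f * n i))) f' := by
    unfold Pt
    have e2 : (x f' * n i)⁻¹ * (n i * (n i * (x f * n i))) = n i * n i := by rw [hf']; group
    rw [e2]
    exact T_le_B hnn
  exact pt_unique R i x add range inj p2 p1

include R add range inj hκ hinv in
/-- **(S5)** -/
theorem s_inv {a : F} (ha : a ≠ 0) {s : Y} (hw : wa (n i) x κ a = s * n i) :
    n i * s * (n i)⁻¹ = n i * n i * s⁻¹ := by
  have h2 := add_self R i x add range inj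
  have hxi : ∀ c, (x c)⁻¹ = x c := fun c => inv_eq_of_mul_eq_one_left (by rw [← add, h2, x_zero x add])
  have hc : ∀ c, (n i * n i)⁻¹ * x c = x c * (n i * n i)⁻¹ := by
    intro c
    have h3 := nn_conj R i x κ add range inj hκ hinv c
    have h4 : n i * n i * x c = x c * (n i * n i) := mul_inv_eq_iff_eq_mul.1 h3
    calc (n i * n i)⁻¹ * x c = (n i * n i)⁻¹ * (x c * (n i * n i)) * (n i * n i)⁻¹ := by group
      _ = (n i * n i)⁻¹ * (n i * n i * x c) * (n i * n i)⁻¹ := by rw [h4]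
      _ = x c * (n i * n i)⁻¹ := by group
  have h5 : (wa (n i) x κ a)⁻¹ = (n i * n i)⁻¹ * wa (n i) x κ a * (n i * n i)⁻¹ := by
    have e1 : (wa (n i) x κ a)⁻¹ = (x a)⁻¹ * (n i)⁻¹ * (x (κ * a⁻¹))⁻¹ * (n i)⁻¹ * (x a)⁻¹ := by unfold wa; group
    have e2 : (n i * n i)⁻¹ * wa (n i) x κ a * (n i * n i)⁻¹ =
        ((n i * n i)⁻¹ * x a) * n i * x (κ * a⁻¹) * n i * (x a * (n i * n i)⁻¹) := by unfold wa; group
    rw [e1, e2, hxi, hxi]
    calc x a * (n i)⁻¹ * x (κ * a⁻¹) * (n i)⁻¹ * x a =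
        (x a * (n i * n i)⁻¹) * n i * x (κ * a⁻¹) * n i * ((n i * n i)⁻¹ * x a) := by group
      _ = ((n i * n i)⁻¹ * x a) * n i * x (κ * a⁻¹) * n i * (x a * (n i * n i)⁻¹) := by rw [hc a]
  rw [hw] at h5
  have h6 : s⁻¹ = (n i)⁻¹ * s * (n i)⁻¹ := by
    have e1 : s⁻¹ = n i * (s * n i)⁻¹ := by group
    rw [e1, h5]; group
  have e2 : n i * n i * s⁻¹ = n i * s * (n i)⁻¹ := by rw [h6]; group
  exact e2.symm

include R add range inj hκ hinv in
/-- **`TrNode` from a field parametrisation.** -/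
theorem of_field [Finite F] (hTc : ∀ s ∈ T, ∀ t ∈ T, s * t = t * s) (hF : 4 ≤ Nat.card F) : TrNode T n X i := by
  classical
  have h2 := add_self R i x add range inj
  have hx1 : ∀ a, a ≠ 0 → x a ≠ 1 := fun a ha h0 => ha (inj a h0)
  refine ⟨?_, ?_, ?_⟩
  · obtain ⟨a, ha0, ha1⟩ : ∃ a : F, a ≠ 0 ∧ a ≠ 1 := by
      by_contra hcon
      push Not at hcon
      have := Fintype.ofFinite F
      have h3 : (Finset.univ : Finset F) ⊆ {0, 1} := by
        intro a _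
        rw [Finset.mem_insert, Finset.mem_singleton]
        by_cases h4 : a = 0
        · exact Or.inl h4
        · exact Or.inr (hcon a h4)
      have h4 := Finset.card_le_card h3
      have h5 : Finset.card ({0, 1} : Finset F) ≤ 2 := Finset.card_le_two
      rw [Finset.card_univ, ← Nat.card_eq_fintype_card] at h4
      omega
    refine ⟨x 1, (range _).2 ⟨1, rfl⟩, x a, (range _).2 ⟨a, rfl⟩, hx1 1 one_ne_zero, hx1 a ha0, ?_⟩
    intro h0
    have h3 : x (a + 1) = 1 := by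
      rw [add, ← h0, ← add, h2, x_zero x add]
    have h4 := inj _ h3
    apply ha1
    have h5 := h2 1
    rw [← h4] at h5
    exact (add_right_cancel h5).symm
  · intro y hy
    obtain ⟨a, rfl⟩ := (range y).1 hy
    rw [← add, h2, x_zero x add]
  · intro y hy z hz hy1 hz1
    obtain ⟨b, rfl⟩ := (range y).1 hy
    obtain ⟨c, rfl⟩ := (range z).1 hz
    have hb : b ≠ 0 := by rintro rfl; exact hy1 (x_zero x add)
    have hc : c ≠ 0 := by rintro rfl; exact hz1 (x_zero x add)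
    have hchar : CharP F 2 := CharTwo.of_one_ne_zero_of_two_eq_zero one_ne_zero (two_eq R i x add range inj)
    have : Fact (Nat.Prime 2) := ⟨Nat.prime_two⟩
    obtain ⟨a, ha⟩ : ∃ a : F, a * a = c * b⁻¹ := by
      have hsurj : Function.Surjective (frobenius F 2) := Finite.surjective_of_injective (frobenius_inj F 2)
      obtain ⟨a, ha⟩ := hsurj (c * b⁻¹)
      exact ⟨a, by rw [← ha, frobenius_def, pow_two]⟩
    have ha0 : a ≠ 0 := by
      rintro rfl
      rw [mul_zero] at ha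
      exact mul_ne_zero hc (inv_ne_zero hb) ha.symm
    obtain ⟨s, hs, hws⟩ := wa_eq R i x κ add range inj hκ hinv ha0
    obtain ⟨s1, hs1, hws1⟩ := wa_eq R i x κ add range inj hκ hinv (one_ne_zero : (1 : F) ≠ 0)
    refine ⟨s * s1⁻¹, ⟨mul_mem hs (inv_mem hs1), ?_, ?_⟩, ?_⟩
    · -- in the rank one group
      have hX : ∀ c, x c ∈ LL X (sr i) := fun c => (le_sup_left : X (sr i) ≤ LL X (sr i)) ((range _).2 ⟨c, rfl⟩)
      have hX' : ∀ c, n i * x c * (n i)⁻¹ ∈ LL X (sr i) := by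
        intro c
        refine (le_sup_right : X (-sr i) ≤ LL X (sr i)) ?_
        have := R.conj_mem (rp_simple cs R.nsys i) (isRoot_sr cs h i) ((range _).2 ⟨c, rfl⟩)
        rwa [rep_simple_sr] at this
      have key : ∀ a, wa (n i) x κ a = (x a * (n i * x (κ * a⁻¹) * (n i)⁻¹) * x a) * (n i * n i) := by
        intro a
        have h3 := mul_inv_eq_iff_eq_mul.1 (nn_conj R i x κ add range inj hκ hinv a)
        calc wa (n i) x κ a = x a * (n i * x (κ * a⁻¹) * (n i)⁻¹) * (n i * n i * x a) := by unfold wa; group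
          _ = (x a * (n i * x (κ * a⁻¹) * (n i)⁻¹) * x a) * (n i * n i) := by rw [h3]; group
      have e1 : s * s1⁻¹ = (x a * (n i * x (κ * a⁻¹) * (n i)⁻¹) * x a) *
          (x 1 * (n i * x (κ * 1⁻¹) * (n i)⁻¹) * x 1)⁻¹ := by
        have f1 : s = wa (n i) x κ a * (n i)⁻¹ := by rw [hws]; group
        have f2 : s1 = wa (n i) x κ 1 * (n i)⁻¹ := by rw [hws1]; group
        rw [f1, f2, key a, key 1]
        group
      rw [e1]
      exact mul_mem (mul_mem (mul_mem (hX _) (hX' _)) (hX _)) (inv_mem (mul_mem (mul_mem (hX _) (hX' _)) (hX _)))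
    · have e1 := s_inv R i x κ add range inj hκ hinv ha0 hws
      have e2 := s_inv R i x κ add range inj hκ hinv one_ne_zero hws1
      have e3 : n i * (s * s1⁻¹) * (n i)⁻¹ = (n i * s * (n i)⁻¹) * (n i * s1 * (n i)⁻¹)⁻¹ := by group
      have hnn := nn_mem R i
      rw [e3, e1, e2]
      have e4 : n i * n i * s⁻¹ * (n i * n i * s1⁻¹)⁻¹ = (n i * n i) * (s⁻¹ * s1) * (n i * n i)⁻¹ := by group
      have h5 : s⁻¹ * s1 ∈ T := mul_mem (inv_mem hs) hs1
      rw [e4, hTc _ hnn _ h5, mul_inv_cancel_right, hTc _ (inv_mem hs) _ hs1]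
      group
    · have e1 : s * s1⁻¹ * x b * (s * s1⁻¹)⁻¹ = s * (s1⁻¹ * x b * s1) * s⁻¹ := by group
      have e2 : s1⁻¹ * x b * s1 = x (κ * b) := by
        have h3 := s_conj R i x κ add range inj hκ hinv (f := κ * b) one_ne_zero hs1 hws1
        have h4 : (1 : F) * 1 * κ⁻¹ * (κ * b) = b := by field_simp
        rw [h4] at h3
        rw [← h3]; group
      rw [e1, e2, s_conj R i x κ add range inj hκ hinv ha0 hs hws]
      congr 1
      rw [ha]
      field_simp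

end

end Cfsg.Agent.Omega.Lie.End.KNode

end
end

-- part: Mrg/Omega/CR/Com
section
/-!
# Diagonal automorphisms acting as scalars centralise the torus

* `abelian` : the torus is abelian if it is so modulo the centre (nodes with transitive rank one tori);
* `lin` : an automorphism `γ` with `γ + 1 = δ` on `X_i` is linear;
* `com_node` : such a `γ` centralises the rank one torus of the node;
* `com` : the automorphisms centralise `T`.
-/

set_option autoImplicit false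
set_option linter.unusedSectionVars false

namespace Cfsg.Agent.Omega.CR.Com

open Subgroup CoxeterSystem Cfsg.Agent.ChevalleyStructure.CoxeterGeom Cfsg.Agent.Tits.Roots Cfsg.Agent.Tits.Core
  Cfsg.Agent.Tits.RootComb Cfsg.Agent.Nodes.Comb Cfsg.Agent.Nodes.Reps Cfsg.Agent.Nodes.BNOf
  Cfsg.Agent.Nodes.Bruhat Cfsg.Agent.KFacts.RgdAut Cfsg.Agent.KFacts.RgdDiag
  Cfsg.Agent.Omega.Lie.End.KTrFree Cfsg.Agent.Omega.CR.Ab

section lin

variable {Y : Type*} [Group Y] {A T : Subgroup Y}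

/-- **Linearity.** -/
theorem lin {γ δ : MulAut Y} (hsq : ∀ x ∈ A, x * x = 1) (hγA : ∀ x ∈ A, γ x ∈ A) (hγA' : ∀ y ∈ A, ∃ x ∈ A, γ x = y)
    (TA : ∀ t ∈ T, ∀ x ∈ A, t * x * t⁻¹ ∈ A)
    (hab : ∀ s ∈ T, ∀ t ∈ T, ∀ x ∈ A, (s * t) * x * (s * t)⁻¹ = (t * s) * x * (t * s)⁻¹)
    (htr : ∀ x ∈ A, ∀ y ∈ A, x ≠ 1 → y ≠ 1 → ∃ t ∈ T, t * x * t⁻¹ = y) (hδ : ∀ x ∈ A, γ x * x = δ x)
    {τ : Y} (hτ : τ ∈ T) (hγτ : γ τ ∈ T) (hδτ : δ τ ∈ T) : ∀ y ∈ A, γ τ * y * (γ τ)⁻¹ = τ * y * τ⁻¹ := by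
  obtain ⟨p, hp⟩ : ∃ p, p = γ τ := ⟨_, rfl⟩
  obtain ⟨s, hs⟩ : ∃ s, s = δ τ := ⟨_, rfl⟩
  rw [← hp] at hγτ ⊢
  rw [← hs] at hδτ
  have cm : ∀ x ∈ A, ∀ y ∈ A, x * y = y * x := fun x hx y hy => comm_of_sq hsq hx hy
  have hinv : ∀ x ∈ A, x⁻¹ = x := fun x hx => inv_eq_of_mul_eq_one_left (hsq x hx)
  have sw : ∀ u ∈ T, ∀ v ∈ T, ∀ x ∈ A, u * (v * x * v⁻¹) * u⁻¹ = v * (u * x * u⁻¹) * v⁻¹ := by
    intro u hu v hv x hx
    calc u * (v * x * v⁻¹) * u⁻¹ = (u * v) * x * (u * v)⁻¹ := by group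
      _ = (v * u) * x * (v * u)⁻¹ := hab u hu v hv x hx
      _ = _ := by group
  have eq1 : ∀ x ∈ A, p * γ x * p⁻¹ * (τ * x * τ⁻¹) = s * γ x * s⁻¹ * (s * x * s⁻¹) := by
    intro x hx
    have h1 := hδ _ (TA τ hτ x hx)
    rw [map_mul, map_mul, map_inv, map_mul, map_mul, map_inv, ← hp, ← hs, ← hδ x hx] at h1
    rw [h1]; group
  by_cases hcase : ∃ y₀ ∈ A, y₀ ≠ 1 ∧ p * y₀ * p⁻¹ = s * y₀ * s⁻¹
  · obtain ⟨y₀, hy₀, hy1, he⟩ := hcase
    have hps : ∀ y ∈ A, p * y * p⁻¹ = s * y * s⁻¹ := by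
      intro y hy
      by_cases h1 : y = 1
      · rw [h1]; group
      obtain ⟨σ, hσ, rfl⟩ := htr y₀ hy₀ y hy hy1 h1
      rw [sw p hγτ σ hσ y₀ hy₀, he, sw s hδτ σ hσ y₀ hy₀]
    intro y hy
    obtain ⟨x, hx, -⟩ := hγA' y hy
    have h1 := eq1 y hy
    rw [hps _ (hγA y hy)] at h1
    rw [hps y hy]
    exact (mul_left_cancel h1).symm
  · push Not at hcase
    have inj : ∀ y ∈ A, ∀ z ∈ A, p * y * p⁻¹ * (s * y * s⁻¹) = p * z * p⁻¹ * (s * z * s⁻¹) → y = z := by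
      intro y hy z hz e
      have hpy := TA p hγτ y hy
      have hsy := TA s hδτ y hy
      have hpz := TA p hγτ z hz
      have hsz := TA s hδτ z hz
      by_contra hne
      have hw : y * z⁻¹ ∈ A := A.mul_mem hy (A.inv_mem hz)
      refine hcase _ hw (fun h1 => hne (mul_inv_eq_one.1 h1)) ?_
      have e1 : p * (y * z⁻¹) * p⁻¹ = (p * y * p⁻¹) * (p * z * p⁻¹)⁻¹ := by group
      have e2 : s * (y * z⁻¹) * s⁻¹ = (s * y * s⁻¹) * (s * z * s⁻¹)⁻¹ := by group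
      rw [e1, e2, hinv _ hpz, hinv _ hsz]
      obtain ⟨a, ha⟩ : ∃ a, a = p * y * p⁻¹ := ⟨_, rfl⟩
      obtain ⟨b, hb⟩ : ∃ b, b = s * y * s⁻¹ := ⟨_, rfl⟩
      obtain ⟨c, hc⟩ : ∃ c, c = p * z * p⁻¹ := ⟨_, rfl⟩
      obtain ⟨d, hd⟩ : ∃ d, d = s * z * s⁻¹ := ⟨_, rfl⟩
      rw [← ha, ← hb, ← hc, ← hd] at e
      rw [← ha, ← hb, ← hc, ← hd]
      rw [← ha] at hpy
      rw [← hb] at hsy
      rw [← hc] at hpz
      rw [← hd] at hsz
      calc a * c = a * (b * b) * c := by rw [hsq b hsy, mul_one]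
        _ = (a * b) * (b * c) := by group
        _ = (c * d) * (c * b) := by rw [e, cm b hsy c hpz]
        _ = (d * c) * (c * b) := by rw [cm c hpz d hsz]
        _ = d * (c * c) * b := by group
        _ = d * b := by rw [hsq c hpz, mul_one]
        _ = b * d := cm d hsz b hsy
    have eq2 : ∀ x ∈ A, p * γ x * p⁻¹ * (s * γ x * s⁻¹) = (τ * x * τ⁻¹) * (s * x * s⁻¹) := by
      intro x hx
      have h1 := eq1 x hx
      have hpy := TA p hγτ _ (hγA x hx)
      have hsy := TA s hδτ _ (hγA x hx)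
      have hpz := TA τ hτ x hx
      have hsz := TA s hδτ x hx
      obtain ⟨a, ha⟩ : ∃ a, a = p * γ x * p⁻¹ := ⟨_, rfl⟩
      obtain ⟨b, hb⟩ : ∃ b, b = τ * x * τ⁻¹ := ⟨_, rfl⟩
      obtain ⟨c, hc⟩ : ∃ c, c = s * γ x * s⁻¹ := ⟨_, rfl⟩
      obtain ⟨d, hd⟩ : ∃ d, d = s * x * s⁻¹ := ⟨_, rfl⟩
      rw [← ha, ← hb, ← hc, ← hd] at h1
      rw [← ha, ← hb, ← hc, ← hd]
      rw [← ha] at hpy
      rw [← hc] at hsy
      rw [← hb] at hpz
      rw [← hd] at hsz
      calc a * c = a * (b * b) * c := by rw [hsq b hpz, mul_one]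
        _ = (a * b) * (b * c) := by group
        _ = (c * d) * (c * b) := by rw [h1, cm b hpz c hsy]
        _ = (d * c) * (c * b) := by rw [cm c hsy d hsz]
        _ = d * (c * c) * b := by group
        _ = d * b := by rw [hsq c hsy, mul_one]
        _ = b * d := cm d hsz b hpz
    have key : ∀ x ∈ A, γ (τ * x * τ⁻¹) = τ * γ x * τ⁻¹ := by
      intro x hx
      refine inj _ (hγA _ (TA τ hτ x hx)) _ (TA τ hτ _ (hγA x hx)) ?_
      rw [eq2 _ (TA τ hτ x hx), sw s hδτ τ hτ x hx, sw p hγτ τ hτ _ (hγA x hx), sw s hδτ τ hτ _ (hγA x hx)]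
      have h1 := eq2 x hx
      calc τ * (τ * x * τ⁻¹) * τ⁻¹ * (τ * (s * x * s⁻¹) * τ⁻¹) = τ * ((τ * x * τ⁻¹) * (s * x * s⁻¹)) * τ⁻¹ := by group
        _ = τ * (p * γ x * p⁻¹ * (s * γ x * s⁻¹)) * τ⁻¹ := by rw [h1]
        _ = _ := by group
    intro y hy
    obtain ⟨x, hx, rfl⟩ := hγA' y hy
    rw [← key x hx, map_mul, map_mul, map_inv, ← hp]

end lin

variable {I W Y : Type*} [Fintype I] [DecidableEq I] [Group W] [Group Y] {M : CoxeterMatrix I}
  {cs : CoxeterSystem M W} {A : I → I → ℤ} {h : IsCartan M A} {T : Subgroup Y} {n : I → Y}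
  {X : (I → ℤ) → Subgroup Y}

/-- A node with a transitive rank one torus. -/
structure Nd (T : Subgroup Y) (X : (I → ℤ) → Subgroup Y) (i : I) : Prop where
  sq : ∀ x ∈ X (sr i), x * x = 1
  tr : ∀ x ∈ X (sr i), ∀ y ∈ X (sr i), x ≠ 1 → y ≠ 1 → ∃ t ∈ T, t ∈ X (sr i) ⊔ X (-sr i) ∧ t * x * t⁻¹ = y

section

variable (R : RGD cs h 2 T n X)
include R

theorem TX {r : I → ℤ} (hr : IsRoot cs h r) {t : Y} (ht : t ∈ T) {x : Y} (hx : x ∈ X r) : t * x * t⁻¹ ∈ X r := by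
  have h1 := R.tor r hr t ht
  rw [← h1]
  exact conj_mem_cj.2 hx

/-- a torus element centralising `X_i` centralises `⟨X_i, X_{-i}⟩` -/
theorem cent_neg [Finite W] {i : I} {c : Y} (hc : c ∈ T) (hfix : ∀ x ∈ X (sr i), c * x * c⁻¹ = x) {u : Y}
    (hu : u ∈ X (sr i) ⊔ X (-sr i)) : c * u = u * c := by
  have h1 : X (sr i) ≤ centralizer {c} := by
    intro x hx
    rw [mem_centralizer_singleton_iff]
    exact (mul_inv_eq_iff_eq_mul.1 (hfix x hx)).symm
  have h2 : X (-sr i) ≤ centralizer {c} := by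
    intro x hx
    rw [mem_centralizer_singleton_iff]
    by_cases hx1 : x = 1
    · rw [hx1, one_mul, mul_one]
    obtain ⟨a, ha, t, ht, b, hb, e⟩ := R.rk1 i x hx hx1
    have hN := R.nsys.norm i
    have h3 : n i * c⁻¹ * (n i)⁻¹ ∈ T := (Subgroup.mem_normalizer_iff.1 hN _).1 (T.inv_mem hc)
    have h4 : c * x * c⁻¹ * x⁻¹ = 1 := by
      refine ParSys.Fam.neg_inf_B R i _ (mul_mem (TX R (isRoot_sr cs h i).neg hc hx) (inv_mem hx)) ?_
      have e1 : c * x * c⁻¹ * x⁻¹ = (c * a * c⁻¹) * (c * t * (n i * c⁻¹ * (n i)⁻¹) * n i * (c * b * c⁻¹) * b⁻¹ *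
          (n i)⁻¹ * t⁻¹) * a⁻¹ := by rw [e]; group
      have e2 : (c * a * c⁻¹) * (c * t * (n i * c⁻¹ * (n i)⁻¹) * n i * (c * b * c⁻¹) * b⁻¹ *
          (n i)⁻¹ * t⁻¹) * a⁻¹ = a * (c * t * (n i * c⁻¹ * (n i)⁻¹) * t⁻¹) * a⁻¹ := by
        rw [hfix a ha, hfix b hb]; group
      rw [e1, e2]
      have haB : a ∈ RGD.B cs h T X := RGD.X_le_B (isRoot_sr cs h i) (sr_nonneg i) ha
      exact mul_mem (mul_mem haB (RGD.T_le_B (mul_mem (mul_mem (mul_mem hc ht) h3) (inv_mem ht)))) (inv_mem haB)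
    have h5 : c * x * c⁻¹ = x := mul_inv_eq_one.1 h4
    exact (mul_inv_eq_iff_eq_mul.1 h5).symm
  exact (mem_centralizer_singleton_iff.1 ((sup_le h1 h2) hu)).symm

/-- **The torus is abelian.** -/
theorem abelian [Finite W] [Finite Y] (hG : RGD.Sup X {x | IsRoot cs h x} = ⊤)
    (hab : ∀ s ∈ T, ∀ t ∈ T, ∀ x : Y, (s * t) * x * (s * t)⁻¹ = (t * s) * x * (t * s)⁻¹)
    (nd : ∀ i, Nd T X i) : ∀ s ∈ T, ∀ t ∈ T, s * t = t * s := by
  have key : ∀ i, ∀ s ∈ T ⊓ (X (sr i) ⊔ X (-sr i)), ∀ t ∈ T, s * t = t * s := by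
    intro i
    have hne : X (sr i) ≠ ⊥ := Cfsg.Agent.Nodes.Bruhat.X_ne_bot R (isRoot_sr cs h i)
    obtain ⟨x₀, hx₀, hx1⟩ := ((X (sr i)).bot_or_exists_ne_one).resolve_left hne
    have hcomm := comm_of_cyc (A := X (sr i)) (T := T ⊓ (X (sr i) ⊔ X (-sr i))) (nd i).sq hne
      (fun t ht x hx => TX R (isRoot_sr cs h i) ht.1 hx) (fun s hs t ht x _ => hab s hs.1 t ht.1 x)
      (fun x hx y hy hx1 hy1 => by
        obtain ⟨t, ht, htL, e⟩ := (nd i).tr x hx y hy hx1 hy1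
        exact ⟨t, ⟨ht, htL⟩, e⟩)
      (fun c hc hfix t ht => cent_neg R hc.1 hfix ht.2)
    intro s hs t ht
    obtain ⟨τ, hτ, hτL, e⟩ := (nd i).tr x₀ hx₀ _ (TX R (isRoot_sr cs h i) ht hx₀) hx1 (One.conj_ne hx1)
    have hfix : ∀ x ∈ X (sr i), (τ⁻¹ * t) * x * (τ⁻¹ * t)⁻¹ = x := by
      intro x hx
      by_cases h1 : x = 1
      · rw [h1]; group
      obtain ⟨σ, hσ, -, rfl⟩ := (nd i).tr x₀ hx₀ x hx hx1 h1
      have hτt : τ⁻¹ * t ∈ T := mul_mem (inv_mem hτ) ht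
      calc (τ⁻¹ * t) * (σ * x₀ * σ⁻¹) * (τ⁻¹ * t)⁻¹ = ((τ⁻¹ * t) * σ) * x₀ * ((τ⁻¹ * t) * σ)⁻¹ := by group
        _ = (σ * (τ⁻¹ * t)) * x₀ * (σ * (τ⁻¹ * t))⁻¹ := hab _ hτt _ hσ x₀
        _ = σ * τ⁻¹ * (t * x₀ * t⁻¹) * τ * σ⁻¹ := by group
        _ = σ * τ⁻¹ * (τ * x₀ * τ⁻¹) * τ * σ⁻¹ := by rw [e]
        _ = σ * x₀ * σ⁻¹ := by group
    have h1 := cent_neg R (mul_mem (inv_mem hτ) ht) hfix hs.2
    have h2 := hcomm s hs τ ⟨hτ, hτL⟩
    calc s * t = (s * τ) * (τ⁻¹ * t) := by group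
      _ = τ * (s * (τ⁻¹ * t)) := by rw [h2]; group
      _ = τ * ((τ⁻¹ * t) * s) := by rw [h1]
      _ = t * s := by group
  have hT : T ≤ centralizer (T : Set Y) := by
    conv_lhs => rw [← OddHalf.NI.Mult.iSup_eq R hG]
    refine iSup_le fun i s hs => ?_
    rw [mem_centralizer_iff]
    intro t ht
    exact (key i s hs t ht).symm
  intro s hs t ht
  exact (mem_centralizer_iff.1 (hT hs) t ht).symm

variable (hTc : ∀ s ∈ T, ∀ t ∈ T, s * t = t * s)
include hTc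

/-- **`γ` centralises the rank one torus of a node on which it acts as a scalar.** -/
theorem com_node [Finite W] [Finite Y] {i : I} (nd : Nd T X i) {γ δ : MulAut Y} (hγ : _root_.Cfsg.Agent.KFacts.RgdDiag.Diag T X γ 1)
    (hδ' : _root_.Cfsg.Agent.KFacts.RgdDiag.Diag T X δ 1) (hδ : ∀ x ∈ X (sr i), γ x * x = δ x) {t : Y} (ht : t ∈ T)
    (htL : t ∈ X (sr i) ⊔ X (-sr i)) : γ t = t := by
  have hpos : ∀ x ∈ X (sr i), γ x ∈ X (sr i) := fun x hx => (hγ.pos i x).2 hx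
  have hneg : ∀ x ∈ X (-sr i), γ x ∈ X (-sr i) := fun x hx => (hγ.neg i x).2 hx
  have h1 := lin (A := X (sr i)) (T := T) nd.sq hpos (fun y hy => ⟨γ⁻¹ y, (hγ.inv.pos i y).2 hy, MulAut.apply_inv_self _ _ _⟩)
    (fun t ht x hx => TX R (isRoot_sr cs h i) ht hx) (fun s hs t ht x _ => by rw [hTc s hs t ht])
    (fun x hx y hy hx1 hy1 => by
      obtain ⟨t, ht, -, e⟩ := nd.tr x hx y hy hx1 hy1
      exact ⟨t, ht, e⟩) hδ ht ((hγ.tor t).2 ht) ((hδ'.tor t).2 ht)
  have hL : ∀ x ∈ X (sr i) ⊔ X (-sr i), γ x ∈ X (sr i) ⊔ X (-sr i) := by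
    have h2 : X (sr i) ⊔ X (-sr i) ≤ (X (sr i) ⊔ X (-sr i)).comap γ.toMonoidHom :=
      sup_le (fun x hx => mem_sup_left (hpos x hx)) fun x hx => mem_sup_right (hneg x hx)
    exact fun x hx => h2 hx
  have hne : X (sr i) ≠ ⊥ := Cfsg.Agent.Nodes.Bruhat.X_ne_bot R (isRoot_sr cs h i)
  have h3 : t⁻¹ * γ t = 1 := by
    refine fix_eq_one (one_of_rgd R hTc nd.sq) hne (mul_mem (inv_mem ht) ((hγ.tor t).2 ht))
      (mul_mem (inv_mem htL) (hL t htL)) fun x hx => ?_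
    calc t⁻¹ * γ t * x * (t⁻¹ * γ t)⁻¹ = t⁻¹ * (γ t * x * (γ t)⁻¹) * t := by group
      _ = t⁻¹ * (t * x * t⁻¹) * t := by rw [h1 x hx]
      _ = x := by group
  exact (inv_mul_eq_one.1 h3).symm

/-- **The automorphisms centralise the torus.** -/
theorem com [Finite W] [Finite Y] (hG : RGD.Sup X {x | IsRoot cs h x} = ⊤) {γ : MulAut Y} (hγ : _root_.Cfsg.Agent.KFacts.RgdDiag.Diag T X γ 1)
    (hnd : ∀ i, (∀ x ∈ X (sr i), γ x = x) ∨ (Nd T X i ∧ ∃ δ : MulAut Y, _root_.Cfsg.Agent.KFacts.RgdDiag.Diag T X δ 1 ∧ ∀ x ∈ X (sr i), γ x * x = δ x)) :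
    ∀ t ∈ T, γ t = t := by
  have h1 : T ≤ γ.toMonoidHom.eqLocus (MonoidHom.id Y) := by
    conv_lhs => rw [← OddHalf.NI.Mult.iSup_eq R hG]
    refine iSup_le fun i t ht => ?_
    change γ t = t
    rcases hnd i with h2 | ⟨nd, δ, hδ', hδ⟩
    · have h3 : X (sr i) ⊔ X (-sr i) ≤ γ.toMonoidHom.eqLocus (MonoidHom.id Y) :=
        sup_le (fun u hu => h2 u hu) fun u hu => Cfsg.Agent.KFacts.RgdRigid.Diag.apply_neg R hγ h2 hu
      exact h3 ht.2
    · exact com_node R hTc nd hγ hδ' hδ ht.1 ht.2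
  exact fun t ht => h1 ht

end

end Cfsg.Agent.Omega.CR.Com
end

-- part: Mrg/Omega/Lie/End/KSideMain
section
section


/-!
# The K-side: assembly (helper650)

`kSide_of : KTable → KPhi → MovAll → KSide`.
-/

set_option autoImplicit false

namespace Cfsg.Agent.Omega.Lie.End

open Subgroup Cfsg.Agent.Omega.Lie.End.DeadPhi

universe u

/-- helper484: in the Sylow 2-subgroups of `U₃(q)`, `Sz(q)`, `²F₄(q)` every normal elementary abelian subgroup lies in the
Frattini subgroup. -/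
def KPhi : Prop :=
  ∀ (Y : Type u) [Group Y] [Finite Y], (IsUThree Y ∨ Lie.IsoSuzuki Y ∨ Lie.Iso2F4 Y) → ∀ S : Sylow 2 Y, PhiAb S

/-- A 2-subgroup is isomorphic to its image modulo a normal subgroup of odd order. -/
theorem exists_equiv_map {K Y : Type*} [Group K] [Group Y] (f : K →* Y) (hp : Odd (Nat.card f.ker)) {S : Subgroup K}
    (hS : IsPGroup 2 S) : Nonempty (S ≃* S.map f) := by
  refine ⟨MulEquiv.ofBijective (f.subgroupMap S) ⟨?_, f.subgroupMap_surjective S⟩⟩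
  rw [injective_iff_map_eq_one]
  rintro ⟨x, hx⟩ h1
  have h2 : x ∈ f.ker := congrArg Subtype.val h1
  obtain ⟨k, hk⟩ := hS ⟨x, hx⟩
  have hk' : x ^ 2 ^ k = 1 := congrArg Subtype.val hk
  have h3 : x ^ Nat.card f.ker = 1 := by
    have h4 : (⟨x, h2⟩ : f.ker) ^ Nat.card f.ker = 1 := pow_card_eq_one'
    exact congrArg Subtype.val h4
  have h5 : orderOf x ∣ 1 := by
    have hc : (Nat.card f.ker).Coprime (2 ^ k) := Nat.Coprime.pow_right k (Nat.coprime_two_right.2 hp)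
    rw [← hc]
    exact Nat.dvd_gcd (orderOf_dvd_of_pow_eq_one h3) (orderOf_dvd_of_pow_eq_one hk')
  exact Subtype.ext (orderOf_eq_one_iff.1 (Nat.dvd_one.1 h5))

/-- The groups `L₂(q)` (helper578). -/
def KLTwoX : Prop :=
  ∀ (K : Type u) [Group K] [Finite K], commutator K = ⊤ → Odd (Nat.card (center K)) → IsLTwo (K ⧸ center K) →
    ∀ (S : Sylow 2 K) (T : Subgroup (MulAut K)), TAct (S : Subgroup K) T →
      (∃ (J : Type) (_ : Finite J) (P : J → Subgroup K) (m : J → J → ℕ), KSys (S : Subgroup K) T P m ∧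
        Opp (normalizer ((S : Subgroup K) : Set K)) (S : Subgroup K) P ∧ OneL K J) ∨
        KExc K (S : Subgroup K) T

/-- **The K-side, with `Opp` and `OneL`.** -/
theorem kSideX_of (tab : KTable.{u}) (phi : KPhi.{u}) (mov : MovAll.{u}) (ltwo : KLTwoX.{u}) : KSideX.{u} := by
  intro K _ _ hperf hsimple hodd hlie S Γ hT
  have : Fact (Nat.Prime 2) := ⟨Nat.prime_two⟩
  have hs : Function.Surjective (QuotientGroup.mk' (center K)) := QuotientGroup.mk'_surjective _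
  have hker : (QuotientGroup.mk' (center K)).ker = center K := QuotientGroup.ker_mk' _
  have hp : Odd (Nat.card (QuotientGroup.mk' (center K)).ker) := by rw [hker]; exact hodd
  rcases tab (K ⧸ center K) hsimple hlie with h1 | h1 | h1
  · exact Or.inl (row_sideX mov (QuotientGroup.mk' (center K)) hker.le hp hs hperf h1 S hT)
  · exact ltwo K hperf hodd h1 S Γ hT
  · exfalso
    obtain ⟨e⟩ := exists_equiv_map (QuotientGroup.mk' (center K)) hp S.2
    have h2 : PhiAb ((S : Subgroup K).map (QuotientGroup.mk' (center K))) := phi _ h1 (S.mapSurjective hs)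
    exact false_of_tact S.2 (h2.map e.symm) hT

end Cfsg.Agent.Omega.Lie.End

end

section


/-!
# The K-side: a root group datum on the component on which `T` acts diagonally, centralising the torus

* `KDiag S Γ` : a root group datum of `K` with `U = S`, `Γ` diagonal and trivial on the torus;
* `core` : for a group with a root group datum, `Γ` in the frame group;
* `kdiag_of` : for a perfect central extension of odd degree;
* `kDiag_all` : `KTable`, `KPhi` and `TAct` imply `KDiag` or `KExc`.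
-/

set_option autoImplicit false
set_option linter.unusedSectionVars false

namespace Cfsg.Agent.Omega.CR

open Subgroup CoxeterSystem Cfsg.Agent.ChevalleyStructure.CoxeterGeom Cfsg.Agent.Tits.Roots Cfsg.Agent.Tits.Core
  Cfsg.Agent.Tits.RootComb Cfsg.Agent.Nodes.Comb Cfsg.Agent.Nodes.Reps Cfsg.Agent.Nodes.BNOf
  Cfsg.Agent.Nodes.Bruhat Cfsg.Agent.Nodes.StabComb Cfsg.Agent.Nodes.LeviDec Cfsg.Agent.Nodes.RGDLift
  Cfsg.Agent.KFacts.RgdAut Cfsg.Agent.KFacts.RgdDiag Cfsg.Agent.KFacts.RgdRigid Cfsg.Agent.KFacts.RgdCharP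
  Cfsg.Agent.Omega.Lie.End Cfsg.Agent.Omega.Lie.End.Mov Cfsg.Agent.Omega.Lie.End.KTrFree

/-- **The root group datum of a component with the diagonal action.** -/
def KDiag {K : Type*} [Group K] (S : Subgroup K) (Γ : Subgroup (MulAut K)) : Prop :=
  ∃ (l : ℕ) (M : CoxeterMatrix (Fin l)) (A : Fin l → Fin l → ℤ) (h : IsCartan M A) (T : Subgroup K) (n : Fin l → K)
    (X : (Fin l → ℤ) → Subgroup K), Finite M.Group ∧ Conn M ∧ RGD M.toCoxeterSystem h 2 T n X ∧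
      RGD.Sup X {x | IsRoot M.toCoxeterSystem h x} = ⊤ ∧ RGD.Sup X (RGD.Pos M.toCoxeterSystem h) = S ∧
      ∀ γ ∈ Γ, _root_.Cfsg.Agent.KFacts.RgdDiag.Diag T X γ 1 ∧ ∀ t ∈ T, γ t = t

section core

variable {I W Y : Type*} [Fintype I] [DecidableEq I] [Group W] [Group Y] {M : CoxeterMatrix I}
  {cs : CoxeterSystem M W} {A : I → I → ℤ} {h : IsCartan M A} {T : Subgroup Y} {n : I → Y}
  {X : (I → ℤ) → Subgroup Y}

/-- **The action is diagonal and centralises the torus.** -/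
theorem core [Finite W] [Finite Y] (R : RGD cs h 2 T n X) (hG1 : RGD.Sup X {x | IsRoot cs h x} = ⊤) (hc : Conn M)
    (hab : ∀ s ∈ T, ∀ t ∈ T, ∀ x : Y, (s * t) * x * (s * t)⁻¹ = (t * s) * x * (t * s)⁻¹)
    (htr : ∀ i, (∀ x ∈ X (sr i), x * x = 1) → ∀ x ∈ X (sr i), ∀ y ∈ X (sr i), x ≠ 1 → y ≠ 1 →
      ∃ t ∈ T, t ∈ X (sr i) ⊔ X (-sr i) ∧ t * x * t⁻¹ = y)
    {Γ : Subgroup (MulAut Y)} (hT : TAct (RGD.Sup X (RGD.Pos cs h)) Γ) (hF : ∀ γ ∈ Γ, γ ∈ Frame cs h X)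
    (hone : (∃ i : I, ∀ j, j = i) → RGD.Sup X (RGD.Pos cs h) ≤ AT (RGD.Sup X (RGD.Pos cs h)) Γ) :
    ∀ γ ∈ Γ, _root_.Cfsg.Agent.KFacts.RgdDiag.Diag T X γ 1 ∧ ∀ t ∈ T, γ t = t := by
  have H := Act.of_tact hF hT
  have hsqA : ∀ a ∈ AA (RGD.Sup X (RGD.Pos cs h)) Γ, a * a = 1 := by
    rw [← Mov.AT_eq]
    exact hT.sq
  -- the two cases
  have key : (∀ i, ∀ x ∈ X (sr i), x * x = 1) ∧
      ∀ i, Mv X Γ i → X (sr i) ≤ AA (RGD.Sup X (RGD.Pos cs h)) Γ := by
    by_cases h2 : ∀ i : I, ∃ j, j ≠ i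
    · exact ⟨fun i x hx => H.el R hG1 hc h2 hsqA hx, fun i hi => H.le_AA R hG1 hc h2 hi⟩
    · push Not at h2
      obtain ⟨i₀, hi₀⟩ := h2
      have h3 := hone ⟨i₀, hi₀⟩
      have h4 : ∀ i, X (sr i) ≤ AA (RGD.Sup X (RGD.Pos cs h)) Γ := by
        intro i
        rw [← Mov.AT_eq]
        exact (RGD.le_Sup (S := RGD.Pos cs h) ⟨isRoot_sr cs h i, sr_nonneg i⟩).trans h3
      exact ⟨fun i x hx => hsqA x (h4 i hx), fun i _ => h4 i⟩
  obtain ⟨hsq, hle⟩ := key
  have nd : ∀ i, Com.Nd T X i := fun i => ⟨hsq i, htr i (hsq i)⟩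
  have hTc := Com.abelian R hG1 hab nd
  intro γ hγ
  have hD := H.diag_one R hG1 hc hγ
  refine ⟨hD, Com.com R hTc hG1 hD fun i => ?_⟩
  by_cases hγ1 : γ = 1
  · exact Or.inl fun x _ => by rw [hγ1]; rfl
  by_cases hi : Mv X Γ i
  · right
    obtain ⟨δ, hδ, e⟩ := hT.scal γ hγ 1 (one_mem Γ) hγ1
    refine ⟨nd i, δ, H.diag_one R hG1 hc hδ, fun x hx => ?_⟩
    have h1 : x ∈ AT (RGD.Sup X (RGD.Pos cs h)) Γ := by
      rw [Mov.AT_eq]
      exact hle i hi hx
    exact e x h1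
  · left
    intro x hx
    by_contra h1
    exact hi ⟨γ, hγ, x, hx, h1⟩

end core

section lift

variable {l : ℕ} {M : CoxeterMatrix (Fin l)} {A : Fin l → Fin l → ℤ} {h : IsCartan M A}

/-- conjugation of the data by an element of `S` -/
theorem KDiag.conj {K : Type*} [Group K] {S : Subgroup K} {Γ : Subgroup (MulAut K)} {v : K} (hv : v ∈ S)
    (hk : KDiag S (cG v Γ)) : KDiag S Γ := by
  obtain ⟨l, M, A, h, T, n, X, hW, hc, R, hG1, hU, hD⟩ := hk
  have hinj : Function.Injective (MulAut.conj v⁻¹).toMonoidHom := (MulAut.conj v⁻¹).injective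
  have hmem : ∀ (P : Subgroup K) (y : K), y ∈ P.map (MulAut.conj v⁻¹).toMonoidHom ↔ v * y * v⁻¹ ∈ P := by
    intro P y
    constructor
    · rintro ⟨x, hx, rfl⟩
      have e : v * ((MulAut.conj v⁻¹).toMonoidHom x) * v⁻¹ = x := by
        show v * (v⁻¹ * x * v⁻¹⁻¹) * v⁻¹ = x
        group
      rw [e]; exact hx
    · intro hy
      refine ⟨_, hy, ?_⟩
      show v⁻¹ * (v * y * v⁻¹) * v⁻¹⁻¹ = y
      group
  have hSup : ∀ S' : Set (Fin l → ℤ), RGD.Sup (fun x => (X x).map (MulAut.conj v⁻¹).toMonoidHom) S' =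
      (RGD.Sup X S').map (MulAut.conj v⁻¹).toMonoidHom := by
    intro S'
    unfold RGD.Sup
    rw [Subgroup.map_iSup]
  refine ⟨l, M, A, h, T.map (MulAut.conj v⁻¹).toMonoidHom, fun i => (MulAut.conj v⁻¹).toMonoidHom (n i),
    fun x => (X x).map (MulAut.conj v⁻¹).toMonoidHom, hW, hc, Nodes.RGDLib.rgd_map_of_injective R _ hinj, ?_, ?_, ?_⟩
  · rw [hSup, hG1, ← MonoidHom.range_eq_map, MonoidHom.range_eq_top]
    exact (MulAut.conj v⁻¹).surjective
  · rw [hSup, hU]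
    ext y
    rw [hmem]
    constructor
    · intro hy
      have e : y = v⁻¹ * (v * y * v⁻¹) * v := by group
      rw [e]
      exact mul_mem (mul_mem (inv_mem hv) hy) hv
    · intro hy
      exact mul_mem (mul_mem hv hy) (inv_mem hv)
  · intro γ hγ
    obtain ⟨D, hDt⟩ := hD (MulAut.conj v * γ * (MulAut.conj v)⁻¹) ⟨γ, hγ, rfl⟩
    have key : ∀ y, (MulAut.conj v * γ * (MulAut.conj v)⁻¹) (v * y * v⁻¹) = v * γ y * v⁻¹ := by
      intro y
      rw [cG_apply]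
      congr 3
      group
    refine ⟨⟨fun y => ?_, fun i y => ?_, fun i y => ?_⟩, fun t ht => ?_⟩
    · rw [hmem, hmem, ← key, D.tor]
    · rw [hmem, hmem, ← key, D.pos]
    · rw [hmem, hmem, ← key, D.neg]
    · have h1 := hDt _ ((hmem T t).1 ht)
      rw [key] at h1
      exact mul_left_cancel (mul_right_cancel h1)

universe u

/-- **Perfect central extensions of odd degree.** -/
theorem kdiag_of {K : Type u} [Group K] [Finite K] {Y : Type u} [Group Y] [Finite Y] (f : K →* Y)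
    (hf : f.ker ≤ center K) (hp : Odd (Nat.card f.ker)) (hs : Function.Surjective f) (hperf : commutator K = ⊤)
    {T : Subgroup Y} {n : Fin l → Y} {X : (Fin l → ℤ) → Subgroup Y} (hW : Finite M.Group) (hc : Conn M)
    (R : RGD M.toCoxeterSystem h 2 T n X) (hG1 : RGD.Sup X {x | IsRoot M.toCoxeterSystem h x} = ⊤)
    (hTc : ∀ s ∈ T, ∀ t ∈ T, s * t = t * s) (S : Sylow 2 K) {Γ : Subgroup (MulAut K)}
    (hT : TAct (S : Subgroup K) Γ) (hone : (∃ i : Fin l, ∀ j, j = i) → (S : Subgroup K) ≤ AT (S : Subgroup K) Γ) :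
    KDiag (S : Subgroup K) Γ := by
  have : Fact (Nat.Prime 2) := ⟨Nat.prime_two⟩
  set cs := M.toCoxeterSystem with hcs
  -- `U` is a Sylow subgroup of `Y`
  let Q : Sylow 2 Y :=
    { toSubgroup := RGD.Sup X (RGD.Pos cs h)
      isPGroup' := R.isPGroup_Upos
      is_maximal' := fun {P} hP hUP => by
        have hG : GG cs h T X = ⊤ := Cfsg.Agent.KFacts.RgdRigid.GG_eq_top hG1
        exact Cfsg.Agent.KFacts.RgdEx.eq_U R hUP (by rw [hG]; exact le_top) hP }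
  obtain ⟨g, hg⟩ := MulAction.exists_smul_eq Y (S.mapSurjective hs) Q
  -- adjust `f`
  obtain ⟨f', hf'⟩ : ∃ f' : K →* Y, ∀ x, f' x = g * f x * g⁻¹ :=
    ⟨(MulAut.conj g).toMonoidHom.comp f, fun x => rfl⟩
  have hker : f'.ker = f.ker := by
    ext x
    rw [MonoidHom.mem_ker, MonoidHom.mem_ker, hf']
    constructor
    · intro e
      have e1 : g⁻¹ * (g * f x * g⁻¹) * g = f x := by group
      rw [← e1, e]; group
    · intro e
      rw [e]; group
  have hf1 : f'.ker ≤ center K := by rw [hker]; exact hf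
  have hp1 : (Nat.card f'.ker).Coprime 2 := by rw [hker]; exact Nat.coprime_two_right.2 hp
  have hs1 : Function.Surjective f' := by
    intro y
    obtain ⟨x, hx⟩ := hs (g⁻¹ * y * g)
    exact ⟨x, by rw [hf', hx]; group⟩
  have hSmap : (S : Subgroup K).map f' = RGD.Sup X (RGD.Pos cs h) := by
    have h1 : ((g • S.mapSurjective hs : Sylow 2 Y) : Subgroup Y) = RGD.Sup X (RGD.Pos cs h) := by
      rw [hg]
    rw [← h1]
    ext y
    constructor
    · rintro ⟨x, hx, rfl⟩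
      rw [hf']
      exact ⟨f x, ⟨x, hx, rfl⟩, rfl⟩
    · rintro ⟨_, ⟨x, hx, rfl⟩, rfl⟩
      exact ⟨x, hx, hf' x⟩
  -- the lifted root group datum
  choose n' hn' using fun i => hs1 (n i)
  have R' := rgd_lift hf1 hp1 hs1 R hn'
  set T' := T.comap f' with hT'
  set X' : (Fin l → ℤ) → Subgroup K := fun x => lft 2 f' (X x) with hX'
  have hU : RGD.Sup X' (RGD.Pos cs h) = (S : Subgroup K) := by
    have h1 : lft 2 f' (RGD.Sup X (RGD.Pos cs h)) = RGD.Sup X' (RGD.Pos cs h) :=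
      lft_iSup hf1 hp1 hs1 _ R.isPGroup_Upos
    rw [← h1]
    exact (eq_lft hf1 hp1 R.isPGroup_Upos S.2 hSmap).symm
  have hG1' : RGD.Sup X' {x | IsRoot cs h x} = ⊤ := by
    refine eq_top_of_map hf1 hperf ?_
    rw [eq_top_iff, ← hG1]
    refine RGD.Sup_le fun x hx => ?_
    rw [← map_lft hf1 hp1 hs1 (R.pgrp' hx)]
    exact Subgroup.map_mono (RGD.le_Sup (X := X') (S := {x | IsRoot cs h x}) hx)
  -- transitivity
  have hab : ∀ s ∈ T', ∀ t ∈ T', ∀ x : K, (s * t) * x * (s * t)⁻¹ = (t * s) * x * (t * s)⁻¹ := by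
    intro s hs' t ht' x
    have h1 : (t * s)⁻¹ * (s * t) ∈ f'.ker := by
      rw [MonoidHom.mem_ker, map_mul, map_inv, map_mul, map_mul, hTc _ hs' _ ht', inv_mul_cancel]
    have h2 := Subgroup.mem_center_iff.1 (hf1 h1) x
    have e : s * t = t * s * ((t * s)⁻¹ * (s * t)) := by group
    obtain ⟨z, hz⟩ : ∃ z, z = (t * s)⁻¹ * (s * t) := ⟨_, rfl⟩
    rw [← hz] at h2 e
    rw [e]
    calc t * s * z * x * (t * s * z)⁻¹ = t * s * (z * x) * z⁻¹ * (t * s)⁻¹ := by group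
      _ = t * s * (x * z) * z⁻¹ * (t * s)⁻¹ := by rw [h2]
      _ = _ := by group
  have htr : ∀ i, (∀ x ∈ X' (sr i), x * x = 1) → ∀ x ∈ X' (sr i), ∀ y ∈ X' (sr i), x ≠ 1 → y ≠ 1 →
      ∃ t ∈ T', t ∈ X' (sr i) ⊔ X' (-sr i) ∧ t * x * t⁻¹ = y := by
    intro i hsq x hx y hy hx1 hy1
    have hri : IsRoot cs h (sr i) := isRoot_sr cs h i
    have hsqY := sq_of_lft hf1 hp1 hs1 (R.pgrp i) hsq
    have hxX : f' x ∈ X (sr i) := ((mem_lft hf1 (R.pgrp i)).1 hx).1
    have hyX : f' y ∈ X (sr i) := ((mem_lft hf1 (R.pgrp i)).1 hy).1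
    obtain ⟨t, ht, htL, e⟩ := (one_of_rgd R hTc hsqY).tr hxX
      (fun e => hx1 (eq_one_of_mem_lft hf1 hp1 (R.pgrp i) hx e)) hyX
      (fun e => hy1 (eq_one_of_mem_lft hf1 hp1 (R.pgrp i) hy e))
    have htL' : t ∈ (X' (sr i) ⊔ X' (-sr i)).map f' := by
      rw [Subgroup.map_sup]
      have e1 : (X' (sr i)).map f' = X (sr i) := map_lft hf1 hp1 hs1 (R.pgrp i)
      have e2 : (X' (-sr i)).map f' = X (-sr i) := map_lft hf1 hp1 hs1 (R.pgrp' hri.neg)
      rw [e1, e2]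
      exact htL
    obtain ⟨t', ht'L, rfl⟩ := htL'
    have ht'T : t' ∈ T' := ht
    refine ⟨t', ht'T, ht'L, ?_⟩
    refine lft_inj hf1 hp1 (R.pgrp i) (Com.TX R' hri ht'T hx) hy ?_
    rw [map_mul, map_mul, map_inv, e]
  -- the action
  rw [← hU] at hT hone ⊢
  have hGG : GG cs h T' X' = ⊤ := Cfsg.Agent.KFacts.RgdRigid.GG_eq_top hG1'
  obtain ⟨v, hv, hvF⟩ := exists_conj_frame R' hGG hT.odd hT.comm (fun γ hγ x => by
    refine ⟨fun h3 => ?_, hT.stab γ hγ x⟩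
    have h4 := hT.stab γ⁻¹ (inv_mem hγ) _ h3
    rwa [MulAut.inv_apply_self] at h4)
  have hT1 := hT.cG hv
  have hF : ∀ γ ∈ cG v Γ, γ ∈ Frame cs h X' := by
    rintro _ ⟨γ, hγ, rfl⟩
    exact hvF γ hγ
  refine KDiag.conj hv ⟨l, M, A, h, T', n', X', hW, hc, R', hG1', rfl, ?_⟩
  refine core R' hG1' hc hab htr hT1 hF fun h1 => ?_
  intro u hu
  rw [AT_cG_iff hv]
  exact hone h1 (mul_mem (mul_mem (inv_mem hv) hu) hv)

end lift

end Cfsg.Agent.Omega.CR

end

section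


/-!
# Curtis–Richen, part 1: the operator `σ A = ∑_{a ∈ A} ρ a`, fixed vectors, eigenvectors
-/

set_option autoImplicit false

namespace Cfsg.Agent.Omega.CR

open Subgroup

variable {Y k V : Type*} [Group Y] [Finite Y] [Field k] [AddCommGroup V] [Module k V]
  (ρ : Y →* Module.End k V)

theorem rho_mul {Y k V : Type*} [Group Y] [Field k] [AddCommGroup V] [Module k V]
    (ρ : Y →* Module.End k V) (g h : Y) (v : V) : ρ (g * h) v = ρ g (ρ h v) := by
  rw [map_mul]; rfl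

theorem rho_one {Y k V : Type*} [Group Y] [Field k] [AddCommGroup V] [Module k V]
    (ρ : Y →* Module.End k V) (v : V) : ρ 1 v = v := by
  rw [map_one]; rfl

theorem rho_inv_rho {Y k V : Type*} [Group Y] [Field k] [AddCommGroup V] [Module k V]
    (ρ : Y →* Module.End k V) (g : Y) (v : V) : ρ g⁻¹ (ρ g v) = v := by
  rw [← rho_mul, inv_mul_cancel, rho_one]

theorem rho_rho_inv {Y k V : Type*} [Group Y] [Field k] [AddCommGroup V] [Module k V]
    (ρ : Y →* Module.End k V) (g : Y) (v : V) : ρ g (ρ g⁻¹ v) = v := by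
  rw [← rho_mul, mul_inv_cancel, rho_one]

theorem rho_ne_zero {Y k V : Type*} [Group Y] [Field k] [AddCommGroup V] [Module k V]
    (ρ : Y →* Module.End k V) (g : Y) {v : V} (hv : v ≠ 0) : ρ g v ≠ 0 := by
  intro h
  apply hv
  rw [← rho_inv_rho ρ g v, h, map_zero]

/-- `∑_{a ∈ A} ρ a` -/
noncomputable def sg (A : Subgroup Y) : Module.End k V :=
  letI := Fintype.ofFinite A
  ∑ a : A, ρ (a : Y)

theorem sg_def (A : Subgroup Y) [Fintype A] (v : V) : sg ρ A v = ∑ a : A, ρ (a : Y) v := by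
  unfold sg
  rw [LinearMap.sum_apply]
  exact Finset.sum_congr (by ext; simp only [_root_.Finset.mem_univ]) fun _ _ => rfl

theorem sg_bot (v : V) : sg ρ (⊥ : Subgroup Y) v = v := by
  classical
  let _ : Fintype (⊥ : Subgroup Y) := Fintype.ofFinite _
  rw [sg_def]
  rw [Finset.sum_eq_single (1 : (⊥ : Subgroup Y))]
  · rw [Subgroup.coe_one, rho_one]
  · intro b _ hb
    exact absurd (Subtype.ext (Subgroup.mem_bot.1 b.2)) hb
  · intro h
    exact absurd (Finset.mem_univ _) h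

theorem rho_sg_of_mem (A : Subgroup Y) {a : Y} (ha : a ∈ A) (v : V) :
    ρ a (sg ρ A v) = sg ρ A v := by
  classical
  let _ := Fintype.ofFinite A
  rw [sg_def, map_sum]
  refine Fintype.sum_equiv (Equiv.mulLeft (⟨a, ha⟩ : A)) _ _ fun b => ?_
  rw [← rho_mul]
  rfl

theorem sg_rho_of_mem (A : Subgroup Y) {a : Y} (ha : a ∈ A) (v : V) :
    sg ρ A (ρ a v) = sg ρ A v := by
  classical
  let _ := Fintype.ofFinite A
  rw [sg_def, sg_def]
  refine Fintype.sum_equiv (Equiv.mulRight (⟨a, ha⟩ : A)) _ _ fun b => ?_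
  rw [← rho_mul]
  rfl

/-- conjugation -/
theorem rho_sg (A : Subgroup Y) (g : Y) (v : V) :
    ρ g (sg ρ A v) = sg ρ (A.map (MulAut.conj g).toMonoidHom) (ρ g v) := by
  classical
  let _ := Fintype.ofFinite A
  let _ := Fintype.ofFinite (A.map (MulAut.conj g).toMonoidHom)
  rw [sg_def, sg_def, map_sum]
  refine Fintype.sum_bijective
    (fun a : A => (⟨g * a * g⁻¹, ⟨a, a.2, rfl⟩⟩ : A.map (MulAut.conj g).toMonoidHom))
    ⟨?_, ?_⟩ _ _ ?_
  · intro a b h
    have h1 : g * (a : Y) * g⁻¹ = g * (b : Y) * g⁻¹ := congrArg Subtype.val h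
    apply Subtype.ext
    exact mul_left_cancel (mul_right_cancel h1)
  · rintro ⟨_, a, ha, rfl⟩
    exact ⟨⟨a, ha⟩, rfl⟩
  · intro a
    change ρ g (ρ (a : Y) v) = ρ (g * a * g⁻¹) (ρ g v)
    rw [← rho_mul, ← rho_mul]
    congr 2
    group

/-- product decomposition -/
theorem sg_mul {A B C : Subgroup Y} (hB : B ≤ A) (hC : C ≤ A) (hBC : B ⊓ C = ⊥)
    (hA : ∀ a ∈ A, ∃ b ∈ B, ∃ c ∈ C, a = b * c) (v : V) :
    sg ρ A v = sg ρ B (sg ρ C v) := by
  classical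
  let _ := Fintype.ofFinite A
  let _ := Fintype.ofFinite B
  let _ := Fintype.ofFinite C
  rw [sg_def ρ A, sg_def ρ B, sg_def ρ C]
  simp only [map_sum]
  rw [← Fintype.sum_prod_type' (f := fun (b : B) (c : C) => ρ (b : Y) (ρ (c : Y) v))]
  symm
  refine Fintype.sum_bijective
    (fun x : B × C => (⟨x.1 * x.2, mul_mem (hB x.1.2) (hC x.2.2)⟩ : A)) ⟨?_, ?_⟩ _ _ ?_
  · rintro ⟨b, c⟩ ⟨b', c'⟩ h
    have h1 : (b : Y) * c = b' * c' := congrArg Subtype.val h
    have h2 : (b' : Y)⁻¹ * b = c' * (c : Y)⁻¹ := by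
      rw [inv_mul_eq_iff_eq_mul, ← mul_assoc, ← h1]; group
    have h3 : (b' : Y)⁻¹ * b ∈ B ⊓ C :=
      ⟨B.mul_mem (B.inv_mem b'.2) b.2, by rw [h2]; exact C.mul_mem c'.2 (C.inv_mem c.2)⟩
    rw [hBC, Subgroup.mem_bot] at h3
    have h4 : (b : Y) = b' := by
      rw [inv_mul_eq_one] at h3; exact h3.symm
    have h5 : (c : Y) = c' := by
      rw [h4] at h1; exact mul_left_cancel h1
    exact Prod.ext (Subtype.ext h4) (Subtype.ext h5)
  · rintro ⟨a, ha⟩
    obtain ⟨b, hb, c, hc, e⟩ := hA a ha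
    exact ⟨(⟨b, hb⟩, ⟨c, hc⟩), Subtype.ext e.symm⟩
  · intro x
    rw [← rho_mul]

/-- fixed vectors are killed when `p ∣ |A|` -/
theorem sg_fixed {p : ℕ} [CharP k p] {A : Subgroup Y} (hp : p ∣ Nat.card A) {v : V}
    (hv : ∀ a ∈ A, ρ a v = v) : sg ρ A v = 0 := by
  classical
  let _ := Fintype.ofFinite A
  rw [sg_def, Finset.sum_congr rfl fun (a : A) _ => hv a a.2, Finset.sum_const, Finset.card_univ,
    ← Nat.cast_smul_eq_nsmul k, ← Nat.card_eq_fintype_card, (CharP.cast_eq_zero_iff k p _).2 hp,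
    zero_smul]

/-- a `p`-group has a nonzero fixed vector in a nonzero invariant subspace, characteristic `p` -/
theorem exists_fixed {p : ℕ} [Fact p.Prime] [CharP k p] {A : Subgroup Y} (hA : IsPGroup p A)
    (N : Submodule k V) (hN : ∀ a ∈ A, ∀ v ∈ N, ρ a v ∈ N) (hN0 : N ≠ ⊥) :
    ∃ v ∈ N, v ≠ 0 ∧ ∀ a ∈ A, ρ a v = v := by
  classical
  obtain ⟨v₀, hv₀, hv0⟩ := (Submodule.ne_bot_iff N).1 hN0
  -- the additive group generated by the orbit
  let S : AddSubgroup V := AddSubgroup.closure (Set.range fun a : A => ρ (a : Y) v₀)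
  have hS : ∀ a ∈ A, ∀ v ∈ S, ρ a v ∈ S := by
    intro a ha v hv
    induction hv using AddSubgroup.closure_induction with
    | mem x hx =>
      obtain ⟨b, rfl⟩ := hx
      change ρ a (ρ (b : Y) v₀) ∈ S
      rw [← rho_mul]
      exact AddSubgroup.subset_closure ⟨⟨a, ha⟩ * b, rfl⟩
    | zero => rw [map_zero]; exact zero_mem _
    | add x y _ _ hx hy => rw [map_add]; exact add_mem hx hy
    | neg x _ hx => rw [map_neg]; exact neg_mem hx
  have hSN : ∀ v ∈ S, v ∈ N := by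
    intro v hv
    have : S ≤ N.toAddSubgroup := by
      rw [AddSubgroup.closure_le]
      rintro _ ⟨a, rfl⟩
      exact hN a a.2 v₀ hv₀
    exact this hv
  have hfin : Finite S := by
    have hp : ∀ x : V, p • x = 0 := by
      intro x
      rw [← Nat.cast_smul_eq_nsmul k, CharP.cast_eq_zero, zero_smul]
    have hp' : ∀ x ∈ Set.range (fun a : A => ρ (a : Y) v₀), IsOfFinAddOrder x := by
      intro x _
      exact isOfFinAddOrder_iff_nsmul_eq_zero.2 ⟨p, (Fact.out : p.Prime).pos, hp x⟩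
    let _ : Module (ZMod p) V := AddCommGroup.zmodModule (n := p) hp
    have h1 : (S : Set V) ⊆ (Submodule.span (ZMod p) (Set.range fun a : A => ρ (a : Y) v₀) : Set V) := by
      have : S ≤ (Submodule.span (ZMod p) (Set.range fun a : A => ρ (a : Y) v₀)).toAddSubgroup := by
        rw [AddSubgroup.closure_le]
        exact Submodule.subset_span
      exact this
    have h2 : Module.Finite (ZMod p)
        (Submodule.span (ZMod p) (Set.range fun a : A => ρ (a : Y) v₀)) :=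
      Module.Finite.span_of_finite _ (Set.finite_range _)
    have h3 : Finite (Submodule.span (ZMod p) (Set.range fun a : A => ρ (a : Y) v₀)) :=
      Module.finite_of_finite (ZMod p)
    exact Set.Finite.subset (Set.toFinite _) h1
  let _ : MulAction A S :=
    { smul := fun a v => ⟨ρ (a : Y) v, hS a a.2 v v.2⟩
      one_smul := fun v => Subtype.ext (rho_one ρ _)
      mul_smul := fun a b v => Subtype.ext (rho_mul ρ _ _ _) }
  have hsm : ∀ (a : A) (v : S), ((a • v : S) : V) = ρ (a : Y) v := fun _ _ => rfl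
  have hcard : p ∣ Nat.card S := by
    have h1 : (⟨ρ ((1 : A) : Y) v₀, AddSubgroup.subset_closure ⟨1, rfl⟩⟩ : S) ≠ 0 := by
      intro h
      have h2 : ρ ((1 : A) : Y) v₀ = 0 := congrArg Subtype.val h
      rw [Subgroup.coe_one, rho_one] at h2
      exact hv0 h2
    have h2 : addOrderOf (⟨ρ ((1 : A) : Y) v₀, AddSubgroup.subset_closure ⟨1, rfl⟩⟩ : S) = p := by
      apply addOrderOf_eq_prime _ h1
      apply Subtype.ext
      change p • (ρ ((1 : A) : Y) v₀) = 0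
      rw [← Nat.cast_smul_eq_nsmul k, CharP.cast_eq_zero, zero_smul]
    rw [← h2]
    exact addOrderOf_dvd_natCard _
  have hmod := hA.card_modEq_card_fixedPoints (α := S)
  have hdvd : p ∣ Nat.card (MulAction.fixedPoints A S) :=
    (Nat.modEq_zero_iff_dvd.1 ((hmod.symm.trans (Nat.modEq_zero_iff_dvd.2 hcard))))
  have h0 : (0 : S) ∈ MulAction.fixedPoints A S := by
    intro a
    exact Subtype.ext (map_zero _)
  have h1 : 1 < Nat.card (MulAction.fixedPoints A S) := by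
    have : 0 < Nat.card (MulAction.fixedPoints A S) :=
      Nat.card_pos_iff.2 ⟨⟨⟨0, h0⟩⟩, inferInstance⟩
    exact lt_of_lt_of_le (Fact.out : p.Prime).one_lt (Nat.le_of_dvd this hdvd)
  rw [Finite.one_lt_card_iff_nontrivial] at h1
  obtain ⟨⟨w, hw⟩, hne⟩ := exists_ne (⟨0, h0⟩ : MulAction.fixedPoints A S)
  refine ⟨w, hSN _ w.2, ?_, ?_⟩
  · intro h
    apply hne
    apply Subtype.ext
    exact Subtype.ext h
  · intro a ha
    have := hw ⟨a, ha⟩
    exact congrArg Subtype.val this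

omit [Finite Y] in
/-- a commuting family has a common eigenvector -/
theorem exists_eigen [IsAlgClosed k] [FiniteDimensional k V] {T : Subgroup Y}
    (hT : ∀ s ∈ T, ∀ t ∈ T, ∀ v, ρ s (ρ t v) = ρ t (ρ s v)) (N : Submodule k V)
    (hN : ∀ t ∈ T, ∀ v ∈ N, ρ t v ∈ N) (hN0 : N ≠ ⊥) :
    ∃ v ∈ N, v ≠ 0 ∧ ∃ χ : Y → k, ∀ t ∈ T, ρ t v = χ t • v := by
  classical
  -- a minimal nonzero T-stable subspace
  obtain ⟨L, ⟨hLN, hL0, hL⟩, hmin⟩ := (wellFounded_lt (α := Submodule k V)).has_min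
    {L : Submodule k V | L ≤ N ∧ L ≠ ⊥ ∧ ∀ t ∈ T, ∀ v ∈ L, ρ t v ∈ L} ⟨N, le_rfl, hN0, hN⟩
  have key : ∀ t ∈ T, ∃ c : k, ∀ v ∈ L, ρ t v = c • v := by
    intro t ht
    have : Nontrivial L := (Submodule.nontrivial_iff_ne_bot).2 hL0
    let f : Module.End k L := (ρ t).restrict (hL t ht)
    obtain ⟨c, hc⟩ := Module.End.exists_eigenvalue f
    let L' : Submodule k V := (Module.End.eigenspace f c).map L.subtype
    have hL'1 : L' ≤ L := by
      rintro _ ⟨x, -, rfl⟩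
      exact x.2
    have hmem : ∀ v, v ∈ L' ↔ v ∈ L ∧ ρ t v = c • v := by
      intro v
      constructor
      · rintro ⟨x, hx, rfl⟩
        refine ⟨x.2, ?_⟩
        have := Module.End.mem_eigenspace_iff.1 hx
        exact congrArg Subtype.val this
      · rintro ⟨hv, he⟩
        exact ⟨⟨v, hv⟩, Module.End.mem_eigenspace_iff.2 (Subtype.ext he), rfl⟩
    have hL'0 : L' ≠ ⊥ := by
      obtain ⟨x, hx⟩ := hc.exists_hasEigenvector
      intro h
      have h1 : (x : V) ∈ L' := ⟨x, hx.1, rfl⟩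
      rw [h, Submodule.mem_bot] at h1
      exact hx.2 (Subtype.ext h1)
    have hL'2 : ∀ s ∈ T, ∀ v ∈ L', ρ s v ∈ L' := by
      intro s hs v hv
      rw [hmem] at hv ⊢
      refine ⟨hL s hs v hv.1, ?_⟩
      rw [hT t ht s hs, hv.2, map_smul]
    have : L' = L := by
      by_contra hne
      exact hmin L' ⟨hL'1.trans hLN, hL'0, hL'2⟩ (lt_of_le_of_ne hL'1 hne)
    refine ⟨c, fun v hv => ?_⟩
    rw [← this, hmem] at hv
    exact hv.2
  choose! c hc using key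
  obtain ⟨v, hv, hv0⟩ := (Submodule.ne_bot_iff L).1 hL0
  exact ⟨v, hLN hv, hv0, c, fun t ht => hc t ht v hv⟩

end Cfsg.Agent.Omega.CR

end

section


/-!
# The theorem of Curtis and Richen for root group data, part 2: the operators `T_w`

`R : RGD cs h p T n X`, `ρ : Y →* End V`, `V` a vector space over a field `k` of characteristic `p` (any field, e.g. `F_p`).

* `Simp ρ T N` : `N` is a simple `T`-invariant subspace;
* `Ti` : the operator `T_i = (∑_{x ∈ X_i} x) n_i`, `Tk` : the operator `T_w`;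
* `exists_simul` : there is a simple `T`-invariant subspace of `V^U`, invariant under all `T_i`;
* `n_mem` : then `n_i N ⊆ k[X_{-i}] N`;
* `n_stable` : then `n_i` stabilises `k[U⁻] N`.
-/

set_option autoImplicit false
set_option linter.unusedSectionVars false

namespace Cfsg.Agent.Omega.CR

open CoxeterSystem Cfsg.Agent.ChevalleyStructure.CoxeterGeom Cfsg.Agent.Tits.Roots Cfsg.Agent.Tits.Core
  Cfsg.Agent.Tits.Exchange Cfsg.Agent.Nodes.Reps Cfsg.Agent.Nodes.BNOf Cfsg.Agent.Nodes.StabComb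
  Cfsg.Agent.Nodes.Bruhat Cfsg.Agent.Nodes.OppDec Cfsg.Agent.Nodes.LeviDec Cfsg.Agent.KFacts.RgdOpp

variable {I W Y : Type*} [Fintype I] [DecidableEq I] [Group W] [Group Y] {M : CoxeterMatrix I}
  {cs : CoxeterSystem M W} {A : I → I → ℤ} {h : IsCartan M A} {p : ℕ} {T : Subgroup Y} {n : I → Y}
  {X : (I → ℤ) → Subgroup Y}

variable (R : RGD cs h p T n X)

include R

/-! ### rank one relations -/

theorem n_sq (i : I) : n i * n i ∈ T := by
  have := R.nsys.rel i i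
  rwa [M.diagonal, pow_one] at this

theorem conj_n_T (i : I) {t : Y} (ht : t ∈ T) : n i * t * (n i)⁻¹ ∈ T :=
  (Subgroup.mem_normalizer_iff.1 (R.nsys.norm i) t).1 ht

theorem conj_n_T' (i : I) {t : Y} (ht : t ∈ T) : (n i)⁻¹ * t * n i ∈ T := by
  have h4 := (Subgroup.mem_normalizer_iff.1 (inv_mem (R.nsys.norm i)) t).1 ht
  rwa [inv_inv] at h4

theorem conj_n_X (i : I) {x : Y} (hx : x ∈ X (sr i)) : n i * x * (n i)⁻¹ ∈ X (-sr i) := by
  have := R.conj_mem (rp_simple cs R.nsys i) (isRoot_sr cs h i) hx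
  rwa [rep_simple_sr] at this

theorem conj_n_NX (i : I) {x : Y} (hx : x ∈ X (-sr i)) : n i * x * (n i)⁻¹ ∈ X (sr i) := by
  have := R.conj_mem (rp_simple cs R.nsys i) (isRoot_sr cs h i).neg hx
  rwa [map_neg, rep_simple_sr, neg_neg] at this

theorem conj_n_X' (i : I) {x : Y} (hx : x ∈ X (sr i)) : (n i)⁻¹ * x * n i ∈ X (-sr i) := by
  have := R.conj_mem' (rp_simple cs R.nsys i) (isRoot_sr cs h i) hx
  rwa [inv_simple, rep_simple_sr] at this

theorem n_mul (i : I) {y : Y} (hy : y ∈ X (-sr i)) (hy1 : y ≠ 1) :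
    ∃ y' ∈ X (-sr i), ∃ t ∈ T, ∃ b ∈ X (sr i), n i * y = y' * t * b := by
  obtain ⟨a, ha, t, ht, b, hb, e⟩ := R.rk1 i y hy hy1
  refine ⟨n i * a * (n i)⁻¹, conj_n_X R i ha, n i * t * (n i)⁻¹ * (n i * n i),
    mul_mem (conj_n_T R i ht) (n_sq R i), b, hb, ?_⟩
  rw [e]; group

theorem mul_n (i : I) {x : Y} (hx : x ∈ X (sr i)) (hx1 : x ≠ 1) :
    ∃ y ∈ X (-sr i), ∃ t ∈ T, ∃ b ∈ X (sr i), x * n i = y * t * b := by
  have h1 : (n i)⁻¹ * x * n i ≠ 1 := by
    intro h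
    apply hx1
    have : x = n i * ((n i)⁻¹ * x * n i) * (n i)⁻¹ := by group
    rw [this, h]; group
  obtain ⟨y, hy, t, ht, b, hb, e⟩ := n_mul R i (conj_n_X' R i hx) h1
  refine ⟨y, hy, t, ht, b, hb, ?_⟩
  rw [← e]; group

theorem n_mul_n (i : I) {x : Y} (hx : x ∈ X (sr i)) (hx1 : x ≠ 1) :
    ∃ a ∈ X (sr i), ∃ t ∈ T, ∃ b ∈ X (sr i), n i * x * n i = a * n i * t * b := by
  obtain ⟨y, hy, t, ht, b, hb, e⟩ := mul_n R i hx hx1
  refine ⟨n i * y * (n i)⁻¹, conj_n_NX R i hy, t, ht, b, hb, ?_⟩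
  rw [mul_assoc (n i), e]; group

/-! ### simple `T`-invariant subspaces -/

section Rep

variable {k V : Type*} [Field k] [AddCommGroup V] [Module k V] (ρ : Y →* Module.End k V)

omit R in
/-- invariance -/
def Ivt (ρ : Y →* Module.End k V) (B : Subgroup Y) (N : Submodule k V) : Prop := ∀ t ∈ B, ∀ v ∈ N, ρ t v ∈ N

omit R in
/-- the fixed vectors -/
def fx (ρ : Y →* Module.End k V) (B : Subgroup Y) : Submodule k V where
  carrier := {v | ∀ b ∈ B, ρ b v = v}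
  zero_mem' := fun b _ => map_zero _
  add_mem' := fun {x y} hx hy b hb => by rw [map_add, hx b hb, hy b hb]
  smul_mem' := fun c x hx b hb => by rw [map_smul, hx b hb]

omit R in
theorem mem_fx {B : Subgroup Y} {v : V} : v ∈ fx ρ B ↔ ∀ b ∈ B, ρ b v = v := Iff.rfl

omit R in
/-- `N` is a simple `T`-invariant subspace -/
structure Simp (ρ : Y →* Module.End k V) (T : Subgroup Y) (N : Submodule k V) : Prop where
  ne : N ≠ ⊥
  inv : Ivt ρ T N
  simple : ∀ L ≤ N, Ivt ρ T L → L = ⊥ ∨ L = N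

omit R in
theorem Simp.map {T : Subgroup Y} {N : Submodule k V} (hN : Simp ρ T N) (θ : Module.End k V)
    (h1 : ∀ t ∈ T, ∃ t' ∈ T, ∀ v ∈ N, ρ t (θ v) = θ (ρ t' v))
    (h2 : ∀ t ∈ T, ∃ t' ∈ T, ∀ v ∈ N, θ (ρ t v) = ρ t' (θ v)) (h0 : N.map θ ≠ ⊥) : Simp ρ T (N.map θ) where
  ne := h0
  inv := by
    rintro t ht _ ⟨v, hv, rfl⟩
    obtain ⟨t', ht', h3⟩ := h1 t ht
    rw [h3 v hv]
    exact ⟨_, hN.inv t' ht' v hv, rfl⟩
  simple := by
    intro L hL hLi
    have h3 : Ivt ρ T (N ⊓ L.comap θ) := by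
      rintro t ht v ⟨hv, hv'⟩
      obtain ⟨t', ht', h4⟩ := h2 t ht
      refine ⟨hN.inv t ht v hv, ?_⟩
      change θ (ρ t v) ∈ L
      rw [h4 v hv]
      exact hLi t' ht' _ hv'
    have h4 : ∀ w ∈ L, ∃ v ∈ N ⊓ L.comap θ, θ v = w := by
      intro w hw
      obtain ⟨v, hv, rfl⟩ := hL hw
      exact ⟨v, ⟨hv, hw⟩, rfl⟩
    rcases hN.simple _ inf_le_left h3 with h5 | h5
    · left
      rw [eq_bot_iff]
      intro w hw
      obtain ⟨v, hv, rfl⟩ := h4 w hw
      rw [h5, Submodule.mem_bot] at hv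
      rw [hv, map_zero]
      exact Submodule.zero_mem _
    · right
      refine le_antisymm hL ?_
      rintro _ ⟨v, hv, rfl⟩
      rw [← h5] at hv
      exact hv.2

variable [Finite Y]

omit R in
/-- the operator `T_i` -/
noncomputable def Ti (n : I → Y) (X : (I → ℤ) → Subgroup Y) (ρ : Y →* Module.End k V) (i : I) : Module.End k V :=
  sg ρ (X (sr i)) * ρ (n i)

omit R in
theorem Ti_apply (i : I) (v : V) : Ti n X ρ i v = sg ρ (X (sr i)) (ρ (n i) v) := rfl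

theorem rho_Ti (i : I) {t : Y} (ht : t ∈ T) (v : V) :
    ρ t (Ti n X ρ i v) = Ti n X ρ i (ρ ((n i)⁻¹ * t * n i) v) := by
  rw [Ti_apply, Ti_apply]
  have h1 : (X (sr i)).map (MulAut.conj t).toMonoidHom = X (sr i) := R.tor _ (isRoot_sr cs h i) t ht
  rw [rho_sg, h1, ← rho_mul, ← rho_mul]
  congr 3
  group

theorem Ti_rho (i : I) {t : Y} (ht : t ∈ T) (v : V) :
    Ti n X ρ i (ρ t v) = ρ (n i * t * (n i)⁻¹) (Ti n X ρ i v) := by
  rw [rho_Ti R ρ i (conj_n_T R i ht)]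
  congr 3
  group

theorem Simp.Ti {N : Submodule k V} (hN : Simp ρ T N) (i : I) (h0 : N.map (Ti n X ρ i) ≠ ⊥) :
    Simp ρ T (N.map (CR.Ti n X ρ i)) :=
  hN.map ρ _ (fun _ ht => ⟨_, conj_n_T' R i ht, fun v _ => rho_Ti R ρ i ht v⟩)
    (fun _ ht => ⟨_, conj_n_T R i ht, fun v _ => Ti_rho R ρ i ht v⟩) h0

/-- `T_i` preserves `V^U` -/
theorem Ti_fix {v : V} (hv : v ∈ fx ρ (RGD.Sup X (RGD.Pos cs h))) (i : I) :
    Ti n X ρ i v ∈ fx ρ (RGD.Sup X (RGD.Pos cs h)) := by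
  rw [mem_fx]
  have key : ∀ g ∈ RGD.Sup X (RGD.PosNe cs h i), ρ g (Ti n X ρ i v) = Ti n X ρ i v := by
    intro g hg
    classical
    let _ := Fintype.ofFinite (X (sr i))
    rw [Ti_apply, sg_def, map_sum]
    refine Finset.sum_congr rfl fun x _ => ?_
    have h1 : (x : Y)⁻¹ * g * x ∈ RGD.Sup X (RGD.PosNe cs h i) := by
      have := R.X_le_normalizer_V i x.2
      have h2 := (Subgroup.mem_normalizer_iff.1 (inv_mem this) g).1 hg
      rwa [inv_inv] at h2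
    have h2 : (n i)⁻¹ * ((x : Y)⁻¹ * g * x) * n i ∈ RGD.Sup X (RGD.PosNe cs h i) := by
      have := R.cj_n_V i
      rw [← this, mem_cj] at h1
      exact h1
    have h3 : (n i)⁻¹ * ((x : Y)⁻¹ * g * x) * n i ∈ RGD.Sup X (RGD.Pos cs h) :=
      RGD.Sup_mono (S := RGD.PosNe cs h i) (S' := RGD.Pos cs h) (fun z hz => ⟨hz.1, hz.2.1⟩) h2
    have h4 : g * ((x : Y) * n i) = (x : Y) * n i * ((n i)⁻¹ * ((x : Y)⁻¹ * g * x) * n i) := by group
    rw [← rho_mul ρ (x : Y), ← rho_mul, h4, rho_mul, hv _ h3]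
  let K : Subgroup Y :=
    { carrier := {g | ρ g (Ti n X ρ i v) = Ti n X ρ i v}
      one_mem' := rho_one ρ _
      mul_mem' := by
        intro a b (ha : ρ a _ = _) (hb : ρ b _ = _)
        change ρ (a * b) _ = _
        rw [rho_mul, hb, ha]
      inv_mem' := by
        intro a (ha : ρ a _ = _)
        change ρ a⁻¹ _ = _
        conv_lhs => rw [← ha]
        exact rho_inv_rho ρ a _ }
  have hK : RGD.Sup X (RGD.Pos cs h) ≤ K := by
    rw [R.Upos_eq i]
    exact sup_le (fun a ha => rho_sg_of_mem ρ _ ha _) key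
  exact fun u hu => hK hu

theorem X_fix {v : V} (hv : v ∈ fx ρ (RGD.Sup X (RGD.Pos cs h))) (i : I) {x : Y} (hx : x ∈ X (sr i)) :
    ρ x v = v := hv x (RGD.le_Sup (S := RGD.Pos cs h) ⟨isRoot_sr cs h i, sr_nonneg i⟩ hx)

theorem p_dvd [Fact p.Prime] (i : I) : p ∣ Nat.card (X (sr i)) := by
  obtain ⟨u, hu, hu1⟩ := exists_ne_one R i
  have h1 : 1 < Nat.card (X (sr i)) := by
    rw [Finite.one_lt_card_iff_nontrivial]
    exact nontrivial_of_ne (⟨u, hu⟩ : ↥(X (sr i))) 1 (fun h => hu1 (congrArg Subtype.val h))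
  obtain ⟨j, hj⟩ := (IsPGroup.iff_card (p := p)).1 (R.pgrp i)
  rw [hj] at h1 ⊢
  have : j ≠ 0 := by
    rintro rfl
    simp at h1
  exact dvd_pow_self p this

/-- `T_i (T_i N) ⊆ T_i N` for a `T`-invariant `N ⊆ V^U` -/
theorem Ti_sq [Fact p.Prime] [CharP k p] {N : Submodule k V} (hN : Ivt ρ T N)
    (hU : N ≤ fx ρ (RGD.Sup X (RGD.Pos cs h))) (i : I) {v : V} (hv : v ∈ N) :
    ∃ v' ∈ N, Ti n X ρ i (Ti n X ρ i v) = Ti n X ρ i v' := by
  classical
  let _ := Fintype.ofFinite (X (sr i))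
  have key : ∀ x : X (sr i), ∃ v' ∈ N, sg ρ (X (sr i)) (ρ (n i) (ρ (x : Y) (ρ (n i) v))) = Ti n X ρ i v' := by
    intro x
    by_cases hx1 : (x : Y) = 1
    · refine ⟨0, N.zero_mem, ?_⟩
      rw [hx1, rho_one, ← rho_mul ρ (n i), map_zero, sg_fixed ρ (p_dvd R i) fun a ha => X_fix R ρ (hU
        (hN _ (n_sq R i) v hv)) i ha]
    · obtain ⟨a, ha, t, ht, b, hb, e⟩ := n_mul_n R i x.2 hx1
      refine ⟨ρ t v, hN t ht v hv, ?_⟩
      rw [← rho_mul, ← rho_mul, e, rho_mul, X_fix R ρ (hU hv) i hb, rho_mul, rho_mul, sg_rho_of_mem ρ _ ha,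
        Ti_apply]
  choose c hc hc' using key
  refine ⟨∑ x, c x, N.sum_mem fun x _ => hc x, ?_⟩
  rw [map_sum]
  have h1 : Ti n X ρ i (Ti n X ρ i v) =
      ∑ x : X (sr i), sg ρ (X (sr i)) (ρ (n i) (ρ (x : Y) (ρ (n i) v))) := by
    rw [Ti_apply ρ i (Ti n X ρ i v), Ti_apply ρ i v, sg_def ρ (X (sr i)) (ρ (n i) v), map_sum, map_sum]
  rw [h1]
  exact Finset.sum_congr rfl fun x _ => hc' x

/-! ### the operators `T_w` -/

omit R in
/-- `T_w = (∑_{u ∈ U_w} u) g`, `g` over `w` -/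
noncomputable def Tk (cs : CoxeterSystem M W) (h : IsCartan M A) (X : (I → ℤ) → Subgroup Y)
    (ρ : Y →* Module.End k V) (w : W) (g : Y) : Module.End k V :=
  sg ρ (RGD.Sup X (RGD.Inv cs h w)) * ρ g

omit R in
theorem Tk_apply (w : W) (g : Y) (v : V) :
    Tk cs h X ρ w g v = sg ρ (RGD.Sup X (RGD.Inv cs h w)) (ρ g v) := rfl

omit R [Finite Y] in
theorem rep_simple_mul_inv (w : W) (i : I) : rep cs h (cs.simple i * w)⁻¹ (sr i) = - rep cs h w⁻¹ (sr i) := by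
  rw [mul_inv_rev, cs.inv_simple, rep_mul_apply, rep_simple_sr, map_neg]

theorem Tk_up [Finite W] {w : W} {i : I} (hi : 0 ≤ rep cs h w⁻¹ (sr i)) (g : Y) (v : V) :
    Ti n X ρ i (Tk cs h X ρ w g v) = Tk cs h X ρ (cs.simple i * w) (n i * g) v := by
  rw [Ti_apply, Tk_apply, Tk_apply]
  have hneg : rep cs h (cs.simple i * w)⁻¹ (sr i) ≤ 0 := by
    rw [rep_simple_mul_inv]; exact neg_nonpos.2 hi
  have hww : cs.simple i * (cs.simple i * w) = w := by
    rw [← mul_assoc, cs.simple_mul_simple_self, one_mul]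
  have hss : ∀ y : I → ℤ, rep cs h (cs.simple i) (rep cs h (cs.simple i) y) = y := by
    intro y
    rw [← rep_mul_apply, cs.simple_mul_simple_self, map_one, Module.End.one_apply]
  have hiff : ∀ x, x ∈ RGD.Inv cs h (cs.simple i * w) ↔
      x = sr i ∨ rep cs h (cs.simple i) x ∈ RGD.Inv cs h w := by
    intro x
    rw [RGD.mem_inv_iff hneg, hww]
  have hne : ∀ z ∈ RGD.Inv cs h w, z ≠ sr i := by
    rintro z ⟨hz, h0, h1⟩ rfl
    exact ((isRoot_sr cs h i).act w⁻¹).not_pos_neg hi h1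
  rw [rho_sg, ← rho_mul]
  symm
  refine sg_mul ρ (RGD.le_Sup ((hiff _).2 (Or.inl rfl))) ?_ ?_ ?_ _
  · -- the conjugate is in
    refine cj_Sup_le R (rp_simple cs R.nsys i) (fun x hx => hx.1) ?_
    intro x hx
    rw [hiff]
    right
    rw [hss]; exact hx
  · rw [eq_bot_iff]
    rintro u ⟨hu, hu'⟩
    rw [Subgroup.mem_bot]
    refine eq_one_of_mem_PosNe R hu ?_
    refine cj_Sup_le R (rp_simple cs R.nsys i) (fun x (hx : x ∈ RGD.Inv cs h w) => hx.1) ?_ hu'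
    intro x hx
    refine ⟨hx.1.act _, hx.1.simple_nonneg hx.2.1 i (hne x hx), ?_⟩
    intro he
    have h1 : x = - sr i := by rw [← hss x, he, rep_simple_sr]
    have h2 := hx.2.1
    rw [h1] at h2
    exact (isRoot_sr cs h i).neg.not_pos_neg h2 (neg_nonpos.2 (sr_nonneg i))
  · intro a ha
    have hS : ∀ x ∈ RGD.Inv cs h (cs.simple i * w), IsRoot cs h x ∧ 0 ≤ x := fun x hx => ⟨hx.1, hx.2.1⟩
    obtain ⟨r, hr, u, hu, e⟩ := exists_mul R hS ((hiff _).2 (Or.inl rfl)) (fun y hy hyi z hz =>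
      ⟨hz.1, RGD.nonneg_of_btwn (sr_nonneg i) hy.2.1 hz, RGD.nonpos_of_btwn hneg hy.2.2 (hz.act _)⟩)
      (inv_mem ha)
    refine ⟨u⁻¹, inv_mem hu, r⁻¹, inv_mem ?_, ?_⟩
    · have hle : RGD.Sup X (RGD.Inv cs h (cs.simple i * w) \ {sr i}) ≤
          (RGD.Sup X (RGD.Inv cs h w)).map (MulAut.conj (n i)).toMonoidHom := by
        refine RGD.Sup_le ?_
        rintro z ⟨hz, hz0⟩
        have h2 := ((hiff z).1 hz).resolve_left hz0
        have h3 := cj_mono (n i) (RGD.le_Sup (X := X) h2)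
        rw [R.conj i _ h2.1, hss] at h3
        exact h3
      exact hle hr
    · rw [← mul_inv_rev, ← e, inv_inv]

/-- `T_w` of a simple `T`-invariant subspace of `V^U` -/
theorem Tk_wt [Finite W] {N : Submodule k V} (hN : Simp ρ T N) (hU : N ≤ fx ρ (RGD.Sup X (RGD.Pos cs h))) {w : W}
    {g : Y} (hg : Rp cs R.nsys w g) (h0 : N.map (Tk cs h X ρ w g) ≠ ⊥) :
    Simp ρ T (N.map (Tk cs h X ρ w g)) ∧ N.map (Tk cs h X ρ w g) ≤ fx ρ (RGD.Sup X (RGD.Pos cs h)) := by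
  induction hn : cs.length w using Nat.strong_induction_on generalizing w g with
  | _ N' ih =>
  by_cases hw1 : w = 1
  · subst hw1
    have hgT : g ∈ T := hg.mem_of_one
    have h1 : N.map (Tk cs h X ρ 1 g) = N := by
      have h2 : ∀ v, Tk cs h X ρ 1 g v = ρ g v := by
        intro v
        rw [Tk_apply, RGD.inv_one_eq, Sup_empty, sg_bot]
      apply le_antisymm
      · rintro _ ⟨v, hv, rfl⟩
        rw [h2]
        exact hN.inv g hgT v hv
      · intro v hv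
        exact ⟨_, hN.inv g⁻¹ (inv_mem hgT) v hv, by rw [h2, rho_rho_inv]⟩
    rw [h1]
    exact ⟨hN, hU⟩
  · obtain ⟨i, hi⟩ : ∃ i, cs.IsLeftDescent w i := cs.exists_leftDescent_of_ne_one hw1
    have hlt : cs.length (cs.simple i * w) < cs.length w := hi
    have hneg : rep cs h w⁻¹ (sr i) ≤ 0 := by
      refine nonpos_of_lt cs h w⁻¹ i ?_
      rw [cs.length_inv, ← cs.length_inv (w⁻¹ * cs.simple i), mul_inv_rev, inv_inv, cs.inv_simple]
      exact hlt
    have hww : cs.simple i * (cs.simple i * w) = w := by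
      rw [← mul_assoc, cs.simple_mul_simple_self, one_mul]
    have hg' : Rp cs R.nsys (cs.simple i * w) ((n i)⁻¹ * g) := by
      have := (rp_simple cs R.nsys i).inv.mul hg
      rwa [cs.inv_simple] at this
    have h2 : ∀ v, Ti n X ρ i (Tk cs h X ρ (cs.simple i * w) ((n i)⁻¹ * g) v) = Tk cs h X ρ w g v := by
      intro v
      have h3 := Tk_up R ρ (w := cs.simple i * w) (i := i) (by
        rw [rep_simple_mul_inv]; exact neg_nonneg.2 hneg) ((n i)⁻¹ * g) v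
      rwa [hww, mul_inv_cancel_left] at h3
    have h3 : (N.map (Tk cs h X ρ (cs.simple i * w) ((n i)⁻¹ * g))).map (CR.Ti n X ρ i) =
        N.map (Tk cs h X ρ w g) := by
      rw [← Submodule.map_comp]
      congr 1
      exact LinearMap.ext h2
    have h4 : N.map (Tk cs h X ρ (cs.simple i * w) ((n i)⁻¹ * g)) ≠ ⊥ := by
      intro h4
      rw [h4, Submodule.map_bot] at h3
      exact h0 h3.symm
    obtain ⟨h5, h6⟩ := ih _ (hn ▸ hlt) hg' h4 rfl
    rw [← h3] at h0 ⊢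
    refine ⟨h5.Ti R ρ i h0, ?_⟩
    rintro _ ⟨v, hv, rfl⟩
    exact Ti_fix R ρ (h6 hv) i

/-- **A simple `T`-invariant subspace of `V^U`, invariant under all `T_i`.** -/
theorem exists_simul [Finite W] [Fact p.Prime] [CharP k p] {N : Submodule k V} (hN : Simp ρ T N)
    (hU : N ≤ fx ρ (RGD.Sup X (RGD.Pos cs h))) : ∃ w : W, ∃ g ∈ Subgroup.closure (Set.range n),
      Simp ρ T (N.map (Tk cs h X ρ w g)) ∧ N.map (Tk cs h X ρ w g) ≤ fx ρ (RGD.Sup X (RGD.Pos cs h)) ∧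
      ∀ i, ∀ v ∈ N.map (Tk cs h X ρ w g), Ti n X ρ i v ∈ N.map (Tk cs h X ρ w g) := by
  classical
  let S : Set W := {w | ∃ g ∈ Subgroup.closure (Set.range n), Rp cs R.nsys w g ∧ N.map (Tk cs h X ρ w g) ≠ ⊥}
  have hS : S.Nonempty := by
    refine ⟨1, 1, one_mem _, rp_one, ?_⟩
    have h2 : Tk cs h X ρ 1 1 = 1 := by
      ext v
      rw [Tk_apply, RGD.inv_one_eq, Sup_empty, sg_bot, rho_one]; rfl
    rw [h2]
    intro h3
    apply hN.ne
    rw [eq_bot_iff, ← h3]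
    intro v hv
    exact ⟨v, hv, rfl⟩
  obtain ⟨w, ⟨g, hgc, hg, hne⟩, hmax⟩ := Set.exists_max_image S (fun w => cs.length w) (Set.toFinite S) hS
  obtain ⟨h5, h6⟩ := Tk_wt R ρ hN hU hg hne
  refine ⟨w, g, hgc, h5, h6, ?_⟩
  intro i
  have hni : n i ∈ Subgroup.closure (Set.range n) := Subgroup.subset_closure ⟨i, rfl⟩
  have hww : cs.simple i * (cs.simple i * w) = w := by
    rw [← mul_assoc, cs.simple_mul_simple_self, one_mul]
  rcases ((isRoot_sr cs h i).act w⁻¹).pos_or_neg with hpos | hneg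
  · rintro _ ⟨v, hv, rfl⟩
    have h7 : Ti n X ρ i (Tk cs h X ρ w g v) = 0 := by
      by_contra hc
      have h1 := hmax (cs.simple i * w) ⟨_, mul_mem hni hgc, (rp_simple cs R.nsys i).mul hg, fun h8 => hc (by
        rw [Tk_up R ρ hpos, ← Submodule.mem_bot k, ← h8]
        exact ⟨v, hv, rfl⟩)⟩
      have h2 := (lt_iff' cs h w⁻¹ i).2 hpos
      rw [cs.length_inv, ← cs.length_inv (w⁻¹ * cs.simple i), mul_inv_rev, inv_inv, cs.inv_simple] at h2
      exact absurd h1 (not_le.2 h2)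
    rw [h7]
    exact Submodule.zero_mem _
  · have hg' : Rp cs R.nsys (cs.simple i * w) ((n i)⁻¹ * g) := by
      have := (rp_simple cs R.nsys i).inv.mul hg
      rwa [cs.inv_simple] at this
    have h2 : ∀ v, Tk cs h X ρ w g v = Ti n X ρ i (Tk cs h X ρ (cs.simple i * w) ((n i)⁻¹ * g) v) := by
      intro v
      have h3 := Tk_up R ρ (w := cs.simple i * w) (i := i) (by
        rw [rep_simple_mul_inv]; exact neg_nonneg.2 hneg) ((n i)⁻¹ * g) v
      rw [hww, mul_inv_cancel_left] at h3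
      exact h3.symm
    have h4 : N.map (Tk cs h X ρ (cs.simple i * w) ((n i)⁻¹ * g)) ≠ ⊥ := by
      intro h4
      apply hne
      rw [eq_bot_iff]
      rintro _ ⟨v, hv, rfl⟩
      have h8 : Tk cs h X ρ (cs.simple i * w) ((n i)⁻¹ * g) v ∈
          N.map (Tk cs h X ρ (cs.simple i * w) ((n i)⁻¹ * g)) := ⟨v, hv, rfl⟩
      rw [h4, Submodule.mem_bot] at h8
      rw [h2, h8, map_zero]
      exact Submodule.zero_mem _
    obtain ⟨h8, h9⟩ := Tk_wt R ρ hN hU hg' h4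
    rintro _ ⟨v, hv, rfl⟩
    rw [h2]
    obtain ⟨v', ⟨v'', hv'', rfl⟩, hv'⟩ := Ti_sq R ρ h8.inv h9 i (v := Tk cs h X ρ (cs.simple i * w) ((n i)⁻¹ * g) v)
      ⟨v, hv, rfl⟩
    rw [hv', ← h2]
    exact ⟨_, hv'', rfl⟩

/-! ### `n_i N ⊆ k[X_{-i}] N` -/

omit R [Finite Y] in
/-- `k[B] N` -/
def Sp (ρ : Y →* Module.End k V) (B : Subgroup Y) (N : Submodule k V) : Submodule k V :=
  Submodule.span k {w | ∃ b ∈ B, ∃ v ∈ N, ρ b v = w}

omit R [Finite Y] in
theorem mem_Sp {B : Subgroup Y} {N : Submodule k V} {a : Y} (ha : a ∈ B) {v : V} (hv : v ∈ N) : ρ a v ∈ Sp ρ B N :=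
  Submodule.subset_span ⟨a, ha, v, hv, rfl⟩

omit R [Finite Y] in
theorem le_Sp {B : Subgroup Y} {N : Submodule k V} : N ≤ Sp ρ B N := fun v hv => by
  have := mem_Sp ρ (one_mem B) hv
  rwa [rho_one] at this

omit R [Finite Y] in
theorem Sp_mono {B C : Subgroup Y} (hBC : B ≤ C) (N : Submodule k V) : Sp ρ B N ≤ Sp ρ C N := by
  unfold Sp
  rw [Submodule.span_le]
  rintro _ ⟨b, hb, v, hv, rfl⟩
  exact mem_Sp ρ (hBC hb) hv

omit R [Finite Y] in
theorem rho_mem_Sp {B : Subgroup Y} {N : Submodule k V} {a : Y} (ha : a ∈ B) {v : V} (hv : v ∈ Sp ρ B N) :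
    ρ a v ∈ Sp ρ B N := by
  induction hv using Submodule.span_induction with
  | mem x hx =>
    obtain ⟨b, hb, v, hv, rfl⟩ := hx
    rw [← rho_mul]
    exact mem_Sp ρ (mul_mem ha hb) hv
  | zero => rw [map_zero]; exact Submodule.zero_mem _
  | add x y _ _ hx hy => rw [map_add]; exact Submodule.add_mem _ hx hy
  | smul c x _ hx => rw [map_smul]; exact Submodule.smul_mem _ _ hx

theorem n_mem {N : Submodule k V} (hN : Simp ρ T N) (hU : N ≤ fx ρ (RGD.Sup X (RGD.Pos cs h))) {i : I}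
    (hc : ∀ v ∈ N, Ti n X ρ i v ∈ N) {m : V} (hm : m ∈ N) : ρ (n i) m ∈ Sp ρ (X (-sr i)) N := by
  classical
  let _ := Fintype.ofFinite (X (sr i))
  have hmap : N.map (Ti n X ρ i) ≤ N := by
    rintro _ ⟨v, hv, rfl⟩
    exact hc v hv
  rcases hN.simple _ hmap (by
    rintro t ht _ ⟨v, hv, rfl⟩
    rw [rho_Ti R ρ i ht]
    exact ⟨_, hN.inv _ (conj_n_T' R i ht) v hv, rfl⟩) with h0 | h0
  · -- all terms with `x ≠ 1` are in the span
    have hz : Ti n X ρ i m = 0 := by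
      rw [← Submodule.mem_bot k, ← h0]
      exact ⟨m, hm, rfl⟩
    have hterm : ∀ x : X (sr i), x ≠ 1 → ρ (x : Y) (ρ (n i) m) ∈ Sp ρ (X (-sr i)) N := by
      intro x hx
      obtain ⟨y, hy, t, ht, b, hb, e⟩ := mul_n R i x.2 (fun h => hx (Subtype.ext h))
      rw [← rho_mul, e, rho_mul, X_fix R ρ (hU hm) i hb, rho_mul]
      exact mem_Sp ρ hy (hN.inv t ht m hm)
    rw [Ti_apply, sg_def, ← Finset.add_sum_erase _ _ (Finset.mem_univ (1 : X (sr i))), Subgroup.coe_one,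
      rho_one] at hz
    have h1 : ρ (n i) m = - ∑ x ∈ Finset.univ.erase (1 : X (sr i)), ρ (x : Y) (ρ (n i) m) :=
      eq_neg_of_add_eq_zero_left hz
    rw [h1]
    refine Submodule.neg_mem _ (Submodule.sum_mem _ fun x hx => hterm x (Finset.ne_of_mem_erase hx))
  · have h1 : ∀ v ∈ N, ρ (n i)⁻¹ v ∈ Sp ρ (X (-sr i)) N := by
      intro v hv
      rw [← h0] at hv
      obtain ⟨v', hv', rfl⟩ := hv
      rw [Ti_apply, sg_def, map_sum]
      refine Submodule.sum_mem _ fun x _ => ?_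
      rw [← rho_mul, ← rho_mul]
      exact mem_Sp ρ (conj_n_X' R i x.2) hv'
    have h3 : ρ (n i) m = ρ (n i)⁻¹ (ρ (n i * n i) m) := by
      rw [← rho_mul]
      congr 2
      group
    rw [h3]
    exact h1 _ (hN.inv _ (n_sq R i) m hm)

/-! ### `k[C U⁻] N` is invariant -/

omit R [Finite Y] in
/-- the stabiliser of a subspace -/
def stS (ρ : Y →* Module.End k V) (N : Submodule k V) : Subgroup Y where
  carrier := {g | ∀ v, v ∈ N ↔ ρ g v ∈ N}
  one_mem' := fun v => by rw [rho_one]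
  mul_mem' := by
    intro a b (ha : ∀ v, v ∈ N ↔ ρ a v ∈ N) (hb : ∀ v, v ∈ N ↔ ρ b v ∈ N) v
    rw [rho_mul, ← ha, ← hb]
  inv_mem' := by
    intro a (ha : ∀ v, v ∈ N ↔ ρ a v ∈ N) v
    rw [ha (ρ a⁻¹ v), rho_rho_inv]

omit R [Finite Y] in
theorem mem_stS {N : Submodule k V} {g : Y} (h1 : ∀ v ∈ N, ρ g v ∈ N) (h2 : ∀ v ∈ N, ρ g⁻¹ v ∈ N) :
    g ∈ stS ρ N := fun v => ⟨h1 v, fun hv => by
      have := h2 _ hv
      rwa [rho_inv_rho] at this⟩

omit R [Finite Y] in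
theorem le_stS {N : Submodule k V} {B : Subgroup Y} (h1 : Ivt ρ B N) : B ≤ stS ρ N :=
  fun _ hg => mem_stS ρ (h1 _ hg) (h1 _ (inv_mem hg))

omit R [Finite Y] in
theorem Ivt_of_le {N : Submodule k V} {B : Subgroup Y} (h1 : B ≤ stS ρ N) : Ivt ρ B N :=
  fun _ hg v hv => (h1 hg v).1 hv

omit R [Finite Y] in
theorem T_stable {T C : Subgroup Y} {N : Submodule k V} (hN : Ivt ρ T N) (hT : ∀ t ∈ T, ∀ c ∈ C, t * c * t⁻¹ ∈ C) :
    T ≤ stS ρ (Sp ρ C N) := by
  refine le_stS ρ fun t ht v hv => ?_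
  induction hv using Submodule.span_induction with
  | mem x hx =>
    obtain ⟨b, hb, v, hv, rfl⟩ := hx
    have h1 : t * (b : Y) = t * b * t⁻¹ * t := by group
    rw [← rho_mul, h1, rho_mul]
    exact mem_Sp ρ (hT t ht b hb) (hN t ht v hv)
  | zero => rw [map_zero]; exact Submodule.zero_mem _
  | add x y _ _ hx hy => rw [map_add]; exact Submodule.add_mem _ hx hy
  | smul c x _ hx => rw [map_smul]; exact Submodule.smul_mem _ _ hx

omit [Finite Y] in
theorem T_norm_UN [Finite W] {t u : Y} (ht : t ∈ T) (hu : u ∈ UN cs h X) : t * u * t⁻¹ ∈ UN cs h X := by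
  have h1 := (opp R).T_le_normalizer_U ht
  rw [U_opp] at h1
  exact (Subgroup.mem_normalizer_iff.1 h1 u).1 hu

omit [Finite Y] in
theorem exists_UN [Finite W] (i : I) {u : Y} (hu : u ∈ UN cs h X) :
    ∃ r ∈ UN cs h X, n i * r * (n i)⁻¹ ∈ UN cs h X ∧ ∃ y ∈ X (-sr i), u = r * y := by
  rw [← U_opp] at hu ⊢
  obtain ⟨r, hr, y, hy, e⟩ := exists_mul (opp R) (S := RGD.Pos cs h) (i := i) (fun x hx => hx)
    ⟨isRoot_sr cs h i, sr_nonneg i⟩ (fun y hy _ z hz => ⟨hz.1, RGD.nonneg_of_btwn (sr_nonneg i) hy.2 hz⟩) hu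
  have hr' : r ∈ RGD.Sup (fun x => X (-x)) (RGD.PosNe cs h i) := by
    refine RGD.Sup_mono ?_ hr
    rintro z ⟨hz, hz0⟩
    exact ⟨hz.1, hz.2, hz0⟩
  have hmono : RGD.Sup (fun x => X (-x)) (RGD.PosNe cs h i) ≤ RGD.Sup (fun x => X (-x)) (RGD.Pos cs h) :=
    RGD.Sup_mono fun z hz => ⟨hz.1, hz.2.1⟩
  refine ⟨r, hmono hr', hmono ?_, y, hy, e⟩
  have h1 := (opp R).cj_n_V i
  rw [← h1]
  exact conj_mem_cj.2 hr'

omit [Finite Y] in
theorem XN_le [Finite W] (i : I) : X (-sr i) ≤ UN cs h X :=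
  X_le_UN (isRoot_sr cs h i).neg (neg_nonpos.2 (sr_nonneg i))

/-- `n_i` stabilises `k[C U⁻] N`, `C` a group commuting with everything -/
theorem n_stable [Finite W] {N : Submodule k V} (hN : Ivt ρ T N) (hU : N ≤ fx ρ (RGD.Sup X (RGD.Pos cs h)))
    {i : I} (hn : ∀ v ∈ N, ρ (n i) v ∈ Sp ρ (X (-sr i)) N) {C : Subgroup Y} (hC : ∀ c ∈ C, n i * c = c * n i)
    {B : Subgroup Y} (hBC : C ≤ B) (hBU : UN cs h X ≤ B) (hB : ∀ b ∈ B, ∃ c ∈ C, ∃ u ∈ UN cs h X, b = c * u) :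
    ∀ v ∈ Sp ρ B N, ρ (n i) v ∈ Sp ρ B N := by
  intro v hv
  induction hv using Submodule.span_induction with
  | mem x hx =>
    obtain ⟨b, hb, m, hm, rfl⟩ := hx
    obtain ⟨c, hc, u, hu, rfl⟩ := hB b hb
    obtain ⟨r, hr, hr', y, hy, e⟩ := exists_UN R i hu
    have h1 : n i * (c * u) = c * (n i * r * (n i)⁻¹ * (n i * y)) := by
      rw [e, ← mul_assoc (n i) c, hC c hc]; group
    rw [← rho_mul, h1, rho_mul, rho_mul]
    refine rho_mem_Sp ρ (hBC hc) (rho_mem_Sp ρ (hBU hr') (Sp_mono ρ ((XN_le R i).trans hBU) N ?_))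
    by_cases hy1 : y = 1
    · rw [hy1, mul_one]; exact hn m hm
    · obtain ⟨y', hy', t, ht, b, hb, e'⟩ := n_mul R i hy hy1
      rw [e', rho_mul, X_fix R ρ (hU hm) i hb, rho_mul]
      exact mem_Sp ρ hy' (hN t ht m hm)
  | zero => rw [map_zero]; exact Submodule.zero_mem _
  | add x y _ _ hx hy => rw [map_add]; exact Submodule.add_mem _ hx hy
  | smul c x _ hx => rw [map_smul]; exact Submodule.smul_mem _ _ hx

/-- **`k[C U⁻] N` is invariant.** -/
theorem stable [Finite W] {N : Submodule k V} (hN : Ivt ρ T N) (hU : N ≤ fx ρ (RGD.Sup X (RGD.Pos cs h)))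
    (hn : ∀ i, ∀ v ∈ N, ρ (n i) v ∈ Sp ρ (X (-sr i)) N) {C : Subgroup Y} (hC : ∀ i, ∀ c ∈ C, n i * c = c * n i)
    {B : Subgroup Y} (hBC : C ≤ B) (hBU : UN cs h X ≤ B) (hB : ∀ b ∈ B, ∃ c ∈ C, ∃ u ∈ UN cs h X, b = c * u)
    (hTB : ∀ t ∈ T, ∀ b ∈ B, t * b * t⁻¹ ∈ B) : GG cs h T X ≤ stS ρ (Sp ρ B N) := by
  have hUN : UN cs h X ≤ stS ρ (Sp ρ B N) := le_stS ρ fun _ hg _ hv => rho_mem_Sp ρ (hBU hg) hv
  have hT : T ≤ stS ρ (Sp ρ B N) := T_stable ρ hN hTB
  have hn1 : ∀ i, ∀ v ∈ Sp ρ B N, ρ (n i) v ∈ Sp ρ B N := fun i =>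
    n_stable R ρ hN hU (hn i) (hC i) hBC hBU hB
  have hn2 : ∀ i, n i ∈ stS ρ (Sp ρ B N) := by
    intro i
    refine mem_stS ρ (hn1 i) fun v hv => ?_
    have h1 : (n i)⁻¹ = n i * (n i * n i)⁻¹ := by group
    rw [h1, rho_mul]
    exact hn1 i _ ((hT (inv_mem (n_sq R i)) v).1 hv)
  have hU' : RGD.Sup X (RGD.Pos cs h) ≤ stS ρ (Sp ρ B N) := by
    obtain ⟨g, hg, hgR⟩ := exists_rp_closure (cs := cs) (hN := R.nsys) (w0 cs)
    have hgS : g ∈ stS ρ (Sp ρ B N) := by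
      refine (?_ : Subgroup.closure (Set.range n) ≤ _) hg
      rw [Subgroup.closure_le]
      rintro _ ⟨i, rfl⟩
      exact hn2 i
    have h1 := cj_UN R hgR
    intro u hu
    rw [← h1, mem_cj] at hu
    have h2 := mul_mem (mul_mem hgS (hUN hu)) (inv_mem hgS)
    have h3 : g * (g⁻¹ * u * g) * g⁻¹ = u := by group
    rwa [h3] at h2
  unfold GG
  refine sup_le hT (RGD.Sup_le ?_)
  intro z hz
  rcases IsRoot.pos_or_neg hz with h0 | h0
  · exact (RGD.le_Sup (S := RGD.Pos cs h) ⟨hz, h0⟩).trans hU'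
  · exact (X_le_UN hz h0).trans hUN

end Rep

end Cfsg.Agent.Omega.CR

end

section


/-!
# The theorem of Curtis and Richen for a family of commuting root group data with a common torus

`Fam` : root group data `R k`, `k ∈ κ`, in `Y`, with the same `T`, contained in commuting subgroups `C k`.

`Fam.main` : `V` a simple module for `⟨T, all X_k⟩` over a field of characteristic `p` (any field, `F_p` included):
`V^U` is a simple `T`-module, `V = k[U⁻] V^U`, and the pairing between `V^U` and `(V*)^{U⁻}` is perfect.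
-/

set_option autoImplicit false
set_option linter.unusedSectionVars false

namespace Cfsg.Agent.Omega.CR

open CoxeterSystem Cfsg.Agent.ChevalleyStructure.CoxeterGeom Cfsg.Agent.Tits.Roots Cfsg.Agent.Tits.Core
  Cfsg.Agent.Tits.Exchange Cfsg.Agent.Nodes.Reps Cfsg.Agent.Nodes.BNOf Cfsg.Agent.Nodes.StabComb
  Cfsg.Agent.Nodes.Bruhat Cfsg.Agent.Nodes.OppDec Cfsg.Agent.Nodes.LeviDec Cfsg.Agent.KFacts.RgdOpp

variable {κ : Type*} [Fintype κ] {I W : κ → Type*} {Y : Type*} [∀ l, Fintype (I l)] [∀ l, DecidableEq (I l)]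
  [∀ l, Group (W l)] [Group Y] {M : ∀ l, CoxeterMatrix (I l)}

/-- A family of root group data with a common torus, in commuting subgroups. -/
structure Fam (cs : ∀ l, CoxeterSystem (M l) (W l)) {A : ∀ l, I l → I l → ℤ} (h : ∀ l, IsCartan (M l) (A l)) (p : ℕ)
    (T : Subgroup Y) (n : ∀ l, I l → Y) (X : ∀ l, (I l → ℤ) → Subgroup Y) (C : κ → Subgroup Y) : Prop where
  rgd : ∀ l, RGD (cs l) (h l) p T (n l) (X l)
  X_le : ∀ l x, IsRoot (cs l) (h l) x → X l x ≤ C l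
  n_mem : ∀ l i, n l i ∈ C l
  comm : ∀ l m, l ≠ m → ∀ a ∈ C l, ∀ b ∈ C m, a * b = b * a

variable {cs : ∀ l, CoxeterSystem (M l) (W l)} {A : ∀ l, I l → I l → ℤ} {h : ∀ l, IsCartan (M l) (A l)} {p : ℕ}
  {T : Subgroup Y} {n : ∀ l, I l → Y} {X : ∀ l, (I l → ℤ) → Subgroup Y} {C : κ → Subgroup Y}

/-- the product of the groups `U` of the members -/
def Ut (cs : ∀ l, CoxeterSystem (M l) (W l)) (h : ∀ l, IsCartan (M l) (A l)) (X : ∀ l, (I l → ℤ) → Subgroup Y) :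
    Subgroup Y := ⨆ l, RGD.Sup (X l) (RGD.Pos (cs l) (h l))

/-- the product of the opposite groups -/
def UNt (cs : ∀ l, CoxeterSystem (M l) (W l)) (h : ∀ l, IsCartan (M l) (A l)) (X : ∀ l, (I l → ℤ) → Subgroup Y) :
    Subgroup Y := ⨆ l, UN (cs l) (h l) (X l)

/-- the group of the family -/
def GGt (cs : ∀ l, CoxeterSystem (M l) (W l)) (h : ∀ l, IsCartan (M l) (A l)) (T : Subgroup Y)
    (X : ∀ l, (I l → ℤ) → Subgroup Y) : Subgroup Y := T ⊔ ⨆ l, GG (cs l) (h l) T (X l)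

theorem U_le_Ut (l : κ) : RGD.Sup (X l) (RGD.Pos (cs l) (h l)) ≤ Ut cs h X :=
  le_iSup (fun l => RGD.Sup (X l) (RGD.Pos (cs l) (h l))) l

theorem UN_le_UNt (l : κ) : UN (cs l) (h l) (X l) ≤ UNt cs h X :=
  le_iSup (fun l => UN (cs l) (h l) (X l)) l

theorem GG_le_GGt (l : κ) : GG (cs l) (h l) T (X l) ≤ GGt cs h T X :=
  (le_iSup (fun l => GG (cs l) (h l) T (X l)) l).trans le_sup_right

namespace Fam

variable (F : Fam cs h p T n X C)
include F

theorem U_le (l : κ) : RGD.Sup (X l) (RGD.Pos (cs l) (h l)) ≤ C l :=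
  RGD.Sup_le fun x hx => F.X_le l x hx.1

/-- the opposite family -/
theorem opp [∀ l, Finite (W l)] : Fam cs h p T n (fun l x => X l (-x)) C where
  rgd l := KFacts.RgdOpp.opp (F.rgd l)
  X_le l x hx := F.X_le l (-x) hx.neg
  n_mem := F.n_mem
  comm := F.comm

omit F in
theorem Ut_opp : Ut cs h (fun l x => X l (-x)) = UNt cs h X := by
  unfold Ut UNt
  congr 1
  ext1 l
  exact U_opp

omit F in
theorem UNt_opp : UNt cs h (fun l x => X l (-x)) = Ut cs h X := by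
  unfold Ut UNt
  congr 1
  ext1 l
  exact UN_opp

omit F in
theorem GGt_opp : GGt cs h T (fun l x => X l (-x)) = GGt cs h T X := by
  unfold GGt
  congr 2
  ext1 l
  exact GG_opp

theorem UN_le [∀ l, Finite (W l)] (l : κ) : UN (cs l) (h l) (X l) ≤ C l := by
  rw [← U_opp]
  exact F.opp.U_le l

/-- the product of the other opposite groups commutes with `C l` -/
theorem rest_comm [∀ l, Finite (W l)] (l : κ) {a : Y} (ha : a ∈ C l) :
    ∀ c ∈ ⨆ m : {m // m ≠ l}, UN (cs m) (h m) (X m), a * c = c * a := by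
  have key : (⨆ m : {m // m ≠ l}, UN (cs m) (h m) (X m)) ≤ Subgroup.centralizer {a} := by
    refine iSup_le fun m => ?_
    intro c hc
    rw [Subgroup.mem_centralizer_iff]
    rintro _ rfl
    exact F.comm l m (Ne.symm m.2) _ ha c (F.UN_le m hc)
  intro c hc
  exact (Subgroup.mem_centralizer_iff.1 (key hc) a rfl)

theorem exists_dec [∀ l, Finite (W l)] (l : κ) {b : Y} (hb : b ∈ UNt cs h X) :
    ∃ c ∈ ⨆ m : {m // m ≠ l}, UN (cs m) (h m) (X m), ∃ u ∈ UN (cs l) (h l) (X l), b = c * u := by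
  have h1 : UNt cs h X ≤ (⨆ m : {m // m ≠ l}, UN (cs m) (h m) (X m)) ⊔ UN (cs l) (h l) (X l) := by
    refine iSup_le fun m => ?_
    by_cases hm : m = l
    · subst hm; exact le_sup_right
    · exact (le_iSup (fun m : {m // m ≠ l} => UN (cs m) (h m) (X m)) ⟨m, hm⟩).trans le_sup_left
  have h2 := h1 hb
  have h3 : UN (cs l) (h l) (X l) ≤ Subgroup.normalizer ((⨆ m : {m // m ≠ l}, UN (cs m) (h m) (X m) : Subgroup Y) : Set Y) := by
    intro u hu
    rw [Subgroup.mem_normalizer_iff]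
    intro c
    constructor
    · intro hc
      rwa [F.rest_comm l (F.UN_le l hu) c hc, mul_inv_cancel_right]
    · intro hc
      have h4 := F.rest_comm l (F.UN_le l (inv_mem hu)) _ hc
      have h5 : c = u * c * u⁻¹ := by
        have : u⁻¹ * (u * c * u⁻¹) = u * c * u⁻¹ * u⁻¹ := h4
        have h6 : c * u⁻¹ = u * c * u⁻¹ * u⁻¹ := by rw [← this]; group
        exact mul_right_cancel h6
      rw [h5]; exact hc
  rw [sup_comm, ← SetLike.mem_coe, Subgroup.coe_mul_of_left_le_normalizer_right _ _ h3] at h2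
  obtain ⟨u, hu, c, hc, e⟩ := Set.mem_mul.1 h2
  refine ⟨c, hc, u, hu, ?_⟩
  rw [← e]
  exact F.rest_comm l (F.UN_le l hu) c hc

theorem isPGroup_Ut [∀ l, Finite (W l)] : IsPGroup p (Ut cs h X) := by
  classical
  have key : ∀ s : Finset κ, IsPGroup p (⨆ l ∈ s, RGD.Sup (X l) (RGD.Pos (cs l) (h l)) : Subgroup Y) := by
    intro s
    induction s using Finset.induction_on with
    | empty =>
      have h0 : (⨆ l ∈ (∅ : Finset κ), RGD.Sup (X l) (RGD.Pos (cs l) (h l)) : Subgroup Y) = ⊥ := by simp only [_root_.Finset.notMem_empty, _root_.not_false_eq_true, _root_.iSup_neg, _root_.iSup_bot]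
      rw [h0]
      exact IsPGroup.of_bot
    | insert a s ha ih =>
      rw [Finset.iSup_insert]
      refine (F.rgd a).isPGroup_Upos.to_sup_of_normal_right' ih ?_
      have h1 : (⨆ l ∈ s, RGD.Sup (X l) (RGD.Pos (cs l) (h l)) : Subgroup Y) ≤
          Subgroup.centralizer (RGD.Sup (X a) (RGD.Pos (cs a) (h a)) : Set Y) := by
        refine iSup₂_le fun l hl => ?_
        intro c hc
        rw [Subgroup.mem_centralizer_iff]
        intro g hg
        have hne : a ≠ l := by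
          rintro rfl
          exact ha hl
        exact F.comm a l hne g (F.U_le a hg) c (F.U_le l hc)
      intro u hu
      rw [Subgroup.mem_normalizer_iff]
      intro c
      have h2 : ∀ c ∈ (⨆ l ∈ s, RGD.Sup (X l) (RGD.Pos (cs l) (h l)) : Subgroup Y), ∀ u ∈ RGD.Sup (X a) (RGD.Pos (cs a) (h a)),
          u * c * u⁻¹ = c := by
        intro c hc u hu
        rw [Subgroup.mem_centralizer_iff.1 (h1 hc) u hu, mul_inv_cancel_right]
      constructor
      · intro hc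
        exact (h2 c hc u hu).symm ▸ hc
      · intro hc
        have h3 := h2 _ hc u⁻¹ (inv_mem hu)
        have h4 : u⁻¹ * (u * c * u⁻¹) * u⁻¹⁻¹ = c := by group
        rw [h4] at h3
        exact h3 ▸ hc
  have h1 := key Finset.univ
  have h2 : (⨆ l ∈ (Finset.univ : Finset κ), RGD.Sup (X l) (RGD.Pos (cs l) (h l)) : Subgroup Y) = Ut cs h X := by
    unfold Ut
    simp only [Finset.mem_univ, iSup_pos]
  rwa [h2] at h1

theorem T_norm_Ut {t u : Y} (ht : t ∈ T) (hu : u ∈ Ut cs h X) : t * u * t⁻¹ ∈ Ut cs h X := by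
  have h1 : cj t (Ut cs h X) ≤ Ut cs h X := by
    unfold Ut
    rw [cj_iSup]
    refine iSup_le fun l => ?_
    rintro _ ⟨v, hv, rfl⟩
    exact U_le_Ut l ((Subgroup.mem_normalizer_iff.1 ((F.rgd l).T_le_normalizer_U ht) v).1 hv)
  exact h1 (conj_mem_cj.2 hu)

theorem T_norm_UNt [∀ l, Finite (W l)] {t u : Y} (ht : t ∈ T) (hu : u ∈ UNt cs h X) : t * u * t⁻¹ ∈ UNt cs h X := by
  rw [← Ut_opp] at hu ⊢
  exact F.opp.T_norm_Ut ht hu

end Fam

section Rep

variable {k V : Type*} [Field k] [AddCommGroup V] [Module k V] (ρ : Y →* Module.End k V)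

/-- the stabiliser of a vector -/
def stV (ρ : Y →* Module.End k V) (v : V) : Subgroup Y where
  carrier := {g | ρ g v = v}
  one_mem' := rho_one ρ v
  mul_mem' := by
    intro a b (ha : ρ a v = v) (hb : ρ b v = v)
    change ρ (a * b) v = v
    rw [rho_mul, hb, ha]
  inv_mem' := by
    intro a (ha : ρ a v = v)
    change ρ a⁻¹ v = v
    conv_lhs => rw [← ha]
    exact rho_inv_rho ρ a v

theorem mem_fx_iff {B : Subgroup Y} {v : V} : v ∈ fx ρ B ↔ B ≤ stV ρ v := Iff.rfl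

theorem fx_mono {B B' : Subgroup Y} (hB : B ≤ B') : fx ρ B' ≤ fx ρ B := fun _ hv b hb => hv b (hB hb)

theorem mem_fx_Ut {v : V} : v ∈ fx ρ (Ut cs h X) ↔ ∀ l, v ∈ fx ρ (RGD.Sup (X l) (RGD.Pos (cs l) (h l))) := by
  constructor
  · intro hv l
    exact fx_mono ρ (U_le_Ut l) hv
  · intro hv
    rw [mem_fx_iff]
    exact iSup_le fun l => hv l

namespace Fam

variable (F : Fam cs h p T n X C)
include F

variable [Finite Y] [∀ l, Finite (W l)]

omit [∀ l, Finite (W l)] in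
theorem comm_Tk {l m : κ} (hlm : m ≠ l) {w : W l} {g : Y} (hg : g ∈ C l) {a : Y} (ha : a ∈ C m) (v : V) :
    ρ a (Tk (cs l) (h l) (X l) ρ w g v) = Tk (cs l) (h l) (X l) ρ w g (ρ a v) := by
  classical
  let _ := Fintype.ofFinite (RGD.Sup (X l) (RGD.Inv (cs l) (h l) w))
  rw [Tk_apply, Tk_apply, sg_def, sg_def, map_sum]
  refine Finset.sum_congr rfl fun x _ => ?_
  have hx : (x : Y) ∈ C l := (RGD.Sup_le (X := X l) (S := RGD.Inv (cs l) (h l) w) fun z hz => F.X_le l z hz.1) x.2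
  have h1 : a * ((x : Y) * g) = x * g * a := F.comm m l hlm a ha _ (mul_mem hx hg)
  have h2 : ρ a (ρ (x : Y) (ρ g v)) = ρ (a * ((x : Y) * g)) v := by rw [rho_mul, rho_mul]
  rw [h2, h1, rho_mul, rho_mul]

omit [∀ l, Finite (W l)] in
theorem Ti_Tk {l m : κ} (hlm : m ≠ l) {w : W l} {g : Y} (hg : g ∈ C l) (i : I m) (v : V) :
    Ti (n m) (X m) ρ i (Tk (cs l) (h l) (X l) ρ w g v) = Tk (cs l) (h l) (X l) ρ w g (Ti (n m) (X m) ρ i v) := by
  classical
  let _ := Fintype.ofFinite (X m (sr i))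
  rw [Ti_apply, Ti_apply, sg_def, sg_def, map_sum]
  refine Finset.sum_congr rfl fun x _ => ?_
  rw [F.comm_Tk ρ hlm hg (F.n_mem m i), F.comm_Tk ρ hlm hg (F.X_le m _ (isRoot_sr _ _ i) x.2)]

/-- good subspaces -/
structure Good (_F : Fam cs h p T n X C) (ρ : Y →* Module.End k V) (s : Finset κ) (N : Submodule k V) : Prop where
  simp : Simp ρ T N
  fix : N ≤ fx ρ (Ut cs h X)
  st : ∀ l ∈ s, ∀ i, ∀ v ∈ N, Ti (n l) (X l) ρ i v ∈ N

variable [Fact p.Prime] [CharP k p]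

omit F in
theorem Good.insert [DecidableEq κ] {F : Fam cs h p T n X C} {ρ : Y →* Module.End k V} {s : Finset κ} {N : Submodule k V}
    (hN : Good F ρ s N) {l : κ} (hl : l ∉ s) : ∃ N' : Submodule k V, Good F ρ (insert l s) N' := by
  obtain ⟨w, g, hg, h1, h2, h3⟩ := exists_simul (F.rgd l) ρ hN.simp (hN.fix.trans (fx_mono ρ (U_le_Ut l)))
  have hgC : g ∈ C l := by
    refine (?_ : Subgroup.closure (Set.range (n l)) ≤ _) hg
    rw [Subgroup.closure_le]
    rintro _ ⟨i, rfl⟩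
    exact F.n_mem l i
  refine ⟨_, h1, ?_, ?_⟩
  · intro v hv
    rw [mem_fx_Ut]
    intro m
    by_cases hm : m = l
    · subst hm
      exact h2 hv
    · obtain ⟨v', hv', rfl⟩ := hv
      intro u hu
      rw [F.comm_Tk ρ hm hgC (F.U_le m hu)]
      congr 1
      exact (mem_fx_Ut ρ).1 (hN.fix hv') m u hu
  · intro m hm i v hv
    by_cases hml : m = l
    · subst hml
      exact h3 i v hv
    · have hms : m ∈ s := (Finset.mem_insert.1 hm).resolve_left hml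
      obtain ⟨v', hv', rfl⟩ := hv
      rw [F.Ti_Tk ρ hml hgC]
      exact ⟨_, hN.st m hms i v' hv', rfl⟩

omit [CharP k p] [Fact p.Prime] in
theorem inv_fx : Ivt ρ T (fx ρ (Ut cs h X)) := by
  intro t ht v hv u hu
  have h1 : u * t = t * (t⁻¹ * u * t) := by group
  rw [← rho_mul, h1, rho_mul]
  congr 1
  have := F.T_norm_Ut (inv_mem ht) hu
  rw [inv_inv] at this
  exact hv _ this

/-- **There is a good subspace.** -/
theorem exists_good [FiniteDimensional k V] [Nontrivial V] : ∃ N : Submodule k V, Good F ρ Finset.univ N := by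
  classical
  have h0 : fx ρ (Ut cs h X) ≠ ⊥ := by
    obtain ⟨v, -, hv0, hv⟩ := exists_fixed ρ (F.isPGroup_Ut) (⊤ : Submodule k V) (fun _ _ _ _ => trivial) top_ne_bot
    intro h1
    have h2 : v ∈ fx ρ (Ut cs h X) := hv
    rw [h1, Submodule.mem_bot] at h2
    exact hv0 h2
  obtain ⟨L, ⟨hLN, hL0, hL⟩, hmin⟩ := (wellFounded_lt (α := Submodule k V)).has_min
    {L : Submodule k V | L ≤ fx ρ (Ut cs h X) ∧ L ≠ ⊥ ∧ Ivt ρ T L} ⟨_, le_rfl, h0, F.inv_fx ρ⟩
  have hgood : Good F ρ ∅ L := by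
    refine ⟨⟨hL0, hL, ?_⟩, hLN, fun l hl => absurd hl (Finset.notMem_empty l)⟩
    intro L' hL' hi
    by_cases h1 : L' = ⊥
    · exact Or.inl h1
    · right
      by_contra hne
      exact hmin L' ⟨hL'.trans hLN, h1, hi⟩ (lt_of_le_of_ne hL' hne)
  have key : ∀ s : Finset κ, ∃ N : Submodule k V, Good F ρ s N := by
    intro s
    induction s using Finset.induction_on with
    | empty => exact ⟨L, hgood⟩
    | insert a s ha ih =>
      obtain ⟨N, hN⟩ := ih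
      exact hN.insert ha
  exact key _

omit F [Fact p.Prime] [CharP k p] in
theorem Good.n_mem {F : Fam cs h p T n X C} {ρ : Y →* Module.End k V} {N : Submodule k V}
    (hN : Good F ρ Finset.univ N) (l : κ) (i : I l) {v : V} (hv : v ∈ N) : ρ (n l i) v ∈ Sp ρ (X l (-sr i)) N :=
  CR.n_mem (F.rgd l) ρ hN.simp (hN.fix.trans (fx_mono ρ (U_le_Ut l))) (hN.st l (Finset.mem_univ l) i) hv

omit F [Fact p.Prime] [CharP k p] in
/-- **`k[U⁻] N` is invariant.** -/
theorem Good.stable {F : Fam cs h p T n X C} {ρ : Y →* Module.End k V} {N : Submodule k V}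
    (hN : Good F ρ Finset.univ N) : GGt cs h T X ≤ stS ρ (Sp ρ (UNt cs h X) N) := by
  unfold GGt
  refine sup_le (T_stable ρ hN.simp.inv fun t ht c hc => F.T_norm_UNt ht hc) (iSup_le fun l => ?_)
  refine CR.stable (F.rgd l) ρ hN.simp.inv (hN.fix.trans (fx_mono ρ (U_le_Ut l))) (fun i v hv => hN.n_mem l i hv)
    (C := ⨆ m : {m // m ≠ l}, UN (cs m) (h m) (X m)) (fun i c hc => F.rest_comm l (F.n_mem l i) c hc)
    (iSup_le fun m => UN_le_UNt m.1) (UN_le_UNt l) (fun b hb => F.exists_dec l hb) fun t ht b hb => F.T_norm_UNt ht hb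

omit F [Fact p.Prime] [CharP k p] in
theorem Good.gen {F : Fam cs h p T n X C} {ρ : Y →* Module.End k V} {N : Submodule k V}
    (hN : Good F ρ Finset.univ N) (hirr : ∀ L : Submodule k V, Ivt ρ (GGt cs h T X) L → L = ⊥ ∨ L = ⊤) :
    Sp ρ (UNt cs h X) N = ⊤ := by
  refine (hirr _ (Ivt_of_le ρ hN.stable)).resolve_left fun h0 => hN.simp.ne ?_
  rw [eq_bot_iff, ← h0]
  exact le_Sp ρ

end Fam

/-! ### the dual representation -/

/-- the dual representation -/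
def dualRep (ρ : Y →* Module.End k V) : Y →* Module.End k (Module.Dual k V) where
  toFun g := (ρ g⁻¹).dualMap
  map_one' := by
    ext φ v
    change φ (ρ (1 : Y)⁻¹ v) = φ v
    rw [inv_one, rho_one]
  map_mul' a b := by
    ext φ v
    change φ (ρ (a * b)⁻¹ v) = φ (ρ b⁻¹ (ρ a⁻¹ v))
    rw [mul_inv_rev, rho_mul]

theorem dualRep_apply (g : Y) (φ : Module.Dual k V) (v : V) : dualRep ρ g φ v = φ (ρ g⁻¹ v) := rfl

theorem mem_fx_dual {B : Subgroup Y} {φ : Module.Dual k V} :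
    φ ∈ fx ((dualRep ρ :)) B ↔ ∀ b ∈ B, ∀ v, φ (ρ b v) = φ v := by
  constructor
  · intro hφ b hb v
    have := congrArg (fun ψ : Module.Dual k V => ψ v) (hφ b⁻¹ (inv_mem hb))
    rwa [dualRep_apply, inv_inv] at this
  · intro hφ b hb
    ext v
    rw [dualRep_apply]
    exact hφ b⁻¹ (inv_mem hb) v

theorem dual_irr [FiniteDimensional k V] {G : Subgroup Y} (hirr : ∀ L : Submodule k V, Ivt ρ G L → L = ⊥ ∨ L = ⊤)
    (L : Submodule k (Module.Dual k V)) (hL : Ivt ((dualRep ρ :)) G L) : L = ⊥ ∨ L = ⊤ := by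
  have h1 : Ivt ρ G L.dualCoannihilator := by
    intro g hg v hv
    rw [Submodule.mem_dualCoannihilator] at hv ⊢
    intro φ hφ
    have := hv _ (hL g⁻¹ (inv_mem hg) φ hφ)
    rwa [dualRep_apply, inv_inv] at this
  rcases hirr _ h1 with h2 | h2
  · right
    have h3 := Subspace.dualCoannihilator_dualAnnihilator_eq (W := L)
    rw [h2, Submodule.dualAnnihilator_bot] at h3
    exact h3.symm
  · left
    rw [eq_bot_iff]
    intro φ hφ
    rw [Submodule.mem_bot]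
    ext v
    have : v ∈ L.dualCoannihilator := by rw [h2]; trivial
    exact (Submodule.mem_dualCoannihilator v).1 this φ hφ

/-- a functional fixed by `B` and zero on `N` is zero on `k[B] N` -/
theorem eq_zero_of_Sp {B : Subgroup Y} {N : Submodule k V} (hS : Sp ρ B N = ⊤) {φ : Module.Dual k V}
    (hφ : φ ∈ fx ((dualRep ρ :)) B) (h0 : ∀ v ∈ N, φ v = 0) : φ = 0 := by
  rw [mem_fx_dual] at hφ
  ext v
  have hv : v ∈ Sp ρ B N := by rw [hS]; trivial
  change φ v = 0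
  induction hv using Submodule.span_induction with
  | mem x hx =>
    obtain ⟨b, hb, m, hm, rfl⟩ := hx
    rw [hφ b hb, h0 m hm]
  | zero => exact map_zero φ
  | add x y _ _ hx hy => rw [map_add, hx, hy, add_zero]
  | smul c x _ hx => rw [map_smul, hx, smul_zero]

/-- a `B`-fixed vector which is killed by `N` is zero -/
theorem eq_zero_of_Sp' {B : Subgroup Y} {N : Submodule k (Module.Dual k V)} (hS : Sp ((dualRep ρ :)) B N = ⊤) {v : V}
    (hv : v ∈ fx ρ B) (h0 : ∀ φ ∈ N, φ v = 0) : v = 0 := by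
  have key : ∀ φ : Module.Dual k V, φ v = 0 := by
    intro φ
    have hφ : φ ∈ Sp ((dualRep ρ :)) B N := by rw [hS]; trivial
    induction hφ using Submodule.span_induction with
    | mem x hx =>
      obtain ⟨b, hb, m, hm, rfl⟩ := hx
      rw [dualRep_apply, hv _ (inv_mem hb), h0 m hm]
    | zero => rfl
    | add x y _ _ hx hy => rw [LinearMap.add_apply, hx, hy, add_zero]
    | smul c x _ hx => rw [LinearMap.smul_apply, hx, smul_zero]
  exact (Module.forall_dual_apply_eq_zero_iff k v).1 key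

namespace Fam

variable (F : Fam cs h p T n X C) [Finite Y] [∀ l, Finite (W l)] [Fact p.Prime] [CharP k p] [FiniteDimensional k V]
  (hirr : ∀ L : Submodule k V, Ivt ρ (GGt cs h T X) L → L = ⊥ ∨ L = ⊤)
include F hirr

/-- good subspaces are all of `V^U`; pairing with the fixed functionals of `U⁻` -/
theorem eq_fx [Nontrivial V] {N : Submodule k V} (hN : Good F ρ Finset.univ N) : N = fx ρ (Ut cs h X) ∧
    ∀ v ∈ fx ρ (Ut cs h X), v ≠ 0 → ∃ φ ∈ fx ((dualRep ρ :)) (UNt cs h X), φ v ≠ 0 := by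
  have hnt : Nontrivial (Module.Dual k V) := inferInstance
  obtain ⟨N', hN'⟩ := F.opp.exists_good ((dualRep ρ :))
  have h1 := hN.gen hirr
  have h2 := hN'.gen (dual_irr ρ (by rw [GGt_opp]; exact hirr))
  rw [UNt_opp] at h2
  have h3 : N' ≤ fx ((dualRep ρ :)) (UNt cs h X) := by
    have := hN'.fix
    rwa [Ut_opp] at this
  -- the pairings
  let Φ : fx ((dualRep ρ :)) (UNt cs h X) →ₗ[k] Module.Dual k N :=
    { toFun := fun φ => φ.1.comp N.subtype
      map_add' := fun _ _ => rfl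
      map_smul' := fun _ _ => rfl }
  have hΦ : Function.Injective Φ := by
    rw [injective_iff_map_eq_zero]
    intro φ hφ
    apply Subtype.ext
    refine eq_zero_of_Sp ρ h1 φ.2 fun v hv => ?_
    exact congrArg (fun ψ : Module.Dual k N => ψ ⟨v, hv⟩) hφ
  let Ψ : fx ρ (Ut cs h X) →ₗ[k] Module.Dual k N' :=
    { toFun := fun v =>
        { toFun := fun φ => φ.1 v.1
          map_add' := fun _ _ => rfl
          map_smul' := fun _ _ => rfl }
      map_add' := fun v w => by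
        ext φ
        exact map_add φ.1 v.1 w.1
      map_smul' := fun c v => by
        ext φ
        exact map_smul φ.1 c v.1 }
  have hker : ∀ v ∈ fx ρ (Ut cs h X), (∀ φ ∈ N', φ v = 0) → v = 0 := fun v hv h0 => eq_zero_of_Sp' ρ h2 hv h0
  have hΨ : Function.Injective Ψ := by
    rw [injective_iff_map_eq_zero]
    intro v hv
    apply Subtype.ext
    refine hker v.1 v.2 fun φ hφ => ?_
    exact congrArg (fun ψ : Module.Dual k N' => ψ ⟨φ, hφ⟩) hv
  have e1 := LinearMap.finrank_le_finrank_of_injective hΦ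
  have e2 := LinearMap.finrank_le_finrank_of_injective hΨ
  have e1 := e1.trans (Subspace.dual_finrank_eq (K := k) (V := N)).le
  have e2 := e2.trans (Subspace.dual_finrank_eq (K := k) (V := N')).le
  have e3 := Submodule.finrank_mono h3
  refine ⟨Submodule.eq_of_le_of_finrank_le hN.fix (e2.trans (e3.trans e1)), ?_⟩
  intro v hv hv0
  by_contra hc
  push Not at hc
  exact hv0 (hker v hv fun φ hφ => hc φ (h3 hφ))

/-- **Curtis–Richen.** -/
theorem main [Nontrivial V] : Good F ρ Finset.univ (fx ρ (Ut cs h X)) := by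
  obtain ⟨N, hN⟩ := F.exists_good ρ
  rw [← (F.eq_fx ρ hirr hN).1]
  exact hN

theorem simp [Nontrivial V] : Simp ρ T (fx ρ (Ut cs h X)) := (F.main ρ hirr).simp

/-- a nonzero `T`-invariant subspace of `V^U` is `V^U` -/
theorem eq_of_le {N : Submodule k V} (hN0 : N ≠ ⊥) (hN : N ≤ fx ρ (Ut cs h X)) (hT : Ivt ρ T N) :
    N = fx ρ (Ut cs h X) := by
  have : Nontrivial V := by
    obtain ⟨v, -, hv⟩ := (Submodule.ne_bot_iff N).1 hN0
    exact nontrivial_of_ne v 0 hv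
  exact ((F.simp ρ hirr).simple N hN hT).resolve_left hN0

/-- a nonzero `T U`-invariant subspace contains `V^U` -/
theorem fx_le {N : Submodule k V} (hN0 : N ≠ ⊥) (hU : Ivt ρ (Ut cs h X) N) (hT : Ivt ρ T N) :
    fx ρ (Ut cs h X) ≤ N := by
  obtain ⟨v, hv, hv0, hvU⟩ := exists_fixed ρ (F.isPGroup_Ut) N hU hN0
  have h1 : N ⊓ fx ρ (Ut cs h X) = fx ρ (Ut cs h X) := by
    refine F.eq_of_le ρ hirr (fun h2 => hv0 ?_) inf_le_right fun t ht w hw => ⟨hT t ht w hw.1, F.inv_fx ρ t ht w hw.2⟩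
    have : v ∈ N ⊓ fx ρ (Ut cs h X) := ⟨hv, hvU⟩
    rwa [h2, Submodule.mem_bot] at this
  rw [← h1]
  exact inf_le_left

end Fam

end Rep

end Cfsg.Agent.Omega.CR

end

section


/-!
# The theorem of Curtis and Richen for actions on elementary abelian groups

`M` an additive group of exponent `p` on which `Y` acts, without proper subgroups invariant under the group of the family.

* `Fam.act_le` : a nonzero subgroup fixed by `U`, invariant under `T`, is `C_M(U)`;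
* `Fam.act_le'` : a nonzero subgroup invariant under `U` and `T` contains `C_M(U)`;
* `Fam.act_gen` : `M` is generated by the `U⁻`-conjugates of `C_M(U)`;
* `Fam.act_inter` : `[M, U⁻] ∩ C_M(U) = 0`;
* `Fam.act_n` : `n_i C_M(U) ⊆ ⟨X_{-i}-conjugates of C_M(U)⟩`.
-/

set_option autoImplicit false
set_option linter.unusedSectionVars false

namespace Cfsg.Agent.Omega.CR

open CoxeterSystem Cfsg.Agent.ChevalleyStructure.CoxeterGeom Cfsg.Agent.Tits.Roots Cfsg.Agent.Tits.Core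
  Cfsg.Agent.Tits.Exchange Cfsg.Agent.Nodes.Reps Cfsg.Agent.Nodes.BNOf Cfsg.Agent.Nodes.StabComb
  Cfsg.Agent.Nodes.Bruhat Cfsg.Agent.Nodes.OppDec Cfsg.Agent.Nodes.LeviDec Cfsg.Agent.KFacts.RgdOpp

variable {κ : Type*} [Fintype κ] {I W : κ → Type*} {Y : Type*} [∀ l, Fintype (I l)] [∀ l, DecidableEq (I l)]
  [∀ l, Group (W l)] [Group Y] {M : ∀ l, CoxeterMatrix (I l)}
  {cs : ∀ l, CoxeterSystem (M l) (W l)} {A : ∀ l, I l → I l → ℤ} {h : ∀ l, IsCartan (M l) (A l)} {p : ℕ}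
  {T : Subgroup Y} {n : ∀ l, I l → Y} {X : ∀ l, (I l → ℤ) → Subgroup Y} {C : κ → Subgroup Y}

section

variable {E : Type*} [AddCommGroup E] [DistribMulAction Y E]

/-- the representation over `F_p` -/
def rep_of (Y : Type*) [Group Y] {E : Type*} [AddCommGroup E] [DistribMulAction Y E] (p : ℕ) [Module (ZMod p) E] :
    Y →* Module.End (ZMod p) E where
  toFun g := (DistribSMul.toAddMonoidHom E g).toZModLinearMap p
  map_one' := by ext v; exact one_smul Y v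
  map_mul' a b := by ext v; exact mul_smul a b v

/-- the additive subgroup as a subspace -/
def toSub [Module (ZMod p) E] (L : AddSubgroup E) : Submodule (ZMod p) E := AddSubgroup.toZModSubmodule p L

theorem toSub_ne [Module (ZMod p) E] {L : AddSubgroup E} (hL : L ≠ ⊥) : toSub (p := p) L ≠ ⊥ := by
  intro h0
  apply hL
  rw [eq_bot_iff]
  intro v hv
  have h1 : v ∈ toSub (p := p) L := hv
  rw [h0, Submodule.mem_bot] at h1
  exact AddSubgroup.mem_bot.2 h1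

end

theorem hirr' [Fact p.Prime] {E : Type*} [AddCommGroup E] [DistribMulAction Y E] {G : Subgroup Y}
    (hirr : ∀ L : AddSubgroup E, (∀ g ∈ G, ∀ v ∈ L, g • v ∈ L) → L = ⊥ ∨ L = ⊤) [Module (ZMod p) E]
    (L : Submodule (ZMod p) E) (hL : Ivt (rep_of Y p (E := E)) G L) :
    L = ⊥ ∨ L = ⊤ := by
  rcases hirr L.toAddSubgroup hL with h1 | h1
  · left
    rw [eq_bot_iff]
    intro v hv
    have h2 : v ∈ L.toAddSubgroup := hv
    rw [h1, AddSubgroup.mem_bot] at h2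
    exact (Submodule.mem_bot _).2 h2
  · right
    rw [eq_top_iff]
    intro v _
    have h2 : v ∈ L.toAddSubgroup := by rw [h1]; trivial
    exact h2

namespace Fam

variable (F : Fam cs h p T n X C) [Finite Y] [∀ l, Finite (W l)] [Fact p.Prime] {E : Type*} [AddCommGroup E]
  [DistribMulAction Y E] [Finite E] (hp : ∀ v : E, p • v = 0)
  (hirr : ∀ L : AddSubgroup E, (∀ g ∈ GGt cs h T X, ∀ v ∈ L, g • v ∈ L) → L = ⊥ ∨ L = ⊤)
include F hp hirr

/-- a nonzero subgroup fixed by `U`, invariant under `T`, is `C(U)` -/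
theorem act_le {e : AddSubgroup E} (he : e ≠ ⊥) (hU : ∀ u ∈ Ut cs h X, ∀ x ∈ e, u • x = x)
    (hT : ∀ t ∈ T, ∀ x ∈ e, t • x ∈ e) {x : E} (hx : ∀ u ∈ Ut cs h X, u • x = x) : x ∈ e := by
  let _ : Module (ZMod p) E := AddCommGroup.zmodModule (n := p) hp
  have _ : FiniteDimensional (ZMod p) E := Module.Finite.of_finite
  have h1 := F.eq_of_le (k := ZMod p) (V := E) (rep_of Y p (E := E)) (hirr' hirr) (N := toSub e) (toSub_ne he) (fun v hv u hu => hU u hu v hv)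
    (fun t ht v hv => hT t ht v hv)
  have h2 : x ∈ fx (rep_of Y p (E := E)) (Ut cs h X) := hx
  rw [← h1] at h2
  exact h2

/-- `E` is generated by the `U⁻`-conjugates of `C(U)` -/
theorem act_gen [Nontrivial E] {L : AddSubgroup E} (hL : ∀ x, (∀ u ∈ Ut cs h X, u • x = x) → ∀ u ∈ UNt cs h X, u • x ∈ L) :
    L = ⊤ := by
  let _ : Module (ZMod p) E := AddCommGroup.zmodModule (n := p) hp
  have _ : FiniteDimensional (ZMod p) E := Module.Finite.of_finite
  have h1 := (F.main (k := ZMod p) (V := E) (rep_of Y p (E := E)) (hirr' hirr)).gen (hirr' hirr)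
  rw [eq_top_iff]
  intro v _
  have h2 : v ∈ Sp (rep_of Y p (E := E)) (UNt cs h X) (fx (rep_of Y p (E := E)) (Ut cs h X)) := by rw [h1]; trivial
  have h3 : Sp (rep_of Y p (E := E)) (UNt cs h X) (fx (rep_of Y p (E := E)) (Ut cs h X)) ≤ toSub (p := p) L := by
    unfold Sp
    rw [Submodule.span_le]
    rintro _ ⟨u, hu, x, hx, rfl⟩
    exact hL x hx u hu
  exact h3 h2

/-- `n_i C(U) ⊆ ⟨X_{-i}-conjugates of C(U)⟩` -/
theorem act_n [Nontrivial E] (l : κ) (i : I l) {L : AddSubgroup E}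
    (hL : ∀ x, (∀ u ∈ Ut cs h X, u • x = x) → ∀ u ∈ X l (-sr i), u • x ∈ L) {x : E}
    (hx : ∀ u ∈ Ut cs h X, u • x = x) : n l i • x ∈ L := by
  let _ : Module (ZMod p) E := AddCommGroup.zmodModule (n := p) hp
  have _ : FiniteDimensional (ZMod p) E := Module.Finite.of_finite
  have h1 := (F.main (k := ZMod p) (V := E) (rep_of Y p (E := E)) (hirr' hirr)).n_mem l i (v := x) hx
  have h3 : Sp (rep_of Y p (E := E)) (X l (-sr i)) (fx (rep_of Y p (E := E)) (Ut cs h X)) ≤ toSub (p := p) L := by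
    unfold Sp
    rw [Submodule.span_le]
    rintro _ ⟨u, hu, x, hx, rfl⟩
    exact hL x hx u hu
  exact h3 h1

end Fam

end Cfsg.Agent.Omega.CR

end

section


/-!
# A family of root group data with a common torus from commuting components

`Comps` : commuting subgroups `C l` with root group data with their own tori `T l`, and a group `T0` of order prime to
`p` acting diagonally on all of them.  `Comps.fam` : the family with the common torus `T0 ⊔ ⨆ T l`.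
-/

set_option autoImplicit false
set_option linter.unusedSectionVars false

namespace Cfsg.Agent.Omega.CR

open Subgroup CoxeterSystem Cfsg.Agent.ChevalleyStructure.CoxeterGeom Cfsg.Agent.Tits.Roots Cfsg.Agent.Tits.Core
  Cfsg.Agent.Tits.Exchange Cfsg.Agent.Nodes.Reps Cfsg.Agent.Nodes.BNOf Cfsg.Agent.Nodes.StabComb
  Cfsg.Agent.Nodes.Bruhat Cfsg.Agent.Nodes.OppDec Cfsg.Agent.Nodes.LeviDec Cfsg.Agent.KFacts.RgdOpp

theorem card_sup_dvd' {G : Type*} [Group G] (H N : Subgroup G) (h : H ≤ normalizer (N : Set G)) :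
    Nat.card ↥(H ⊔ N) ∣ Nat.card H * Nat.card N := by
  let _ := Subgroup.normal_subgroupOf_of_le_normalizer h
  let _ := Subgroup.normal_subgroupOf_sup_of_le_normalizer h
  have e := (QuotientGroup.quotientInfEquivProdNormalizerQuotient H N h).toEquiv
  have h1 : (N.subgroupOf H).index = (N.subgroupOf (H ⊔ N)).index := Nat.card_congr e
  have h2 := Subgroup.card_mul_index (N.subgroupOf (H ⊔ N))
  rw [Nat.card_congr (Subgroup.subgroupOfEquivOfLe (le_sup_right : N ≤ H ⊔ N)).toEquiv, ← h1] at h2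
  rw [← h2, mul_comm]
  exact Nat.mul_dvd_mul (Subgroup.index_dvd_card _) dvd_rfl

variable {κ : Type*} [Fintype κ] {I W : κ → Type*} {Y : Type*} [∀ l, Fintype (I l)] [∀ l, DecidableEq (I l)]
  [∀ l, Group (W l)] [Group Y] {M : ∀ l, CoxeterMatrix (I l)}

/-- Commuting components with a group acting diagonally. -/
structure Comps (cs : ∀ l, CoxeterSystem (M l) (W l)) {A : ∀ l, I l → I l → ℤ} (h : ∀ l, IsCartan (M l) (A l)) (p : ℕ)
    (T : κ → Subgroup Y) (n : ∀ l, I l → Y) (X : ∀ l, (I l → ℤ) → Subgroup Y) (C : κ → Subgroup Y)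
    (T0 : Subgroup Y) : Prop where
  rgd : ∀ l, RGD (cs l) (h l) p (T l) (n l) (X l)
  T_le : ∀ l, T l ≤ C l
  X_le : ∀ l x, IsRoot (cs l) (h l) x → X l x ≤ C l
  n_mem : ∀ l i, n l i ∈ C l
  comm : ∀ l m, l ≠ m → ∀ a ∈ C l, ∀ b ∈ C m, a * b = b * a
  T0_T : ∀ l, ∀ t ∈ T0, ∀ s ∈ T l, t * s * t⁻¹ ∈ T l
  T0_X : ∀ l x, IsRoot (cs l) (h l) x → ∀ t ∈ T0, ∀ y ∈ X l x, t * y * t⁻¹ ∈ X l x
  T0_n : ∀ l i, ∀ t ∈ T0, (n l i)⁻¹ * (t * n l i * t⁻¹) ∈ T l
  cop : (Nat.card T0).Coprime p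

variable {cs : ∀ l, CoxeterSystem (M l) (W l)} {A : ∀ l, I l → I l → ℤ} {h : ∀ l, IsCartan (M l) (A l)} {p : ℕ}
  {T : κ → Subgroup Y} {n : ∀ l, I l → Y} {X : ∀ l, (I l → ℤ) → Subgroup Y} {C : κ → Subgroup Y} {T0 : Subgroup Y}

theorem le_normalizer_of {G : Type*} [Group G] {K H : Subgroup G} (h : ∀ t ∈ K, ∀ s ∈ H, t * s * t⁻¹ ∈ H) :
    K ≤ normalizer (H : Set G) := by
  intro t ht
  rw [mem_normalizer_iff]
  intro s
  refine ⟨h t ht s, fun hs => ?_⟩
  have h1 := h t⁻¹ (inv_mem ht) _ hs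
  have e : t⁻¹ * (t * s * t⁻¹) * t⁻¹⁻¹ = s := by group
  rwa [e] at h1

namespace Comps

variable (D : Comps cs h p T n X C T0)
include D

theorem le_norm_X (l : κ) {x : I l → ℤ} (hx : IsRoot (cs l) (h l) x) : T0 ⊔ ⨆ m, T m ≤ normalizer (X l x : Set Y) := by
  refine sup_le (le_normalizer_of (D.T0_X l x hx)) (iSup_le fun m => ?_)
  by_cases hm : m = l
  · subst hm
    refine le_normalizer_of fun t ht s hs => ?_
    have h1 := (D.rgd m).tor x hx t ht
    rw [← h1]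
    exact conj_mem_cj.2 hs
  · refine le_normalizer_of fun t ht s hs => ?_
    rw [D.comm m l hm t (D.T_le m ht) s (D.X_le l x hx hs), mul_inv_cancel_right]
    exact hs

theorem T_le_sup (l : κ) : T l ≤ T0 ⊔ ⨆ m, T m := (le_iSup T l).trans le_sup_right

theorem n_norm (l : κ) (i : I l) : n l i ∈ normalizer ((T0 ⊔ ⨆ m, T m : Subgroup Y) : Set Y) := by
  have key : ∀ g : Y, (g = n l i ∨ g = (n l i)⁻¹) → ∀ t ∈ T0 ⊔ ⨆ m, T m, g * t * g⁻¹ ∈ T0 ⊔ ⨆ m, T m := by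
    intro g hg
    have hgC : g ∈ C l := by
      rcases hg with rfl | rfl
      · exact D.n_mem l i
      · exact inv_mem (D.n_mem l i)
    have hgN : g ∈ normalizer (T l : Set Y) := by
      rcases hg with rfl | rfl
      · exact (D.rgd l).nsys.norm i
      · exact inv_mem ((D.rgd l).nsys.norm i)
    have h1 : T0 ⊔ ⨆ m, T m ≤ (T0 ⊔ ⨆ m, T m : Subgroup Y).comap (MulAut.conj g).toMonoidHom := by
      refine sup_le ?_ (iSup_le fun m => ?_)
      · intro t ht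
        change g * t * g⁻¹ ∈ (T0 ⊔ ⨆ m, T m : Subgroup Y)
        have h2 : ∀ t ∈ T0, (n l i)⁻¹ * t * n l i * t⁻¹ ∈ T l := by
          intro t ht
          have h3 := D.T0_n l i t ht
          have e : (n l i)⁻¹ * (t * n l i * t⁻¹) = (n l i)⁻¹ * t * n l i * t⁻¹ := by group
          rwa [e] at h3
        have ht' : t ∈ T0 ⊔ ⨆ m, T m := mem_sup_left ht
        rcases hg with rfl | rfl
        · -- `n t n⁻¹ t⁻¹ = n (t n⁻¹ t⁻¹)`
          have h3 : n l i * (t * (n l i)⁻¹ * t⁻¹) ∈ T l := by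
            have h4 := h2 t ht
            have h5 : (n l i)⁻¹ * (n l i * (t * (n l i)⁻¹ * t⁻¹))⁻¹ * n l i = (n l i)⁻¹ * t * n l i * t⁻¹ := by group
            have h6 : (n l i)⁻¹ * (n l i * (t * (n l i)⁻¹ * t⁻¹))⁻¹ * (n l i)⁻¹⁻¹ ∈ T l := by
              rw [inv_inv, h5]; exact h4
            have h7 := (mem_normalizer_iff.1 (inv_mem ((D.rgd l).nsys.norm i)) _).2 h6
            exact inv_mem_iff.1 h7
          have e : n l i * t * (n l i)⁻¹ = n l i * (t * (n l i)⁻¹ * t⁻¹) * t := by group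
          rw [e]
          exact mul_mem (D.T_le_sup l h3) ht'
        · have e : (n l i)⁻¹ * t * (n l i)⁻¹⁻¹ = (n l i)⁻¹ * t * n l i * t⁻¹ * t := by group
          rw [e]
          exact mul_mem (D.T_le_sup l (h2 t ht)) ht'
      · intro t ht
        change g * t * g⁻¹ ∈ (T0 ⊔ ⨆ m, T m : Subgroup Y)
        by_cases hm : m = l
        · subst hm
          exact D.T_le_sup m ((mem_normalizer_iff.1 hgN t).1 ht)
        · rw [← D.comm m l hm t (D.T_le m ht) g hgC, mul_inv_cancel_right]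
          exact D.T_le_sup m ht
    exact fun t ht => h1 ht
  rw [mem_normalizer_iff]
  intro t
  refine ⟨key _ (Or.inl rfl) t, fun ht => ?_⟩
  have h1 := key _ (Or.inr rfl) _ ht
  have e : (n l i)⁻¹ * (n l i * t * (n l i)⁻¹) * (n l i)⁻¹⁻¹ = t := by group
  rwa [e] at h1

theorem coprime : (Nat.card ↥(T0 ⊔ ⨆ m, T m : Subgroup Y)).Coprime p := by
  classical
  have key : ∀ s : Finset κ, (Nat.card ↥(⨆ m ∈ s, T m : Subgroup Y)).Coprime p := by
    intro s
    induction s using Finset.induction_on with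
    | empty =>
      have h0 : (⨆ m ∈ (∅ : Finset κ), T m : Subgroup Y) = ⊥ := by simp only [_root_.Finset.notMem_empty, _root_.not_false_eq_true, _root_.iSup_neg, _root_.iSup_bot]
      rw [h0, Subgroup.card_bot]
      exact Nat.coprime_one_left p
    | insert a s ha ih =>
      rw [Finset.iSup_insert]
      have h1 : T a ≤ normalizer ((⨆ m ∈ s, T m : Subgroup Y) : Set Y) := by
        have h2 : (⨆ m ∈ s, T m : Subgroup Y) ≤ centralizer (T a : Set Y) := by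
          refine iSup₂_le fun m hm => ?_
          intro c hc
          rw [mem_centralizer_iff]
          intro g hg
          have hne : a ≠ m := by
            rintro rfl
            exact ha hm
          exact D.comm a m hne g (D.T_le a hg) c (D.T_le m hc)
        refine le_normalizer_of fun t ht c hc => ?_
        rw [mem_centralizer_iff.1 (h2 hc) t ht, mul_inv_cancel_right]
        exact hc
      exact Nat.Coprime.coprime_dvd_left (card_sup_dvd' _ _ h1) (Nat.Coprime.mul_left (D.rgd a).tcop ih)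
  have h1 := key Finset.univ
  have h2 : (⨆ m ∈ (Finset.univ : Finset κ), T m : Subgroup Y) = ⨆ m, T m := by
    simp only [Finset.mem_univ, iSup_pos]
  rw [h2] at h1
  have h3 : T0 ≤ normalizer ((⨆ m, T m : Subgroup Y) : Set Y) := by
    refine le_normalizer_of fun t ht => ?_
    have h4 : (⨆ m, T m : Subgroup Y) ≤ (⨆ m, T m : Subgroup Y).comap (MulAut.conj t).toMonoidHom := by
      refine iSup_le fun m s hs => ?_
      exact (le_iSup T m) (D.T0_T m t ht s hs)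
    exact fun s hs => h4 hs
  exact Nat.Coprime.coprime_dvd_left (card_sup_dvd' _ _ h3) (Nat.Coprime.mul_left D.cop h1)

/-- **The family with the common torus.** -/
theorem fam : Fam cs h p (T0 ⊔ ⨆ m, T m) n X C where
  rgd l :=
    { nsys := ⟨D.n_norm l, fun i j => D.T_le_sup l ((D.rgd l).nsys.rel i j)⟩
      conj := (D.rgd l).conj
      tor := fun x hx t ht => by
        apply le_antisymm
        · rintro _ ⟨y, hy, rfl⟩
          exact (mem_normalizer_iff.1 (D.le_norm_X l hx ht) y).1 hy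
        · intro y hy
          rw [mem_cj]
          have h1 := (mem_normalizer_iff.1 (D.le_norm_X l hx (inv_mem ht)) y).1 hy
          rwa [inv_inv] at h1
      comm := (D.rgd l).comm
      rk1 := fun i u hu hu1 => by
        obtain ⟨a, ha, t, ht, b, hb, e⟩ := (D.rgd l).rk1 i u hu hu1
        exact ⟨a, ha, t, D.T_le_sup l ht, b, hb, e⟩
      pgrp := (D.rgd l).pgrp
      notp := (D.rgd l).notp
      tcop := D.coprime }
  X_le := D.X_le
  n_mem := D.n_mem
  comm := D.comm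

/-- the group of the family -/
theorem GGt_eq (hC : ∀ l, C l ≤ GG (cs l) (h l) (T l) (X l)) : GGt cs h (T0 ⊔ ⨆ m, T m) X = T0 ⊔ ⨆ m, C m := by
  unfold GGt
  apply le_antisymm
  · refine sup_le (sup_le le_sup_left (iSup_le fun m => ?_)) (iSup_le fun l => ?_)
    · exact (D.T_le m).trans ((le_iSup C m).trans le_sup_right)
    · unfold GG
      refine sup_le (sup_le le_sup_left (iSup_le fun m => ?_)) (RGD.Sup_le fun z hz => ?_)
      · exact (D.T_le m).trans ((le_iSup C m).trans le_sup_right)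
      · exact (D.X_le l z hz).trans ((le_iSup C l).trans le_sup_right)
  · refine sup_le (le_sup_left.trans le_sup_left) (iSup_le fun l => ?_)
    refine (hC l).trans ?_
    unfold GG
    refine sup_le ((D.T_le_sup l).trans le_sup_left) (RGD.Sup_le fun z hz => ?_)
    refine le_trans ?_ ((le_iSup (fun l => GG (cs l) (h l) (T0 ⊔ ⨆ m, T m) (X l)) l).trans le_sup_right)
    unfold GG
    exact (RGD.le_Sup (S := {x | IsRoot (cs l) (h l) x}) hz).trans le_sup_right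

end Comps

end Cfsg.Agent.Omega.CR

end

section


/-!
# Generation by `U⁻` and a nontrivial normal subgroup of `U`

`gen_of_normal` : root group data, connected diagram, `1 ≠ A₁ ≤ U` normal in `U` and normalised by `T`: a subgroup containing
`U⁻` and `A₁` contains all root groups.
-/

set_option autoImplicit false
set_option linter.unusedSectionVars false

namespace Cfsg.Agent.Omega.CR

open Subgroup CoxeterSystem Cfsg.Agent.ChevalleyStructure.CoxeterGeom Cfsg.Agent.Tits.Roots Cfsg.Agent.Tits.Core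
  Cfsg.Agent.Tits.Exchange Cfsg.Agent.Nodes.Reps Cfsg.Agent.Nodes.BNOf Cfsg.Agent.Nodes.StabComb
  Cfsg.Agent.Nodes.Bruhat Cfsg.Agent.Nodes.OppDec Cfsg.Agent.Nodes.LeviDec Cfsg.Agent.KFacts.RgdOpp
  Cfsg.Agent.KFacts.RgdVJ Cfsg.Agent.KFacts.RgdDiag

variable {I W Y : Type*} [Fintype I] [DecidableEq I] [Group W] [Group Y] {M : CoxeterMatrix I}
  {cs : CoxeterSystem M W} {A : I → I → ℤ} {h : IsCartan M A} {p : ℕ} {T : Subgroup Y} {n : I → Y}
  {X : (I → ℤ) → Subgroup Y}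

/-- `L ⊴ L T`, `T` of order prime to `p`: the `p`-elements of `L T` are in `L` -/
theorem mem_of_pow {G : Type*} [Group G] [Finite G] {p : ℕ} {L T : Subgroup G} (hT : T ≤ normalizer (L : Set G))
    (hcop : (Nat.card T).Coprime p) {x : G} (hx : x ∈ L ⊔ T) {k : ℕ} (hk : x ^ p ^ k = 1) : x ∈ L := by
  have h1 : Nat.card ↥(T ⊔ L : Subgroup G) = Nat.card L * L.relIndex (T ⊔ L) := by
    rw [← relIndex_bot_left, ← relIndex_bot_left, relIndex_mul_relIndex ⊥ L (T ⊔ L) bot_le le_sup_right]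
  have h2 : L.relIndex (T ⊔ L) ∣ Nat.card T := by
    have h3 := card_sup_dvd' T L hT
    rw [h1, mul_comm (Nat.card T)] at h3
    exact Nat.dvd_of_mul_dvd_mul_left Nat.card_pos h3
  have hn : (L.subgroupOf (T ⊔ L)).Normal := Subgroup.normal_subgroupOf_sup_of_le_normalizer hT
  have hx' : x ∈ T ⊔ L := by rwa [sup_comm]
  have h4 : (⟨x, hx'⟩ : ↥(T ⊔ L : Subgroup G)) ^ (L.subgroupOf (T ⊔ L)).index ∈ L.subgroupOf (T ⊔ L) :=
    pow_index_mem _ _
  have h5 : x ^ L.relIndex (T ⊔ L) ∈ L := h4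
  have h6 : (L.relIndex (T ⊔ L)).Coprime (p ^ k) := Nat.Coprime.pow_right k (Nat.Coprime.coprime_dvd_left h2 hcop)
  have h7 : orderOf (QuotientGroup.mk (s := L.subgroupOf (T ⊔ L)) (⟨x, hx'⟩ : ↥(T ⊔ L : Subgroup G))) = 1 := by
    rw [← Nat.dvd_one, ← h6.gcd_eq_one]
    refine Nat.dvd_gcd ?_ ?_
    · rw [orderOf_dvd_iff_pow_eq_one, ← QuotientGroup.mk_pow, QuotientGroup.eq_one_iff]
      exact h5
    · rw [orderOf_dvd_iff_pow_eq_one, ← QuotientGroup.mk_pow]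
      have : (⟨x, hx'⟩ : ↥(T ⊔ L : Subgroup G)) ^ p ^ k = 1 := Subtype.ext hk
      rw [this]; rfl
  rw [orderOf_eq_one_iff, QuotientGroup.eq_one_iff] at h7
  exact h7

variable (R : RGD cs h p T n X)

include R

theorem T_norm_UN' [Finite W] : T ≤ normalizer (UN cs h X : Set Y) := by
  have h1 := (opp R).T_le_normalizer_U
  rwa [U_opp] at h1

/-- **Generation.** -/
theorem gen_of_normal [Finite Y] [Finite W]
    (hconn : ∀ J : Set I, J.Nonempty → J ≠ Set.univ → ∃ a ∈ J, ∃ b, b ∉ J ∧ M a b ≠ 2) {A₁ : Subgroup Y}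
    (hA : A₁ ≤ RGD.Sup X (RGD.Pos cs h)) (hne : A₁ ≠ ⊥)
    (hU : ∀ u ∈ RGD.Sup X (RGD.Pos cs h), ∀ a ∈ A₁, u * a * u⁻¹ ∈ A₁) (hT : ∀ t ∈ T, ∀ a ∈ A₁, t * a * t⁻¹ ∈ A₁)
    {L : Subgroup Y} (hN : UN cs h X ≤ L) (hAL : A₁ ≤ L) {x : I → ℤ} (hx : IsRoot cs h x) : X x ≤ L := by
  set L' : Subgroup Y := UN cs h X ⊔ A₁ with hL'
  have hL'L : L' ≤ L := sup_le hN hAL
  refine le_trans ?_ hL'L
  have hTL : T ≤ normalizer (L' : Set Y) := by
    refine le_normalizer_of fun t ht s hs => ?_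
    have h1 : L' ≤ L'.comap (MulAut.conj t).toMonoidHom := by
      refine sup_le ?_ ?_
      · intro y hy
        exact mem_sup_left ((mem_normalizer_iff.1 (T_norm_UN' R ht) y).1 hy)
      · intro y hy
        exact mem_sup_right (hT t ht y hy)
    exact h1 hs
  have hB : RGD.B cs h T (fun x => X (-x)) ≤ L' ⊔ T := by
    rw [B_opp]
    exact sup_le le_sup_right (le_sup_left.trans le_sup_left)
  have h1 := inf_eq_PJ (opp R) hB
  rw [PJ_opp, GG_opp] at h1
  set J : Set I := {i | n i ∈ L' ⊔ T} with hJ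
  by_cases hJu : J = Set.univ
  · intro y hy
    have hy1 : y ∈ GG cs h T X := mem_sup_right (RGD.le_Sup (S := {x | IsRoot cs h x}) hx hy)
    have hy2 : y ∈ PNJ cs h T X J := by
      rw [hJu]
      exact mem_sup_left (by rw [LJ_univ]; exact hy1)
    rw [← h1] at hy2
    obtain ⟨k, hk⟩ := R.pgrp' hx ⟨y, hy⟩
    exact mem_of_pow hTL R.tcop hy2.1 (congrArg Subtype.val hk)
  · exfalso
    apply hne
    rw [eq_bot_iff]
    intro a ha
    have haU := hA ha
    -- elements of `A₁` are in `U_J`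
    have key : ∀ a ∈ A₁, a ∈ UJ cs h X J := by
      intro a ha
      have h2 : a ∈ PNJ cs h T X J := by
        rw [← h1]
        refine ⟨mem_sup_left (mem_sup_right ha), ?_⟩
        exact (RGD.Sup_mono (fun z hz => hz.1) : RGD.Sup X (RGD.Pos cs h) ≤ RGD.Sup X {x | IsRoot cs h x}).trans
          le_sup_right (hA ha)
      obtain ⟨u, hu, v, hv, rfl⟩ := (mem_U_iff R (J := J)).1 (hA ha)
      have h3 : u ∈ PNJ cs h T X J := by
        refine mem_sup_left (mem_sup_right ?_)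
        exact (RGD.Sup_mono (PosJ_subset J)) hu
      have h4 : v ∈ PNJ cs h T X J := by
        have : v = u⁻¹ * (u * v) := by group
        rw [this]
        exact mul_mem (inv_mem h3) h2
      rw [eq_one_of_mem_VJ_of_mem_PNJ R hv h4, mul_one]
      exact hu
    have hcomm : ∀ v ∈ VJ cs h X J, a * v = v * a := by
      intro v hv
      have hvU : v ∈ RGD.Sup X (RGD.Pos cs h) := VJ_le_U J hv
      have h2 : a * v * a⁻¹ * v⁻¹ ∈ UJ cs h X J := by
        have h3 : v * a⁻¹ * v⁻¹ ∈ A₁ := hU v hvU _ (inv_mem ha)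
        have e : a * v * a⁻¹ * v⁻¹ = a * (v * a⁻¹ * v⁻¹) := by group
        rw [e]
        exact key _ (mul_mem ha h3)
      have h3 : a * v * a⁻¹ * v⁻¹ ∈ VJ cs h X J := by
        have haN : a ∈ normalizer (VJ cs h X J : Set Y) :=
          PJ_le_normalizer_VJ R J (B_le_PJ (RGD.U_le_B haU))
        exact mul_mem ((mem_normalizer_iff.1 haN v).1 hv) (inv_mem hv)
      have h4 : a * v * a⁻¹ * v⁻¹ ∈ UJ cs h X J ⊓ VJ cs h X J := ⟨h2, h3⟩
      rw [UJ_inf_VJ R, mem_bot] at h4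
      have h5 : a * v = (a * v * a⁻¹ * v⁻¹) * v * a := by group
      rw [h5, h4, one_mul]
    have haG : a ∈ GG cs h T X :=
      (RGD.Sup_mono (fun z hz => hz.1) : RGD.Sup X (RGD.Pos cs h) ≤ RGD.Sup X {x | IsRoot cs h x}).trans
          le_sup_right haU
    obtain ⟨t, ht, v, hv, e, -, -⟩ := cent_VJ R hconn hJu haG hcomm
    have ht1 : t = 1 := by
      have h3 : t ∈ RGD.Sup X (RGD.Pos cs h) := by
        have : t = a * v⁻¹ := by rw [e]; group
        rw [this]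
        exact mul_mem haU (inv_mem (VJ_le_U J hv))
      have h2 : t ∈ RGD.Sup X (RGD.Pos cs h) ⊓ T := ⟨h3, ht⟩
      rwa [U_inf_T R, mem_bot] at h2
    rw [ht1, one_mul] at e
    have h2 : a ∈ UJ cs h X J ⊓ VJ cs h X J := ⟨key a ha, by rw [e]; exact hv⟩
    rwa [UJ_inf_VJ R] at h2

end Cfsg.Agent.Omega.CR

end

section


/-!
# Commuting components with root group data: the Borel subgroup, the longest element, generation

`D : Comps cs h 2 T n X C T0`, every `C l` generated by its root groups; `E = ⨆ C l`, `S = Ut`, `HE = ⨆ T l`.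

* `Comps.cpl` : `HE` is a complement of `S` in `N_E(S)`;
* `Comps.exists_w` : the longest element;
* `Comps.gen` : `E = ⟨S⁻, A⟩`.
-/

set_option autoImplicit false
set_option linter.unusedSectionVars false

namespace Cfsg.Agent.Omega.CR

open Subgroup CoxeterSystem Cfsg.Agent.ChevalleyStructure.CoxeterGeom Cfsg.Agent.Tits.Roots Cfsg.Agent.Tits.Core
  Cfsg.Agent.Tits.Exchange Cfsg.Agent.Nodes.Reps Cfsg.Agent.Nodes.BNOf Cfsg.Agent.Nodes.StabComb
  Cfsg.Agent.Nodes.Bruhat Cfsg.Agent.Nodes.OppDec Cfsg.Agent.Nodes.LeviDec Cfsg.Agent.Nodes.NormalForm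
  Cfsg.Agent.KFacts.RgdOpp

section general

variable {G : Type*} [Group G]

theorem mem_normalizer_of_le {U : Subgroup G} {g : G} (h : ∀ x ∈ U, g * x * g⁻¹ ∈ U) (h' : ∀ x ∈ U, g⁻¹ * x * g ∈ U) :
    g ∈ normalizer (U : Set G) := by
  rw [mem_normalizer_iff]
  intro x
  refine ⟨h x, fun hx => ?_⟩
  have h1 := h' _ hx
  have e : g⁻¹ * (g * x * g⁻¹) * g = x := by group
  rwa [e] at h1

theorem relIndex_eq_card {U H : Subgroup G} (hH : H ≤ normalizer (U : Set G)) (hinf : U ⊓ H = ⊥) :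
    Nat.card H = U.relIndex (U ⊔ H) := by
  let _ := Subgroup.normal_subgroupOf_of_le_normalizer hH
  let _ := Subgroup.normal_subgroupOf_sup_of_le_normalizer hH
  have e := (QuotientGroup.quotientInfEquivProdNormalizerQuotient H U hH).toEquiv
  have h1 : (U.subgroupOf H).index = (U.subgroupOf (H ⊔ U)).index := Nat.card_congr e
  have h2 : U.subgroupOf H = ⊥ := by
    rw [eq_bot_iff]
    intro x hx
    have h3 : (x : G) ∈ U ⊓ H := ⟨mem_subgroupOf.1 hx, x.2⟩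
    rw [hinf, mem_bot] at h3
    exact Subtype.ext h3
  rw [h2, index_bot] at h1
  rw [sup_comm]
  exact h1

/-- the elements normalising `HE` and commuting with `T0` modulo `HE` -/
def NN0 (HE T0 : Subgroup G) : Subgroup G where
  carrier := {g | g ∈ normalizer (HE : Set G) ∧ ∀ t ∈ T0, g⁻¹ * (t * g * t⁻¹) ∈ HE}
  one_mem' := ⟨one_mem _, fun t _ => by simp [one_mem]⟩
  mul_mem' := by
    rintro a b ⟨ha, ha'⟩ ⟨hb, hb'⟩
    refine ⟨mul_mem ha hb, fun t ht => ?_⟩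
    have e : (a * b)⁻¹ * (t * (a * b) * t⁻¹) = b⁻¹ * (a⁻¹ * (t * a * t⁻¹)) * b * (b⁻¹ * (t * b * t⁻¹)) := by group
    rw [e]
    refine mul_mem ?_ (hb' t ht)
    have := (mem_normalizer_iff.1 (inv_mem hb) _).1 (ha' t ht)
    rwa [inv_inv] at this
  inv_mem' := by
    rintro a ⟨ha, ha'⟩
    refine ⟨inv_mem ha, fun t ht => ?_⟩
    have e : a⁻¹⁻¹ * (t * a⁻¹ * t⁻¹) = a * (a⁻¹ * (t * a * t⁻¹))⁻¹ * a⁻¹ := by group
    rw [e]
    exact (mem_normalizer_iff.1 ha _).1 (inv_mem (ha' t ht))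

end general

variable {κ : Type*} [Fintype κ] {I W : κ → Type*} {Y : Type*} [∀ l, Fintype (I l)] [∀ l, DecidableEq (I l)]
  [∀ l, Group (W l)] [Group Y] {M : ∀ l, CoxeterMatrix (I l)}
  {cs : ∀ l, CoxeterSystem (M l) (W l)} {A : ∀ l, I l → I l → ℤ} {h : ∀ l, IsCartan (M l) (A l)} {p : ℕ}
  {T : κ → Subgroup Y} {n : ∀ l, I l → Y} {X : ∀ l, (I l → ℤ) → Subgroup Y} {C : κ → Subgroup Y} {T0 : Subgroup Y}

/-- decomposition of an element of a product of commuting subgroups -/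
theorem exists_dec' {C : κ → Subgroup Y} (comm : ∀ l m, l ≠ m → ∀ a ∈ C l, ∀ b ∈ C m, a * b = b * a)
    {P : κ → Prop} {a : κ} (ha : P a) {x : Y} (hx : x ∈ ⨆ m : {m // P m}, C m) :
    ∃ c ∈ C a, ∃ y ∈ ⨆ m : {m // P m ∧ m ≠ a}, C m, x = c * y ∧ ∀ c ∈ C a, c * y = y * c := by
  have hcm : ∀ c ∈ C a, ∀ y ∈ ⨆ m : {m // P m ∧ m ≠ a}, C m, c * y = y * c := by
    intro c hc y hy
    have h1 : (⨆ m : {m // P m ∧ m ≠ a}, C m) ≤ centralizer {c} := by
      refine iSup_le fun m y hy => ?_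
      rw [mem_centralizer_iff]
      rintro _ rfl
      exact comm a m (Ne.symm m.2.2) _ hc y hy
    exact mem_centralizer_iff.1 (h1 hy) c rfl
  have h1 : (⨆ m : {m // P m}, C m) ≤ C a ⊔ ⨆ m : {m // P m ∧ m ≠ a}, C m := by
    refine iSup_le fun m => ?_
    by_cases hm : (m : κ) = a
    · rw [hm]; exact le_sup_left
    · exact (le_iSup (fun m : {m // P m ∧ m ≠ a} => C m) ⟨m, m.2, hm⟩).trans le_sup_right
  have h2 : C a ≤ normalizer ((⨆ m : {m // P m ∧ m ≠ a}, C m : Subgroup Y) : Set Y) := by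
    refine le_normalizer_of fun c hc y hy => ?_
    rw [hcm c hc y hy, mul_inv_cancel_right]
    exact hy
  have h3 := h1 hx
  rw [← SetLike.mem_coe, coe_mul_of_left_le_normalizer_right _ _ h2] at h3
  obtain ⟨c, hc, y, hy, e⟩ := Set.mem_mul.1 h3
  exact ⟨c, hc, y, hy, e.symm, fun c hc => hcm c hc y hy⟩

namespace Comps

variable (D : Comps cs h p T n X C T0)
include D

theorem GG_le (l : κ) : GG (cs l) (h l) (T l) (X l) ≤ C l := by
  unfold GG
  exact sup_le (D.T_le l) (RGD.Sup_le fun x hx => D.X_le l x hx)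

theorem U_le (l : κ) : RGD.Sup (X l) (RGD.Pos (cs l) (h l)) ≤ C l := RGD.Sup_le fun x hx => D.X_le l x hx.1

theorem Ut_le : Ut cs h X ≤ ⨆ l, C l := iSup_mono D.U_le

theorem HE_le : (⨆ l, T l) ≤ ⨆ l, C l := iSup_mono D.T_le

theorem HE_norm_Ut : T0 ⊔ ⨆ l, T l ≤ normalizer (Ut cs h X : Set Y) := by
  exact le_normalizer_of fun t ht u hu => D.fam.T_norm_Ut ht hu

theorem coprime_HE : (Nat.card ↥(⨆ l, T l : Subgroup Y)).Coprime p :=
  Nat.Coprime.coprime_dvd_left (card_dvd_of_le le_sup_right) D.coprime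

variable [Finite Y] [∀ l, Finite (W l)] [Fact p.Prime]

theorem Ut_inf_HE : Ut cs h X ⊓ ⨆ l, T l = ⊥ := by
  apply inf_eq_bot_of_coprime
  obtain ⟨k, hk⟩ := IsPGroup.iff_card.1 D.fam.isPGroup_Ut
  rw [hk]
  exact (Nat.Coprime.pow_right k D.coprime_HE).symm

variable (hC : ∀ l, C l ≤ RGD.Sup (X l) {x | IsRoot (cs l) (h l) x})
include hC

theorem C_eq (l : κ) : GG (cs l) (h l) (T l) (X l) = C l :=
  le_antisymm (D.GG_le l) ((hC l).trans le_sup_right)

theorem Ut_inf_C (l : κ) : Ut cs h X ⊓ C l = RGD.Sup (X l) (RGD.Pos (cs l) (h l)) := by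
  refine eq_U_of_isPGroup (D.rgd l) (D.fam.isPGroup_Ut.to_le inf_le_left) (le_inf (U_le_Ut l) (D.U_le l)) ?_
  rw [D.C_eq hC l]
  exact inf_le_right

theorem normalizer_le : (⨆ l, C l) ⊓ normalizer (Ut cs h X : Set Y) ≤ Ut cs h X ⊔ ⨆ l, T l := by
  classical
  rintro x ⟨hx, hxN⟩
  have hTN : Ut cs h X ⊔ ⨆ l, T l ≤ normalizer (Ut cs h X : Set Y) :=
    sup_le le_normalizer (le_sup_right.trans D.HE_norm_Ut)
  have key : ∀ s : Finset κ, ∃ b ∈ Ut cs h X ⊔ ⨆ l, T l, b⁻¹ * x ∈ ⨆ m : {m // m ∉ s}, C m := by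
    intro s
    induction s using Finset.induction_on with
    | empty =>
      refine ⟨1, one_mem _, ?_⟩
      rw [inv_one, one_mul]
      have h1 : (⨆ l, C l) ≤ ⨆ m : {m // m ∉ (∅ : Finset κ)}, C m :=
        iSup_le fun l => le_iSup (fun m : {m // m ∉ (∅ : Finset κ)} => C m) ⟨l, Finset.notMem_empty l⟩
      exact h1 hx
    | insert a s ha ih =>
      obtain ⟨b, hb, hbx⟩ := ih
      obtain ⟨c, hc, y, hy, e, hcy⟩ := exists_dec' D.comm (P := fun m => m ∉ s) ha hbx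
      have hcN : c ∈ RGD.B (cs a) (h a) (T a) (X a) := by
        rw [← normalizer_U (D.rgd a)]
        refine ⟨?_, by rw [D.C_eq hC a]; exact hc⟩
        have h1 : b⁻¹ * x ∈ normalizer (Ut cs h X : Set Y) := mul_mem (inv_mem (hTN hb)) hxN
        refine mem_normalizer_of_le ?_ ?_
        · intro u hu
          have h2 := (mem_normalizer_iff.1 h1 u).1 (U_le_Ut a hu)
          have h3 : b⁻¹ * x * u * (b⁻¹ * x)⁻¹ = c * u * c⁻¹ := by
            have h4 := hcy _ (D.U_le a hu)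
            have h5 : y * u * y⁻¹ = u := by rw [← h4, mul_inv_cancel_right]
            calc b⁻¹ * x * u * (b⁻¹ * x)⁻¹ = c * (y * u * y⁻¹) * c⁻¹ := by rw [e]; group
              _ = _ := by rw [h5]
          rw [h3] at h2
          have h5 : c * u * c⁻¹ ∈ C a := mul_mem (mul_mem hc (D.U_le a hu)) (inv_mem hc)
          have h4 : c * u * c⁻¹ ∈ Ut cs h X ⊓ C a := ⟨h2, h5⟩
          rwa [D.Ut_inf_C hC] at h4
        · intro u hu
          have h2 := (mem_normalizer_iff.1 (inv_mem h1) u).1 (U_le_Ut a hu)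
          have h3 : (b⁻¹ * x)⁻¹ * u * (b⁻¹ * x)⁻¹⁻¹ = c⁻¹ * u * c := by
            have h4 := hcy _ (mul_mem (mul_mem (inv_mem hc) (D.U_le a hu)) hc)
            calc (b⁻¹ * x)⁻¹ * u * (b⁻¹ * x)⁻¹⁻¹ = y⁻¹ * ((c⁻¹ * u * c) * y) := by rw [e]; group
              _ = y⁻¹ * (y * (c⁻¹ * u * c)) := by rw [h4]
              _ = _ := by group
          rw [h3] at h2
          have h5 : c⁻¹ * u * c ∈ C a := mul_mem (mul_mem (inv_mem hc) (D.U_le a hu)) hc
          have h4 : c⁻¹ * u * c ∈ Ut cs h X ⊓ C a := ⟨h2, h5⟩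
          rwa [D.Ut_inf_C hC] at h4
      have hcB : c ∈ Ut cs h X ⊔ ⨆ l, T l := by
        refine (?_ : RGD.B (cs a) (h a) (T a) (X a) ≤ _) hcN
        unfold RGD.B
        exact sup_le ((le_iSup T a).trans le_sup_right) ((U_le_Ut a).trans le_sup_left)
      refine ⟨b * c, mul_mem hb hcB, ?_⟩
      have h2 : (b * c)⁻¹ * x = y := by
        have : (b * c)⁻¹ * x = c⁻¹ * (b⁻¹ * x) := by group
        rw [this, e]; group
      rw [h2]
      have h3 : (⨆ m : {m // m ∉ s ∧ m ≠ a}, C m) ≤ ⨆ m : {m // m ∉ insert a s}, C m :=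
        iSup_le fun m => le_iSup (fun m : {m // m ∉ insert a s} => C m) ⟨m, by
          rw [Finset.mem_insert, not_or]
          exact ⟨m.2.2, m.2.1⟩⟩
      exact h3 hy
  obtain ⟨b, hb, hbx⟩ := key Finset.univ
  have h1 : (⨆ m : {m // m ∉ (Finset.univ : Finset κ)}, C m) = ⊥ := by
    rw [eq_bot_iff]
    exact iSup_le fun m => absurd (Finset.mem_univ _) m.2
  rw [h1, mem_bot] at hbx
  have h2 : x = b := by
    have := inv_mul_eq_one.1 hbx
    exact this.symm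
  rw [h2]; exact hb

theorem normalizer_eq : (⨆ l, C l) ⊓ normalizer (Ut cs h X : Set Y) = Ut cs h X ⊔ ⨆ l, T l :=
  le_antisymm (D.normalizer_le hC) (le_inf (sup_le D.Ut_le D.HE_le)
    (sup_le le_normalizer (le_sup_right.trans D.HE_norm_Ut)))

/-- **`HE` is a complement of `S` in `N_E(S)`.** -/
theorem cpl : Hex.Cpl (Ut cs h X) ((⨆ l, C l) ⊓ normalizer (Ut cs h X : Set Y)) (⨆ l, T l) := by
  rw [D.normalizer_eq hC]
  exact ⟨le_sup_right, relIndex_eq_card (le_sup_right.trans D.HE_norm_Ut) D.Ut_inf_HE⟩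

/-- **Generation.** -/
theorem gen (hconn : ∀ l, ∀ J : Set (I l), J.Nonempty → J ≠ Set.univ → ∃ a ∈ J, ∃ b, b ∉ J ∧ M l a b ≠ 2)
    {A₁ : Subgroup Y} (hne : ∀ l, A₁ ⊓ RGD.Sup (X l) (RGD.Pos (cs l) (h l)) ≠ ⊥)
    (hU : ∀ u ∈ Ut cs h X, ∀ a ∈ A₁, u * a * u⁻¹ ∈ A₁) (hT : ∀ t ∈ ⨆ l, T l, ∀ a ∈ A₁, t * a * t⁻¹ ∈ A₁)
    {L : Subgroup Y} (hN : UNt cs h X ≤ L) (hAL : A₁ ≤ L) : ⨆ l, C l ≤ L := by
  refine iSup_le fun l => (hC l).trans (RGD.Sup_le fun x hx => ?_)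
  refine gen_of_normal (D.rgd l) (hconn l) (A₁ := A₁ ⊓ RGD.Sup (X l) (RGD.Pos (cs l) (h l))) inf_le_right (hne l) ?_ ?_
    ((UN_le_UNt l).trans hN) (inf_le_left.trans hAL) hx
  · rintro u hu a ⟨ha, ha'⟩
    have h5 : u * a * u⁻¹ ∈ RGD.Sup (X l) (RGD.Pos (cs l) (h l)) := mul_mem (mul_mem hu ha') (inv_mem hu)
    exact ⟨hU u (U_le_Ut l hu) a ha, h5⟩
  · rintro t ht a ⟨ha, ha'⟩
    exact ⟨hT t ((le_iSup T l) ht) a ha, (mem_normalizer_iff.1 ((D.rgd l).T_le_normalizer_U ht) a).1 ha'⟩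

omit [Finite Y] [∀ l, Finite (W l)] [Fact p.Prime] hC in
theorem n_mem_NN0 (l : κ) (i : I l) : n l i ∈ NN0 (⨆ m, T m) T0 := by
  refine ⟨?_, fun t ht => (le_iSup T l) (D.T0_n l i t ht)⟩
  have hnl := (D.rgd l).nsys.norm i
  have key : ∀ g ∈ C l, g ∈ normalizer (T l : Set Y) → (⨆ m, T m : Subgroup Y) ≤
      (⨆ m, T m : Subgroup Y).comap (MulAut.conj g).toMonoidHom := by
    intro g hg hgN
    refine iSup_le fun m t ht => ?_
    change g * t * g⁻¹ ∈ (⨆ m, T m : Subgroup Y)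
    by_cases hm : m = l
    · subst hm
      exact (le_iSup T m) ((mem_normalizer_iff.1 hgN t).1 ht)
    · rw [← D.comm m l hm t (D.T_le m ht) g hg, mul_inv_cancel_right]
      exact (le_iSup T m) ht
  refine mem_normalizer_of_le (fun x hx => key _ (D.n_mem l i) hnl hx) fun x hx => ?_
  have h1 := key _ (inv_mem (D.n_mem l i)) (inv_mem hnl) hx
  change (n l i)⁻¹ * x * (n l i)⁻¹⁻¹ ∈ (⨆ m, T m : Subgroup Y) at h1
  rwa [inv_inv] at h1

omit [Finite Y] [Fact p.Prime] hC in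
/-- **The longest element.** -/
theorem exists_w : ∃ w ∈ ⨆ l, C l, w ∈ NN0 (⨆ m, T m) T0 ∧ cj w (Ut cs h X) = UNt cs h X := by
  classical
  have hg : ∀ l, ∃ g ∈ C l, g ∈ NN0 (⨆ m, T m) T0 ∧
      cj g (RGD.Sup (X l) (RGD.Pos (cs l) (h l))) = UN (cs l) (h l) (X l) := by
    intro l
    obtain ⟨g, hg, hgR⟩ := exists_rp_closure (cs := cs l) (hN := (D.rgd l).nsys) (w0 (cs l))
    have h1 : g ∈ C l ⊓ NN0 (⨆ m, T m) T0 := by
      refine (?_ : _root_.Subgroup.closure (Set.range (n l)) ≤ _) hg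
      rw [closure_le]
      rintro _ ⟨i, rfl⟩
      exact ⟨D.n_mem l i, D.n_mem_NN0 l i⟩
    refine ⟨g⁻¹, inv_mem h1.1, inv_mem h1.2, ?_⟩
    rw [← cj_UN (D.rgd l) hgR, ← cj_mul, inv_mul_cancel, cj_one]
  choose g hgC hgN hgU using hg
  have key : ∀ s : Finset κ, ∃ w ∈ ⨆ l ∈ s, C l, w ∈ NN0 (⨆ m, T m) T0 ∧
      ∀ l ∈ s, cj w (RGD.Sup (X l) (RGD.Pos (cs l) (h l))) = UN (cs l) (h l) (X l) := by
    intro s
    induction s using Finset.induction_on with
    | empty => exact ⟨1, one_mem _, one_mem _, fun l hl => absurd hl (Finset.notMem_empty l)⟩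
    | insert a s ha ih =>
      obtain ⟨w, hw, hwN, hwU⟩ := ih
      have hcomm : ∀ c ∈ C a, c * w = w * c := by
        intro c hc
        have h1 : (⨆ l ∈ s, C l) ≤ centralizer {c} := by
          refine iSup₂_le fun m hm y hy => ?_
          rw [mem_centralizer_iff]
          rintro _ rfl
          have hne : a ≠ m := by
            rintro rfl
            exact ha hm
          exact D.comm a m hne _ hc y hy
        exact mem_centralizer_iff.1 (h1 hw) c rfl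
      refine ⟨g a * w, ?_, mul_mem (hgN a) hwN, ?_⟩
      · rw [Finset.iSup_insert]
        exact mul_mem (mem_sup_left (hgC a)) (mem_sup_right hw)
      · intro l hl
        rw [cj_mul]
        by_cases hla : l = a
        · subst hla
          have h1 : cj w (RGD.Sup (X l) (RGD.Pos (cs l) (h l))) = RGD.Sup (X l) (RGD.Pos (cs l) (h l)) := by
            apply le_antisymm
            · rintro _ ⟨u, hu, rfl⟩
              change w * u * w⁻¹ ∈ _
              rw [← hcomm u (D.U_le l hu), mul_inv_cancel_right]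
              exact hu
            · intro u hu
              rw [mem_cj]
              have := hcomm u (D.U_le l hu)
              rw [mul_assoc, this, inv_mul_cancel_left]
              exact hu
          rw [h1, hgU]
        · rw [hwU l ((Finset.mem_insert.1 hl).resolve_left hla)]
          have hm : ∀ u ∈ UN (cs l) (h l) (X l), g a * u = u * g a := fun u hu =>
            (D.comm l a hla u (D.fam.UN_le l hu) (g a) (hgC a)).symm
          apply le_antisymm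
          · rintro _ ⟨u, hu, rfl⟩
            change g a * u * (g a)⁻¹ ∈ _
            rw [hm u hu, mul_inv_cancel_right]
            exact hu
          · intro u hu
            rw [mem_cj, mul_assoc, ← hm u hu, inv_mul_cancel_left]
            exact hu
  obtain ⟨w, hw, hwN, hwU⟩ := key Finset.univ
  refine ⟨w, ?_, hwN, ?_⟩
  · refine (?_ : (⨆ l ∈ (Finset.univ : Finset κ), C l) ≤ ⨆ l, C l) hw
    exact iSup₂_le fun l _ => le_iSup C l
  · unfold Ut UNt
    rw [cj_iSup]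
    exact iSup_congr fun l => hwU l (Finset.mem_univ l)

end Comps

end Cfsg.Agent.Omega.CR

end

section


/-!
# The K-side: `KDiag` for all components

`kDiag_all` : `KTable`, `KPhi` and `TAct` imply `KDiag` or `KExc`.
-/

set_option autoImplicit false
set_option linter.unusedSectionVars false

namespace Cfsg.Agent.Omega.CR

open Subgroup CoxeterSystem Cfsg.Agent.ChevalleyStructure.CoxeterGeom Cfsg.Agent.Tits.Roots Cfsg.Agent.Tits.Core
  Cfsg.Agent.Tits.RootComb Cfsg.Agent.Nodes.Comb Cfsg.Agent.Nodes.Reps Cfsg.Agent.Nodes.BNOf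
  Cfsg.Agent.Nodes.Bruhat Cfsg.Agent.KFacts.RgdCharP
  Cfsg.Agent.Omega.Lie.End Cfsg.Agent.Omega.Lie.End.Mov
open Cfsg.Agent.LieRecognition.BNCox (cA cA_apply)

/-- the root group datum of `PSL₂(F)` -/
theorem psl_rgd {F : Type} [Field F] [Finite F] [CharP F 2] {Y : Type*} [Group Y]
    (e : Matrix.ProjectiveSpecialLinearGroup (Fin 2) F ≃* Y) :
    ∃ (A : Fin 1 → Fin 1 → ℤ) (h : IsCartan (cA 1) A) (T : Subgroup Y) (n : Fin 1 → Y)
      (X : (Fin 1 → ℤ) → Subgroup Y), Finite (cA 1).Group ∧ RGD (cA 1).toCoxeterSystem h 2 T n X ∧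
        RGD.Sup X {x | IsRoot (cA 1).toCoxeterSystem h x} = ⊤ ∧ ∀ s ∈ T, ∀ t ∈ T, s * t = t * s := by
  have : Fact (Nat.Prime 2) := ⟨Nat.prime_two⟩
  have hW : Finite (cA 1).Group := Cfsg.Agent.Nodes.RootsA.finite_W (cA 1).toCoxeterSystem
    (Cfsg.Agent.Nodes.RootsA.isCartan 1)
  have R := Cfsg.Agent.Nodes.RGDTypeA.rgd_psl (cA 1).toCoxeterSystem (Cfsg.Agent.Nodes.RootsA.isCartan 1) (F := F)
    (p := 2)
  have hG := Cfsg.Agent.Nodes.RGDTypeA.G1_psl_eq_top (cA 1).toCoxeterSystem (Cfsg.Agent.Nodes.RootsA.isCartan 1)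
    (F := F)
  refine ⟨_, Cfsg.Agent.Nodes.RootsA.isCartan 1, _, _, _, hW,
    Nodes.RGDLib.rgd_map_of_injective R e.toMonoidHom e.injective, ?_, ?_⟩
  · have h1 := Cfsg.Agent.Nodes.RGDTypeA.G1_map (cA 1).toCoxeterSystem (Cfsg.Agent.Nodes.RootsA.isCartan 1)
      (fun x => (Cfsg.Agent.Nodes.RGDTypeA.X F x).map (Cfsg.Agent.Nodes.RGDTypeA.pr 1 F)) e.toMonoidHom
    rw [hG, ← MonoidHom.range_eq_map, MonoidHom.range_eq_top.2 e.surjective] at h1
    exact h1
  · rintro _ ⟨_, ⟨s, hs, rfl⟩, rfl⟩ _ ⟨_, ⟨t, ht, rfl⟩, rfl⟩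
    rw [← map_mul, ← map_mul, ← map_mul, ← map_mul, KFacts.Mult.TypeA.T_comm hs ht]

theorem conn_one {M : CoxeterMatrix (Fin 1)} : Conn M := by
  rintro J ⟨a, ha⟩ hJ
  exfalso
  apply hJ
  rw [Set.eq_univ_iff_forall]
  intro b
  rw [Subsingleton.elim b a]
  exact ha

section ltwo

open Cfsg.Agent.Omega.Lie.End.LTwoSide Cfsg.Agent.Omega.EH3.Rank1.LTwo
open scoped Matrix MatrixGroups Pointwise

theorem kexc_of {K : Type*} [Group K] [Finite K] (hp : commutator K = ⊤) (hodd : Odd (Nat.card (center K)))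
    (hL : IsLTwo (K ⧸ center K)) (S : Sylow 2 K) {T : Subgroup (MulAut K)} (h : TAct (S : Subgroup K) T)
    (hf : ¬ ∀ t ∈ T, t ≠ 1 → ∀ u ∈ (S : Subgroup K), t u = u → u = 1) : KExc K (S : Subgroup K) T := by
  obtain ⟨F, _, _, _, h4, ⟨e₀⟩⟩ := hL
  obtain ⟨e₁⟩ := psl_equiv (F := F)
  obtain ⟨e⟩ := exists_equiv hp hodd (e₀.trans e₁)
  obtain ⟨Q, hQ⟩ := sylow_eq e
  obtain ⟨g, hg⟩ := MulAction.exists_smul_eq K Q S
  have hS : ∀ x, x ∈ (S : Subgroup K) ↔ ((MulAut.conj g⁻¹).trans e) x ∈ U F := by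
    intro x
    have h1 : x ∈ (S : Subgroup K) ↔ g⁻¹ * x * g ∈ Q := by
      rw [← hg]
      show x ∈ MulAut.conj g • (Q : Subgroup K) ↔ _
      rw [Subgroup.mem_pointwise_smul_iff_inv_smul_mem]
      show ((MulAut.conj g)⁻¹ x ∈ (Q : Subgroup K)) ↔ _
      rw [MulAut.conj_inv_apply]
      rfl
    rw [h1, hQ]
    show e (g⁻¹ * x * g) ∈ U F ↔ e (g⁻¹ * x * g⁻¹⁻¹) ∈ U F
    rw [inv_inv]
  simp only [not_forall] at hf
  obtain ⟨t₀, ht₀, h1, u₀, hu₀, hfx, hu1⟩ := hf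
  obtain ⟨e'⟩ := psl_equiv (F := F)
  exact ⟨(co hS).card_three h ht₀ h1 hu₀ hu1 hfx, ⟨u₀, hu₀, hu1, fun t ht => fix_all h ht₀ h1 hu₀ hfx ht⟩,
    F, inferInstance, Fintype.ofFinite F, ringChar.eq_iff.2 inferInstance,
    ⟨((MulAut.conj g⁻¹).trans e).trans e'.symm⟩⟩

end ltwo

universe u

/-- **The K-side.** -/
theorem kDiag_all (tab : KTable.{u}) (phi : KPhi.{u}) (K : Type u) [Group K] [Finite K] (hperf : commutator K = ⊤)
    (hsimple : IsSimpleGroup (K ⧸ center K)) (hodd : Odd (Nat.card (center K)))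
    (hlie : IsLieTypeChar 2 (K ⧸ center K)) (S : Sylow 2 K) {Γ : Subgroup (MulAut K)}
    (hT : TAct (S : Subgroup K) Γ) : KDiag (S : Subgroup K) Γ ∨ KExc K (S : Subgroup K) Γ := by
  have : Fact (Nat.Prime 2) := ⟨Nat.prime_two⟩
  have hs : Function.Surjective (QuotientGroup.mk' (center K)) := QuotientGroup.mk'_surjective _
  have hker : (QuotientGroup.mk' (center K)).ker = center K := QuotientGroup.ker_mk' _
  have hp : Odd (Nat.card (QuotientGroup.mk' (center K)).ker) := by rw [hker]; exact hodd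
  rcases tab (K ⧸ center K) hsimple hlie with h1 | h1 | h1
  · left
    obtain ⟨l, M, A, h, T, n, X, hW, R, hG1, hr⟩ := h1
    refine kdiag_of (QuotientGroup.mk' (center K)) hker.le hp hs hperf hW hr.conn R hG1 hr.ab S hT ?_
    rintro ⟨i, hi⟩
    obtain ⟨a, b, hab⟩ := hr.two
    exact absurd ((hi a).trans (hi b).symm) hab
  · by_cases hf : ∀ t ∈ Γ, t ≠ 1 → ∀ u ∈ (S : Subgroup K), t u = u → u = 1
    · left
      obtain ⟨F, _, _, _, h4, ⟨e₀⟩⟩ := h1
      obtain ⟨A, h, T, n, X, hW, R, hG1, hTc⟩ := psl_rgd e₀.symm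
      exact kdiag_of (QuotientGroup.mk' (center K)) hker.le hp hs hperf hW conn_one R hG1 hTc
         S hT fun _ => LTwoSide.AT_eq hT hf
    · exact Or.inr (kexc_of hperf hodd h1 S hT hf)
  · exfalso
    obtain ⟨e⟩ := exists_equiv_map (QuotientGroup.mk' (center K)) hp S.2
    have h2 : DeadPhi.PhiAb ((S : Subgroup K).map (QuotientGroup.mk' (center K))) := phi _ h1 (S.mapSurjective hs)
    exact DeadPhi.false_of_tact S.2 (h2.map e.symm) hT

end Cfsg.Agent.Omega.CR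

end

section


/-!
# The K-side: `kPhi : KPhi` (helper484)
-/

set_option autoImplicit false

namespace Cfsg.Agent.Omega.Lie.End

universe u

/-- **`U₃(q)`, `Sz(q)`, `²F₄(q)`**: every normal elementary abelian subgroup of a Sylow 2-subgroup lies in its Frattini
subgroup. -/
theorem kPhi : KPhi.{u} := fun _ _ _ h S => phiAb_dead h S

end Cfsg.Agent.Omega.Lie.End

end

section


/-!
# The K-side for `L₂(q)` with `Opp` and `OneL` (helper650, from helper578's `KLTwo`)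
-/

set_option autoImplicit false

namespace Cfsg.Agent.Omega.Lie.End.LTwoSide

open Subgroup Cfsg.Agent.ParSys Cfsg.Agent.Omega.EH3.Rank1.LTwo
open scoped Matrix MatrixGroups Pointwise

/-- a system with `P i = ⊤` -/
theorem opp_of_top {K : Type*} [Group K] {S : Subgroup K} {T : Subgroup (MulAut K)} {J : Type} {P : J → Subgroup K}
    {m : J → J → ℕ} (h : KSys S T P m) (i : J) (hP : P i = ⊤) : Opp (normalizer (S : Set K)) S P := by
  have h5 := h.five i
  obtain ⟨w, hw⟩ : ∃ w, w ∉ normalizer (S : Set K) := by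
    by_contra hcon
    push Not at hcon
    have h6 : normalizer (S : Set K) = ⊤ := by
      rw [eq_top_iff]
      exact fun x _ => hcon x
    rw [h6, relIndex_top_left] at h5
    omega
  refine ⟨w, fun C h1 h2 h3 x => ?_⟩
  have key : ∀ y, y ∉ normalizer (S : Set K) → y ∈ C := by
    intro y hy
    obtain ⟨u, hu, b, hb, e⟩ := h.ptr i w (by rw [hP]; exact mem_top _) hw y (by rw [hP]; exact mem_top _) hy
    rw [e]
    exact h1 _ (h2 u hu) b hb
  by_cases hx : x ∈ normalizer (S : Set K)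
  · refine h3 x i fun y _ hyB => key _ fun hxy => hyB ?_
    have h4 := mul_mem (inv_mem hx) hxy
    rwa [inv_mul_cancel_left] at h4
  · exact key x hx

/-- **The K-side for `K ≅ SL₂(F)`.** -/
theorem sideX {K : Type*} [Group K] [Finite K] {F : Type} [Field F] [Finite F] [CharP F 2] (h4 : 4 ≤ Nat.card F)
    (e : K ≃* SL(2, F)) {S : Subgroup K} (hP : IsPGroup 2 S) (hodd : Odd (S.relIndex (normalizer (S : Set K))))
    (hS : ∀ x, x ∈ S ↔ e x ∈ U F) {T : Subgroup (MulAut K)} (h : TAct S T) :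
    (∃ (J : Type) (_ : Finite J) (P : J → Subgroup K) (m : J → J → ℕ), KSys S T P m ∧
      Opp (normalizer (S : Set K)) S P ∧ OneL K J) ∨ KExc K S T := by
  obtain ⟨e'⟩ := psl_equiv (F := F)
  by_cases hf : ∀ t ∈ T, t ≠ 1 → ∀ u ∈ S, t u = u → u = 1
  · have hk := ksys h4 hP hodd hS h hf
    exact Or.inl ⟨Unit, inferInstance, _, _, hk, opp_of_top hk () rfl,
      fun _ => ⟨F, inferInstance, Fintype.ofFinite F, ringChar.eq_iff.2 inferInstance, ⟨e.trans e'.symm⟩⟩⟩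
  · right
    simp only [not_forall] at hf
    obtain ⟨t₀, ht₀, h1, u₀, hu₀, hfx, hu1⟩ := hf
    exact ⟨(co hS).card_three h ht₀ h1 hu₀ hu1 hfx, ⟨u₀, hu₀, hu1, fun t ht => fix_all h ht₀ h1 hu₀ hfx ht⟩,
      F, inferInstance, Fintype.ofFinite F, ringChar.eq_iff.2 inferInstance, ⟨e.trans e'.symm⟩⟩

universe u

/-- **The groups `L₂(q)`.** -/
theorem kLTwoX : KLTwoX.{u} := by
  intro K _ _ hp hodd hL S T h
  obtain ⟨F, _, _, _, h4, ⟨e₀⟩⟩ := hL
  obtain ⟨e₁⟩ := psl_equiv (F := F)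
  obtain ⟨e⟩ := exists_equiv hp hodd (e₀.trans e₁)
  obtain ⟨Q, hQ⟩ := sylow_eq e
  obtain ⟨g, hg⟩ := MulAction.exists_smul_eq K Q S
  have hS : ∀ x, x ∈ (S : Subgroup K) ↔ ((MulAut.conj g⁻¹).trans e) x ∈ U F := by
    intro x
    have h1 : x ∈ (S : Subgroup K) ↔ g⁻¹ * x * g ∈ Q := by
      rw [← hg]
      show x ∈ MulAut.conj g • (Q : Subgroup K) ↔ _
      rw [Subgroup.mem_pointwise_smul_iff_inv_smul_mem]
      show ((MulAut.conj g)⁻¹ x ∈ (Q : Subgroup K)) ↔ _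
      rw [MulAut.conj_inv_apply]
      rfl
    rw [h1, hQ]
    show e (g⁻¹ * x * g) ∈ U F ↔ e (g⁻¹ * x * g⁻¹⁻¹) ∈ U F
    rw [inv_inv]
  have ho : Odd ((S : Subgroup K).relIndex (normalizer ((S : Subgroup K) : Set K))) := by
    have : Fact (Nat.Prime 2) := ⟨Nat.prime_two⟩
    have h1 : ¬ 2 ∣ (S : Subgroup K).index := S.not_dvd_index
    rw [← Nat.not_even_iff_odd, even_iff_two_dvd]
    exact fun h2 => h1 (h2.trans (relIndex_dvd_index_of_le le_normalizer))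
  exact sideX (by rw [Nat.card_eq_fintype_card]; exact h4) _ S.isPGroup' ho hS h

end Cfsg.Agent.Omega.Lie.End.LTwoSide

end

section


/-!
# Rows of the table: `G₂(q)`, `E₆(q)`, `E₇(q)`, `E₈(q)`

`trNode_chev` : the nodes of every Chevalley group.
-/

set_option autoImplicit false
set_option linter.unusedSectionVars false

namespace Cfsg.Agent.Omega.Lie.End

open CoxeterSystem Cfsg.Agent.ChevalleyStructure.CoxeterGeom Cfsg.Agent.Tits.Roots Cfsg.Agent.Tits.Core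
  Cfsg.Agent.Tits.RootComb Cfsg.Agent.Nodes.Comb Cfsg.Agent.Nodes.Reps Cfsg.Agent.Nodes.BNOf
  Cfsg.Agent.Nodes.RGDChev Cfsg.Agent.KFacts.RgdChevCoord Cfsg.Agent.KFacts.RgdCharP
open Cfsg.Lie Cfsg.Agent.ChevalleyStructure Cfsg.Agent.ChevalleyStructure.Elts
  Cfsg.Agent.ChevalleyStructure.NPerm Cfsg.Agent.ChevalleyStructure.CoxeterGeomTypes
open scoped commutatorElement

universe u

/-- Two nontrivial elements of a group with at least four elements. -/
theorem exists_two {Y : Type*} [Group Y] {P : Subgroup Y} (h4 : 4 ≤ Nat.card P) :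
    ∃ x ∈ P, ∃ y ∈ P, x ≠ 1 ∧ y ≠ 1 ∧ x ≠ y := by
  classical
  by_contra hcon
  push Not at hcon
  have h1 : Nat.card P ≤ Nat.card Bool := by
    refine Nat.card_le_card_of_injective (fun x : P => decide ((x : Y) = 1)) ?_
    intro a b hab
    simp only [decide_eq_decide] at hab
    apply Subtype.ext
    by_cases ha : (a : Y) = 1
    · rw [ha, hab.1 ha]
    · exact hcon a a.2 b b.2 ha fun hb => ha (hab.2 hb)
  rw [Nat.card_eq_fintype_card (α := Bool), Fintype.card_bool] at h1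
  omega

section Chev

variable {D : ChevalleyDatum} {l : ℕ} {M : CoxeterMatrix (Fin l)} (hp : IsType D l M) {K : Type u} [Field K]

theorem xc_add {r : ℕ} (hr : r < D.nroots) (a b : K) :
    xc hp (vec D l r) a * xc hp (vec D l r) b = xc hp (vec D l r) (a + b) := by
  apply Subtype.ext
  rw [Subgroup.coe_mul, coe_xc hp hr, coe_xc hp hr, coe_xc hp hr, xG_add]

theorem xc_zero {r : ℕ} (hr : r < D.nroots) : xc hp (vec D l r) (0 : K) = 1 := by
  apply Subtype.ext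
  rw [coe_xc hp hr, xG_zero]
  rfl

theorem mem_XX_chev {r : ℕ} (hr : r < D.nroots) {g : ↥(D.group K)} :
    g ∈ XX D l K (vec D l r) ↔ ∃ a, g = xc hp (vec D l r) a := by
  rw [Subgroup.mem_subgroupOf, XV_vec hp K hr, mem_rootSubgroup_iff hp.inList]
  constructor
  · rintro ⟨a, ha⟩
    exact ⟨a, Subtype.ext (by rw [coe_xc hp hr]; exact ha)⟩
  · rintro ⟨a, rfl⟩
    exact ⟨a, coe_xc hp hr a⟩

theorem comm_xc {r s : ℕ} (hr : r < D.nroots) (hs : s < D.nroots) (hrs : s ≠ r) (hneg : s ≠ D.neg r) (t u : K) :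
    ((⁅(xc hp (vec D l s) u)⁻¹, (xc hp (vec D l r) t)⁻¹⁆ : ↥(D.group K)) : GL D.Idx K) =
      wordG hp.inList (D.commWord K r s t u) := by
  rw [← comm_xG hp hr hs hrs hneg, commutatorElement_def, commutatorElement_def]
  simp only [Subgroup.coe_mul, Subgroup.coe_inv, coe_xc hp hr, coe_xc hp hs]

variable {W : Type*} [Group W] (cs : CoxeterSystem M W)

include cs in
/-- **The nodes of the Chevalley groups of characteristic 2.** -/
theorem trNode_chev [Finite K] [CharP K 2] (i : Fin l) (h4 : 4 ≤ Nat.card (XX D l K (sr i))) :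
    KTorus.TrNode (TT D K) (nc hp K) (XX D l K) i := by
  have : Fact (Nat.Prime 2) := ⟨Nat.prime_two⟩
  have hi := simple_lt hp.inList (lt_rank hp i)
  have hv := vec_simple hp i
  have hm : ∀ {g : ↥(D.group K)}, g ∈ XX D l K (sr i) ↔ ∃ a, g = xc hp (vec D l (D.simple i)) a := by
    intro g
    rw [← hv]
    exact mem_XX_chev hp hi
  refine ⟨exists_two h4, ?_, ?_⟩
  · intro x hx
    obtain ⟨a, rfl⟩ := hm.1 hx
    rw [xc_add hp hi, CharTwo.add_self_eq_zero, xc_zero hp hi]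
  · intro x hx y hy hx1 hy1
    obtain ⟨a, rfl⟩ := hm.1 hx
    obtain ⟨b, rfl⟩ := hm.1 hy
    have ha : a ≠ 0 := by
      rintro rfl
      exact hx1 (xc_zero hp hi)
    have hb : b ≠ 0 := by
      rintro rfl
      exact hy1 (xc_zero hp hi)
    obtain ⟨c, hcc⟩ := FiniteField.isSquare_of_char_two (F := K) (ringChar.eq K 2) (b / a)
    have hc0 : c ≠ 0 := by
      rintro rfl
      rw [mul_zero] at hcc
      exact (div_ne_zero hb ha) hcc
    have h1 : hc hp i c ∈ TT D K ⊓ (XX D l K (sr i) ⊔ XX D l K (-sr i)) :=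
      (coroot_mem hp cs 2 i _).2 ⟨c, hc0, rfl⟩
    refine ⟨hc hp i c, ⟨h1.1, h1.2, ?_⟩, ?_⟩
    · have h2 := ParSys.Fam.ChevTor.inv hp cs 2 i _ h1
      exact (eq_inv_of_mul_eq_one_left h2 :)
    · have h2 := (act hp hi (hc_mem (K := K) hp i hc0)).2 a
      rw [ch_hc hp i hc0 hi] at h2
      rw [h2, ← cartanOf_def D l i i, hp.isCartan.diag, show (2 : ℤ) = ((2 : ℕ) : ℤ) from rfl, zpow_natCast, pow_two,
        ← hcc, div_mul_cancel₀ _ ha]

/-- A Chevalley group is a row, if the diagram is explicit. -/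
theorem hasRow_chev [Finite K] [CharP K 2] (hl : ∃ i j : Fin l, i ≠ j) (hconn : Conn M)
    (h4 : ∀ i j : Fin l, M i j = 4 → ¬ ∀ k, k = i ∨ k = j)
    (h6 : ∀ i j : Fin l, M i j = 6 → (∀ k, k = i ∨ k = j) ∧
      NComm (XX D l K (sr i)) (XX D l K (rep M.toCoxeterSystem hp.isCartan (M.toCoxeterSystem.simple j) (sr i)))) :
    HasRow ↥(D.group K) := by
  have : Fact (Nat.Prime 2) := ⟨Nat.prime_two⟩
  refine ⟨l, M, _, hp.isCartan, TT D K, nc hp K, XX D l K, finite_W hp M.toCoxeterSystem,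
    rgd hp M.toCoxeterSystem 2, G1_eq_top hp M.toCoxeterSystem, hl, hconn, ParSys.Fam.ChevTor.TT_comm hp,
    fun e _ i => trNode_chev hp M.toCoxeterSystem i (e i), fun _ _ i j e1 e2 => absurd e2 (h4 i j e1), h6⟩

end Chev

/-! ### `E₆`, `E₇`, `E₈` -/

section E

variable (K : Type u) [Field K] [Finite K] [CharP K 2]

set_option backward.isDefEq.respectTransparency false in
theorem hasRow_E6 : HasRow ↥(chevE6.group K) :=
  hasRow_chev (l := 6) (M := CoxeterMatrix.E₆) (by simp [IsType, typeList]) ⟨0, 1, by decide⟩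
    (conn_of_bool (by decide +kernel))
    (fun i j e => absurd e (by revert i j; decide +kernel))
    (fun i j e => absurd e (by revert i j; decide +kernel))

set_option backward.isDefEq.respectTransparency false in
theorem hasRow_E7 : HasRow ↥(chevE7.group K) :=
  hasRow_chev (l := 7) (M := CoxeterMatrix.E₇) (by simp [IsType, typeList]) ⟨0, 1, by decide⟩
    (conn_of_bool (by decide +kernel))
    (fun i j e => absurd e (by revert i j; decide +kernel))
    (fun i j e => absurd e (by revert i j; decide +kernel))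

set_option backward.isDefEq.respectTransparency false in
theorem hasRow_E8 : HasRow ↥(chevE8.group K) :=
  hasRow_chev (l := 8) (M := CoxeterMatrix.E₈) (by simp [IsType, typeList]) ⟨0, 1, by decide⟩
    (conn_of_bool (by decide +kernel))
    (fun i j e => absurd e (by revert i j; decide +kernel))
    (fun i j e => absurd e (by revert i j; decide +kernel))

end E

/-! ### `G₂` -/

namespace RowG2

variable {K : Type u} [Field K]

theorem hp : IsType chevG2 2 CoxeterMatrix.G₂ := by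
  simp only [IsType, typeList, List.mem_cons, true_or]

theorem nroots : chevG2.nroots = 12 := by decide +kernel

theorem ct1 : chevG2.commTerms 6 10 = [(11,1,1,1)] := by decide +kernel
theorem ct2 : chevG2.commTerms 6 11 = [] := by decide +kernel
theorem ct3 : chevG2.commTerms 8 7 = [(9, 2, 1, 1), (11, 3, 2, 1), (10, -3, 1, 2)] := by decide +kernel

theorem negs : chevG2.neg 6 = 5 ∧ chevG2.neg 8 = 3 := by decide +kernel

theorem simples : chevG2.simple 0 = 7 ∧ chevG2.simple 1 = 6 := by decide +kernel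

theorem refl : chevG2.reflectRoot 0 6 = 10 ∧ chevG2.reflectRoot 1 7 = 8 := by decide +kernel

theorem vec_sr0 : vec chevG2 2 7 = sr (0 : Fin 2) := by
  have := vec_simple hp (0 : Fin 2)
  rwa [show chevG2.simple ((0 : Fin 2) : ℕ) = 7 from simples.1] at this

theorem vec_sr1 : vec chevG2 2 6 = sr (1 : Fin 2) := by
  have := vec_simple hp (1 : Fin 2)
  rwa [show chevG2.simple ((1 : Fin 2) : ℕ) = 6 from simples.2] at this

theorem lt {r : ℕ} (h : r < 12) : r < chevG2.nroots := by rw [nroots]; exact h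

/-- the root elements -/
noncomputable abbrev xe (K : Type u) [Field K] (r : ℕ) (a : K) : ↥(chevG2.group K) := xc hp (vec chevG2 2 r) a

theorem c11 (t u : K) : ⁅(xe K 10 u)⁻¹, (xe K 6 t)⁻¹⁆ = xe K 11 (-t * u) := by
  apply Subtype.ext
  rw [comm_xc hp (lt (by norm_num)) (lt (by norm_num)) (by norm_num) (by rw [negs.1]; norm_num),
    coe_xc hp (lt (by norm_num))]
  simp only [ChevalleyDatum.commWord, ct1, List.map_cons, List.map_nil, wordG_cons, wordG_nil, mul_one]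
  congr 1
  push_cast
  ring

theorem c0 (t u : K) : ⁅(xe K 11 u)⁻¹, (xe K 6 t)⁻¹⁆ = 1 := by
  apply Subtype.ext
  rw [comm_xc hp (lt (by norm_num)) (lt (by norm_num)) (by norm_num) (by rw [negs.1]; norm_num)]
  simp only [ChevalleyDatum.commWord, ct2, List.map_nil, wordG_nil]
  rfl

theorem c78 [CharP K 2] : ⁅(xe K 7 1)⁻¹, (xe K 8 1)⁻¹⁆ = xe K 11 1 * xe K 10 1 := by
  apply Subtype.ext
  rw [comm_xc hp (lt (by norm_num)) (lt (by norm_num)) (by norm_num) (by rw [negs.2]; norm_num), Subgroup.coe_mul,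
    coe_xc hp (lt (by norm_num)), coe_xc hp (lt (by norm_num))]
  simp only [ChevalleyDatum.commWord, ct3, List.map_cons, List.map_nil, wordG_cons, wordG_nil, mul_one]
  have e2 : (2 : K) = 0 := by exact_mod_cast CharP.cast_eq_zero K 2
  have e3 : ((2 : ℤ) : K) * (-1) ^ 1 * 1 ^ 1 = 0 := by push_cast; rw [e2]; ring
  have e4 : ((3 : ℤ) : K) * (-1) ^ 2 * 1 ^ 1 = 1 := by push_cast; linear_combination e2
  have e5 : ((-3 : ℤ) : K) * (-1) ^ 1 * 1 ^ 2 = 1 := by push_cast; linear_combination e2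
  rw [e3, e4, e5, xG_zero, one_mul]

theorem xe11_ne : xe K 11 1 ≠ 1 := by
  intro h0
  rw [← xc_zero hp (lt (r := 11) (by norm_num))] at h0
  exact one_ne_zero (xc_inj hp (lt (by norm_num)) h0)

theorem nc01 [CharP K 2] : NComm (XX chevG2 2 K (vec chevG2 2 7)) (XX chevG2 2 K (vec chevG2 2 8)) := by
  refine ⟨(xe K 7 1)⁻¹, inv_mem ((mem_XX_chev hp (lt (by norm_num))).2 ⟨1, rfl⟩), (xe K 8 1)⁻¹,
    inv_mem ((mem_XX_chev hp (lt (by norm_num))).2 ⟨1, rfl⟩), fun h0 => ?_⟩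
  have h1 := commutatorElement_eq_one_iff_mul_comm.2 h0
  rw [c78] at h1
  have h2 : xe K 10 1 = (xe K 11 1)⁻¹ := (eq_inv_of_mul_eq_one_right h1 :)
  have h3 := c11 (K := K) (-1) 1
  have h4 := commutatorElement_eq_one_iff_mul_comm.1 (c0 (K := K) (-1) 1)
  rw [h2, neg_neg, one_mul] at h3
  have h5 : ⁅(xe K 11 1)⁻¹⁻¹, (xe K 6 (-1))⁻¹⁆ = 1 := by
    rw [commutatorElement_eq_one_iff_mul_comm, inv_inv]
    have h6 : Commute (xe K 11 1)⁻¹ (xe K 6 (-1))⁻¹ := h4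
    have h7 : Commute (xe K 11 1)⁻¹⁻¹ (xe K 6 (-1))⁻¹ := h6.inv_left
    rw [inv_inv] at h7
    exact h7
  rw [h5] at h3
  exact xe11_ne h3.symm

theorem nc10 : NComm (XX chevG2 2 K (vec chevG2 2 6)) (XX chevG2 2 K (vec chevG2 2 10)) := by
  refine ⟨(xe K 6 (-1))⁻¹, inv_mem ((mem_XX_chev hp (lt (by norm_num))).2 ⟨-1, rfl⟩), (xe K 10 1)⁻¹,
    inv_mem ((mem_XX_chev hp (lt (by norm_num))).2 ⟨1, rfl⟩), fun h0 => ?_⟩
  have h1 := commutatorElement_eq_one_iff_mul_comm.2 h0.symm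
  rw [c11, neg_neg, one_mul] at h1
  exact xe11_ne h1

end RowG2

set_option backward.isDefEq.respectTransparency false in
/-- **`G₂(q)`** -/
theorem hasRow_G2 (K : Type u) [Field K] [Finite K] [CharP K 2] : HasRow ↥(chevG2.group K) := by
  refine hasRow_chev RowG2.hp ⟨0, 1, by decide⟩ (conn_of_bool (by decide +kernel))
    (fun i j e => absurd e (by revert i j; decide +kernel)) ?_
  have e0 := RowG2.vec_sr0
  have e1 := RowG2.vec_sr1
  have r0 := rep_vec RowG2.hp CoxeterMatrix.G₂.toCoxeterSystem (0 : Fin 2) (RowG2.lt (r := 6) (by norm_num))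
  have r1 := rep_vec RowG2.hp CoxeterMatrix.G₂.toCoxeterSystem (1 : Fin 2) (RowG2.lt (r := 7) (by norm_num))
  rw [show chevG2.reflectRoot ((0 : Fin 2) : ℕ) 6 = 10 from RowG2.refl.1, e1] at r0
  rw [show chevG2.reflectRoot ((1 : Fin 2) : ℕ) 7 = 8 from RowG2.refl.2, e0] at r1
  intro i j e
  fin_cases i <;> fin_cases j
  · exact absurd e (by decide)
  · refine ⟨by decide, ?_⟩
    show NComm (XX chevG2 2 K (sr 0)) (XX chevG2 2 K (rep _ _ (CoxeterMatrix.G₂.toCoxeterSystem.simple 1) (sr 0)))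
    rw [r1, ← e0]
    exact RowG2.nc01
  · refine ⟨by decide, ?_⟩
    show NComm (XX chevG2 2 K (sr 1)) (XX chevG2 2 K (rep _ _ (CoxeterMatrix.G₂.toCoxeterSystem.simple 0) (sr 1)))
    rw [r0, ← e1]
    exact RowG2.nc10
  · exact absurd e (by decide)

end Cfsg.Agent.Omega.Lie.End

end
end

private theorem dce_8bbfd60b4a86 : _root_.True := by
  try have : _root_.True := by simp only [_root_.Cfsg.Agent.Omega.CR.UNt.congr_simp]
  exact _root_.True.intro
end
end
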